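import Mathlib
import Cfsg.Prelude.Def_Sporadic_a

/-!
Transport of automorphism groups of set systems along isomorphisms.
-/

set_option autoImplicit false

namespace Cfsg.Agent.Helper93

open Cfsg
open scoped Pointwise

section AutTransfer

variable {α : Type*} {β : Type*} [DecidableEq α] [DecidableEq β]

theorem permCongr_smul_image (e : α ≃ β) (g : Equiv.Perm α) (b : Finset α) :
    (e.permCongr g) • (b.image e) = (g • b).image e := by
  ext y
  simp only [Finset.mem_smul_finset, Finset.mem_image]
  constructor
  · rintro ⟨_, ⟨x, hx, rfl⟩, rfl⟩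
    exact ⟨g • x, ⟨x, hx, rfl⟩, by simp [Equiv.permCongr_apply]⟩
  · rintro ⟨_, ⟨x, hx, rfl⟩, rfl⟩
    exact ⟨e x, ⟨x, hx, rfl⟩, by simp [Equiv.permCongr_apply]⟩

theorem permCongr_smul_system (e : α ≃ β) (g : Equiv.Perm α) (B : Set (Finset α)) :
    (e.permCongr g) • ((fun b => b.image e) '' B) = (fun b => b.image e) '' (g • B) := by
  ext c
  constructor
  · rintro ⟨_, ⟨b, hb, rfl⟩, rfl⟩
    refine ⟨g • b, Set.smul_mem_smul_set hb, ?_⟩
    exact (permCongr_smul_image e g b).symm
  · rintro ⟨_, ⟨b, hb, rfl⟩, rfl⟩
    refine ⟨b.image e, ⟨b, hb, rfl⟩, ?_⟩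
    exact permCongr_smul_image e g b

theorem aut_mem_iff (e : α ≃ β) {B : Set (Finset α)} {B' : Set (Finset β)}
    (h : (fun b => b.image e) '' B = B') (g : Equiv.Perm α) :
    g ∈ setSystemAut B ↔ e.permCongr g ∈ setSystemAut B' := by
  rw [MulAction.mem_stabilizer_iff, MulAction.mem_stabilizer_iff, ← h, permCongr_smul_system]
  constructor
  · intro hg; rw [hg]
  · intro hg
    have hinj : Function.Injective (fun b : Finset α => b.image e) :=
      Finset.image_injective e.injective
    exact Set.image_injective.2 hinj hg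

theorem aut_mem_iff' (e : α ≃ β) {B : Set (Finset α)} {B' : Set (Finset β)}
    (h : (fun b => b.image e) '' B = B') (u : Equiv.Perm β) :
    e.symm.permCongr u ∈ setSystemAut B ↔ u ∈ setSystemAut B' := by
  rw [aut_mem_iff e h]
  have : e.permCongr (e.symm.permCongr u) = u := by
    ext x; simp [Equiv.permCongr_apply]
  rw [this]

/-- the isomorphism of automorphism groups induced by an isomorphism of set systems -/
def autCongr (e : α ≃ β) {B : Set (Finset α)} {B' : Set (Finset β)}
    (h : (fun b => b.image e) '' B = B') : setSystemAut B ≃* setSystemAut B' where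
  toFun g := ⟨e.permCongr g, (aut_mem_iff e h g).1 g.2⟩
  invFun u := ⟨e.symm.permCongr u, (aut_mem_iff' e h u).2 u.2⟩
  left_inv g := by
    apply Subtype.ext
    ext x; simp [Equiv.permCongr_apply]
  right_inv u := by
    apply Subtype.ext
    ext x; simp [Equiv.permCongr_apply]
  map_mul' g g' := by
    apply Subtype.ext
    ext x; simp [Equiv.permCongr_apply]

theorem autCongr_apply (e : α ≃ β) {B : Set (Finset α)} {B' : Set (Finset β)}
    (h : (fun b => b.image e) '' B = B') (g : setSystemAut B) (x : β) :
    ((autCongr e h g : setSystemAut B') : Equiv.Perm β) x = e ((g : Equiv.Perm α) (e.symm x)) :=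
  rfl

theorem autCongr_symm_apply (e : α ≃ β) {B : Set (Finset α)} {B' : Set (Finset β)}
    (h : (fun b => b.image e) '' B = B') (u : setSystemAut B') (x : α) :
    (((autCongr e h).symm u : setSystemAut B) : Equiv.Perm α) x =
      e.symm ((u : Equiv.Perm β) (e x)) := by
  show (e.symm.permCongr (u : Equiv.Perm β)) x = _
  simp [Equiv.permCongr_apply]

omit [DecidableEq α] [DecidableEq β] in
/-- transport of multiple transitivity along a bijection -/
theorem multTrans_transfer {G : Subgroup (Equiv.Perm α)} {H : Subgroup (Equiv.Perm β)}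
    (e : α ≃ β) (hGH : ∀ u ∈ H, e.symm.permCongr u ∈ G) (n : ℕ)
    [h : MulAction.IsMultiplyPretransitive H β n] : MulAction.IsMultiplyPretransitive G α n := by
  constructor
  intro x y
  obtain ⟨u, hu⟩ := MulAction.exists_smul_eq H (x.trans e.toEmbedding) (y.trans e.toEmbedding)
  refine ⟨⟨e.symm.permCongr u, hGH u u.2⟩, ?_⟩
  ext i
  have h1 := DFunLike.congr_fun hu i
  simp only [Function.Embedding.smul_apply, Function.Embedding.trans_apply,
    Equiv.coe_toEmbedding] at h1
  show (e.symm.permCongr (u : Equiv.Perm β)) (x i) = y i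
  rw [Equiv.permCongr_apply]
  simp only [Equiv.symm_symm]
  have h2 : (u : Equiv.Perm β) (e (x i)) = e (y i) := h1
  rw [h2]
  simp

end AutTransfer

end Cfsg.Agent.Helper93
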