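/-
helper93: shared lemmas for CALL S0420 stage 2 (helper48) pieces DIA DIB ABC NRN SCT.
-/
import Mathlib
import Cfsg.Agent.Helper48.M11UGeo

set_option autoImplicit false
open scoped Pointwise

namespace Cfsg.Agent.Helper93

open Cfsg.Agent.Helper48.M11U

universe u
variable {G : Type u} [Group G] [Finite G]

/-- a type with more than two elements has an element different from two given ones -/
theorem m11x_third_exists {α : Type*} [Finite α] (h : 2 < Nat.card α) (a b : α) :
    ∃ c : α, c ≠ a ∧ c ≠ b := by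
  classical
  by_contra hcon
  push Not at hcon
  have := Fintype.ofFinite α
  rw [Nat.card_eq_fintype_card] at h
  have hsub : (Finset.univ : Finset α) ⊆ {a, b} := by
    intro c _
    by_cases hc : c = a
    · simp [hc]
    · simp [hcon c hc]
  have h1 := Finset.card_le_card hsub
  rw [Finset.card_univ] at h1
  have h2 : ({a, b} : Finset α).card ≤ 2 := Finset.card_le_two
  omega

/-- in a type with three elements, an element different from two of three distinct ones is the
third -/
theorem m11x_third_unique {α : Type*} [Finite α] (h : Nat.card α = 3) (a b c d : α) (hab : a ≠ b)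
    (hac : a ≠ c) (hbc : b ≠ c) (hda : d ≠ a) (hdb : d ≠ b) : d = c := by
  classical
  by_contra hdc
  have := Fintype.ofFinite α
  rw [Nat.card_eq_fintype_card] at h
  have h4 : ({a, b, c, d} : Finset α).card = 4 := by
    rw [Finset.card_insert_of_notMem, Finset.card_insert_of_notMem,
      Finset.card_pair (Ne.symm hdc)]
    · simp [hbc, Ne.symm hdb]
    · simp [hab, hac, Ne.symm hda]
  have h5 := Finset.card_le_univ ({a, b, c, d} : Finset α)
  omega

/-- a third Sylow subgroup inverted by an involution -/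
theorem m11x_tri_exists (h : M11L1 G) (z : G) (hz : orderOf z = 2) (R S : Sylow 3 G)
    (hR : Inv z R) (hS : Inv z S) : ∃ T : Sylow 3 G, Inv z T ∧ T ≠ R ∧ T ≠ S := by
  have h3 := h.tri z hz
  obtain ⟨c, hc1, hc2⟩ := m11x_third_exists (α := {P : Sylow 3 G // Inv z P})
    (by rw [h3]; norm_num) ⟨R, hR⟩ ⟨S, hS⟩
  exact ⟨c.1, c.2, fun e => hc1 (Subtype.ext e), fun e => hc2 (Subtype.ext e)⟩

/-- the third Sylow subgroup inverted by an involution is unique -/
theorem m11x_tri_unique (h : M11L1 G) (z : G) (hz : orderOf z = 2) (R S T P : Sylow 3 G)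
    (hR : Inv z R) (hS : Inv z S) (hT : Inv z T) (hP : Inv z P)
    (hRS : R ≠ S) (hRT : R ≠ T) (hST : S ≠ T) (hPR : P ≠ R) (hPS : P ≠ S) : P = T := by
  have h3 := h.tri z hz
  have h4 := m11x_third_unique h3 (⟨R, hR⟩ : {P : Sylow 3 G // Inv z P}) ⟨S, hS⟩ ⟨T, hT⟩ ⟨P, hP⟩
    (fun e => hRS (congrArg Subtype.val e)) (fun e => hRT (congrArg Subtype.val e))
    (fun e => hST (congrArg Subtype.val e)) (fun e => hPR (congrArg Subtype.val e))
    (fun e => hPS (congrArg Subtype.val e))
  exact congrArg Subtype.val h4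

omit [Finite G] in
theorem m11x_smul_smul (g a : G) (S : Sylow 3 G) : g • (a • S) = (g * a * g⁻¹) • (g • S) := by
  rw [← mul_smul, ← mul_smul]
  congr 1
  group

omit [Finite G] in
theorem m11x_conj_mem (g r : G) (R : Sylow 3 G) (hr : r ∈ (R : Subgroup G)) :
    g * r * g⁻¹ ∈ ((g • R : Sylow 3 G) : Subgroup G) := by
  rw [mem_smul_iff]
  have h1 : g⁻¹ * (g * r * g⁻¹) * g = r := by group
  rw [h1]
  exact hr

omit [Finite G] in
theorem m11x_conj_ne_one (g r : G) (hr : r ≠ 1) : g * r * g⁻¹ ≠ 1 := by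
  intro h
  apply hr
  have h1 : r = g⁻¹ * (g * r * g⁻¹) * g := by group
  rw [h1, h]
  group

omit [Finite G] in
theorem m11x_order_conj (g z : G) (hz : orderOf z = 2) : orderOf (g * z * g⁻¹) = 2 := by
  have h3 := MulEquiv.orderOf_eq (MulAut.conj g) z
  rw [MulAut.conj_apply] at h3
  rw [h3, hz]

/-- an element mapping a pair inverted by `z` to a pair inverted by `z'` conjugates `z` to `z'` -/
theorem m11x_conj_eq (h : M11L1 G) (z : G) (hz : orderOf z = 2) (R S : Sylow 3 G) (hRS : R ≠ S)
    (hR : Inv z R) (hS : Inv z S) (z' : G) (hz' : orderOf z' = 2) (g : G)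
    (hR' : Inv z' (g • R)) (hS' : Inv z' (g • S)) : g * z * g⁻¹ = z' :=
  h.uniq (g * z * g⁻¹) z' (g • R) (g • S) (m11x_order_conj g z hz) hz'
    (fun e => hRS (smul_left_cancel g e)) (inv_conj hR g) (inv_conj hS g) hR' hS'

end Cfsg.Agent.Helper93
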