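/-
helper93: CALL S0420 stage 2 (helper48), piece ABC (`m11u_ab_closed`).
-/
import Mathlib
import Cfsg.Agent.Helper48.M11UGeo
import Cfsg.Agent.Helper93.M11UAux

set_option autoImplicit false
open scoped Pointwise

namespace Cfsg.Agent.Helper93

open Cfsg.Agent.Helper48.M11U

universe u
variable {G : Type u} [Group G] [Finite G]

theorem m11u_ab_closed (h : M11Gr G) (hA : PropA G) (hB : PropB G) (R S U : Sylow 3 G)
    (h1 : Adj R S) (h2 : Adj R U) (hne : U ≠ S) : Adj S U := by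
  obtain ⟨hRS, z, hz, hR, hS⟩ := h1
  obtain ⟨T, hT, hTR, hTS⟩ := m11x_tri_exists h.geo.l1 z hz R S hR hS
  obtain ⟨r, hr, hU | hU⟩ := h.nbr z R S T U hz hR hS hT hRS (Ne.symm hTR) (Ne.symm hTS) h2
  · by_cases hr1 : r = 1
    · exfalso
      apply hne
      rw [hU, hr1, one_smul]
    · rw [hU]
      exact hA R S ⟨hRS, z, hz, hR, hS⟩ r hr hr1
  · by_cases hr1 : r = 1
    · rw [hU, hr1, one_smul]
      exact ⟨Ne.symm hTS, z, hz, hS, hT⟩
    · rw [hU]
      exact hB z R S T hz hR hS hT hRS (Ne.symm hTR) (Ne.symm hTS) r hr hr1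

end Cfsg.Agent.Helper93
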