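/-
helper93: CALL S0420 stage 2 (helper48), piece DIA (`m11u_dichA`).
-/
import Mathlib
import Cfsg.Agent.Helper48.M11UGeo
import Cfsg.Agent.Helper93.M11UAux

set_option autoImplicit false
open scoped Pointwise

namespace Cfsg.Agent.Helper93

open Cfsg.Agent.Helper48.M11U

universe u
variable {G : Type u} [Group G] [Finite G]

theorem m11u_dichA (h : M11Gr G) : PropA G ∨ PropA' G := by
  by_cases hex : ∃ (R S : Sylow 3 G) (r : G), Adj R S ∧ r ∈ (R : Subgroup G) ∧ r ≠ 1 ∧
      Adj S (r • S)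
  · left
    obtain ⟨R, S, r, hRS, hr, hr1, hadj⟩ := hex
    intro R' S' hRS' r' hr' hr1'
    obtain ⟨g, hgR, hgS⟩ := h.transadj R S R' S' hRS hRS'
    have h1 : Adj (g • S) (g • (r • S)) := adj_smul hadj g
    rw [m11x_smul_smul, hgS] at h1
    have h2 : g * r * g⁻¹ ∈ (R' : Subgroup G) := by
      rw [← hgR]
      exact m11x_conj_mem g r R hr
    obtain ⟨d, hdR, hdS, hd⟩ := h.geo.trans1 R' S' hRS' (g * r * g⁻¹) h2 r' hr'
      (m11x_conj_ne_one g r hr1) hr1'
    have h3 := adj_smul h1 d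
    rw [m11x_smul_smul, hdS, hd] at h3
    exact h3
  · right
    intro R S hRS r hr hr1 hadj
    exact hex ⟨R, S, r, hRS, hr, hr1, hadj⟩

end Cfsg.Agent.Helper93
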