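/-
helper93: CALL S0420 stage 2 (helper48), piece DIB (`m11u_dichB`).
-/
import Mathlib
import Cfsg.Agent.Helper48.M11UGeo
import Cfsg.Agent.Helper93.M11UAux

set_option autoImplicit false
open scoped Pointwise

namespace Cfsg.Agent.Helper93

open Cfsg.Agent.Helper48.M11U

universe u
variable {G : Type u} [Group G] [Finite G]

theorem m11u_dichB (h : M11Gr G) : PropB G ∨ PropB' G := by
  by_cases hex : ∃ (z : G) (R S T : Sylow 3 G) (r : G), orderOf z = 2 ∧ Inv z R ∧ Inv z S ∧
      Inv z T ∧ R ≠ S ∧ R ≠ T ∧ S ≠ T ∧ r ∈ (R : Subgroup G) ∧ r ≠ 1 ∧ Adj S (r • T)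
  · left
    obtain ⟨z, R, S, T, r, hz, hR, hS, hT, hRS, hRT, hST, hr, hr1, hadj⟩ := hex
    intro z' R' S' T' hz' hR' hS' hT' hRS' hRT' hST' r' hr' hr1'
    have hl1 := h.geo.l1
    obtain ⟨g, hgR, hgS⟩ := h.transadj R S R' S' ⟨hRS, z, hz, hR, hS⟩ ⟨hRS', z', hz', hR', hS'⟩
    have hgz : g * z * g⁻¹ = z' := m11x_conj_eq hl1 z hz R S hRS hR hS z' hz' g
      (by rw [hgR]; exact hR') (by rw [hgS]; exact hS')
    have hgT : g • T = T' := by
      have hinv : Inv z' (g • T) := by
        have h0 := inv_conj hT g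
        rw [hgz] at h0
        exact h0
      apply m11x_tri_unique hl1 z' hz' R' S' T' (g • T) hR' hS' hT' hinv hRS' hRT' hST'
      · rw [← hgR]
        exact fun e => hRT (smul_left_cancel g e).symm
      · rw [← hgS]
        exact fun e => hST (smul_left_cancel g e).symm
    have h1 : Adj (g • S) (g • (r • T)) := adj_smul hadj g
    rw [m11x_smul_smul, hgS, hgT] at h1
    have h2 : g * r * g⁻¹ ∈ (R' : Subgroup G) := by
      rw [← hgR]
      exact m11x_conj_mem g r R hr
    obtain ⟨d, hdR, hdS, hd⟩ := h.geo.trans1 R' S' ⟨hRS', z', hz', hR', hS'⟩ (g * r * g⁻¹) h2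
      r' hr' (m11x_conj_ne_one g r hr1) hr1'
    have hdz : d * z' * d⁻¹ = z' := m11x_conj_eq hl1 z' hz' R' S' hRS' hR' hS' z' hz' d
      (by rw [hdR]; exact hR') (by rw [hdS]; exact hS')
    have hdT : d • T' = T' := by
      have hinv : Inv z' (d • T') := by
        have h0 := inv_conj hT' d
        rw [hdz] at h0
        exact h0
      apply m11x_tri_unique hl1 z' hz' R' S' T' (d • T') hR' hS' hT' hinv hRS' hRT' hST'
      · intro e
        have e' : d • T' = d • R' := by rw [hdR]; exact e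
        exact hRT' (smul_left_cancel d e').symm
      · intro e
        have e' : d • T' = d • S' := by rw [hdS]; exact e
        exact hST' (smul_left_cancel d e').symm
    have h3 := adj_smul h1 d
    rw [m11x_smul_smul, hdS, hd, hdT] at h3
    exact h3
  · right
    intro z R S T hz hR hS hT hRS hRT hST r hr hr1 hadj
    exact hex ⟨z, R, S, T, r, hz, hR, hS, hT, hRS, hRT, hST, hr, hr1, hadj⟩

end Cfsg.Agent.Helper93
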