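/-
helper93: CALL S0420 stage 2 (helper48), piece NRN (`m11u_nn_refl_norm`).
-/
import Mathlib
import Cfsg.Agent.Helper48.M11UGeo
import Cfsg.Agent.Helper93.M11UAux

set_option autoImplicit false
open scoped Pointwise

namespace Cfsg.Agent.Helper93

open Cfsg.Agent.Helper48.M11U

universe u
variable {G : Type u} [Group G] [Finite G]

theorem m11u_nn_refl_norm (h : M11Gr G) (z : G) (hz : orderOf z = 2)
    (hr4 : Nat.card {P : Sylow 3 G // ¬ Inv z P ∧ ∀ Q : Sylow 3 G, Inv z Q → ¬ Adj P Q} = 4)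
    (P : Sylow 3 G) (hP : ¬ Inv z P) (hPQ : ∀ Q : Sylow 3 G, Inv z Q → ¬ Adj P Q) :
    z • P = P := by
  classical
  have hl1 := h.geo.l1
  have h3 := hl1.tri z hz
  obtain ⟨R0⟩ : Nonempty {P : Sylow 3 G // Inv z P} :=
    (Nat.card_pos_iff.mp (by rw [h3]; norm_num)).1
  obtain ⟨S0, hS0, -⟩ := m11x_third_exists (α := {P : Sylow 3 G // Inv z P})
    (by rw [h3]; norm_num) R0 R0
  obtain ⟨R, hR⟩ := R0
  obtain ⟨S, hS⟩ := S0
  have hRS : R ≠ S := fun e => hS0 (Subtype.ext e.symm)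
  have hadj : Adj R S := ⟨hRS, z, hz, hR, hS⟩
  have hD8 := h.geo.dcard R S hadj
  obtain ⟨D, hD⟩ : ∃ D : Subgroup G,
      D = MulAction.stabilizer G R ⊓ MulAction.stabilizer G S := ⟨_, rfl⟩
  rw [← hD] at hD8
  have hDR : ∀ d ∈ D, d • R = R := fun d hd => by
    rw [hD] at hd
    exact MulAction.mem_stabilizer_iff.mp hd.1
  have hDS : ∀ d ∈ D, d • S = S := fun d hd => by
    rw [hD] at hd
    exact MulAction.mem_stabilizer_iff.mp hd.2
  have hDz : ∀ d ∈ D, d * z * d⁻¹ = z := fun d hd =>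
    m11x_conj_eq hl1 z hz R S hRS hR hS z hz d (by rw [hDR d hd]; exact hR)
      (by rw [hDS d hd]; exact hS)
  have hW : ∀ d ∈ D, ∀ P' : Sylow 3 G,
      (¬ Inv z P' ∧ ∀ Q : Sylow 3 G, Inv z Q → ¬ Adj P' Q) →
      (¬ Inv z (d • P') ∧ ∀ Q : Sylow 3 G, Inv z Q → ¬ Adj (d • P') Q) := by
    intro d hd P' ⟨hP'1, hP'2⟩
    have hd' : d⁻¹ * z * d⁻¹⁻¹ = z := hDz d⁻¹ (inv_mem hd)
    constructor
    · intro hinv
      have h0 := inv_conj hinv d⁻¹
      rw [hd', inv_smul_smul] at h0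
      exact hP'1 h0
    · intro Q hQ hadj'
      have h0 := inv_conj hQ d⁻¹
      rw [hd'] at h0
      have h1 := adj_smul hadj' d⁻¹
      rw [inv_smul_smul] at h1
      exact hP'2 _ h0 h1
  have hsub : MulAction.orbit ↥D P ⊆
      {P' : Sylow 3 G | ¬ Inv z P' ∧ ∀ Q : Sylow 3 G, Inv z Q → ¬ Adj P' Q} := by
    rintro _ ⟨d, rfl⟩
    exact hW d.1 d.2 P ⟨hP, hPQ⟩
  have hle : Nat.card (MulAction.orbit ↥D P) ≤ 4 :=
    calc Nat.card (MulAction.orbit ↥D P)
        ≤ Nat.card ↥{P' : Sylow 3 G | ¬ Inv z P' ∧ ∀ Q : Sylow 3 G, Inv z Q → ¬ Adj P' Q} :=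
          Nat.card_mono (Set.toFinite _) hsub
      _ = 4 := hr4
  have e := MulAction.orbitEquivQuotientStabilizer ↥D P
  have h1 : Nat.card (MulAction.orbit ↥D P) = (MulAction.stabilizer ↥D P).index :=
    Nat.card_congr e
  have h2 := Subgroup.card_mul_index (MulAction.stabilizer ↥D P)
  rw [hD8, ← h1] at h2
  have hdvd : Nat.card (MulAction.stabilizer ↥D P) ∣ 8 := ⟨_, h2.symm⟩
  have h2dvd : 2 ∣ Nat.card (MulAction.stabilizer ↥D P) := by
    have hmem : Nat.card (MulAction.stabilizer ↥D P) ∈ Nat.divisors 8 :=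
      Nat.mem_divisors.mpr ⟨hdvd, by norm_num⟩
    have h8 : Nat.divisors 8 = {1, 2, 4, 8} := by decide
    rw [h8] at hmem
    simp only [Finset.mem_insert, Finset.mem_singleton] at hmem
    rcases hmem with h | h | h | h
    · exfalso
      rw [h] at h2
      omega
    · rw [h]
    · rw [h]; norm_num
    · rw [h]; norm_num
  have : Fact (Nat.Prime 2) := ⟨Nat.prime_two⟩
  obtain ⟨t, ht⟩ := exists_prime_orderOf_dvd_card' (G := MulAction.stabilizer ↥D P) 2 h2dvd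
  have ht2 : orderOf ((t : ↥D) : G) = 2 := by
    rw [Subgroup.orderOf_coe, Subgroup.orderOf_coe]
    exact ht
  have htP : ((t : ↥D) : G) • P = P := MulAction.mem_stabilizer_iff.mp t.2
  have htz := h.geo.n0inv z ((t : ↥D) : G) R S hz ht2 hRS hR hS (hDR _ (t : ↥D).2)
    (hDS _ (t : ↥D).2)
  rw [← htz]
  exact htP

end Cfsg.Agent.Helper93
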