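import Mathlib
import Cfsg.Prelude.Def_Sporadic_a

/-!
Counting in abstract Steiner systems `Cfsg.IsSteinerSystem t k B` on a finite type.
-/

set_option autoImplicit false

namespace Cfsg.Agent.Helper93

open Finset

section Steiner

variable {α : Type*} [Fintype α] [DecidableEq α]

/-- the number of `k`-subsets `T` with `S ⊆ T ⊆ b` -/
theorem card_between (S b : Finset α) (hSb : S ⊆ b) (k : ℕ) (hk : S.card ≤ k) :
    ((b.powersetCard k).filter (fun T => S ⊆ T)).card =
      (b.card - S.card).choose (k - S.card) := by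
  rw [← Finset.card_sdiff_of_subset hSb, ← Finset.card_powersetCard]
  apply Finset.card_nbij' (fun T => T \ S) (fun U => U ∪ S)
  · intro T hT
    simp only [coe_filter, mem_powersetCard, Set.mem_ofPred_eq] at hT
    obtain ⟨⟨hTb, hTk⟩, hST⟩ := hT
    simp only [mem_coe, mem_powersetCard]
    refine ⟨Finset.sdiff_subset_sdiff hTb (le_refl _), ?_⟩
    rw [Finset.card_sdiff_of_subset hST, hTk]
  · intro U hU
    simp only [mem_coe, mem_powersetCard] at hU
    obtain ⟨hUb, hUk⟩ := hU
    simp only [coe_filter, mem_powersetCard, Set.mem_ofPred_eq]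
    refine ⟨⟨Finset.union_subset (hUb.trans Finset.sdiff_subset) hSb, ?_⟩,
      Finset.subset_union_right⟩
    rw [Finset.card_union_of_disjoint
      (Finset.disjoint_of_subset_left hUb Finset.sdiff_disjoint), hUk]
    omega
  · intro T hT
    simp only [coe_filter, mem_powersetCard, Set.mem_ofPred_eq] at hT
    show T \ S ∪ S = T
    exact Finset.sdiff_union_of_subset hT.2
  · intro U hU
    simp only [mem_coe, mem_powersetCard] at hU
    show (U ∪ S) \ S = U
    rw [Finset.union_sdiff_right]
    exact Finset.sdiff_eq_self_of_disjoint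
      (Finset.disjoint_of_subset_left hU.1 Finset.sdiff_disjoint)

open Classical in
/-- The number `λ` of blocks through a set `S` of at most `t` points of a Steiner system
`S(t, k, v)` satisfies `λ * C(k - |S|, t - |S|) = C(v - |S|, t - |S|)`. -/
theorem steiner_lambda (t k : ℕ) (B : Set (Finset α)) (hB : Cfsg.IsSteinerSystem t k B)
    (S : Finset α) (hS : S.card ≤ t) :
    (univ.filter (fun b : Finset α => b ∈ B ∧ S ⊆ b)).card * (k - S.card).choose (t - S.card) =
      (Fintype.card α - S.card).choose (t - S.card) := by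
  have key := Finset.sum_card_bipartiteAbove_eq_sum_card_bipartiteBelow
    (s := (univ.powersetCard t).filter (fun T => S ⊆ T))
    (t := univ.filter (fun b : Finset α => b ∈ B ∧ S ⊆ b)) (fun T b => T ⊆ b)
  have h1 : ∀ T ∈ (univ.powersetCard t).filter (fun T => S ⊆ T),
      (bipartiteAbove (fun T b => T ⊆ b)
        (univ.filter (fun b : Finset α => b ∈ B ∧ S ⊆ b)) T).card = 1 := by
    intro T hT
    rw [mem_filter, mem_powersetCard] at hT
    obtain ⟨b, ⟨hbB, hTb⟩, huniq⟩ := hB.2 T hT.1.2
    rw [Finset.card_eq_one]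
    refine ⟨b, ?_⟩
    ext b'
    simp only [bipartiteAbove, mem_filter, mem_univ, true_and, mem_singleton]
    constructor
    · rintro ⟨⟨hb'B, _⟩, hTb'⟩
      exact huniq b' ⟨hb'B, hTb'⟩
    · rintro rfl
      exact ⟨⟨hbB, hT.2.trans hTb⟩, hTb⟩
  have h2 : ∀ b ∈ univ.filter (fun b : Finset α => b ∈ B ∧ S ⊆ b),
      (bipartiteBelow (fun T b => T ⊆ b)
        ((univ.powersetCard t).filter (fun T => S ⊆ T)) b).card =
        (k - S.card).choose (t - S.card) := by
    intro b hb
    rw [mem_filter] at hb
    have hcb := card_between S b hb.2.2 t hS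
    rw [hB.1 b hb.2.1] at hcb
    rw [← hcb]
    congr 1
    ext T
    simp only [bipartiteBelow, mem_filter, mem_powersetCard, subset_univ, true_and]
    tauto
  rw [Finset.sum_congr rfl h1, Finset.sum_congr rfl h2] at key
  rw [Finset.sum_const, Finset.sum_const, smul_eq_mul, smul_eq_mul, mul_one] at key
  rw [← key]
  have hu := card_between S univ (subset_univ S) t hS
  rw [Finset.card_univ] at hu
  exact hu

open Classical in
/-- In a Steiner system `S(5, 8, 24)`: the numbers of blocks through `0,…,5` points. -/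
theorem steiner_5_8_24_lambda (hα : Fintype.card α = 24) (B : Set (Finset α))
    (hB : Cfsg.IsSteinerSystem 5 8 B) (S : Finset α) :
    (S.card = 0 → (univ.filter (fun b : Finset α => b ∈ B ∧ S ⊆ b)).card = 759) ∧
    (S.card = 1 → (univ.filter (fun b : Finset α => b ∈ B ∧ S ⊆ b)).card = 253) ∧
    (S.card = 2 → (univ.filter (fun b : Finset α => b ∈ B ∧ S ⊆ b)).card = 77) ∧
    (S.card = 3 → (univ.filter (fun b : Finset α => b ∈ B ∧ S ⊆ b)).card = 21) ∧
    (S.card = 4 → (univ.filter (fun b : Finset α => b ∈ B ∧ S ⊆ b)).card = 5) ∧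
    (S.card = 5 → (univ.filter (fun b : Finset α => b ∈ B ∧ S ⊆ b)).card = 1) := by
  refine ⟨?_, ?_, ?_, ?_, ?_, ?_⟩ <;> intro h <;>
    have key := steiner_lambda 5 8 B hB S (by omega) <;>
    rw [hα, h] at key <;>
    norm_num [Nat.choose] at key <;> omega

open Classical in
/-- generalised intersection-number identity: `∑_b C(|b ∩ Y|, j) = ∑_{S ⊆ Y, |S| = j} λ(S)` -/
theorem sum_choose_inter (B : Set (Finset α)) (Y : Finset α) (j : ℕ) :
    ∑ b ∈ univ.filter (fun b : Finset α => b ∈ B), ((b ∩ Y).card).choose j =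
      ∑ S ∈ Y.powersetCard j, (univ.filter (fun b : Finset α => b ∈ B ∧ S ⊆ b)).card := by
  have key := Finset.sum_card_bipartiteAbove_eq_sum_card_bipartiteBelow
    (s := Y.powersetCard j)
    (t := univ.filter (fun b : Finset α => b ∈ B)) (fun T b => T ⊆ b)
  rw [show (∑ S ∈ Y.powersetCard j, (univ.filter (fun b : Finset α => b ∈ B ∧ S ⊆ b)).card) =
    ∑ S ∈ Y.powersetCard j, (bipartiteAbove (fun T b => T ⊆ b)
        (univ.filter (fun b : Finset α => b ∈ B)) S).card from ?_, key]
  · apply Finset.sum_congr rfl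
    intro b _
    rw [← Finset.card_powersetCard]
    congr 1
    ext T
    simp only [bipartiteBelow, mem_filter, mem_powersetCard, subset_inter_iff]
    tauto
  · apply Finset.sum_congr rfl
    intro S _
    congr 1
    ext b
    simp only [bipartiteAbove, mem_filter, mem_univ, true_and]

end Steiner

end Cfsg.Agent.Helper93
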