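import Mathlib
import Cfsg.Prelude.Def_Sporadic_a
import Cfsg.Agent.Helper93.Steiner

/-!
The projective plane of order 4 as an abstract Steiner system `S(2, 5, 21)`:
basic incidence facts, arcs and their extension counts.
-/

set_option autoImplicit false

namespace Cfsg.Agent.Helper93

open Finset

section Plane

variable {α : Type*} [Fintype α] [DecidableEq α]

/-- the blocks of a set system as a finset -/
noncomputable def linesF (L : Set (Finset α)) : Finset (Finset α) :=
  @Finset.filter _ (fun b => b ∈ L) (fun _ => Classical.propDecidable _) Finset.univ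

theorem mem_linesF {L : Set (Finset α)} {l : Finset α} : l ∈ linesF L ↔ l ∈ L := by
  simp [linesF]

/-- blocks through `S`, restated with `linesF` -/
theorem lambda_linesF (t k : ℕ) (L : Set (Finset α)) (hL : Cfsg.IsSteinerSystem t k L)
    (S : Finset α) (hS : S.card ≤ t) :
    ((linesF L).filter (fun b => S ⊆ b)).card * (k - S.card).choose (t - S.card) =
      (Fintype.card α - S.card).choose (t - S.card) := by
  classical
  rw [← steiner_lambda t k L hL S hS]
  congr 2
  ext b
  simp [mem_linesF]

theorem sum_choose_inter_linesF (L : Set (Finset α)) (Y : Finset α) (j : ℕ) :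
    ∑ b ∈ linesF L, ((b ∩ Y).card).choose j =
      ∑ S ∈ Y.powersetCard j, ((linesF L).filter (fun b => S ⊆ b)).card := by
  classical
  have h := sum_choose_inter L Y j
  have e1 : linesF L = univ.filter (fun b : Finset α => b ∈ L) := by
    ext b; simp [mem_linesF]
  rw [e1]
  rw [h]
  apply Finset.sum_congr rfl
  intro S _
  congr 1
  ext b
  simp

/-- dual counting identity for a family of lines -/
theorem sum_choose_dual (M : Finset (Finset α)) (j : ℕ) :
    ∑ x : α, ((M.filter (fun l => x ∈ l)).card).choose j =
      ∑ P ∈ M.powersetCard j, (univ.filter (fun x : α => ∀ l ∈ P, x ∈ l)).card := by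
  have key := Finset.sum_card_bipartiteAbove_eq_sum_card_bipartiteBelow
    (s := (univ : Finset α)) (t := M.powersetCard j) (fun x P => ∀ l ∈ P, x ∈ l)
  rw [show (∑ x : α, ((M.filter (fun l => x ∈ l)).card).choose j) =
    ∑ x : α, (bipartiteAbove (fun x P => ∀ l ∈ P, x ∈ l) (M.powersetCard j) x).card from ?_, key]
  · apply Finset.sum_congr rfl
    intro P _
    rfl
  · apply Finset.sum_congr rfl
    intro x _
    rw [← Finset.card_powersetCard]
    congr 1
    ext P
    simp only [bipartiteAbove, mem_filter, mem_powersetCard, subset_iff]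
    constructor
    · rintro ⟨h1, h2⟩
      exact ⟨⟨fun l hl => (h1 hl).1, h2⟩, fun l hl => (h1 hl).2⟩
    · rintro ⟨⟨h1, h2⟩, h3⟩
      exact ⟨fun l hl => ⟨h1 hl, h3 l hl⟩, h2⟩

end Plane

section Plane4

variable {α : Type*} [Fintype α] [DecidableEq α] (hα : Fintype.card α = 21)
  (L : Set (Finset α)) (hL : Cfsg.IsSteinerSystem 2 5 L)

include hL in
theorem line_unique {l l' : Finset α} (hl : l ∈ L) (hl' : l' ∈ L) {p q : α} (hpq : p ≠ q)
    (hp : p ∈ l) (hq : q ∈ l) (hp' : p ∈ l') (hq' : q ∈ l') : l = l' := by
  obtain ⟨b, _, hb⟩ := hL.2 {p, q} (Finset.card_pair hpq)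
  have h1 := hb l ⟨hl, by intro x hx; simp at hx; rcases hx with rfl | rfl <;> assumption⟩
  have h2 := hb l' ⟨hl', by intro x hx; simp at hx; rcases hx with rfl | rfl <;> assumption⟩
  rw [h1, h2]

include hL in
theorem exists_line {p q : α} (hpq : p ≠ q) : ∃ l ∈ L, p ∈ l ∧ q ∈ l := by
  obtain ⟨b, ⟨hb, hsub⟩, _⟩ := hL.2 {p, q} (Finset.card_pair hpq)
  exact ⟨b, hb, hsub (by simp), hsub (by simp)⟩

include hL in
theorem inter_card_le_one {l l' : Finset α} (hl : l ∈ L) (hl' : l' ∈ L) (hne : l ≠ l') :
    (l ∩ l').card ≤ 1 := by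
  by_contra hcon
  have h2 : 1 < (l ∩ l').card := by omega
  obtain ⟨p, hp, q, hq, hpq⟩ := Finset.one_lt_card.mp h2
  rw [Finset.mem_inter] at hp hq
  exact hne (line_unique L hL hl hl' hpq hp.1 hq.1 hp.2 hq.2)

include hα hL in
theorem card_linesF : (linesF L).card = 21 := by
  have h := lambda_linesF 2 5 L hL ∅ (by simp)
  rw [hα] at h
  simp only [Finset.card_empty, Nat.sub_zero, Finset.empty_subset, Finset.filter_true] at h
  norm_num [Nat.choose] at h
  omega

include hα hL in
theorem card_lines_through (p : α) : ((linesF L).filter (fun l => p ∈ l)).card = 5 := by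
  have h := lambda_linesF 2 5 L hL {p} (by simp)
  rw [hα] at h
  simp only [Finset.card_singleton, Finset.singleton_subset_iff] at h
  norm_num [Nat.choose] at h
  omega

include hL in
theorem card_lines_through_two {p q : α} (hpq : p ≠ q) :
    ((linesF L).filter (fun l => p ∈ l ∧ q ∈ l)).card = 1 := by
  obtain ⟨l, hl, hp, hq⟩ := exists_line L hL hpq
  rw [Finset.card_eq_one]
  refine ⟨l, ?_⟩
  ext l'
  simp only [mem_filter, mem_linesF, mem_singleton]
  constructor
  · rintro ⟨hl', hp', hq'⟩
    exact line_unique L hL hl' hl hpq hp' hq' hp hq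
  · rintro rfl
    exact ⟨hl, hp, hq⟩

include hα hL in
theorem inter_card_eq_one {l l' : Finset α} (hl : l ∈ L) (hl' : l' ∈ L) (hne : l ≠ l') :
    (l ∩ l').card = 1 := by
  have h1 := sum_choose_inter_linesF L l 1
  simp only [Nat.choose_one_right] at h1
  have h2 : ∑ S ∈ l.powersetCard 1, ((linesF L).filter (fun b => S ⊆ b)).card = 25 := by
    rw [Finset.sum_congr rfl (g := fun _ => 5)]
    · rw [Finset.sum_const, Finset.card_powersetCard, hL.1 l hl]; rfl
    · intro S hS
      rw [mem_powersetCard] at hS
      obtain ⟨p, rfl⟩ := Finset.card_eq_one.mp hS.2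
      simp only [Finset.singleton_subset_iff]
      exact card_lines_through hα L hL p
  rw [h2] at h1
  have hlmem : l ∈ linesF L := mem_linesF.mpr hl
  rw [← Finset.add_sum_erase _ _ hlmem, Finset.inter_self, hL.1 l hl] at h1
  have hcard : ((linesF L).erase l).card = 20 := by
    rw [Finset.card_erase_of_mem hlmem, card_linesF hα L hL]
  have hle : ∀ b ∈ (linesF L).erase l, (b ∩ l).card ≤ 1 := by
    intro b hb
    rw [mem_erase, mem_linesF] at hb
    exact inter_card_le_one L hL hb.2 hl hb.1
  by_contra hcon
  have hl'mem : l' ∈ (linesF L).erase l :=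
    mem_erase.mpr ⟨fun h => hne h.symm, mem_linesF.mpr hl'⟩
  have h0 : (l' ∩ l).card = 0 := by
    have := hle l' hl'mem
    rw [Finset.inter_comm] at hcon
    omega
  rw [← Finset.add_sum_erase _ _ hl'mem, h0] at h1
  have hle2 : ∑ b ∈ ((linesF L).erase l).erase l', (b ∩ l).card ≤
      ∑ b ∈ ((linesF L).erase l).erase l', 1 :=
    Finset.sum_le_sum (fun b hb => hle b (Finset.mem_of_mem_erase hb))
  rw [Finset.sum_const, Finset.card_erase_of_mem hl'mem, hcard] at hle2
  simp only [smul_eq_mul, mul_one] at hle2
  omega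

/-- no line meets `S` in more than two points -/
def IsArc (S : Finset α) : Prop := ∀ l ∈ L, (l ∩ S).card ≤ 2

omit [Fintype α] in
theorem IsArc.subset {S T : Finset α} (h : IsArc L T) (hST : S ⊆ T) : IsArc L S :=
  fun l hl => (Finset.card_le_card (Finset.inter_subset_inter_left hST)).trans (h l hl)

/-- the secants of `S` -/
noncomputable def secants (S : Finset α) : Finset (Finset α) :=
  (linesF L).filter (fun l => (l ∩ S).card = 2)

theorem mem_secants {S l : Finset α} : l ∈ secants L S ↔ l ∈ L ∧ (l ∩ S).card = 2 := by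
  simp [secants, mem_linesF]

/-- the number of secants of `S` through `x` -/
noncomputable def secNum (S : Finset α) (x : α) : ℕ :=
  ((secants L S).filter (fun l => x ∈ l)).card

include hL in
theorem card_secants {S : Finset α} (hS : IsArc L S) :
    (secants L S).card = S.card.choose 2 := by
  have h := sum_choose_inter_linesF L S 2
  have h2 : ∑ P ∈ S.powersetCard 2, ((linesF L).filter (fun b => P ⊆ b)).card =
      S.card.choose 2 := by
    rw [Finset.sum_congr rfl (g := fun _ => 1)]
    · rw [Finset.sum_const, Finset.card_powersetCard, smul_eq_mul, mul_one]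
    · intro P hP
      rw [mem_powersetCard] at hP
      have := lambda_linesF 2 5 L hL P (by omega)
      rw [hP.2] at this
      simpa using this
  rw [h2] at h
  rw [← h, secants, Finset.card_filter]
  apply Finset.sum_congr rfl
  intro b hb
  have := hS b (mem_linesF.mp hb)
  interval_cases hc : (b ∩ S).card <;> simp

include hL in
theorem sum_secNum {S : Finset α} : ∑ x : α, secNum L S x = 5 * (secants L S).card := by
  have h := sum_choose_dual (secants L S) 1
  simp only [Nat.choose_one_right] at h
  unfold secNum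
  rw [h, Finset.powersetCard_one, Finset.sum_map, mul_comm, ← smul_eq_mul, ← Finset.sum_const]
  apply Finset.sum_congr rfl
  intro l hl
  rw [← hL.1 l ((mem_secants L).mp hl).1]
  congr 1
  ext x
  simp

include hα hL in
theorem sum_secNum_choose {S : Finset α} :
    ∑ x : α, (secNum L S x).choose 2 = ((secants L S).card).choose 2 := by
  have h := sum_choose_dual (secants L S) 2
  unfold secNum
  rw [h, Finset.sum_congr rfl (g := fun _ => 1)]
  · rw [Finset.sum_const, Finset.card_powersetCard, smul_eq_mul, mul_one]
  · intro P hP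
    rw [mem_powersetCard] at hP
    obtain ⟨l, l', hne, rfl⟩ := Finset.card_eq_two.mp hP.2
    have hl := ((mem_secants L).mp (hP.1 (by simp : l ∈ ({l, l'} : Finset (Finset α))))).1
    have hl' := ((mem_secants L).mp (hP.1 (by simp : l' ∈ ({l, l'} : Finset (Finset α))))).1
    rw [← inter_card_eq_one hα L hL hl hl' hne]
    congr 1
    ext x
    simp

include hL in
/-- the lines through `x` partition the other points -/
theorem sum_inter_through {x : α} {T : Finset α} (hx : x ∉ T) :
    ∑ l ∈ (linesF L).filter (fun l => x ∈ l), (l ∩ T).card = T.card := by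
  have key := Finset.sum_card_bipartiteAbove_eq_sum_card_bipartiteBelow
    (s := (linesF L).filter (fun l => x ∈ l)) (t := T) (fun l y => y ∈ l)
  have h1 : ∀ l ∈ (linesF L).filter (fun l => x ∈ l),
      (bipartiteAbove (fun l y => y ∈ l) T l).card = (l ∩ T).card := by
    intro l _
    congr 1
    ext y
    simp [bipartiteAbove, and_comm]
  have h2 : ∀ y ∈ T, (bipartiteBelow (fun l y => y ∈ l)
      ((linesF L).filter (fun l => x ∈ l)) y).card = 1 := by
    intro y hy
    have hxy : x ≠ y := fun h => hx (h ▸ hy)
    rw [← card_lines_through_two L hL hxy]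
    congr 1
    ext l
    simp [bipartiteBelow, and_assoc]
  rw [Finset.sum_congr rfl h1, Finset.sum_congr rfl h2] at key
  rw [key, Finset.sum_const, smul_eq_mul, mul_one]

include hL in
theorem secNum_of_mem {S : Finset α} (hS : IsArc L S) {x : α} (hx : x ∈ S) :
    secNum L S x = S.card - 1 := by
  have h := sum_inter_through L hL (x := x) (T := S.erase x) (Finset.notMem_erase x S)
  rw [Finset.card_erase_of_mem hx] at h
  rw [← h]
  unfold secNum secants
  rw [Finset.filter_filter, Finset.card_filter, Finset.sum_filter]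
  apply Finset.sum_congr rfl
  intro l hl
  by_cases hxl : x ∈ l
  · have hins : l ∩ S = insert x (l ∩ S.erase x) := by
      ext y
      simp only [mem_inter, mem_insert, mem_erase]
      constructor
      · rintro ⟨h1, h2⟩
        by_cases hyx : y = x
        · exact Or.inl hyx
        · exact Or.inr ⟨h1, hyx, h2⟩
      · rintro (rfl | ⟨h1, _, h2⟩)
        · exact ⟨hxl, hx⟩
        · exact ⟨h1, h2⟩
    have hnot : x ∉ l ∩ S.erase x := by simp
    have hc : (l ∩ S).card = (l ∩ S.erase x).card + 1 := by
      rw [hins, Finset.card_insert_of_notMem hnot]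
    have hle := hS l (mem_linesF.mp hl)
    rw [if_pos hxl]
    by_cases h1 : (l ∩ S.erase x).card = 1
    · rw [if_pos ⟨by omega, hxl⟩, h1]
    · rw [if_neg (by rintro ⟨h2, _⟩; omega)]
      omega
  · rw [if_neg hxl, if_neg (fun h => hxl h.2)]

include hL in
theorem secNum_of_notMem {S : Finset α} {x : α} (hx : x ∉ S) :
    2 * secNum L S x ≤ S.card := by
  have h := sum_inter_through L hL (x := x) (T := S) hx
  rw [← h]
  unfold secNum secants
  rw [Finset.filter_filter, Finset.card_filter, Finset.mul_sum, Finset.sum_filter]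
  apply Finset.sum_le_sum
  intro l _
  by_cases hxl : x ∈ l
  · rw [if_pos hxl]
    by_cases h2 : (l ∩ S).card = 2
    · rw [if_pos ⟨h2, hxl⟩, h2]
      omega
    · rw [if_neg (fun h => h2 h.1)]
      omega
  · rw [if_neg hxl, if_neg (fun h => hxl h.2)]
    omega

include hL in
/-- splitting a sum of a function of `secNum` over all points -/
theorem arc_sum {S : Finset α} (hS : IsArc L S) (hk : S.card ≤ 6) (f : ℕ → ℕ) :
    ∑ x : α, f (secNum L S x) = S.card * f (S.card - 1) +
      ∑ i ∈ range 4, ((univ \ S).filter (fun x => secNum L S x = i)).card * f i := by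
  rw [← Finset.sum_sdiff (Finset.subset_univ S), add_comm]
  congr 1
  · rw [Finset.sum_congr rfl (fun x hx => by rw [secNum_of_mem L hL hS hx]),
      Finset.sum_const, smul_eq_mul]
  · have hmaps : ∀ x ∈ univ \ S, secNum L S x ∈ range 4 := by
      intro x hx
      rw [mem_sdiff] at hx
      have := secNum_of_notMem L hL hx.2
      rw [mem_range]
      omega
    rw [← Finset.sum_fiberwise_of_maps_to hmaps]
    apply Finset.sum_congr rfl
    intro i _
    rw [Finset.card_eq_sum_ones, Finset.sum_mul]
    apply Finset.sum_congr rfl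
    intro x hx
    rw [(mem_filter.mp hx).2, one_mul]

/-- the points that can be added to the arc `S` -/
noncomputable def extSet (S : Finset α) : Finset α :=
  (univ \ S).filter (fun x => secNum L S x = 0)

theorem mem_extSet {S : Finset α} {x : α} : x ∈ extSet L S ↔ x ∉ S ∧ secNum L S x = 0 := by
  simp [extSet]

theorem arc_insert_iff {S : Finset α} (hS : IsArc L S) {x : α} (hx : x ∉ S) :
    IsArc L (insert x S) ↔ secNum L S x = 0 := by
  constructor
  · intro h
    unfold secNum
    rw [Finset.card_eq_zero, Finset.filter_eq_empty_iff]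
    intro l hl hxl
    rw [mem_secants] at hl
    have h3 := h l hl.1
    rw [Finset.inter_insert_of_mem hxl, Finset.card_insert_of_notMem (by simp [hx]), hl.2] at h3
    omega
  · intro h l hl
    unfold secNum at h
    rw [Finset.card_eq_zero, Finset.filter_eq_empty_iff] at h
    by_cases hxl : x ∈ l
    · have hns : l ∉ secants L S := fun hls => h hls hxl
      rw [mem_secants] at hns
      have hle := hS l hl
      have hne : (l ∩ S).card ≠ 2 := fun h2 => hns ⟨hl, h2⟩
      rw [Finset.inter_insert_of_mem hxl, Finset.card_insert_of_notMem (by simp [hx])]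
      omega
    · rw [Finset.inter_insert_of_notMem hxl]
      exact hS l hl

/-- the number of points off `S` lying on exactly `i` secants of `S` -/
noncomputable def nsec (S : Finset α) (i : ℕ) : ℕ :=
  ((univ \ S).filter (fun x => secNum L S x = i)).card

theorem extSet_card (S : Finset α) : (extSet L S).card = nsec L S 0 := rfl

include hα hL in
/-- the three counting equations for an arc of size at most 6 -/
theorem arc_equations {S : Finset α} (hS : IsArc L S) (hk : S.card ≤ 6) :
    nsec L S 0 + nsec L S 1 + nsec L S 2 + nsec L S 3 + S.card = 21 ∧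
    S.card * (S.card - 1) + (nsec L S 1 + 2 * nsec L S 2 + 3 * nsec L S 3) =
      5 * S.card.choose 2 ∧
    S.card * (S.card - 1).choose 2 + (nsec L S 2 + 3 * nsec L S 3) =
      (S.card.choose 2).choose 2 := by
  have e0 := arc_sum L hL hS hk (fun _ => 1)
  have e1 := arc_sum L hL hS hk (fun i => i)
  have e2 := arc_sum L hL hS hk (fun i => i.choose 2)
  rw [sum_secNum L hL, card_secants L hL hS] at e1
  rw [sum_secNum_choose hα L hL, card_secants L hL hS] at e2
  change _ = _ + ∑ i ∈ range 4, nsec L S i * _ at e0
  change _ = _ + ∑ i ∈ range 4, nsec L S i * _ at e1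
  change _ = _ + ∑ i ∈ range 4, nsec L S i * _ at e2
  simp only [Finset.sum_const, Finset.card_univ, hα, smul_eq_mul, mul_one,
    Finset.sum_range_succ, Finset.sum_range_zero] at e0 e1 e2
  have c02 : Nat.choose 0 2 = 0 := rfl
  have c12 : Nat.choose 1 2 = 0 := rfl
  have c22 : Nat.choose 2 2 = 1 := rfl
  have c32 : Nat.choose 3 2 = 3 := rfl
  rw [c02, c12, c22, c32] at e2
  refine ⟨by omega, by omega, by omega⟩

include hL in
theorem nsec_three {S : Finset α} (hk : S.card ≤ 5) : nsec L S 3 = 0 := by
  unfold nsec
  rw [Finset.card_eq_zero, Finset.filter_eq_empty_iff]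
  intro x hx h3
  rw [mem_sdiff] at hx
  have := secNum_of_notMem L hL hx.2
  omega

include hL in
theorem nsec_two {S : Finset α} (hk : S.card ≤ 3) : nsec L S 2 = 0 := by
  unfold nsec
  rw [Finset.card_eq_zero, Finset.filter_eq_empty_iff]
  intro x hx h3
  rw [mem_sdiff] at hx
  have := secNum_of_notMem L hL hx.2
  omega

include hα hL in
theorem ext_card_two {S : Finset α} (hS : IsArc L S) (hk : S.card = 2) :
    (extSet L S).card = 16 := by
  obtain ⟨e0, e1, e2⟩ := arc_equations hα L hL hS (by omega)
  have h3 := nsec_three L hL (S := S) (by omega)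
  have h2 := nsec_two L hL (S := S) (by omega)
  rw [extSet_card]
  rw [hk] at e0 e1 e2
  norm_num [Nat.choose] at e1 e2
  omega

include hα hL in
theorem ext_card_three {S : Finset α} (hS : IsArc L S) (hk : S.card = 3) :
    (extSet L S).card = 9 := by
  obtain ⟨e0, e1, e2⟩ := arc_equations hα L hL hS (by omega)
  have h3 := nsec_three L hL (S := S) (by omega)
  have h2 := nsec_two L hL (S := S) (by omega)
  rw [extSet_card]
  rw [hk] at e0 e1 e2
  norm_num [Nat.choose] at e1 e2
  omega

include hα hL in
theorem ext_card_four {S : Finset α} (hS : IsArc L S) (hk : S.card = 4) :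
    (extSet L S).card = 2 := by
  obtain ⟨e0, e1, e2⟩ := arc_equations hα L hL hS (by omega)
  have h3 := nsec_three L hL (S := S) (by omega)
  rw [extSet_card]
  rw [hk] at e0 e1 e2
  norm_num [Nat.choose] at e1 e2
  omega

include hα hL in
theorem ext_card_five {S : Finset α} (hS : IsArc L S) (hk : S.card = 5) :
    (extSet L S).card = 1 := by
  obtain ⟨e0, e1, e2⟩ := arc_equations hα L hL hS (by omega)
  have h3 := nsec_three L hL (S := S) (by omega)
  rw [extSet_card]
  rw [hk] at e0 e1 e2
  norm_num [Nat.choose] at e1 e2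
  omega

include hα hL in
/-- every point off a hyperoval lies on exactly three secants -/
theorem secNum_hyperoval {S : Finset α} (hS : IsArc L S) (hk : S.card = 6) {x : α}
    (hx : x ∉ S) : secNum L S x = 3 := by
  obtain ⟨e0, e1, e2⟩ := arc_equations hα L hL hS (by omega)
  rw [hk] at e0 e1 e2
  norm_num [Nat.choose] at e1 e2
  have h15 : nsec L S 3 = 15 := by omega
  have hsub : (univ \ S).filter (fun x => secNum L S x = 3) = univ \ S := by
    apply Finset.eq_of_subset_of_card_le (Finset.filter_subset _ _)
    rw [Finset.card_sdiff_of_subset (Finset.subset_univ S), Finset.card_univ, hα, hk]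
    exact le_of_eq h15.symm
  have hxm : x ∈ (univ \ S).filter (fun x => secNum L S x = 3) := by
    rw [hsub]; simp [hx]
  exact (mem_filter.mp hxm).2

/-- the arcs of size `k` -/
noncomputable def arcsF (k : ℕ) : Finset (Finset α) :=
  @Finset.filter _ (fun S => IsArc L S) (fun _ => Classical.propDecidable _)
    (univ.powersetCard k)

theorem mem_arcsF {k : ℕ} {S : Finset α} : S ∈ arcsF L k ↔ S.card = k ∧ IsArc L S := by
  simp [arcsF, mem_powersetCard]

/-- double counting between arcs of sizes `k` and `k + 1` -/
theorem arcs_step (k : ℕ) :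
    (k + 1) * (arcsF L (k + 1)).card = ∑ S ∈ arcsF L k, (extSet L S).card := by
  have key := Finset.sum_card_bipartiteAbove_eq_sum_card_bipartiteBelow
    (s := arcsF L k) (t := arcsF L (k + 1)) (fun S T => S ⊆ T)
  have h1 : ∀ S ∈ arcsF L k,
      (bipartiteAbove (fun S T => S ⊆ T) (arcsF L (k + 1)) S).card = (extSet L S).card := by
    intro S hS
    rw [mem_arcsF] at hS
    symm
    apply Finset.card_bij (fun x _ => insert x S)
    · intro x hx
      rw [mem_extSet] at hx
      simp only [bipartiteAbove, mem_filter, mem_arcsF]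
      exact ⟨⟨by rw [card_insert_of_notMem hx.1, hS.1],
        (arc_insert_iff L hS.2 hx.1).mpr hx.2⟩, subset_insert _ _⟩
    · intro x hx y hy hxy
      rw [mem_extSet] at hx hy
      have : x ∈ insert y S := hxy ▸ mem_insert_self x S
      rcases mem_insert.mp this with h | h
      · exact h
      · exact absurd h hx.1
    · intro T hT
      simp only [bipartiteAbove, mem_filter, mem_arcsF] at hT
      obtain ⟨⟨hTc, hTa⟩, hST⟩ := hT
      have hc : (T \ S).card = 1 := by
        rw [card_sdiff_of_subset hST, hTc, hS.1]; omega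
      obtain ⟨x, hx⟩ := card_eq_one.mp hc
      have hxT : x ∈ T \ S := hx ▸ mem_singleton_self x
      rw [mem_sdiff] at hxT
      have hins : insert x S = T := by
        rw [← Finset.sdiff_union_of_subset hST, hx]
        ext y
        simp
      refine ⟨x, ?_, hins⟩
      rw [mem_extSet]
      exact ⟨hxT.2, (arc_insert_iff L hS.2 hxT.2).mp (hins ▸ hTa)⟩
  have h2 : ∀ T ∈ arcsF L (k + 1),
      (bipartiteBelow (fun S T => S ⊆ T) (arcsF L k) T).card = k + 1 := by
    intro T hT
    rw [mem_arcsF] at hT
    have : bipartiteBelow (fun S T => S ⊆ T) (arcsF L k) T = T.powersetCard k := by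
      ext S
      simp only [bipartiteBelow, mem_filter, mem_arcsF, mem_powersetCard]
      constructor
      · rintro ⟨⟨h1, _⟩, h2⟩
        exact ⟨h2, h1⟩
      · rintro ⟨h1, h2⟩
        exact ⟨⟨h2, hT.2.subset L h1⟩, h1⟩
    rw [this, card_powersetCard, hT.1, Nat.choose_succ_self_right]
  rw [Finset.sum_congr rfl h1, Finset.sum_congr rfl h2, Finset.sum_const, smul_eq_mul] at key
  rw [mul_comm, ← key]

include hα in
theorem card_arcs_two : (arcsF L 2).card = 210 := by
  have : arcsF L 2 = univ.powersetCard 2 := by
    ext S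
    rw [mem_arcsF, mem_powersetCard]
    constructor
    · rintro ⟨h, _⟩
      exact ⟨subset_univ _, h⟩
    · rintro ⟨_, h⟩
      refine ⟨h, fun l _ => ?_⟩
      rw [← h]
      exact Finset.card_le_card Finset.inter_subset_right
  rw [this, card_powersetCard, card_univ, hα]
  rfl

include hα hL in
theorem card_arcs_three : (arcsF L 3).card = 1120 := by
  have h : 3 * (arcsF L 3).card = ∑ S ∈ arcsF L 2, (extSet L S).card := arcs_step L 2
  rw [Finset.sum_congr rfl (fun S hS => ext_card_two hα L hL ((mem_arcsF L).mp hS).2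
    ((mem_arcsF L).mp hS).1), Finset.sum_const, card_arcs_two hα L] at h
  simp only [smul_eq_mul] at h
  omega

include hα hL in
theorem card_arcs_four : (arcsF L 4).card = 2520 := by
  have h : 4 * (arcsF L 4).card = ∑ S ∈ arcsF L 3, (extSet L S).card := arcs_step L 3
  rw [Finset.sum_congr rfl (fun S hS => ext_card_three hα L hL ((mem_arcsF L).mp hS).2
    ((mem_arcsF L).mp hS).1), Finset.sum_const, card_arcs_three hα L hL] at h
  simp only [smul_eq_mul] at h
  omega

include hα hL in
/-- the unique hyperoval through an independent 4-set -/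
theorem hyperoval_of_four {S : Finset α} (hS : IsArc L S) (h4 : S.card = 4) :
    IsArc L (S ∪ extSet L S) ∧ (S ∪ extSet L S).card = 6 ∧
      ∀ H : Finset α, IsArc L H → H.card = 6 → S ⊆ H → H = S ∪ extSet L S := by
  have hE := ext_card_four hα L hL hS h4
  obtain ⟨q1, q2, hq, hEq⟩ := Finset.card_eq_two.mp hE
  have hq1 : q1 ∈ extSet L S := by rw [hEq]; simp
  have hq2 : q2 ∈ extSet L S := by rw [hEq]; simp
  rw [mem_extSet] at hq1 hq2
  have hS1 : IsArc L (insert q1 S) := (arc_insert_iff L hS hq1.1).mpr hq1.2
  have hS1c : (insert q1 S).card = 5 := by rw [card_insert_of_notMem hq1.1, h4]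
  have hE1 := ext_card_five hα L hL hS1 hS1c
  obtain ⟨y, hy⟩ := Finset.card_eq_one.mp hE1
  have hy' : y ∈ extSet L (insert q1 S) := by rw [hy]; simp
  rw [mem_extSet] at hy'
  have hyS1 : IsArc L (insert y (insert q1 S)) := (arc_insert_iff L hS1 hy'.1).mpr hy'.2
  have hyS : y ∉ S := fun h => hy'.1 (mem_insert_of_mem h)
  have hyq1 : y ≠ q1 := fun h => hy'.1 (h ▸ mem_insert_self _ _)
  have hyarc : IsArc L (insert y S) :=
    hyS1.subset L (Finset.insert_subset_insert y (Finset.subset_insert q1 S))
  have hyE : y ∈ extSet L S := (mem_extSet L).mpr ⟨hyS, (arc_insert_iff L hS hyS).mp hyarc⟩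
  have hyq2 : y = q2 := by
    rw [hEq] at hyE
    simp only [mem_insert, mem_singleton] at hyE
    rcases hyE with h | h
    · exact absurd h hyq1
    · exact h
  have hunion : S ∪ extSet L S = insert y (insert q1 S) := by
    rw [hEq, hyq2]
    ext z
    simp only [mem_union, mem_insert, mem_singleton]
    tauto
  refine ⟨hunion ▸ hyS1, ?_, ?_⟩
  · rw [hunion, card_insert_of_notMem hy'.1, hS1c]
  · intro H hH h6 hSH
    have hsub : H \ S ⊆ extSet L S := by
      intro x hx
      rw [mem_sdiff] at hx
      rw [mem_extSet]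
      refine ⟨hx.2, (arc_insert_iff L hS hx.2).mp ?_⟩
      exact hH.subset L (Finset.insert_subset hx.1 hSH)
    have hcard : (extSet L S).card ≤ (H \ S).card := by
      rw [Finset.card_sdiff_of_subset hSH, h6, h4, hE]
    have heq := Finset.eq_of_subset_of_card_le hsub hcard
    rw [← heq, Finset.union_sdiff_of_subset hSH]

include hα hL in
theorem card_arcs_six : (arcsF L 6).card = 168 := by
  have key := Finset.sum_card_bipartiteAbove_eq_sum_card_bipartiteBelow
    (s := arcsF L 4) (t := arcsF L 6) (fun S T => S ⊆ T)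
  have h1 : ∀ S ∈ arcsF L 4,
      (bipartiteAbove (fun S T => S ⊆ T) (arcsF L 6) S).card = 1 := by
    intro S hS
    rw [mem_arcsF] at hS
    obtain ⟨ha, hc, hu⟩ := hyperoval_of_four hα L hL hS.2 hS.1
    rw [Finset.card_eq_one]
    refine ⟨S ∪ extSet L S, ?_⟩
    ext H
    simp only [bipartiteAbove, mem_filter, mem_arcsF, mem_singleton]
    constructor
    · rintro ⟨⟨h6, hH⟩, hSH⟩
      exact hu H hH h6 hSH
    · rintro rfl
      exact ⟨⟨hc, ha⟩, Finset.subset_union_left⟩
  have h2 : ∀ T ∈ arcsF L 6,
      (bipartiteBelow (fun S T => S ⊆ T) (arcsF L 4) T).card = 15 := by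
    intro T hT
    rw [mem_arcsF] at hT
    have : bipartiteBelow (fun S T => S ⊆ T) (arcsF L 4) T = T.powersetCard 4 := by
      ext S
      simp only [bipartiteBelow, mem_filter, mem_arcsF, mem_powersetCard]
      constructor
      · rintro ⟨⟨h1, _⟩, h2⟩
        exact ⟨h2, h1⟩
      · rintro ⟨h1, h2⟩
        exact ⟨⟨h2, hT.2.subset L h1⟩, h1⟩
    rw [this, card_powersetCard, hT.1]
    rfl
  rw [Finset.sum_congr rfl h1, Finset.sum_congr rfl h2, Finset.sum_const, Finset.sum_const,
    card_arcs_four hα L hL] at key
  simp only [smul_eq_mul] at key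
  omega

end Plane4

end Cfsg.Agent.Helper93
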