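import Mathlib
import Cfsg.Prelude.Def_Sporadic_a
import Cfsg.Agent.Helper93.Steiner

/-!
Intersection sizes of blocks in the Steiner systems `S(5,8,24)`, `S(4,7,23)`, `S(3,6,22)`.
-/

set_option autoImplicit false

namespace Cfsg.Agent.Helper93

open Finset

section SteinerInter

variable {α : Type*} [Fintype α] [DecidableEq α]

open Classical in
/-- `∑_x C(|x ∩ b|, j) · C(k - j, t - j) = C(k, j) · C(v - j, t - j)` for a block `b`. -/
theorem sum_choose_block (t k : ℕ) (B : Set (Finset α)) (hB : Cfsg.IsSteinerSystem t k B)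
    (b : Finset α) (hb : b ∈ B) (j : ℕ) (hj : j ≤ t) :
    (∑ x ∈ univ.filter (fun x : Finset α => x ∈ B), ((x ∩ b).card).choose j) *
        (k - j).choose (t - j) =
      k.choose j * (Fintype.card α - j).choose (t - j) := by
  rw [sum_choose_inter B b j, Finset.sum_mul]
  have h : ∀ S ∈ b.powersetCard j,
      (univ.filter (fun x : Finset α => x ∈ B ∧ S ⊆ x)).card * (k - j).choose (t - j) =
        (Fintype.card α - j).choose (t - j) := by
    intro S hS
    rw [mem_powersetCard] at hS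
    have := steiner_lambda t k B hB S (by rw [hS.2]; exact hj)
    rw [hS.2] at this
    exact this
  rw [Finset.sum_congr rfl h, Finset.sum_const, card_powersetCard, hB.1 b hb, smul_eq_mul]

omit [Fintype α] in
/-- two blocks sharing at least `t` points coincide -/
theorem steiner_eq_of_inter (t k : ℕ) (B : Set (Finset α)) (hB : Cfsg.IsSteinerSystem t k B)
    {b b' : Finset α} (hb : b ∈ B) (hb' : b' ∈ B) (h : t ≤ (b ∩ b').card) : b = b' := by
  obtain ⟨s, hs, hst⟩ := Finset.exists_subset_card_eq h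
  obtain ⟨c, -, hu⟩ := hB.2 s hst
  rw [hu b ⟨hb, hs.trans inter_subset_left⟩, hu b' ⟨hb', hs.trans inter_subset_right⟩]

open Classical in
/-- In an `S(5,8,24)` two blocks meet in `0`, `2`, `4` or `8` points. -/
theorem steiner_5_8_24_inter (hα : Fintype.card α = 24) (B : Set (Finset α))
    (hB : Cfsg.IsSteinerSystem 5 8 B) {b b' : Finset α} (hb : b ∈ B) (hb' : b' ∈ B) :
    (b' ∩ b).card = 0 ∨ (b' ∩ b).card = 2 ∨ (b' ∩ b).card = 4 ∨ (b' ∩ b).card = 8 := by
  set F := univ.filter (fun x : Finset α => x ∈ B) with hF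
  let g : ℕ → ℤ := fun i => 21 * (i.choose 1 : ℤ) - 42 * (i.choose 2 : ℤ) + 78 * (i.choose 3 : ℤ)
    - 144 * (i.choose 4 : ℤ) + 120 * (i.choose 5 : ℤ)
  have hs : ∀ j, j ≤ 5 → (∑ x ∈ F, ((x ∩ b).card).choose j) * (8 - j).choose (5 - j) =
      Nat.choose 8 j * (24 - j).choose (5 - j) := by
    intro j hj
    have := sum_choose_block 5 8 B hB b hb j hj
    rw [hα] at this
    exact this
  have h1 : ∑ x ∈ F, ((x ∩ b).card).choose 1 = 2024 := by
    have := hs 1 (by norm_num)
    rw [show Nat.choose (8 - 1) (5 - 1) = 35 from by norm_num [Nat.choose],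
      show Nat.choose 8 1 * Nat.choose (24 - 1) (5 - 1) = 70840 from by norm_num [Nat.choose]] at this
    omega
  have h2 : ∑ x ∈ F, ((x ∩ b).card).choose 2 = 2156 := by
    have := hs 2 (by norm_num)
    rw [show Nat.choose (8 - 2) (5 - 2) = 20 from by norm_num [Nat.choose],
      show Nat.choose 8 2 * Nat.choose (24 - 2) (5 - 2) = 43120 from by norm_num [Nat.choose]] at this
    omega
  have h3 : ∑ x ∈ F, ((x ∩ b).card).choose 3 = 1176 := by
    have := hs 3 (by norm_num)
    rw [show Nat.choose (8 - 3) (5 - 3) = 10 from by norm_num [Nat.choose],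
      show Nat.choose 8 3 * Nat.choose (24 - 3) (5 - 3) = 11760 from by norm_num [Nat.choose]] at this
    omega
  have h4 : ∑ x ∈ F, ((x ∩ b).card).choose 4 = 350 := by
    have := hs 4 (by norm_num)
    rw [show Nat.choose (8 - 4) (5 - 4) = 4 from by norm_num [Nat.choose],
      show Nat.choose 8 4 * Nat.choose (24 - 4) (5 - 4) = 1400 from by norm_num [Nat.choose]] at this
    omega
  have h5 : ∑ x ∈ F, ((x ∩ b).card).choose 5 = 56 := by
    have := hs 5 (by norm_num)
    rw [show Nat.choose (8 - 5) (5 - 5) = 1 from by norm_num [Nat.choose],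
      show Nat.choose 8 5 * Nat.choose (24 - 5) (5 - 5) = 56 from by norm_num [Nat.choose]] at this
    omega
  have hsum : ∑ x ∈ F, g ((x ∩ b).card) = 0 := by
    simp only [g, Finset.sum_add_distrib, Finset.sum_sub_distrib, ← Finset.mul_sum,
      ← Nat.cast_sum, h1, h2, h3, h4, h5]
    norm_num
  have hfeas : ∀ x ∈ F, (x ∩ b).card ≤ 4 ∨ (x ∩ b).card = 8 := by
    intro x hx
    rw [hF, mem_filter] at hx
    by_cases h : 5 ≤ (x ∩ b).card
    · right
      have := steiner_eq_of_inter 5 8 B hB hx.2 hb h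
      rw [this, inter_self, hB.1 b hb]
    · left; omega
  have hg : ∀ i : ℕ, (i ≤ 4 ∨ i = 8) → 0 ≤ g i ∧ (g i = 0 → i = 0 ∨ i = 2 ∨ i = 4 ∨ i = 8) := by
    intro i hi
    rcases hi with hi | hi
    · interval_cases i <;> simp [g, Nat.choose]
    · subst hi; simp [g, Nat.choose]
  have hnn : ∀ x ∈ F, 0 ≤ g ((x ∩ b).card) := fun x hx => (hg _ (hfeas x hx)).1
  have hz := (Finset.sum_eq_zero_iff_of_nonneg hnn).1 hsum
  have hb'F : b' ∈ F := by rw [hF, mem_filter]; exact ⟨mem_univ _, hb'⟩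
  exact (hg _ (hfeas b' hb'F)).2 (hz b' hb'F)

open Classical in
/-- In an `S(4,7,23)` two blocks meet in `1`, `3` or `7` points. -/
theorem steiner_4_7_23_inter (hα : Fintype.card α = 23) (B : Set (Finset α))
    (hB : Cfsg.IsSteinerSystem 4 7 B) {b b' : Finset α} (hb : b ∈ B) (hb' : b' ∈ B) :
    (b' ∩ b).card = 1 ∨ (b' ∩ b).card = 3 ∨ (b' ∩ b).card = 7 := by
  set F := univ.filter (fun x : Finset α => x ∈ B) with hF
  let g : ℕ → ℤ := fun i => 21 * (i.choose 0 : ℤ) - 21 * (i.choose 1 : ℤ) + 26 * (i.choose 2 : ℤ)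
    - 36 * (i.choose 3 : ℤ) + 24 * (i.choose 4 : ℤ)
  have hs : ∀ j, j ≤ 4 → (∑ x ∈ F, ((x ∩ b).card).choose j) * (7 - j).choose (4 - j) =
      Nat.choose 7 j * (23 - j).choose (4 - j) := by
    intro j hj
    have := sum_choose_block 4 7 B hB b hb j hj
    rw [hα] at this
    exact this
  have h0 : ∑ x ∈ F, ((x ∩ b).card).choose 0 = 253 := by
    have := hs 0 (by norm_num)
    rw [show Nat.choose (7 - 0) (4 - 0) = 35 from by norm_num [Nat.choose],
      show Nat.choose 7 0 * Nat.choose (23 - 0) (4 - 0) = 8855 from by norm_num [Nat.choose]] at this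
    omega
  have h1 : ∑ x ∈ F, ((x ∩ b).card).choose 1 = 539 := by
    have := hs 1 (by norm_num)
    rw [show Nat.choose (7 - 1) (4 - 1) = 20 from by norm_num [Nat.choose],
      show Nat.choose 7 1 * Nat.choose (23 - 1) (4 - 1) = 10780 from by norm_num [Nat.choose]] at this
    omega
  have h2 : ∑ x ∈ F, ((x ∩ b).card).choose 2 = 441 := by
    have := hs 2 (by norm_num)
    rw [show Nat.choose (7 - 2) (4 - 2) = 10 from by norm_num [Nat.choose],
      show Nat.choose 7 2 * Nat.choose (23 - 2) (4 - 2) = 4410 from by norm_num [Nat.choose]] at this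
    omega
  have h3 : ∑ x ∈ F, ((x ∩ b).card).choose 3 = 175 := by
    have := hs 3 (by norm_num)
    rw [show Nat.choose (7 - 3) (4 - 3) = 4 from by norm_num [Nat.choose],
      show Nat.choose 7 3 * Nat.choose (23 - 3) (4 - 3) = 700 from by norm_num [Nat.choose]] at this
    omega
  have h4 : ∑ x ∈ F, ((x ∩ b).card).choose 4 = 35 := by
    have := hs 4 (by norm_num)
    rw [show Nat.choose (7 - 4) (4 - 4) = 1 from by norm_num [Nat.choose],
      show Nat.choose 7 4 * Nat.choose (23 - 4) (4 - 4) = 35 from by norm_num [Nat.choose]] at this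
    omega
  have hsum : ∑ x ∈ F, g ((x ∩ b).card) = 0 := by
    simp only [g, Finset.sum_add_distrib, Finset.sum_sub_distrib, ← Finset.mul_sum,
      ← Nat.cast_sum, h0, h1, h2, h3, h4]
    norm_num
  have hfeas : ∀ x ∈ F, (x ∩ b).card ≤ 3 ∨ (x ∩ b).card = 7 := by
    intro x hx
    rw [hF, mem_filter] at hx
    by_cases h : 4 ≤ (x ∩ b).card
    · right
      have := steiner_eq_of_inter 4 7 B hB hx.2 hb h
      rw [this, inter_self, hB.1 b hb]
    · left; omega
  have hg : ∀ i : ℕ, (i ≤ 3 ∨ i = 7) → 0 ≤ g i ∧ (g i = 0 → i = 1 ∨ i = 3 ∨ i = 7) := by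
    intro i hi
    rcases hi with hi | hi
    · interval_cases i <;> simp [g, Nat.choose]
    · subst hi; simp [g, Nat.choose]
  have hnn : ∀ x ∈ F, 0 ≤ g ((x ∩ b).card) := fun x hx => (hg _ (hfeas x hx)).1
  have hz := (Finset.sum_eq_zero_iff_of_nonneg hnn).1 hsum
  have hb'F : b' ∈ F := by rw [hF, mem_filter]; exact ⟨mem_univ _, hb'⟩
  exact (hg _ (hfeas b' hb'F)).2 (hz b' hb'F)

open Classical in
/-- In an `S(3,6,22)` two blocks meet in `0`, `2` or `6` points. -/
theorem steiner_3_6_22_inter (hα : Fintype.card α = 22) (B : Set (Finset α))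
    (hB : Cfsg.IsSteinerSystem 3 6 B) {b b' : Finset α} (hb : b ∈ B) (hb' : b' ∈ B) :
    (b' ∩ b).card = 0 ∨ (b' ∩ b).card = 2 ∨ (b' ∩ b).card = 6 := by
  set F := univ.filter (fun x : Finset α => x ∈ B) with hF
  let g : ℕ → ℤ := fun i => 5 * (i.choose 1 : ℤ) - 10 * (i.choose 2 : ℤ) + 6 * (i.choose 3 : ℤ)
  have hs : ∀ j, j ≤ 3 → (∑ x ∈ F, ((x ∩ b).card).choose j) * (6 - j).choose (3 - j) =
      Nat.choose 6 j * (22 - j).choose (3 - j) := by
    intro j hj
    have := sum_choose_block 3 6 B hB b hb j hj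
    rw [hα] at this
    exact this
  have h1 : ∑ x ∈ F, ((x ∩ b).card).choose 1 = 126 := by
    have := hs 1 (by norm_num)
    rw [show Nat.choose (6 - 1) (3 - 1) = 10 from by norm_num [Nat.choose],
      show Nat.choose 6 1 * Nat.choose (22 - 1) (3 - 1) = 1260 from by norm_num [Nat.choose]] at this
    omega
  have h2 : ∑ x ∈ F, ((x ∩ b).card).choose 2 = 75 := by
    have := hs 2 (by norm_num)
    rw [show Nat.choose (6 - 2) (3 - 2) = 4 from by norm_num [Nat.choose],
      show Nat.choose 6 2 * Nat.choose (22 - 2) (3 - 2) = 300 from by norm_num [Nat.choose]] at this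
    omega
  have h3 : ∑ x ∈ F, ((x ∩ b).card).choose 3 = 20 := by
    have := hs 3 (by norm_num)
    rw [show Nat.choose (6 - 3) (3 - 3) = 1 from by norm_num [Nat.choose],
      show Nat.choose 6 3 * Nat.choose (22 - 3) (3 - 3) = 20 from by norm_num [Nat.choose]] at this
    omega
  have hsum : ∑ x ∈ F, g ((x ∩ b).card) = 0 := by
    simp only [g, Finset.sum_add_distrib, Finset.sum_sub_distrib, ← Finset.mul_sum,
      ← Nat.cast_sum, h1, h2, h3]
    norm_num
  have hfeas : ∀ x ∈ F, (x ∩ b).card ≤ 2 ∨ (x ∩ b).card = 6 := by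
    intro x hx
    rw [hF, mem_filter] at hx
    by_cases h : 3 ≤ (x ∩ b).card
    · right
      have := steiner_eq_of_inter 3 6 B hB hx.2 hb h
      rw [this, inter_self, hB.1 b hb]
    · left; omega
  have hg : ∀ i : ℕ, (i ≤ 2 ∨ i = 6) → 0 ≤ g i ∧ (g i = 0 → i = 0 ∨ i = 2 ∨ i = 6) := by
    intro i hi
    rcases hi with hi | hi
    · interval_cases i <;> simp [g, Nat.choose]
    · subst hi; simp [g, Nat.choose]
  have hnn : ∀ x ∈ F, 0 ≤ g ((x ∩ b).card) := fun x hx => (hg _ (hfeas x hx)).1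
  have hz := (Finset.sum_eq_zero_iff_of_nonneg hnn).1 hsum
  have hb'F : b' ∈ F := by rw [hF, mem_filter]; exact ⟨mem_univ _, hb'⟩
  exact (hg _ (hfeas b' hb'F)).2 (hz b' hb'F)

end SteinerInter

end Cfsg.Agent.Helper93
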