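import Mathlib
import Cfsg.Prelude.Def_Sporadic_a
import Cfsg.Agent.Helper93.Plane4
import Cfsg.Agent.Helper93.SteinerInter

/-!
Counting in an abstract Steiner system `S(3,6,22)`: the numbers behind the strongly regular
graphs on 77 and 100 vertices.
-/

set_option autoImplicit false
set_option linter.unusedSectionVars false

namespace Cfsg.Agent.Helper93

open Finset

section S22

variable {α : Type*} [Fintype α] [DecidableEq α]

/-- double counting of incidences between a family of sets and a set of points -/
theorem sum_card_inter_family (F : Finset (Finset α)) (Y : Finset α) :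
    ∑ d ∈ F, (d ∩ Y).card = ∑ y ∈ Y, (F.filter (fun d => y ∈ d)).card := by
  have h1 : ∀ d ∈ F, (d ∩ Y).card = ∑ y ∈ Y, if y ∈ d then 1 else 0 := by
    intro d _
    rw [Finset.inter_comm, ← Finset.filter_mem_eq_inter, Finset.card_filter]
  have h2 : ∀ y ∈ Y, (F.filter (fun d => y ∈ d)).card = ∑ d ∈ F, if y ∈ d then 1 else 0 := by
    intro y _
    rw [Finset.card_filter]
  rw [Finset.sum_congr rfl h1, Finset.sum_congr rfl h2, Finset.sum_comm]

/-- if every member meets `Y` in 0 or 2 points, the incidence count plus twice the number of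
members missing `Y` is twice the number of members -/
theorem sum_card_inter_two (F : Finset (Finset α)) (Y : Finset α)
    (h : ∀ d ∈ F, (d ∩ Y).card = 0 ∨ (d ∩ Y).card = 2) :
    ∑ d ∈ F, (d ∩ Y).card + 2 * (F.filter (fun d => Disjoint d Y)).card = 2 * F.card := by
  have h1 : 2 * (F.filter (fun d => Disjoint d Y)).card =
      ∑ d ∈ F, if Disjoint d Y then 2 else 0 := by
    rw [Finset.card_filter, Finset.mul_sum]
    apply Finset.sum_congr rfl
    intro d _
    split_ifs <;> rfl
  rw [h1, ← Finset.sum_add_distrib, mul_comm, ← smul_eq_mul, ← Finset.sum_const]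
  apply Finset.sum_congr rfl
  intro d hd
  by_cases hdis : Disjoint d Y
  · rw [if_pos hdis, Finset.disjoint_iff_inter_eq_empty.1 hdis, Finset.card_empty]
  · rw [if_neg hdis]
    rcases h d hd with h0 | h2
    · exact absurd (Finset.disjoint_iff_inter_eq_empty.2 (Finset.card_eq_zero.1 h0)) hdis
    · rw [h2]

variable (hα : Fintype.card α = 22) (B : Set (Finset α)) (hB : Cfsg.IsSteinerSystem 3 6 B)

include hα hB

theorem s22_card : (linesF B).card = 77 := by
  have h := lambda_linesF 3 6 B hB ∅ (by simp)
  have e : (linesF B).filter (fun b => ∅ ⊆ b) = linesF B := by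
    apply Finset.filter_true_of_mem
    intro b _
    exact Finset.empty_subset b
  rw [e, hα] at h
  norm_num [Nat.choose] at h
  omega

theorem s22_through_one (x : α) : ((linesF B).filter (fun b => x ∈ b)).card = 21 := by
  have h := lambda_linesF 3 6 B hB {x} (by simp)
  have e : (linesF B).filter (fun b => {x} ⊆ b) = (linesF B).filter (fun b => x ∈ b) := by
    apply Finset.filter_congr
    intro b _
    exact Finset.singleton_subset_iff
  rw [e, hα, Finset.card_singleton] at h
  norm_num [Nat.choose] at h
  omega

theorem s22_through_two {x y : α} (hxy : x ≠ y) :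
    ((linesF B).filter (fun b => x ∈ b ∧ y ∈ b)).card = 5 := by
  have h := lambda_linesF 3 6 B hB {x, y} (by rw [Finset.card_pair hxy]; norm_num)
  have e : (linesF B).filter (fun b => {x, y} ⊆ b) =
      (linesF B).filter (fun b => x ∈ b ∧ y ∈ b) := by
    apply Finset.filter_congr
    intro b _
    rw [Finset.insert_subset_iff, Finset.singleton_subset_iff]
  rw [e, hα, Finset.card_pair hxy] at h
  norm_num [Nat.choose] at h
  omega

theorem s22_inter {b c : Finset α} (hb : b ∈ B) (hc : c ∈ B) (hne : c ≠ b) :
    (c ∩ b).card = 0 ∨ (c ∩ b).card = 2 := by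
  rcases steiner_3_6_22_inter hα B hB hb hc with h | h | h
  · exact Or.inl h
  · exact Or.inr h
  · exfalso
    apply hne
    have h1 : c ∩ b = c :=
      Finset.eq_of_subset_of_card_le Finset.inter_subset_left (by rw [h, hB.1 c hc])
    have h2 : c ∩ b = b :=
      Finset.eq_of_subset_of_card_le Finset.inter_subset_right (by rw [h, hB.1 b hb])
    rw [← h1, h2]

/-- a block is disjoint from exactly 16 blocks -/
theorem s22_disjoint {b : Finset α} (hb : b ∈ B) :
    ((linesF B).filter (fun c => Disjoint c b)).card = 16 := by
  have hbF : b ∈ linesF B := mem_linesF.2 hb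
  set F := (linesF B).erase b with hF
  have hFc : F.card = 76 := by
    rw [hF, Finset.card_erase_of_mem hbF, s22_card hα B hB]
  have h1 := sum_card_inter_family (linesF B) b
  have h2 : ∑ y ∈ b, ((linesF B).filter (fun d => y ∈ d)).card = 126 := by
    rw [Finset.sum_congr rfl (fun y _ => s22_through_one hα B hB y), Finset.sum_const,
      hB.1 b hb]
    rfl
  rw [h2, ← Finset.add_sum_erase _ _ hbF, Finset.inter_self, hB.1 b hb, ← hF] at h1
  have h3 := sum_card_inter_two F b (by
    intro d hd
    rw [hF, Finset.mem_erase] at hd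
    exact s22_inter hα B hB hb (mem_linesF.1 hd.2) hd.1)
  have h4 : (linesF B).filter (fun c => Disjoint c b) = F.filter (fun c => Disjoint c b) := by
    ext c
    rw [Finset.mem_filter, Finset.mem_filter, hF, Finset.mem_erase]
    constructor
    · rintro ⟨hc, hd⟩
      refine ⟨⟨?_, hc⟩, hd⟩
      rintro rfl
      have := (Finset.disjoint_self_iff_empty _).1 hd
      rw [this] at hb
      have := hB.1 _ hb
      simp at this
    · rintro ⟨⟨-, hc⟩, hd⟩
      exact ⟨hc, hd⟩
  rw [h4]
  omega

/-- through a point off a block there are exactly 6 blocks disjoint from it -/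
theorem s22_through_disjoint {b : Finset α} (hb : b ∈ B) {y : α} (hy : y ∉ b) :
    ((linesF B).filter (fun c => y ∈ c ∧ Disjoint c b)).card = 6 := by
  set F := (linesF B).filter (fun c => y ∈ c) with hF
  have hFc : F.card = 21 := s22_through_one hα B hB y
  have h1 := sum_card_inter_family F b
  have h2 : ∑ x ∈ b, (F.filter (fun d => x ∈ d)).card = 30 := by
    have : ∀ x ∈ b, (F.filter (fun d => x ∈ d)).card = 5 := by
      intro x hx
      have hxy : y ≠ x := fun e => hy (e ▸ hx)
      rw [hF, Finset.filter_filter]
      exact s22_through_two hα B hB hxy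
    rw [Finset.sum_congr rfl this, Finset.sum_const, hB.1 b hb]
    rfl
  have h3 := sum_card_inter_two F b (by
    intro d hd
    rw [hF, Finset.mem_filter] at hd
    exact s22_inter hα B hB hb (mem_linesF.1 hd.1) (fun e => hy (e ▸ hd.2)))
  have h4 : (linesF B).filter (fun c => y ∈ c ∧ Disjoint c b) =
      F.filter (fun c => Disjoint c b) := by
    rw [hF, Finset.filter_filter]
  rw [h4]
  omega

/-- there are no three pairwise disjoint blocks -/
theorem s22_no_triangle {b c d : Finset α} (hb : b ∈ B) (hc : c ∈ B) (hd : d ∈ B)
    (hcb : Disjoint c b) (hdb : Disjoint d b) (hdc : Disjoint d c) : False := by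
  set F := (linesF B).filter (fun c => Disjoint c b) with hF
  have hFc : F.card = 16 := s22_disjoint hα B hB hb
  have hcF : c ∈ F := Finset.mem_filter.2 ⟨mem_linesF.2 hc, hcb⟩
  set F' := F.erase c with hF'
  have hF'c : F'.card = 15 := by rw [hF', Finset.card_erase_of_mem hcF, hFc]
  have h1 := sum_card_inter_family F c
  have h2 : ∑ y ∈ c, (F.filter (fun d => y ∈ d)).card = 36 := by
    have : ∀ y ∈ c, (F.filter (fun d => y ∈ d)).card = 6 := by
      intro y hy
      have hyb : y ∉ b := fun h => (Finset.disjoint_left.1 hcb hy) h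
      rw [hF, Finset.filter_filter]
      have e : (linesF B).filter (fun a => Disjoint a b ∧ y ∈ a) =
          (linesF B).filter (fun c => y ∈ c ∧ Disjoint c b) := by
        apply Finset.filter_congr
        intro a _
        exact and_comm
      rw [e]
      exact s22_through_disjoint hα B hB hb hyb
    rw [Finset.sum_congr rfl this, Finset.sum_const, hB.1 c hc]
    rfl
  rw [h2, ← Finset.add_sum_erase _ _ hcF, Finset.inter_self, hB.1 c hc, ← hF'] at h1
  have h3 := sum_card_inter_two F' c (by
    intro e he
    rw [hF', Finset.mem_erase, hF, Finset.mem_filter] at he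
    exact s22_inter hα B hB hc (mem_linesF.1 he.2.1) he.1)
  have h4 : (F'.filter (fun e => Disjoint e c)).card = 0 := by omega
  have hdF' : d ∈ F'.filter (fun e => Disjoint e c) := by
    rw [Finset.mem_filter, hF', Finset.mem_erase, hF, Finset.mem_filter]
    refine ⟨⟨?_, mem_linesF.2 hd, hdb⟩, hdc⟩
    rintro rfl
    have := (Finset.disjoint_self_iff_empty _).1 hdc
    rw [this] at hd
    have := hB.1 _ hd
    simp at this
  rw [Finset.card_eq_zero] at h4
  rw [h4] at hdF'
  exact absurd hdF' (Finset.notMem_empty _)

/-- two blocks meeting in two points are both disjoint from exactly 4 blocks -/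
theorem s22_common_disjoint {b c : Finset α} (hb : b ∈ B) (hc : c ∈ B)
    (hbc : (c ∩ b).card = 2) :
    ((linesF B).filter (fun d => Disjoint d b ∧ Disjoint d c)).card = 4 := by
  set F := (linesF B).filter (fun c => Disjoint c b) with hF
  have hFc : F.card = 16 := s22_disjoint hα B hB hb
  have h1 := sum_card_inter_family F c
  have h2 : ∑ y ∈ c, (F.filter (fun d => y ∈ d)).card = 24 := by
    have e1 : ∀ y ∈ c \ b, (F.filter (fun d => y ∈ d)).card = 6 := by
      intro y hy
      rw [Finset.mem_sdiff] at hy
      rw [hF, Finset.filter_filter]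
      have e : (linesF B).filter (fun a => Disjoint a b ∧ y ∈ a) =
          (linesF B).filter (fun c => y ∈ c ∧ Disjoint c b) := by
        apply Finset.filter_congr
        intro a _
        exact and_comm
      rw [e]
      exact s22_through_disjoint hα B hB hb hy.2
    have e2 : ∀ y ∈ c ∩ b, (F.filter (fun d => y ∈ d)).card = 0 := by
      intro y hy
      rw [Finset.mem_inter] at hy
      rw [Finset.card_eq_zero, Finset.filter_eq_empty_iff]
      intro d hd hyd
      rw [hF, Finset.mem_filter] at hd
      exact (Finset.disjoint_left.1 hd.2 hyd) hy.2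
    have e3 : (c \ b).card = 4 := by
      have := Finset.card_sdiff_add_card_inter c b
      rw [hbc, hB.1 c hc] at this
      omega
    rw [← Finset.sum_sdiff (Finset.inter_subset_left : c ∩ b ⊆ c), Finset.sum_congr rfl e2,
      Finset.sum_const_zero, add_zero]
    have e4 : c \ (c ∩ b) = c \ b := by
      ext x
      simp only [Finset.mem_sdiff, Finset.mem_inter]
      tauto
    rw [e4, Finset.sum_congr rfl e1, Finset.sum_const, e3]
    rfl
  have h3 := sum_card_inter_two F c (by
    intro d hd
    rw [hF, Finset.mem_filter] at hd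
    refine s22_inter hα B hB hc (mem_linesF.1 hd.1) ?_
    rintro rfl
    have : d ∩ b = ∅ := Finset.disjoint_iff_inter_eq_empty.1 hd.2
    rw [this] at hbc
    simp at hbc)
  have h4 : (linesF B).filter (fun d => Disjoint d b ∧ Disjoint d c) =
      F.filter (fun d => Disjoint d c) := by
    rw [hF, Finset.filter_filter]
  rw [h4]
  omega

end S22

end Cfsg.Agent.Helper93
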