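import Mathlib
import Cfsg.Prelude.Def_Sporadic_a
import Cfsg.Agent.Helper93.Steiner22

/-!
Counting sets of blocks (as a subtype) through finsets of blocks.
-/

set_option autoImplicit false

namespace Cfsg.Agent.Helper93

open Cfsg

section BlockGraph

variable {α : Type*} [Fintype α] [DecidableEq α]

theorem card_set_blocks (B : Set (Finset α)) (S : Set ↥B) [Fintype ↥S]
    (P : Finset α → Prop) [DecidablePred P] (h : ∀ c : ↥B, c ∈ S ↔ P ↑c) :
    Fintype.card ↥S = ((linesF B).filter P).card := by
  rw [← Nat.card_eq_fintype_card, Nat.card_coe_set_eq,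
    ← Set.ncard_image_of_injective S Subtype.val_injective, ← Set.ncard_coe_finset]
  congr 1
  ext x
  simp only [Set.mem_image, Finset.coe_filter, Set.mem_ofPred_eq, mem_linesF]
  constructor
  · rintro ⟨c, hc, rfl⟩
    exact ⟨c.2, (h c).1 hc⟩
  · rintro ⟨hx, hP⟩
    exact ⟨⟨x, hx⟩, (h ⟨x, hx⟩).2 hP, rfl⟩

theorem card_blocks_type (B : Set (Finset α)) [Fintype ↥B] :
    Fintype.card ↥B = (linesF B).card := by
  rw [← Nat.card_eq_fintype_card, Nat.card_coe_set_eq, ← Set.ncard_coe_finset]
  congr 1
  ext x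
  simp [mem_linesF]

omit [Fintype α] [DecidableEq α] in
theorem blockGraph_adj_iff (B : Set (Finset α))
    (hB : IsSteinerSystem 3 6 B) (b c : ↥B) :
    (blockGraph B).Adj b c ↔ Disjoint (c : Finset α) (b : Finset α) := by
  unfold blockGraph
  rw [SimpleGraph.fromRel_adj]
  constructor
  · rintro ⟨-, h | h⟩
    · exact h.symm
    · exact h
  · intro h
    refine ⟨?_, Or.inr h⟩
    rintro rfl
    have h1 := (Finset.disjoint_self_iff_empty _).1 h
    have h2 := hB.1 _ b.2
    rw [h1] at h2
    simp at h2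

end BlockGraph

end Cfsg.Agent.Helper93
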