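import Mathlib
import Cfsg.Prelude.Def_Sporadic_a
import Cfsg.Agent.Helper93.BlockGraph

/-!
The point-block graph of a set system: adjacency and counting of sets of vertices.
-/

set_option autoImplicit false

namespace Cfsg.Agent.Helper93

open Cfsg

section PointBlock

variable {α : Type*} (B : Set (Finset α))

theorem pb_adj_none_none : ¬(pointBlockGraph B).Adj none none := by
  simp [pointBlockGraph]

theorem pb_adj_none_inl (a : α) : (pointBlockGraph B).Adj none (some (Sum.inl a)) := by
  simp [pointBlockGraph, pointBlockRel]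

theorem pb_adj_inl_none (a : α) : (pointBlockGraph B).Adj (some (Sum.inl a)) none :=
  (pb_adj_none_inl B a).symm

theorem pb_adj_none_inr (b : ↥B) : ¬(pointBlockGraph B).Adj none (some (Sum.inr b)) := by
  simp [pointBlockGraph, pointBlockRel]

theorem pb_adj_inr_none (b : ↥B) : ¬(pointBlockGraph B).Adj (some (Sum.inr b)) none :=
  fun h => pb_adj_none_inr B b h.symm

theorem pb_adj_inl_inl (a a' : α) :
    ¬(pointBlockGraph B).Adj (some (Sum.inl a)) (some (Sum.inl a')) := by
  simp [pointBlockGraph, pointBlockRel]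

theorem pb_adj_inl_inr (a : α) (b : ↥B) :
    (pointBlockGraph B).Adj (some (Sum.inl a)) (some (Sum.inr b)) ↔ a ∈ (b : Finset α) := by
  simp [pointBlockGraph, pointBlockRel]

theorem pb_adj_inr_inl (a : α) (b : ↥B) :
    (pointBlockGraph B).Adj (some (Sum.inr b)) (some (Sum.inl a)) ↔ a ∈ (b : Finset α) := by
  rw [SimpleGraph.adj_comm, pb_adj_inl_inr]

theorem pb_adj_inr_inr (b c : ↥B) :
    (pointBlockGraph B).Adj (some (Sum.inr b)) (some (Sum.inr c)) ↔
      b ≠ c ∧ Disjoint (c : Finset α) (b : Finset α) := by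
  simp only [pointBlockGraph, SimpleGraph.fromRel_adj, pointBlockRel, ne_eq, Option.some.injEq,
    Sum.inr.injEq]
  constructor
  · rintro ⟨h, h' | h'⟩
    · exact ⟨h, h'.symm⟩
    · exact ⟨h, h'⟩
  · rintro ⟨h, h'⟩
    exact ⟨h, Or.inr h'⟩

theorem pb_adj_inr_inr' (hB : IsSteinerSystem 3 6 B) (b c : ↥B) :
    (pointBlockGraph B).Adj (some (Sum.inr b)) (some (Sum.inr c)) ↔
      Disjoint (c : Finset α) (b : Finset α) := by
  rw [pb_adj_inr_inr]
  constructor
  · exact fun h => h.2
  · intro h
    refine ⟨?_, h⟩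
    rintro rfl
    have h1 := (Finset.disjoint_self_iff_empty _).1 h
    have h2 := hB.1 _ b.2
    rw [h1] at h2
    simp at h2

variable [Fintype α] [DecidableEq α]

/-- counting a set of vertices of the point-block graph -/
theorem card_set_pb (S : Set (Option (α ⊕ ↥B))) [Fintype ↥S] (p0 : Prop) [Decidable p0]
    (PA : α → Prop) [DecidablePred PA] (PB : Finset α → Prop) [DecidablePred PB]
    (h0 : none ∈ S ↔ p0) (hA : ∀ a, some (Sum.inl a) ∈ S ↔ PA a)
    (hBl : ∀ b : ↥B, some (Sum.inr b) ∈ S ↔ PB ↑b) :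
    Fintype.card ↥S = (if p0 then 1 else 0) + (Finset.univ.filter PA).card +
      ((linesF B).filter PB).card := by
  classical
  rw [← Nat.card_eq_fintype_card, Nat.card_coe_set_eq]
  set S0 : Set (Option (α ⊕ ↥B)) := {u | u = none ∧ p0} with hS0
  set S1 : Set (Option (α ⊕ ↥B)) := (fun a => some (Sum.inl a)) '' {a | PA a} with hS1
  set S2 : Set (Option (α ⊕ ↥B)) := (fun b => some (Sum.inr b)) '' {b : ↥B | PB ↑b} with hS2
  have hS : S = S0 ∪ S1 ∪ S2 := by
    ext u
    simp only [hS0, hS1, hS2, Set.mem_union, Set.mem_ofPred_eq, Set.mem_image]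
    rcases u with _ | (a | b)
    · rw [h0]
      simp
    · rw [hA]
      simp
    · rw [hBl]
      simp
  have hd01 : Disjoint S0 S1 := by
    rw [Set.disjoint_left]
    rintro u ⟨rfl, -⟩ ⟨a, -, ha⟩
    exact absurd ha (by simp)
  have hd2 : Disjoint (S0 ∪ S1) S2 := by
    rw [Set.disjoint_left]
    rintro u (⟨rfl, -⟩ | ⟨a, -, rfl⟩) ⟨b, -, hb⟩
    · exact absurd hb (by simp)
    · exact absurd hb (by simp)
  have c0 : S0.ncard = if p0 then 1 else 0 := by
    by_cases hp : p0
    · have : S0 = {none} := by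
        ext u; simp [hS0, hp]
      rw [this, Set.ncard_singleton, if_pos hp]
    · have : S0 = ∅ := by
        ext u; simp [hS0, hp]
      rw [this, Set.ncard_empty, if_neg hp]
  have c1 : S1.ncard = (Finset.univ.filter PA).card := by
    rw [hS1, Set.ncard_image_of_injective _ (fun a a' h => by simpa using h),
      ← Set.ncard_coe_finset]
    congr 1
    ext a
    simp
  have c2 : S2.ncard = ((linesF B).filter PB).card := by
    rw [hS2, Set.ncard_image_of_injective _ (fun a a' h => by simpa using h),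
      ← Set.ncard_image_of_injective _ Subtype.val_injective, ← Set.ncard_coe_finset]
    congr 1
    ext x
    simp only [Set.mem_image, Set.mem_ofPred_eq, Finset.coe_filter, mem_linesF]
    constructor
    · rintro ⟨c, hc, rfl⟩
      exact ⟨c.2, hc⟩
    · rintro ⟨hx, hP⟩
      exact ⟨⟨x, hx⟩, hP, rfl⟩
  rw [hS, Set.ncard_union_eq hd2 (Set.toFinite _) (Set.toFinite _),
    Set.ncard_union_eq hd01 (Set.toFinite _) (Set.toFinite _), c0, c1, c2]

end PointBlock

end Cfsg.Agent.Helper93
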