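import Mathlib
import Cfsg.Prelude.Def_Sporadic_a

/-!
The local structure of a strongly regular graph with parameters `(100, 22, 0, 6)` at a
vertex `v`: the non-neighbours of `v` cut out the blocks of a Steiner system `S(3,6,22)` on the
neighbours of `v`.
-/

set_option autoImplicit false

namespace Cfsg.Agent.Helper93

open Finset

section Srg

variable {V : Type*} [Fintype V] [DecidableEq V] (G : SimpleGraph V) [DecidableRel G.Adj]

/-- neighbours as a finset -/
def nbF (u : V) : Finset V := univ.filter (fun z => G.Adj u z)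

/-- common neighbours as a finset -/
def cnF (u w : V) : Finset V := univ.filter (fun z => G.Adj u z ∧ G.Adj w z)

omit [DecidableEq V] [DecidableRel G.Adj] in
theorem card_set_eq_filter (S : Set V) [Fintype ↥S] (P : V → Prop) [DecidablePred P]
    (h : ∀ z, z ∈ S ↔ P z) : Fintype.card ↥S = (univ.filter P).card := by
  rw [← Nat.card_eq_fintype_card, Nat.card_coe_set_eq, ← Set.ncard_coe_finset]
  congr 1
  ext z
  simp [h]

variable {G} {n k l m : ℕ}

theorem srg_card_nb (h : G.IsSRGWith n k l m) (u : V) : (nbF G u).card = k := by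
  rw [← h.regular u, ← SimpleGraph.card_neighborSet_eq_degree]
  exact (card_set_eq_filter _ _ (fun z => SimpleGraph.mem_neighborSet G u z)).symm

theorem srg_card_adj (h : G.IsSRGWith n k l m) {u w : V} (huw : G.Adj u w) :
    (cnF G u w).card = l := by
  rw [← h.of_adj u w huw]
  exact (card_set_eq_filter _ _ (fun z => SimpleGraph.mem_commonNeighbors G)).symm

theorem srg_card_nadj (h : G.IsSRGWith n k l m) {u w : V} (hne : u ≠ w) (huw : ¬G.Adj u w) :
    (cnF G u w).card = m := by
  rw [← h.of_not_adj hne huw]
  exact (card_set_eq_filter _ _ (fun z => SimpleGraph.mem_commonNeighbors G)).symm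

end Srg

section Local

variable {V : Type*} [Fintype V] [DecidableEq V] {G : SimpleGraph V} [DecidableRel G.Adj]
  (h : G.IsSRGWith 100 22 0 6) (v : V)

/-- the non-neighbours of `v` other than `v` -/
def nonF (G : SimpleGraph V) [DecidableRel G.Adj] (v : V) : Finset V :=
  univ.filter (fun w => w ≠ v ∧ ¬G.Adj v w)

include h

theorem srg100_no_tri {x y z : V} (hxy : G.Adj x y) (hxz : G.Adj x z) (hyz : G.Adj y z) :
    False := by
  have h0 := srg_card_adj h hxy
  rw [Finset.card_eq_zero] at h0
  have : z ∈ cnF G x y := by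
    rw [cnF, Finset.mem_filter]
    exact ⟨Finset.mem_univ _, hxz, hyz⟩
  rw [h0] at this
  exact absurd this (Finset.notMem_empty _)

theorem srg100_card_non : (nonF G v).card = 77 := by
  have h1 : nonF G v = (insert v (nbF G v))ᶜ := by
    ext w
    simp only [nonF, nbF, Finset.mem_filter, Finset.mem_univ, true_and, Finset.mem_compl,
      Finset.mem_insert, not_or]
  have h2 : v ∉ nbF G v := by
    simp [nbF]
  rw [h1, Finset.card_compl, Finset.card_insert_of_notMem h2, srg_card_nb h, h.card]

theorem srg100_deg_non {x : V} (hx : G.Adj v x) :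
    ((nonF G v).filter (fun w => G.Adj w x)).card = 21 := by
  have h1 : nbF G x = insert v ((nonF G v).filter (fun w => G.Adj w x)) := by
    ext z
    simp only [nbF, nonF, Finset.mem_filter, Finset.mem_univ, true_and, Finset.mem_insert]
    constructor
    · intro hxz
      by_cases hzv : z = v
      · exact Or.inl hzv
      · exact Or.inr ⟨⟨hzv, fun hvz => srg100_no_tri h hx hvz hxz⟩, hxz.symm⟩
    · rintro (rfl | ⟨-, hzx⟩)
      · exact hx.symm
      · exact hzx.symm
  have h2 : v ∉ (nonF G v).filter (fun w => G.Adj w x) := by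
    simp [nonF]
  have h3 := srg_card_nb h x
  rw [h1, Finset.card_insert_of_notMem h2] at h3
  omega

theorem srg100_pair_non {x y : V} (hx : G.Adj v x) (hy : G.Adj v y) (hxy : x ≠ y) :
    ((nonF G v).filter (fun w => G.Adj w x ∧ G.Adj w y)).card = 5 := by
  have hnxy : ¬G.Adj x y := fun hadj => srg100_no_tri h hadj hx.symm hy.symm
  have h1 : cnF G x y = insert v ((nonF G v).filter (fun w => G.Adj w x ∧ G.Adj w y)) := by
    ext z
    simp only [cnF, nonF, Finset.mem_filter, Finset.mem_univ, true_and, Finset.mem_insert]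
    constructor
    · rintro ⟨hxz, hyz⟩
      by_cases hzv : z = v
      · exact Or.inl hzv
      · exact Or.inr ⟨⟨hzv, fun hvz => srg100_no_tri h hx hvz hxz⟩, hxz.symm, hyz.symm⟩
    · rintro (rfl | ⟨-, hzx, hzy⟩)
      · exact ⟨hx.symm, hy.symm⟩
      · exact ⟨hzx.symm, hzy.symm⟩
  have h2 : v ∉ (nonF G v).filter (fun w => G.Adj w x ∧ G.Adj w y) := by
    simp [nonF]
  have h3 := srg_card_nadj h hxy hnxy
  rw [h1, Finset.card_insert_of_notMem h2] at h3
  omega

theorem srg100_card_block {w : V} (hw : w ∈ nonF G v) : (cnF G v w).card = 6 := by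
  rw [nonF, Finset.mem_filter] at hw
  exact srg_card_nadj h (fun e => hw.2.1 e.symm) hw.2.2

theorem srg100_nbr_non {w : V} (hw : w ∈ nonF G v) :
    ((nonF G v).filter (fun w' => G.Adj w w')).card = 16 := by
  have hw' := hw
  rw [nonF, Finset.mem_filter] at hw'
  have h1 : nbF G w = cnF G v w ∪ (nonF G v).filter (fun w' => G.Adj w w') := by
    ext z
    simp only [nbF, cnF, nonF, Finset.mem_filter, Finset.mem_univ, true_and, Finset.mem_union]
    constructor
    · intro hwz
      by_cases hvz : G.Adj v z
      · exact Or.inl ⟨hvz, hwz⟩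
      · refine Or.inr ⟨⟨?_, hvz⟩, hwz⟩
        rintro rfl
        exact hw'.2.2 hwz.symm
    · rintro (⟨-, hwz⟩ | ⟨-, hwz⟩)
      · exact hwz
      · exact hwz
  have h2 : Disjoint (cnF G v w) ((nonF G v).filter (fun w' => G.Adj w w')) := by
    rw [Finset.disjoint_left]
    intro z hz hz'
    simp only [cnF, nonF, Finset.mem_filter, Finset.mem_univ, true_and] at hz hz'
    exact hz'.1.2 hz.1
  have h3 := srg_card_nb h w
  rw [h1, Finset.card_union_of_disjoint h2, srg100_card_block h v hw] at h3
  omega

theorem srg100_adj_disjoint {w w' : V} (hww : G.Adj w w') :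
    cnF G v w ∩ cnF G v w' = ∅ := by
  rw [Finset.eq_empty_iff_forall_notMem]
  intro z hz
  simp only [cnF, Finset.mem_inter, Finset.mem_filter, Finset.mem_univ, true_and] at hz
  exact srg100_no_tri h hww hz.1.2 hz.2.2

theorem srg100_sum_one {w : V} (hw : w ∈ nonF G v) :
    ∑ w' ∈ nonF G v, (cnF G v w ∩ cnF G v w').card = 126 := by
  have h1 : ∀ w' ∈ nonF G v, (cnF G v w ∩ cnF G v w').card =
      ∑ x ∈ cnF G v w, if G.Adj w' x then 1 else 0 := by
    intro w' _
    rw [← Finset.card_filter]
    congr 1
    ext x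
    simp only [cnF, Finset.mem_inter, Finset.mem_filter, Finset.mem_univ, true_and]
    tauto
  rw [Finset.sum_congr rfl h1, Finset.sum_comm]
  have h2 : ∀ x ∈ cnF G v w, (∑ w' ∈ nonF G v, if G.Adj w' x then 1 else 0) = 21 := by
    intro x hx
    rw [← Finset.card_filter]
    simp only [cnF, Finset.mem_filter, Finset.mem_univ, true_and] at hx
    exact srg100_deg_non h v hx.1
  rw [Finset.sum_congr rfl h2, Finset.sum_const, srg100_card_block h v hw]
  rfl

theorem srg100_sum_two {w : V} (hw : w ∈ nonF G v) :
    ∑ w' ∈ nonF G v, ((cnF G v w ∩ cnF G v w').card).choose 2 = 75 := by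
  have h1 : ∀ w' ∈ nonF G v, ((cnF G v w ∩ cnF G v w').card).choose 2 =
      ∑ P ∈ (cnF G v w).powersetCard 2, if P ⊆ cnF G v w' then 1 else 0 := by
    intro w' _
    rw [← Finset.card_filter, ← Finset.card_powersetCard]
    congr 1
    ext P
    simp only [Finset.mem_powersetCard, Finset.mem_filter, Finset.subset_inter_iff]
    tauto
  rw [Finset.sum_congr rfl h1, Finset.sum_comm]
  have h2 : ∀ P ∈ (cnF G v w).powersetCard 2,
      (∑ w' ∈ nonF G v, if P ⊆ cnF G v w' then 1 else 0) = 5 := by
    intro P hP
    rw [Finset.mem_powersetCard] at hP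
    obtain ⟨x, y, hxy, rfl⟩ := Finset.card_eq_two.1 hP.2
    have hx : G.Adj v x := by
      have := hP.1 (Finset.mem_insert_self x {y})
      simp only [cnF, Finset.mem_filter, Finset.mem_univ, true_and] at this
      exact this.1
    have hy : G.Adj v y := by
      have := hP.1 (Finset.mem_insert_of_mem (Finset.mem_singleton_self y))
      simp only [cnF, Finset.mem_filter, Finset.mem_univ, true_and] at this
      exact this.1
    rw [← Finset.card_filter, ← srg100_pair_non h v hx hy hxy]
    congr 1
    apply Finset.filter_congr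
    intro w' _
    rw [Finset.insert_subset_iff, Finset.singleton_subset_iff]
    simp only [cnF, Finset.mem_filter, Finset.mem_univ, true_and]
    tauto
  rw [Finset.sum_congr rfl h2, Finset.sum_const, Finset.card_powersetCard,
    srg100_card_block h v hw]
  rfl

theorem srg100_nadj_two {w w' : V} (hw : w ∈ nonF G v) (hw' : w' ∈ nonF G v) (hne : w' ≠ w)
    (hnadj : ¬G.Adj w w') : (cnF G v w ∩ cnF G v w').card = 2 := by
  set f : V → ℕ := fun w' => (cnF G v w ∩ cnF G v w').card with hf
  have hle : ∀ u, f u ≤ 6 := by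
    intro u
    rw [← srg100_card_block h v hw]
    exact Finset.card_le_card Finset.inter_subset_left
  have hpoly : ∀ i : ℕ, i ≤ 6 → ((i : ℤ) - 2) ^ 2 = 2 * (i.choose 2 : ℤ) - 3 * (i : ℤ) + 4 := by
    intro i hi
    interval_cases i <;> simp [Nat.choose]
  have hsum : ∑ u ∈ nonF G v, ((f u : ℤ) - 2) ^ 2 = 80 := by
    rw [Finset.sum_congr rfl (fun u _ => hpoly (f u) (hle u))]
    simp only [Finset.sum_add_distrib, Finset.sum_sub_distrib, ← Finset.mul_sum, ← Nat.cast_sum]
    rw [srg100_sum_one h v hw, srg100_sum_two h v hw, Finset.sum_const, srg100_card_non h v]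
    norm_num
  set A := (nonF G v).filter (fun u => G.Adj w u) with hA
  have hwA : w ∉ A := by
    simp [hA]
  have hsub : insert w A ⊆ nonF G v := by
    intro u hu
    rw [Finset.mem_insert] at hu
    rcases hu with rfl | hu
    · exact hw
    · exact (Finset.mem_filter.1 hu).1
  have hsumA : ∑ u ∈ insert w A, ((f u : ℤ) - 2) ^ 2 = 80 := by
    rw [Finset.sum_insert hwA]
    have e1 : f w = 6 := by
      simp only [hf, Finset.inter_self]
      exact srg100_card_block h v hw
    have e2 : ∀ u ∈ A, ((f u : ℤ) - 2) ^ 2 = 4 := by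
      intro u hu
      rw [hA, Finset.mem_filter] at hu
      have : f u = 0 := by
        simp only [hf]
        rw [srg100_adj_disjoint h v hu.2, Finset.card_empty]
      rw [this]
      norm_num
    rw [e1, Finset.sum_congr rfl e2, Finset.sum_const, hA, srg100_nbr_non h v hw]
    norm_num
  have hrest : ∑ u ∈ nonF G v \ insert w A, ((f u : ℤ) - 2) ^ 2 = 0 := by
    have := Finset.sum_sdiff (f := fun u => ((f u : ℤ) - 2) ^ 2) hsub
    rw [hsum, hsumA] at this
    linarith
  have hz := (Finset.sum_eq_zero_iff_of_nonneg (fun u _ => sq_nonneg _)).1 hrest w' (by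
    rw [Finset.mem_sdiff, Finset.mem_insert, hA, Finset.mem_filter]
    exact ⟨hw', fun hc => hc.elim hne (fun hc => hnadj hc.2)⟩)
  have : (f w' : ℤ) = 2 := by
    have := pow_eq_zero_iff (two_ne_zero) |>.1 hz
    linarith
  exact_mod_cast this

theorem srg100_block_inj {w w' : V} (hw : w ∈ nonF G v) (hw' : w' ∈ nonF G v)
    (heq : cnF G v w = cnF G v w') : w = w' := by
  by_contra hne
  have h6 := srg100_card_block h v hw
  by_cases hadj : G.Adj w w'
  · have := srg100_adj_disjoint h v hadj
    rw [← heq, Finset.inter_self] at this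
    rw [this] at h6
    simp at h6
  · have := srg100_nadj_two h v hw hw' (fun e => hne e.symm) hadj
    rw [← heq, Finset.inter_self] at this
    omega

end Local

end Cfsg.Agent.Helper93
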