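import Mathlib
import Cfsg.Prelude.Def_Sporadic_a
import Cfsg.Agent.Helper93.Srg100
import Cfsg.Agent.Helper93.PointBlock

/-!
A strongly regular graph with parameters `(100, 22, 0, 6)` is the point-block graph of the
Steiner system `S(3,6,22)` cut out on the neighbours of a vertex by its non-neighbours.
-/

set_option autoImplicit false

namespace Cfsg.Agent.Helper93

open Finset Cfsg

section LocalDesign

variable {V : Type*} [Fintype V] [DecidableEq V]

/-- the neighbours of `v` as a type -/
abbrev NbT (G : SimpleGraph V) (v : V) := {x : V // G.Adj v x}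

/-- the block of a vertex `w`: the neighbours of `v` adjacent to `w` -/
def blkS (G : SimpleGraph V) [DecidableRel G.Adj] (v w : V) : Finset (NbT G v) :=
  univ.filter (fun x : NbT G v => G.Adj w x.1)

/-- the local set system at `v` -/
def locB (G : SimpleGraph V) [DecidableRel G.Adj] (v : V) : Set (Finset (NbT G v)) :=
  {b | ∃ w ∈ nonF G v, b = blkS G v w}

variable {G : SimpleGraph V} [DecidableRel G.Adj]

theorem mem_blkS {v w : V} {x : NbT G v} : x ∈ blkS G v w ↔ G.Adj w x.1 := by
  simp [blkS]

theorem blkS_map (v w : V) :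
    (blkS G v w).map (Function.Embedding.subtype _) = cnF G v w := by
  ext z
  simp only [Finset.mem_map, Function.Embedding.coe_subtype, mem_blkS, cnF, Finset.mem_filter,
    Finset.mem_univ, true_and]
  constructor
  · rintro ⟨x, hx, rfl⟩
    exact ⟨x.2, hx⟩
  · rintro ⟨h1, h2⟩
    exact ⟨⟨z, h1⟩, h2, rfl⟩

theorem blkS_inter_card (v w w' : V) :
    (blkS G v w ∩ blkS G v w').card = (cnF G v w ∩ cnF G v w').card := by
  rw [← blkS_map, ← blkS_map, ← Finset.map_inter, Finset.card_map]

theorem card_NbT {n k l m : ℕ} (h : G.IsSRGWith n k l m) (v : V) :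
    Fintype.card (NbT G v) = k := by
  rw [Fintype.card_subtype]
  exact srg_card_nb h v

variable (h : G.IsSRGWith 100 22 0 6) (v : V)

include h

theorem card_blkS {w : V} (hw : w ∈ nonF G v) : (blkS G v w).card = 6 := by
  rw [← srg100_card_block h v hw, ← blkS_map, Finset.card_map]

theorem blkS_inj {w w' : V} (hw : w ∈ nonF G v) (hw' : w' ∈ nonF G v)
    (heq : blkS G v w = blkS G v w') : w = w' := by
  apply srg100_block_inj h v hw hw'
  rw [← blkS_map, ← blkS_map, heq]

theorem blkS_inter_le {w w' : V} (hw : w ∈ nonF G v) (hw' : w' ∈ nonF G v) (hne : w ≠ w') :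
    (blkS G v w ∩ blkS G v w').card ≤ 2 := by
  rw [blkS_inter_card]
  by_cases hadj : G.Adj w w'
  · rw [srg100_adj_disjoint h v hadj, Finset.card_empty]
    exact Nat.zero_le _
  · rw [srg100_nadj_two h v hw hw' (fun e => hne e.symm) hadj]

theorem blkS_adj_iff {w w' : V} (hw : w ∈ nonF G v) (hw' : w' ∈ nonF G v) :
    G.Adj w w' ↔ blkS G v w ≠ blkS G v w' ∧ Disjoint (blkS G v w') (blkS G v w) := by
  constructor
  · intro hadj
    have hd : Disjoint (blkS G v w') (blkS G v w) := by
      rw [Finset.disjoint_iff_inter_eq_empty, ← Finset.card_eq_zero, Finset.inter_comm,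
        blkS_inter_card, srg100_adj_disjoint h v hadj, Finset.card_empty]
    refine ⟨?_, hd⟩
    intro heq
    have := blkS_inj h v hw hw' heq
    rw [this] at hadj
    exact G.loopless.irrefl _ hadj
  · rintro ⟨hne, hd⟩
    by_contra hadj
    have hne' : w' ≠ w := by
      rintro rfl
      exact hne rfl
    have h2 := srg100_nadj_two h v hw hw' hne' hadj
    rw [← blkS_inter_card, Finset.inter_comm, Finset.disjoint_iff_inter_eq_empty.1 hd,
      Finset.card_empty] at h2
    omega

theorem locB_steiner : IsSteinerSystem 3 6 (locB G v) := by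
  have huniq : ∀ w ∈ nonF G v, ∀ w' ∈ nonF G v, ∀ s : Finset (NbT G v), s.card = 3 →
      s ⊆ blkS G v w → s ⊆ blkS G v w' → w = w' := by
    intro w hw w' hw' s hs h1 h2
    by_contra hne
    have := blkS_inter_le h v hw hw' hne
    have h3 : s.card ≤ (blkS G v w ∩ blkS G v w').card :=
      Finset.card_le_card (Finset.subset_inter h1 h2)
    omega
  refine ⟨?_, ?_⟩
  · rintro b ⟨w, hw, rfl⟩
    exact card_blkS h v hw
  · intro s hs
    -- existence by counting
    have hdisj : ((nonF G v : Finset V) : Set V).PairwiseDisjoint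
        (fun w => (blkS G v w).powersetCard 3) := by
      intro w hw w' hw' hne
      rw [Function.onFun, Finset.disjoint_left]
      intro t ht ht'
      rw [Finset.mem_powersetCard] at ht ht'
      exact hne (huniq w hw w' hw' t ht.2 ht.1 ht'.1)
    have hcard : ((nonF G v).biUnion (fun w => (blkS G v w).powersetCard 3)).card = 1540 := by
      rw [Finset.card_biUnion hdisj]
      have : ∀ w ∈ nonF G v, ((blkS G v w).powersetCard 3).card = 20 := by
        intro w hw
        rw [Finset.card_powersetCard, card_blkS h v hw]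
        rfl
      rw [Finset.sum_congr rfl this, Finset.sum_const, srg100_card_non h v]
      rfl
    have hall : (nonF G v).biUnion (fun w => (blkS G v w).powersetCard 3) =
        (univ : Finset (NbT G v)).powersetCard 3 := by
      apply Finset.eq_of_subset_of_card_le
      · intro t ht
        rw [Finset.mem_biUnion] at ht
        obtain ⟨w, _, ht⟩ := ht
        rw [Finset.mem_powersetCard] at ht ⊢
        exact ⟨Finset.subset_univ _, ht.2⟩
      · rw [hcard, Finset.card_powersetCard, Finset.card_univ, card_NbT h v]
        decide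
    have hs' : s ∈ (nonF G v).biUnion (fun w => (blkS G v w).powersetCard 3) := by
      rw [hall, Finset.mem_powersetCard]
      exact ⟨Finset.subset_univ _, hs⟩
    rw [Finset.mem_biUnion] at hs'
    obtain ⟨w, hw, hsw⟩ := hs'
    rw [Finset.mem_powersetCard] at hsw
    refine ⟨blkS G v w, ⟨⟨w, hw, rfl⟩, hsw.1⟩, ?_⟩
    rintro b ⟨⟨w', hw', rfl⟩, hsb⟩
    rw [huniq w hw w' hw' s hs hsw.1 hsb]

/-- the vertex map to the point-block graph of the local system -/
noncomputable def locMap (G : SimpleGraph V) [DecidableRel G.Adj] (v : V) (u : V) :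
    Option (NbT G v ⊕ ↥(locB G v)) :=
  if u = v then none
  else if hu : G.Adj v u then some (Sum.inl ⟨u, hu⟩)
  else if hn : u ∈ nonF G v then some (Sum.inr ⟨blkS G v u, ⟨u, hn, rfl⟩⟩)
  else none

omit h in
theorem locMap_self : locMap G v v = none := by
  simp [locMap]

omit h in
theorem locMap_nb {u : V} (hu : G.Adj v u) : locMap G v u = some (Sum.inl ⟨u, hu⟩) := by
  have hne : u ≠ v := fun e => G.loopless.irrefl v (e ▸ hu)
  simp [locMap, hne, hu]

omit h in
theorem locMap_non {u : V} (hu : u ∈ nonF G v) :
    locMap G v u = some (Sum.inr ⟨blkS G v u, ⟨u, hu, rfl⟩⟩) := by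
  have hu' := hu
  rw [nonF, Finset.mem_filter] at hu'
  simp [locMap, hu'.2.1, hu'.2.2, hu]

omit h in
theorem locMap_cases (u : V) : u = v ∨ G.Adj v u ∨ u ∈ nonF G v := by
  by_cases h1 : u = v
  · exact Or.inl h1
  · by_cases h2 : G.Adj v u
    · exact Or.inr (Or.inl h2)
    · refine Or.inr (Or.inr ?_)
      rw [nonF, Finset.mem_filter]
      exact ⟨Finset.mem_univ _, h1, h2⟩

theorem locMap_injective : Function.Injective (locMap G v) := by
  intro a b hab
  rcases locMap_cases (G := G) v a with ha0 | ha | ha <;>
    rcases locMap_cases (G := G) v b with hb0 | hb | hb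
  · rw [ha0, hb0]
  · rw [ha0, locMap_self, locMap_nb v hb] at hab
    exact absurd hab (by simp)
  · rw [ha0, locMap_self, locMap_non v hb] at hab
    exact absurd hab (by simp)
  · rw [hb0, locMap_self, locMap_nb v ha] at hab
    exact absurd hab (by simp)
  · rw [locMap_nb v ha, locMap_nb v hb] at hab
    simpa using hab
  · rw [locMap_nb v ha, locMap_non v hb] at hab
    exact absurd hab (by simp)
  · rw [hb0, locMap_self, locMap_non v ha] at hab
    exact absurd hab (by simp)
  · rw [locMap_non v ha, locMap_nb v hb] at hab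
    exact absurd hab (by simp)
  · rw [locMap_non v ha, locMap_non v hb] at hab
    have : blkS G v a = blkS G v b := by
      have h1 := Option.some.inj hab
      have h2 := Sum.inr.inj h1
      exact congrArg Subtype.val h2
    exact blkS_inj h v ha hb this

omit h in
theorem locMap_surjective : Function.Surjective (locMap G v) := by
  rintro (_ | x | ⟨b, w, hw, rfl⟩)
  · exact ⟨v, locMap_self v⟩
  · exact ⟨x.1, locMap_nb v x.2⟩
  · exact ⟨w, locMap_non v hw⟩

theorem locMap_adj (a b : V) :
    (pointBlockGraph (locB G v)).Adj (locMap G v a) (locMap G v b) ↔ G.Adj a b := by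
  rcases locMap_cases (G := G) v a with ha0 | ha | ha <;>
    rcases locMap_cases (G := G) v b with hb0 | hb | hb
  · rw [ha0, hb0, locMap_self]
    exact iff_of_false (pb_adj_none_none _) (G.loopless.irrefl _)
  · rw [ha0, locMap_self, locMap_nb v hb]
    exact iff_of_true (pb_adj_none_inl _ _) hb
  · rw [ha0, locMap_self, locMap_non v hb]
    rw [nonF, Finset.mem_filter] at hb
    exact iff_of_false (pb_adj_none_inr _ _) hb.2.2
  · rw [hb0, locMap_self, locMap_nb v ha]
    exact iff_of_true (pb_adj_inl_none _ _) ha.symm
  · rw [locMap_nb v ha, locMap_nb v hb]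
    exact iff_of_false (pb_adj_inl_inl _ _ _) (fun hab => srg100_no_tri h ha hb hab)
  · rw [locMap_nb v ha, locMap_non v hb, pb_adj_inl_inr]
    show (⟨a, ha⟩ : NbT G v) ∈ blkS G v b ↔ _
    rw [mem_blkS, SimpleGraph.adj_comm]
  · rw [hb0, locMap_self, locMap_non v ha]
    rw [nonF, Finset.mem_filter] at ha
    exact iff_of_false (pb_adj_inr_none _ _) (fun hc => ha.2.2 hc.symm)
  · rw [locMap_non v ha, locMap_nb v hb, pb_adj_inr_inl]
    show (⟨b, hb⟩ : NbT G v) ∈ blkS G v a ↔ _
    rw [mem_blkS]
  · rw [locMap_non v ha, locMap_non v hb, pb_adj_inr_inr, blkS_adj_iff h v ha hb]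
    simp only [ne_eq, Subtype.ext_iff]

/-- a strongly regular graph with parameters `(100,22,0,6)` is the point-block graph of its
local system -/
noncomputable def locIso : G ≃g pointBlockGraph (locB G v) where
  toEquiv := Equiv.ofBijective (locMap G v) ⟨locMap_injective h v, locMap_surjective v⟩
  map_rel_iff' := by
    intro a b
    exact locMap_adj h v a b

theorem locIso_apply (u : V) : locIso h v u = locMap G v u := rfl

end LocalDesign

section PbIso

variable {α : Type*} {β : Type*} [DecidableEq β]

/-- the bijection of blocks induced by an isomorphism of set systems -/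
noncomputable def blockEquiv (e : α ≃ β) {B : Set (Finset α)} {B' : Set (Finset β)}
    (he : (fun b => b.image e) '' B = B') : ↥B ≃ ↥B' :=
  Equiv.ofBijective (fun b => ⟨b.1.image e, he ▸ Set.mem_image_of_mem _ b.2⟩) (by
    constructor
    · intro b c hbc
      have : b.1.image e = c.1.image e := congrArg Subtype.val hbc
      exact Subtype.ext (Finset.image_injective e.injective this)
    · rintro ⟨c, hc⟩
      rw [← he] at hc
      obtain ⟨b, hb, rfl⟩ := hc
      exact ⟨⟨b, hb⟩, rfl⟩)

theorem blockEquiv_coe (e : α ≃ β) {B : Set (Finset α)} {B' : Set (Finset β)}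
    (he : (fun b => b.image e) '' B = B') (b : ↥B) :
    ((blockEquiv e he b : ↥B') : Finset β) = (b : Finset α).image e := rfl

/-- an isomorphism of set systems induces an isomorphism of point-block graphs -/
noncomputable def pbIso (e : α ≃ β) {B : Set (Finset α)} {B' : Set (Finset β)}
    (he : (fun b => b.image e) '' B = B') : pointBlockGraph B ≃g pointBlockGraph B' where
  toEquiv := Equiv.optionCongr (Equiv.sumCongr e (blockEquiv e he))
  map_rel_iff' := by
    intro x y
    have hinl : ∀ a, (Equiv.optionCongr (Equiv.sumCongr e (blockEquiv e he)))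
        (some (Sum.inl a)) = some (Sum.inl (e a)) := fun a => rfl
    have hinr : ∀ b, (Equiv.optionCongr (Equiv.sumCongr e (blockEquiv e he)))
        (some (Sum.inr b)) = some (Sum.inr (blockEquiv e he b)) := fun b => rfl
    have hnone : (Equiv.optionCongr (Equiv.sumCongr e (blockEquiv e he))) none = none := rfl
    rcases x with _ | a | b <;> rcases y with _ | a' | b'
    · rw [hnone]
      exact iff_of_false (pb_adj_none_none _) (pb_adj_none_none _)
    · rw [hnone, hinl]
      exact iff_of_true (pb_adj_none_inl _ _) (pb_adj_none_inl _ _)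
    · rw [hnone, hinr]
      exact iff_of_false (pb_adj_none_inr _ _) (pb_adj_none_inr _ _)
    · rw [hnone, hinl]
      exact iff_of_true (pb_adj_inl_none _ _) (pb_adj_inl_none _ _)
    · rw [hinl, hinl]
      exact iff_of_false (pb_adj_inl_inl _ _ _) (pb_adj_inl_inl _ _ _)
    · rw [hinl, hinr, pb_adj_inl_inr, pb_adj_inl_inr, blockEquiv_coe]
      constructor
      · intro hx
        obtain ⟨z, hz, hze⟩ := Finset.mem_image.1 hx
        rw [← e.injective hze]
        exact hz
      · intro hx
        exact Finset.mem_image_of_mem _ hx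
    · rw [hnone, hinr]
      exact iff_of_false (pb_adj_inr_none _ _) (pb_adj_inr_none _ _)
    · rw [hinl, hinr, pb_adj_inr_inl, pb_adj_inr_inl, blockEquiv_coe]
      constructor
      · intro hx
        obtain ⟨z, hz, hze⟩ := Finset.mem_image.1 hx
        rw [← e.injective hze]
        exact hz
      · intro hx
        exact Finset.mem_image_of_mem _ hx
    · rw [hinr, hinr, pb_adj_inr_inr, pb_adj_inr_inr, blockEquiv_coe, blockEquiv_coe,
        Finset.disjoint_image e.injective]
      simp only [ne_eq, EmbeddingLike.apply_eq_iff_eq]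

theorem pbIso_none (e : α ≃ β) {B : Set (Finset α)} {B' : Set (Finset β)}
    (he : (fun b => b.image e) '' B = B') : pbIso e he none = none := rfl

theorem pbIso_inl (e : α ≃ β) {B : Set (Finset α)} {B' : Set (Finset β)}
    (he : (fun b => b.image e) '' B = B') (a : α) :
    pbIso e he (some (Sum.inl a)) = some (Sum.inl (e a)) := rfl

theorem pbIso_inr (e : α ≃ β) {B : Set (Finset α)} {B' : Set (Finset β)}
    (he : (fun b => b.image e) '' B = B') (b : ↥B) :
    pbIso e he (some (Sum.inr b)) = some (Sum.inr (blockEquiv e he b)) := rfl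

end PbIso

end Cfsg.Agent.Helper93
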