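import Mathlib
import Cfsg.Prelude.Def_Sporadic_a
import Cfsg.Agent.Helper26.GolayMore
import Cfsg.Agent.Helper91.M24Five
import Cfsg.Agent.Helper91.OctTrans

/-!
Concrete facts about the octads of the Golay code used for the uniqueness of the large
Steiner systems: a family of octads through the point `none` spanning the (self-dual) code,
and `3`-transitivity of `M24` on the base triple.
-/

set_option autoImplicit false

namespace Cfsg.Agent.Helper93

open Cfsg Cfsg.Agent.Helper26
open scoped Pointwise

/-- the base triple of points -/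
def TB3 : Finset GolayPt := {none, some 0, some 1}

theorem card_TB3 : TB3.card = 3 := by decide

theorem mem_TB3 {p : GolayPt} : p ∈ TB3 ↔ p = none ∨ p = some 0 ∨ p = some 1 := by
  simp [TB3]

/-! ### Parity of intersections -/

theorem even_inter_symmDiff {s a b : Finset GolayPt} (ha : Even (s ∩ a).card)
    (hb : Even (s ∩ b).card) : Even (s ∩ symmDiff a b).card := by
  have h1 : s ∩ symmDiff a b = symmDiff (s ∩ a) (s ∩ b) := by
    ext x
    simp only [Finset.mem_inter, Finset.mem_symmDiff]
    tauto
  have h2 := card_symmDiff_add (s ∩ a) (s ∩ b)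
  rw [h1]
  rw [Nat.even_iff] at *
  omega

theorem even_symmDiff_inter {s a b : Finset GolayPt} (ha : Even (s ∩ b).card)
    (hb : Even (a ∩ b).card) : Even (symmDiff s a ∩ b).card := by
  rw [Finset.inter_comm] at ha hb ⊢
  exact even_inter_symmDiff ha hb

theorem dec_xor (a b : ℕ) (ha : a < 2 ^ 24) (hb : b < 2 ^ 24) :
    dec (a ^^^ b) = symmDiff (dec a) (dec b) := by
  rw [← dec_enc (symmDiff (dec a) (dec b)), enc_symmDiff, enc_dec a ha, enc_dec b hb]

theorem dec_mem_octads (k : ℕ) (hk : k < 2 ^ 24) (hc : isCode k = true) (h8 : pc24 k = 8) :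
    dec k ∈ octads := by
  rw [mem_octads_iff, enc_dec k hk, card_eq_pc24, enc_dec k hk]
  exact ⟨hc, h8⟩

theorem dec_mem_supports (k : ℕ) (hk : k < 2 ^ 24) (hc : isCode k = true) :
    dec k ∈ supports (golayCode : Set (GolayPt → ZMod 2)) := by
  rw [mem_supports_iff, enc_dec k hk]
  exact hc

/-! ### The dual systematic basis -/

/-- the dual basis: `dualL[j - 12]` has high part `2 ^ j` -/
def dualL : List ℕ := [5279, 10558, 18147, 36294, 69395, 133817, 262637, 525274, 1050548,
  2101096, 4196943, 8391797]

/-- each dual basis vector as a sum of two good octads (or `0` and a good octad) -/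
def dualExpr : List (ℕ × ℕ) := [(8391797, 8394986), (8391797, 8398155), (8391797, 8407702),
  (8391797, 8421811), (8391797, 8455014), (8394986, 8524371), (8394986, 8657159),
  (8398155, 8922769), (8391797, 9440193), (8391797, 10486557), (8391797, 12584506)]

/-- a "good" octad: it contains `none` and one of `some 0`, `some 1` -/
def goodK (k : ℕ) : Bool :=
  decide (k < 2 ^ 24) && isCode k && Nat.beq (pc24 k) 8 && k.testBit 23 &&
    (k.testBit 0 || k.testBit 1)

theorem dualExpr_ok : ∀ e ∈ dualExpr, goodK e.1 = true ∧ goodK e.2 = true := by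
  decide +kernel

theorem dualExpr_xor : dualExpr.map (fun e => e.1 ^^^ e.2) = dualL.take 11 := by
  decide +kernel

theorem goodK_last : goodK 8391797 = true := by decide +kernel

theorem dualL_code : ∀ d ∈ dualL, d < 2 ^ 24 ∧ isCode d = true := by decide +kernel

theorem dualL_high : ∀ j : Fin 12, ∀ i : Fin 12,
    (dualL.getD j.val 0).testBit (i.val + 12) = true → i = j := by decide +kernel

theorem dualL_diag : ∀ j : Fin 12, (dualL.getD j.val 0).testBit (j.val + 12) = true := by
  decide +kernel

theorem even_goodK {s : Finset GolayPt}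
    (h : ∀ K ∈ octads, (none : GolayPt) ∈ K → ((some 0 : GolayPt) ∈ K ∨ (some 1 : GolayPt) ∈ K) →
      Even (s ∩ K).card) {k : ℕ} (hk : goodK k = true) : Even (s ∩ dec k).card := by
  simp only [goodK, Bool.and_eq_true, Bool.or_eq_true, decide_eq_true_eq, Nat.beq_eq] at hk
  obtain ⟨⟨⟨⟨h1, h2⟩, h3⟩, h4⟩, h5⟩ := hk
  apply h _ (dec_mem_octads k h1 h2 h3)
  · rw [mem_dec]; exact h4
  · rcases h5 with h5 | h5
    · left; rw [mem_dec]; exact h5
    · right; rw [mem_dec]; exact h5

theorem goodK_lt {k : ℕ} (hk : goodK k = true) : k < 2 ^ 24 := by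
  simp only [goodK, Bool.and_eq_true, decide_eq_true_eq] at hk
  exact hk.1.1.1.1

theorem even_dual {s : Finset GolayPt}
    (h : ∀ K ∈ octads, (none : GolayPt) ∈ K → ((some 0 : GolayPt) ∈ K ∨ (some 1 : GolayPt) ∈ K) →
      Even (s ∩ K).card) : ∀ d ∈ dualL, Even (s ∩ dec d).card := by
  intro d hd
  have hsplit : dualL = dualL.take 11 ++ [8391797] := by decide
  rw [hsplit, List.mem_append, ← dualExpr_xor, List.mem_map] at hd
  rcases hd with ⟨e, he, rfl⟩ | hd
  · obtain ⟨h1, h2⟩ := dualExpr_ok e he
    rw [dec_xor _ _ (goodK_lt h1) (goodK_lt h2)]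
    exact even_inter_symmDiff (even_goodK h h1) (even_goodK h h2)
  · rw [List.mem_singleton] at hd
    subst hd
    exact even_goodK h goodK_last

/-- **Self-duality via good octads**: a set meeting every octad through `none` and one of
`some 0`, `some 1` evenly is the support of a code word. -/
theorem supports_of_even (s : Finset GolayPt)
    (h : ∀ K ∈ octads, (none : GolayPt) ∈ K → ((some 0 : GolayPt) ∈ K ∨ (some 1 : GolayPt) ∈ K) →
      Even (s ∩ K).card) : s ∈ supports (golayCode : Set (GolayPt → ZMod 2)) := by
  set c := dec (codeOf (enc s % 4096)) with hc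
  have hcs : c ∈ supports (golayCode : Set (GolayPt → ZMod 2)) :=
    dec_mem_supports _ (codeOf_lt _) (isCode_codeOf _)
  have henc : enc c = codeOf (enc s % 4096) := enc_dec _ (codeOf_lt _)
  set e := symmDiff s c with he
  have hev : ∀ d ∈ dualL, Even (e ∩ dec d).card := by
    intro d hd
    have h1 := even_dual h d hd
    obtain ⟨hd1, hd2⟩ := dualL_code d hd
    have h2 : Even (c ∩ dec d).card :=
      even_iff_two_dvd.2 (even_card_inter hcs (dec_mem_supports d hd1 hd2))
    exact even_symmDiff_inter h1 h2
  have hmod : enc e % 4096 = 0 := by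
    rw [he, enc_symmDiff, henc]
    have h1 : (enc s ^^^ codeOf (enc s % 4096)) % 2 ^ 12 =
        enc s % 2 ^ 12 ^^^ codeOf (enc s % 4096) % 2 ^ 12 := Nat.xor_mod_two_pow
    have h2 : codeOf (enc s % 4096) % 4096 = enc s % 4096 :=
      codeOf_mod_self _ (Nat.mod_lt _ (by norm_num))
    norm_num at h1
    rw [h1, h2, Nat.xor_self]
  have hhigh : ∀ p ∈ e, 12 ≤ idx p := by
    intro p hp
    by_contra hlt
    push Not at hlt
    have h1 := (testBit_enc_idx e p)
    have h2 := Nat.testBit_mod_two_pow (enc e) 12 (idx p)
    norm_num at h2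
    rw [hmod] at h2
    simp only [Nat.zero_testBit] at h2
    have h3 : (enc e).testBit (idx p) = true := by rw [h1]; simpa using hp
    rw [h3] at h2
    simp [hlt] at h2
  have hempty : e = ∅ := by
    rw [Finset.eq_empty_iff_forall_notMem]
    intro p hp
    have h12 := hhigh p hp
    have h24 := idx_lt p
    set j : Fin 12 := ⟨idx p - 12, by omega⟩ with hj
    have hd : dualL.getD j.val 0 ∈ dualL := by
      rw [List.getD_eq_getElem _ _ (by simp [dualL])]
      exact List.getElem_mem _
    have hone : e ∩ dec (dualL.getD j.val 0) = {p} := by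
      ext q
      rw [Finset.mem_inter, mem_dec, Finset.mem_singleton]
      constructor
      · rintro ⟨hq, hqb⟩
        have hq12 := hhigh q hq
        have hq24 := idx_lt q
        have := dualL_high j ⟨idx q - 12, by omega⟩ (by
          show (dualL.getD j.val 0).testBit (idx q - 12 + 12) = true
          rw [Nat.sub_add_cancel hq12]; exact hqb)
        apply idx_injective
        have h' := congrArg Fin.val this
        simp only [hj] at h'
        omega
      · rintro rfl
        refine ⟨hp, ?_⟩
        have := dualL_diag j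
        simp only [hj] at this
        rw [Nat.sub_add_cancel h12] at this
        exact this
    have := hev _ hd
    rw [hone, Finset.card_singleton] at this
    exact absurd this (by decide)
  have hsc : s = c := by
    have : symmDiff s c = ⊥ := hempty
    exact symmDiff_eq_bot.1 this
  rw [hsc]
  exact hcs

/-! ### Transitivity on the base triple and sample octads -/

theorem m24_three (x y z : GolayPt) (hx : x ∈ TB3) (hy : y ∈ TB3) (hz : z ∈ TB3) (hxy : x ≠ y)
    (hxz : x ≠ z) (hyz : y ≠ z) :
    ∃ u ∈ M24, u none = x ∧ u (some 0) = y ∧ u (some 1) = z := by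
  have hnd : [x, y, z, Helper91.pt 2, Helper91.pt 3].Nodup := by
    rw [mem_TB3] at hx hy hz
    rcases hx with rfl | rfl | rfl <;> rcases hy with rfl | rfl | rfl <;>
      rcases hz with rfl | rfl | rfl <;>
      first
        | exact absurd rfl hxy
        | exact absurd rfl hxz
        | exact absurd rfl hyz
        | decide
  obtain ⟨u, hu, e⟩ := Helper91.m24_five_trans [x, y, z, Helper91.pt 2, Helper91.pt 3] rfl hnd
  simp only [List.cons.injEq, and_true] at e
  obtain ⟨e1, e2, e3, -, -⟩ := e
  exact ⟨u, hu, e1.symm, e2.symm, e3.symm⟩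

theorem idx_some_one : idx (some 1 : GolayPt) = 1 := rfl

/-- for each base point there is an octad meeting the base triple in the other two points -/
theorem exists_octad_type (t : GolayPt) (ht : t ∈ TB3) : ∃ O ∈ octads, O ∩ TB3 = TB3.erase t := by
  have key : ∀ k : ℕ, k < 2 ^ 24 → isCode k = true → pc24 k = 8 →
      (k.testBit 23 = !decide (t = none)) → (k.testBit 0 = !decide (t = some 0)) →
      (k.testBit 1 = !decide (t = some 1)) → ∃ O ∈ octads, O ∩ TB3 = TB3.erase t := by
    intro k h1 h2 h3 h4 h5 h6
    refine ⟨dec k, dec_mem_octads k h1 h2 h3, ?_⟩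
    ext p
    rw [Finset.mem_inter, Finset.mem_erase, mem_TB3, mem_dec]
    constructor
    · rintro ⟨hp, rfl | rfl | rfl⟩
      · exact ⟨fun h => by rw [← h] at h4; simp at h4; exact absurd hp (by simpa [idx] using h4),
          Or.inl rfl⟩
      · exact ⟨fun h => by rw [← h] at h5; simp at h5; exact absurd hp (by simpa [idx] using h5),
          Or.inr (Or.inl rfl)⟩
      · exact ⟨fun h => by
            rw [← h] at h6; simp at h6; rw [idx_some_one] at hp; exact absurd hp (by simpa using h6),
          Or.inr (Or.inr rfl)⟩
    · rintro ⟨hne, rfl | rfl | rfl⟩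
      · refine ⟨?_, Or.inl rfl⟩
        have : decide (t = (none : GolayPt)) = false := by simpa using hne.symm
        rw [this] at h4; simpa [idx] using h4
      · refine ⟨?_, Or.inr (Or.inl rfl)⟩
        have : decide (t = (some 0 : GolayPt)) = false := by simpa using hne.symm
        rw [this] at h5; simpa [idx] using h5
      · refine ⟨?_, Or.inr (Or.inr rfl)⟩
        have : decide (t = (some 1 : GolayPt)) = false := by simpa using hne.symm
        rw [this] at h6; rw [idx_some_one]; simpa using h6
  rw [mem_TB3] at ht
  rcases ht with rfl | rfl | rfl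
  · exact key 5279 (by norm_num) (by decide +kernel) (by decide +kernel) (by decide +kernel)
      (by decide +kernel) (by decide +kernel)
  · exact key 8394986 (by norm_num) (by decide +kernel) (by decide +kernel) (by decide +kernel)
      (by decide +kernel) (by decide +kernel)
  · exact key 8391797 (by norm_num) (by decide +kernel) (by decide +kernel) (by decide +kernel)
      (by decide +kernel) (by decide +kernel)

end Cfsg.Agent.Helper93
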