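import Mathlib
import Cfsg.Prelude.Def_Sporadic_a
import Cfsg.Agent.Helper93.Plane4

/-!
Hyperovals in the projective plane of order 4 and the extension of bijections between
hyperovals to isomorphisms of planes.
-/

set_option autoImplicit false

namespace Cfsg.Agent.Helper93

open Finset

/-- a plane of order 4 together with a hyperoval -/
structure HO {α : Type*} [Fintype α] [DecidableEq α] (L : Set (Finset α)) (H : Finset α) :
    Prop where
  card : Fintype.card α = 21
  st : Cfsg.IsSteinerSystem 2 5 L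
  arc : IsArc L H
  six : H.card = 6

/-- `x` lies on the secant through the points `a ≠ b` of `H` -/
def OnSec {α : Type*} (L : Set (Finset α)) (H : Finset α) (x a b : α) : Prop :=
  a ∈ H ∧ b ∈ H ∧ a ≠ b ∧ ∃ l ∈ L, a ∈ l ∧ b ∈ l ∧ x ∈ l

theorem OnSec.symm {α : Type*} {L : Set (Finset α)} {H : Finset α} {x a b : α}
    (hs : OnSec L H x a b) : OnSec L H x b a := by
  obtain ⟨ha, hb, hab, l, hl, hal, hbl, hxl⟩ := hs
  exact ⟨hb, ha, hab.symm, l, hl, hbl, hal, hxl⟩

theorem IsArc.not_three {α : Type*} [DecidableEq α] {L : Set (Finset α)} {H : Finset α}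
    (hH : IsArc L H) {l : Finset α} (hl : l ∈ L) {a b c : α} (ha : a ∈ l) (hb : b ∈ l)
    (hc : c ∈ l) (haH : a ∈ H) (hbH : b ∈ H) (hcH : c ∈ H) (hab : a ≠ b) (hac : a ≠ c)
    (hbc : b ≠ c) : False := by
  have hsub : ({a, b, c} : Finset α) ⊆ l ∩ H := by
    intro z hz
    simp only [mem_insert, mem_singleton] at hz
    rcases hz with rfl | rfl | rfl <;> simp [*]
  have hc3 : ({a, b, c} : Finset α).card = 3 := by
    rw [card_insert_of_notMem (by simp [hab, hac]), card_pair hbc]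
  have h1 := Finset.card_le_card hsub
  have h2 := hH l hl
  omega

namespace HO

variable {α : Type*} [Fintype α] [DecidableEq α] {L : Set (Finset α)} {H : Finset α}

theorem secant_of_mem (h : HO L H) {l : Finset α} (hl : l ∈ L) {a : α} (ha : a ∈ H)
    (hal : a ∈ l) : (l ∩ H).card = 2 := by
  have h1 := secNum_of_mem L h.st h.arc ha
  rw [h.six] at h1
  have h2 := card_lines_through h.card L h.st a
  have hsub : (secants L H).filter (fun l => a ∈ l) ⊆ (linesF L).filter (fun l => a ∈ l) := by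
    intro m hm
    rw [mem_filter] at hm ⊢
    exact ⟨mem_linesF.mpr ((mem_secants L).mp hm.1).1, hm.2⟩
  have heq := Finset.eq_of_subset_of_card_le hsub (by rw [h2]; exact le_of_eq h1.symm)
  have hm : l ∈ (linesF L).filter (fun l => a ∈ l) := mem_filter.mpr ⟨mem_linesF.mpr hl, hal⟩
  rw [← heq, mem_filter, mem_secants] at hm
  exact hm.1.2

theorem secant_or_external (h : HO L H) {l : Finset α} (hl : l ∈ L) :
    (l ∩ H).card = 2 ∨ l ∩ H = ∅ := by
  by_cases hne : (l ∩ H).Nonempty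
  · obtain ⟨a, ha⟩ := hne
    rw [mem_inter] at ha
    exact Or.inl (h.secant_of_mem hl ha.2 ha.1)
  · exact Or.inr (Finset.not_nonempty_iff_eq_empty.mp hne)

theorem exists_partner (h : HO L H) {x a : α} (hx : x ∉ H) (ha : a ∈ H) :
    ∃ b, OnSec L H x a b := by
  have hxa : x ≠ a := fun e => hx (e ▸ ha)
  obtain ⟨l, hl, hxl, hal⟩ := exists_line L h.st hxa
  have h2 := h.secant_of_mem hl ha hal
  obtain ⟨p, q, hpq, hlH⟩ := Finset.card_eq_two.mp h2
  have haI : a ∈ l ∩ H := mem_inter.mpr ⟨hal, ha⟩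
  have hp : p ∈ l ∩ H := by rw [hlH]; simp
  have hq : q ∈ l ∩ H := by rw [hlH]; simp
  rw [mem_inter] at hp hq
  rw [hlH, mem_insert, mem_singleton] at haI
  rcases haI with rfl | rfl
  · exact ⟨q, ha, hq.2, hpq, l, hl, hal, hq.1, hxl⟩
  · exact ⟨p, ha, hp.2, hpq.symm, l, hl, hal, hp.1, hxl⟩

theorem partner_unique (h : HO L H) {x a b b' : α} (hx : x ∉ H) (hs : OnSec L H x a b)
    (hs' : OnSec L H x a b') : b = b' := by
  obtain ⟨ha, hb, hab, l, hl, hal, hbl, hxl⟩ := hs
  obtain ⟨_, hb', hab', l', hl', hal', hbl', hxl'⟩ := hs'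
  have hxa : x ≠ a := fun e => hx (e ▸ ha)
  have hll : l = l' := line_unique L h.st hl hl' hxa hxl hal hxl' hal'
  subst hll
  by_contra hne
  exact h.arc.not_three hl hal hbl hbl' ha hb hb' hab hab' hne

theorem exists_third (h : HO L H) (a1 b1 : α) : ∃ a2 ∈ H, a2 ≠ a1 ∧ a2 ≠ b1 := by
  by_contra hcon
  have hsub : H ⊆ {a1, b1} := by
    intro z hz
    by_cases hz1 : z = a1
    · simp [hz1]
    · by_cases hz2 : z = b1
      · simp [hz2]
      · exact absurd ⟨z, hz, hz1, hz2⟩ hcon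
  have h1 := Finset.card_le_card hsub
  have h2 := Finset.card_le_two (a := a1) (b := b1)
  have h3 := h.six
  omega

theorem onSec_inj (h : HO L H) {x y : α} (hx : x ∉ H)
    (hxy : ∀ a b, OnSec L H x a b → OnSec L H y a b) : x = y := by
  have hne : H.Nonempty := by
    rw [← Finset.card_pos, h.six]; norm_num
  obtain ⟨a1, ha1⟩ := hne
  obtain ⟨b1, hs1⟩ := h.exists_partner hx ha1
  obtain ⟨a2, ha2, ha21, ha2b1⟩ := h.exists_third a1 b1
  obtain ⟨b2, hs2⟩ := h.exists_partner hx ha2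
  have hy1 := hxy _ _ hs1
  have hy2 := hxy _ _ hs2
  obtain ⟨_, hb1, hab1, l1, hl1, ha1l1, hb1l1, hxl1⟩ := hs1
  obtain ⟨_, _, _, l1', hl1', ha1l1', hb1l1', hyl1'⟩ := hy1
  obtain ⟨_, hb2, hab2, l2, hl2, ha2l2, hb2l2, hxl2⟩ := hs2
  obtain ⟨_, _, _, l2', hl2', ha2l2', hb2l2', hyl2'⟩ := hy2
  have e1 : l1' = l1 := line_unique L h.st hl1' hl1 hab1 ha1l1' hb1l1' ha1l1 hb1l1
  have e2 : l2' = l2 := line_unique L h.st hl2' hl2 hab2 ha2l2' hb2l2' ha2l2 hb2l2
  subst e1 e2
  by_contra hne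
  have hl12 : l1' = l2' := line_unique L h.st hl1 hl2 hne hxl1 hyl1' hxl2 hyl2'
  subst hl12
  exact h.arc.not_three hl1 ha1l1 hb1l1 ha2l2 ha1 hb1 ha2 hab1 (Ne.symm ha21) (Ne.symm ha2b1)

theorem exists_onSec_two (h : HO L H) {a1 b1 a2 b2 : α} (ha1 : a1 ∈ H) (hb1 : b1 ∈ H)
    (ha2 : a2 ∈ H) (hb2 : b2 ∈ H) (h11 : a1 ≠ b1) (h22 : a2 ≠ b2) (h12 : a1 ≠ a2)
    (h12' : a1 ≠ b2) (h21 : b1 ≠ a2) (h21' : b1 ≠ b2) :
    ∃ x, x ∉ H ∧ OnSec L H x a1 b1 ∧ OnSec L H x a2 b2 := by
  obtain ⟨l1, hl1, ha1l1, hb1l1⟩ := exists_line L h.st h11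
  obtain ⟨l2, hl2, ha2l2, hb2l2⟩ := exists_line L h.st h22
  have hne : l1 ≠ l2 := by
    rintro rfl
    exact h.arc.not_three hl1 ha1l1 hb1l1 ha2l2 ha1 hb1 ha2 h11 h12 h21
  have hc := inter_card_eq_one h.card L h.st hl1 hl2 hne
  obtain ⟨x, hx⟩ := Finset.card_eq_one.mp hc
  have hx' : x ∈ l1 ∩ l2 := by rw [hx]; simp
  rw [mem_inter] at hx'
  refine ⟨x, ?_, ⟨ha1, hb1, h11, l1, hl1, ha1l1, hb1l1, hx'.1⟩,
    ⟨ha2, hb2, h22, l2, hl2, ha2l2, hb2l2, hx'.2⟩⟩
  intro hxH
  have hx1 : x = a1 ∨ x = b1 := by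
    by_contra hcon
    rw [not_or] at hcon
    exact h.arc.not_three hl1 ha1l1 hb1l1 hx'.1 ha1 hb1 hxH h11 (Ne.symm hcon.1)
      (Ne.symm hcon.2)
  have hx2 : x = a2 ∨ x = b2 := by
    by_contra hcon
    rw [not_or] at hcon
    exact h.arc.not_three hl2 ha2l2 hb2l2 hx'.2 ha2 hb2 hxH h22 (Ne.symm hcon.1)
      (Ne.symm hcon.2)
  rcases hx1 with e1 | e1 <;> rcases hx2 with e2 | e2
  · exact h12 (e1.symm.trans e2)
  · exact h12' (e1.symm.trans e2)
  · exact h21 (e1.symm.trans e2)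
  · exact h21' (e1.symm.trans e2)

theorem card_external_through (h : HO L H) {x : α} (hx : x ∉ H) :
    ((linesF L).filter (fun l => x ∈ l ∧ l ∩ H = ∅)).card = 2 := by
  have h5 := card_lines_through h.card L h.st x
  have h3 := secNum_hyperoval h.card L h.st h.arc h.six hx
  have hsplit := Finset.card_filter_add_card_filter_not (s := (linesF L).filter (fun l => x ∈ l))
    (fun l => (l ∩ H).card = 2)
  have e1 : ((linesF L).filter (fun l => x ∈ l)).filter (fun l => (l ∩ H).card = 2) =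
      (secants L H).filter (fun l => x ∈ l) := by
    ext l
    simp only [mem_filter, secants]
    tauto
  have e2 : ((linesF L).filter (fun l => x ∈ l)).filter (fun l => ¬ (l ∩ H).card = 2) =
      (linesF L).filter (fun l => x ∈ l ∧ l ∩ H = ∅) := by
    ext l
    simp only [mem_filter]
    constructor
    · rintro ⟨⟨hl, hxl⟩, hn⟩
      rcases h.secant_or_external (mem_linesF.mp hl) with h2 | h0
      · exact absurd h2 hn
      · exact ⟨hl, hxl, h0⟩
    · rintro ⟨hl, hxl, h0⟩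
      refine ⟨⟨hl, hxl⟩, ?_⟩
      rw [h0]; simp
  rw [e1, e2] at hsplit
  unfold secNum at h3
  omega

theorem external_cases (h : HO L H) {x : α} (hx : x ∉ H) {l m n : Finset α} (hl : l ∈ L)
    (hm : m ∈ L) (hn : n ∈ L) (hxl : x ∈ l) (hxm : x ∈ m) (hxn : x ∈ n) (hl0 : l ∩ H = ∅)
    (hm0 : m ∩ H = ∅) (hn0 : n ∩ H = ∅) (hlm : l ≠ m) : n = l ∨ n = m := by
  have h2 := h.card_external_through hx
  have hsub : ({l, m} : Finset (Finset α)) ⊆
      (linesF L).filter (fun l => x ∈ l ∧ l ∩ H = ∅) := by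
    intro z hz
    simp only [mem_insert, mem_singleton] at hz
    rcases hz with rfl | rfl
    · exact mem_filter.mpr ⟨mem_linesF.mpr hl, hxl, hl0⟩
    · exact mem_filter.mpr ⟨mem_linesF.mpr hm, hxm, hm0⟩
  have heq := Finset.eq_of_subset_of_card_le hsub (by rw [h2, card_pair hlm])
  have hnmem : n ∈ (linesF L).filter (fun l => x ∈ l ∧ l ∩ H = ∅) :=
    mem_filter.mpr ⟨mem_linesF.mpr hn, hxn, hn0⟩
  rw [← heq] at hnmem
  simpa using hnmem

/-- four or more points off the hyperoval, pairwise joined by external lines, are collinear -/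
theorem clique (h : HO L H) {X : Finset α} (hX : 4 ≤ X.card) (hoff : ∀ x ∈ X, x ∉ H)
    (hpair : ∀ x ∈ X, ∀ y ∈ X, x ≠ y → ∀ m ∈ L, x ∈ m → y ∈ m → m ∩ H = ∅) :
    ∃ l ∈ L, X ⊆ l := by
  obtain ⟨x1, hx1, x2, hx2, h12⟩ := Finset.one_lt_card.mp (by omega : 1 < X.card)
  obtain ⟨l, hl, hx1l, hx2l⟩ := exists_line L h.st h12
  have hl0 := hpair x1 hx1 x2 hx2 h12 l hl hx1l hx2l
  refine ⟨l, hl, ?_⟩
  intro x3 hx3
  by_contra hx3l
  have h13 : x1 ≠ x3 := fun e => hx3l (e ▸ hx1l)
  have h23 : x2 ≠ x3 := fun e => hx3l (e ▸ hx2l)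
  obtain ⟨m1, hm1, hx1m1, hx3m1⟩ := exists_line L h.st h13
  obtain ⟨m2, hm2, hx2m2, hx3m2⟩ := exists_line L h.st h23
  have hm10 := hpair x1 hx1 x3 hx3 h13 m1 hm1 hx1m1 hx3m1
  have hm20 := hpair x2 hx2 x3 hx3 h23 m2 hm2 hx2m2 hx3m2
  have hlm1 : l ≠ m1 := fun e => hx3l (e ▸ hx3m1)
  have hlm2 : l ≠ m2 := fun e => hx3l (e ▸ hx3m2)
  have hm12 : m1 ≠ m2 := by
    intro e
    have : m1 = l := line_unique L h.st hm1 hl h12 hx1m1 (e ▸ hx2m2) hx1l hx2l
    exact hlm1 this.symm
  -- a fourth point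
  have hex : ∃ x4 ∈ X, x4 ≠ x1 ∧ x4 ≠ x2 ∧ x4 ≠ x3 := by
    by_contra hcon
    have hsub : X ⊆ {x1, x2, x3} := by
      intro z hz
      by_cases hz1 : z = x1
      · simp [hz1]
      · by_cases hz2 : z = x2
        · simp [hz2]
        · by_cases hz3 : z = x3
          · simp [hz3]
          · exact absurd ⟨z, hz, hz1, hz2, hz3⟩ hcon
    have h1 := Finset.card_le_card hsub
    have h2 := Finset.card_le_three (a := x1) (b := x2) (c := x3)
    omega
  obtain ⟨x4, hx4, h41, h42, h43⟩ := hex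
  obtain ⟨n1, hn1, hx4n1, hx1n1⟩ := exists_line L h.st h41
  obtain ⟨n2, hn2, hx4n2, hx2n2⟩ := exists_line L h.st h42
  obtain ⟨n3, hn3, hx4n3, hx3n3⟩ := exists_line L h.st h43
  have hn10 := hpair x4 hx4 x1 hx1 h41 n1 hn1 hx4n1 hx1n1
  have hn20 := hpair x4 hx4 x2 hx2 h42 n2 hn2 hx4n2 hx2n2
  have hn30 := hpair x4 hx4 x3 hx3 h43 n3 hn3 hx4n3 hx3n3
  have c1 := h.external_cases (hoff x1 hx1) hl hm1 hn1 hx1l hx1m1 hx1n1 hl0 hm10 hn10 hlm1
  have c2 := h.external_cases (hoff x2 hx2) hl hm2 hn2 hx2l hx2m2 hx2n2 hl0 hm20 hn20 hlm2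
  have c3 := h.external_cases (hoff x3 hx3) hm1 hm2 hn3 hx3m1 hx3m2 hx3n3 hm10 hm20 hn30 hm12
  rcases c1 with e1 | e1
  · -- x4 ∈ l
    have hx4l : x4 ∈ l := e1 ▸ hx4n1
    rcases c3 with e3 | e3
    · have hx4m1 : x4 ∈ m1 := e3 ▸ hx4n3
      exact hlm1 (line_unique L h.st hl hm1 h41 hx4l hx1l hx4m1 hx1m1)
    · have hx4m2 : x4 ∈ m2 := e3 ▸ hx4n3
      exact hlm2 (line_unique L h.st hl hm2 h42 hx4l hx2l hx4m2 hx2m2)
  · have hx4m1 : x4 ∈ m1 := e1 ▸ hx4n1
    rcases c2 with e2 | e2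
    · have hx4l : x4 ∈ l := e2 ▸ hx4n2
      exact hlm1 (line_unique L h.st hl hm1 h41 hx4l hx1l hx4m1 hx1m1)
    · have hx4m2 : x4 ∈ m2 := e2 ▸ hx4n2
      exact hm12 (line_unique L h.st hm1 hm2 h43 hx4m1 hx3m1 hx4m2 hx3m2)

end HO

section Transport

variable {α β : Type*} [Fintype α] [DecidableEq α] [Fintype β] [DecidableEq β]
  {L : Set (Finset α)} {H : Finset α} {L' : Set (Finset β)} {H' : Finset β}

/-- correspondence of points off the hyperovals along a map `e` of the hyperovals -/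
def Corr (L : Set (Finset α)) (H : Finset α) (L' : Set (Finset β)) (H' : Finset β)
    (e : α → β) (x : α) (x' : β) : Prop :=
  ∀ a b, OnSec L H x a b → OnSec L' H' x' (e a) (e b)

theorem e_surj (h : HO L H) (h' : HO L' H') (e : α → β) (heH : ∀ a ∈ H, e a ∈ H')
    (hinj : Set.InjOn e H) : ∀ a' ∈ H', ∃ a ∈ H, e a = a' := by
  have hsub : H.image e ⊆ H' := by
    intro z hz
    obtain ⟨a, ha, rfl⟩ := mem_image.mp hz
    exact heH a ha
  have hcard : (H.image e).card = 6 := by rw [card_image_of_injOn hinj, h.six]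
  have heq := eq_of_subset_of_card_le hsub (by rw [hcard, h'.six])
  intro a' ha'
  rw [← heq] at ha'
  obtain ⟨a, ha, rfl⟩ := mem_image.mp ha'
  exact ⟨a, ha, rfl⟩

theorem corr_exists (h : HO L H) (h' : HO L' H') (e : α → β) (heH : ∀ a ∈ H, e a ∈ H')
    (hinj : Set.InjOn e H) {x : α} (hx : x ∉ H) : ∃ x', x' ∉ H' ∧ Corr L H L' H' e x x' := by
  have hne : H.Nonempty := by
    rw [← Finset.card_pos, h.six]; norm_num
  obtain ⟨a1, ha1⟩ := hne
  obtain ⟨b1, hs1⟩ := h.exists_partner hx ha1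
  obtain ⟨a2, ha2, ha21, ha2b1⟩ := h.exists_third a1 b1
  obtain ⟨b2, hs2⟩ := h.exists_partner hx ha2
  have hb1 := hs1.2.1
  have hb2 := hs2.2.1
  have hab1 := hs1.2.2.1
  have hab2 := hs2.2.2.1
  have hb2a1 : b2 ≠ a1 := by
    rintro rfl
    exact ha2b1 (h.partner_unique hx hs2.symm hs1)
  have hb2b1 : b2 ≠ b1 := by
    rintro rfl
    exact ha21 (h.partner_unique hx hs2.symm hs1.symm)
  have inj' : ∀ {u v : α}, u ∈ H → v ∈ H → u ≠ v → e u ≠ e v :=
    fun hu hv huv heq => huv (hinj hu hv heq)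
  obtain ⟨x', hx', hs1', hs2'⟩ := h'.exists_onSec_two (heH a1 ha1) (heH b1 hb1) (heH a2 ha2)
    (heH b2 hb2) (inj' ha1 hb1 hab1) (inj' ha2 hb2 hab2) (inj' ha1 ha2 (Ne.symm ha21))
    (inj' ha1 hb2 (Ne.symm hb2a1)) (inj' hb1 ha2 (Ne.symm ha2b1)) (inj' hb1 hb2 (Ne.symm hb2b1))
  refine ⟨x', hx', ?_⟩
  intro a b hs
  have ha := hs.1
  have hb := hs.2.1
  by_cases c1 : a = a1
  · subst c1
    have := h.partner_unique hx hs hs1
    subst this
    exact hs1'
  by_cases c2 : a = b1
  · subst c2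
    have := h.partner_unique hx hs hs1.symm
    subst this
    exact hs1'.symm
  by_cases c3 : a = a2
  · subst c3
    have := h.partner_unique hx hs hs2
    subst this
    exact hs2'
  by_cases c4 : a = b2
  · subst c4
    have := h.partner_unique hx hs hs2.symm
    subst this
    exact hs2'.symm
  have d1 : b ≠ a1 := by
    rintro rfl
    exact c2 (h.partner_unique hx hs.symm hs1)
  have d2 : b ≠ b1 := by
    rintro rfl
    exact c1 (h.partner_unique hx hs.symm hs1.symm)
  have d3 : b ≠ a2 := by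
    rintro rfl
    exact c4 (h.partner_unique hx hs.symm hs2)
  have d4 : b ≠ b2 := by
    rintro rfl
    exact c3 (h.partner_unique hx hs.symm hs2.symm)
  obtain ⟨c', hc'⟩ := h'.exists_partner hx' (heH a ha)
  obtain ⟨c, hc, rfl⟩ := e_surj h h' e heH hinj c' hc'.2.1
  have f0 : c ≠ a := by
    rintro rfl
    exact hc'.2.2.1 rfl
  have f1 : c ≠ a1 := by
    rintro rfl
    exact c2 (hinj ha hb1 (h'.partner_unique hx' hc'.symm hs1'))
  have f2 : c ≠ b1 := by
    rintro rfl
    exact c1 (hinj ha ha1 (h'.partner_unique hx' hc'.symm hs1'.symm))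
  have f3 : c ≠ a2 := by
    rintro rfl
    exact c4 (hinj ha hb2 (h'.partner_unique hx' hc'.symm hs2'))
  have f4 : c ≠ b2 := by
    rintro rfl
    exact c3 (hinj ha ha2 (h'.partner_unique hx' hc'.symm hs2'.symm))
  have hcb : c = b := by
    by_contra hcb
    have hnd : [c, b, a, a1, b1, a2, b2].Nodup := by
      simp only [List.nodup_cons, List.mem_cons, List.not_mem_nil, or_false, not_or,
        List.nodup_nil, and_true]
      exact ⟨⟨hcb, f0, f1, f2, f3, f4⟩, ⟨Ne.symm hs.2.2.1, d1, d2, d3, d4⟩,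
        ⟨c1, c2, c3, c4⟩, ⟨hab1, Ne.symm ha21, Ne.symm hb2a1⟩,
        ⟨Ne.symm ha2b1, Ne.symm hb2b1⟩, hab2, not_false⟩
    have hsub : [c, b, a, a1, b1, a2, b2].toFinset ⊆ H := by
      intro z hz
      simp only [List.toFinset_cons, List.toFinset_nil, mem_insert] at hz
      rcases hz with rfl | rfl | rfl | rfl | rfl | rfl | hz
      · exact hc
      · exact hb
      · exact ha
      · exact ha1
      · exact hb1
      · exact ha2
      · rcases hz with rfl | hz
        · exact hb2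
        · simp at hz
    have h7 := Finset.card_le_card hsub
    rw [List.toFinset_card_of_nodup hnd, h.six] at h7
    simp at h7
  rw [hcb] at hc'
  exact hc'

theorem corr_unique (h : HO L H) (h' : HO L' H') (e : α → β) (heH : ∀ a ∈ H, e a ∈ H')
    (hinj : Set.InjOn e H) {x : α} (hx : x ∉ H) {x' x'' : β} (hx' : x' ∉ H')
    (hc' : Corr L H L' H' e x x') (hc'' : Corr L H L' H' e x x'') : x' = x'' := by
  apply h'.onSec_inj hx'
  intro a' b' hs'
  obtain ⟨a, ha, rfl⟩ := e_surj h h' e heH hinj a' hs'.1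
  obtain ⟨b, hs⟩ := h.exists_partner hx ha
  have h1 := hc' a b hs
  have := h'.partner_unique hx' hs' h1
  subst this
  exact hc'' a b hs

theorem corr_inj (h : HO L H) (h' : HO L' H') (e : α → β)
    (hinj : Set.InjOn e H) {x y : α} (hx : x ∉ H) (hy : y ∉ H) {x' : β} (hx' : x' ∉ H')
    (hcx : Corr L H L' H' e x x') (hcy : Corr L H L' H' e y x') : x = y := by
  apply h.onSec_inj hx
  intro a b hs
  obtain ⟨c, hsc⟩ := h.exists_partner hy hs.1
  have h1 := hcx a b hs
  have h2 := hcy a c hsc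
  have h3 := h'.partner_unique hx' h1 h2
  have : b = c := hinj hs.2.1 hsc.2.1 h3
  rw [this]
  exact hsc

/-- the extension of `e` to all points -/
noncomputable def extMap (h : HO L H) (h' : HO L' H') (e : α → β) (heH : ∀ a ∈ H, e a ∈ H')
    (hinj : Set.InjOn e H) (x : α) : β :=
  if hx : x ∈ H then e x else Classical.choose (corr_exists h h' e heH hinj hx)

theorem extMap_mem (h : HO L H) (h' : HO L' H') (e : α → β) (heH : ∀ a ∈ H, e a ∈ H')
    (hinj : Set.InjOn e H) {x : α} (hx : x ∈ H) : extMap h h' e heH hinj x = e x :=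
  dif_pos hx

theorem extMap_spec (h : HO L H) (h' : HO L' H') (e : α → β) (heH : ∀ a ∈ H, e a ∈ H')
    (hinj : Set.InjOn e H) {x : α} (hx : x ∉ H) :
    extMap h h' e heH hinj x ∉ H' ∧ Corr L H L' H' e x (extMap h h' e heH hinj x) := by
  unfold extMap
  rw [dif_neg hx]
  exact Classical.choose_spec (corr_exists h h' e heH hinj hx)

theorem extMap_injective (h : HO L H) (h' : HO L' H') (e : α → β) (heH : ∀ a ∈ H, e a ∈ H')
    (hinj : Set.InjOn e H) : Function.Injective (extMap h h' e heH hinj) := by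
  intro x y hxy
  by_cases hx : x ∈ H <;> by_cases hy : y ∈ H
  · rw [extMap_mem h h' e heH hinj hx, extMap_mem h h' e heH hinj hy] at hxy
    exact hinj hx hy hxy
  · exfalso
    have := (extMap_spec h h' e heH hinj hy).1
    rw [← hxy, extMap_mem h h' e heH hinj hx] at this
    exact this (heH x hx)
  · exfalso
    have := (extMap_spec h h' e heH hinj hx).1
    rw [hxy, extMap_mem h h' e heH hinj hy] at this
    exact this (heH y hy)
  · have sx := extMap_spec h h' e heH hinj hx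
    have sy := extMap_spec h h' e heH hinj hy
    rw [← hxy] at sy
    exact corr_inj h h' e hinj hx hy sx.1 sx.2 sy.2

theorem extMap_bijective (h : HO L H) (h' : HO L' H') (e : α → β) (heH : ∀ a ∈ H, e a ∈ H')
    (hinj : Set.InjOn e H) : Function.Bijective (extMap h h' e heH hinj) := by
  rw [Fintype.bijective_iff_injective_and_card]
  exact ⟨extMap_injective h h' e heH hinj, by rw [h.card, h'.card]⟩

theorem extMap_onSec_rev (h : HO L H) (h' : HO L' H') (e : α → β) (heH : ∀ a ∈ H, e a ∈ H')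
    (hinj : Set.InjOn e H) {x a b : α} (hx : x ∉ H) (ha : a ∈ H) (hb : b ∈ H)
    (hs' : OnSec L' H' (extMap h h' e heH hinj x) (e a) (e b)) : OnSec L H x a b := by
  obtain ⟨c, hsc⟩ := h.exists_partner hx ha
  have sx := extMap_spec h h' e heH hinj hx
  have h1 := sx.2 a c hsc
  have h3 := h'.partner_unique sx.1 hs' h1
  have : b = c := hinj hb hsc.2.1 h3
  rw [this]
  exact hsc

theorem extMap_image_line (h : HO L H) (h' : HO L' H') (e : α → β) (heH : ∀ a ∈ H, e a ∈ H')
    (hinj : Set.InjOn e H) {l : Finset α} (hl : l ∈ L) :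
    l.image (extMap h h' e heH hinj) ∈ L' := by
  have hfinj := extMap_injective h h' e heH hinj
  rcases h.secant_or_external hl with h2 | h0
  · obtain ⟨a, b, hab, hlH⟩ := Finset.card_eq_two.mp h2
    have ha : a ∈ l ∩ H := by rw [hlH]; simp
    have hb : b ∈ l ∩ H := by rw [hlH]; simp
    rw [mem_inter] at ha hb
    have hne : e a ≠ e b := fun heq => hab (hinj ha.2 hb.2 heq)
    obtain ⟨l', hl', hal', hbl'⟩ := exists_line L' h'.st hne
    have hsub : l.image (extMap h h' e heH hinj) ⊆ l' := by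
      intro y' hy'
      obtain ⟨y, hy, rfl⟩ := mem_image.mp hy'
      by_cases hyH : y ∈ H
      · have hyI : y ∈ l ∩ H := mem_inter.mpr ⟨hy, hyH⟩
        rw [hlH, mem_insert, mem_singleton] at hyI
        rw [extMap_mem h h' e heH hinj hyH]
        rcases hyI with rfl | rfl
        · exact hal'
        · exact hbl'
      · have hs : OnSec L H y a b := ⟨ha.2, hb.2, hab, l, hl, ha.1, hb.1, hy⟩
        obtain ⟨_, _, _, l'', hl'', h1, h2, h3⟩ := (extMap_spec h h' e heH hinj hyH).2 a b hs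
        have : l'' = l' := line_unique L' h'.st hl'' hl' hne h1 h2 hal' hbl'
        rw [← this]
        exact h3
    have heq : l.image (extMap h h' e heH hinj) = l' :=
      eq_of_subset_of_card_le hsub
        (by rw [card_image_of_injective _ hfinj, h.st.1 l hl, h'.st.1 l' hl'])
    rw [heq]
    exact hl'
  · have hoffl : ∀ y ∈ l, y ∉ H := by
      intro y hy hyH
      have : y ∈ l ∩ H := mem_inter.mpr ⟨hy, hyH⟩
      rw [h0] at this
      simp at this
    obtain ⟨m, hm, hsub⟩ := h'.clique (X := l.image (extMap h h' e heH hinj))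
      (by rw [card_image_of_injective _ hfinj, h.st.1 l hl]; norm_num)
      (by
        intro x' hx'
        obtain ⟨x, hx, rfl⟩ := mem_image.mp hx'
        exact (extMap_spec h h' e heH hinj (hoffl x hx)).1)
      (by
        intro x' hx' y' hy' hne m hm hxm hym
        obtain ⟨x, hx, rfl⟩ := mem_image.mp hx'
        obtain ⟨y, hy, rfl⟩ := mem_image.mp hy'
        have hxy : x ≠ y := fun heq => hne (by rw [heq])
        rcases h'.secant_or_external hm with h2 | h0'
        · exfalso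
          obtain ⟨a', b', hab', hmH⟩ := Finset.card_eq_two.mp h2
          have ha' : a' ∈ m ∩ H' := by rw [hmH]; simp
          have hb' : b' ∈ m ∩ H' := by rw [hmH]; simp
          rw [mem_inter] at ha' hb'
          obtain ⟨a, ha, rfl⟩ := e_surj h h' e heH hinj a' ha'.2
          obtain ⟨b, hb, rfl⟩ := e_surj h h' e heH hinj b' hb'.2
          have hsx : OnSec L H x a b := extMap_onSec_rev h h' e heH hinj (hoffl x hx) ha hb
            ⟨ha'.2, hb'.2, hab', m, hm, ha'.1, hb'.1, hxm⟩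
          have hsy : OnSec L H y a b := extMap_onSec_rev h h' e heH hinj (hoffl y hy) ha hb
            ⟨ha'.2, hb'.2, hab', m, hm, ha'.1, hb'.1, hym⟩
          obtain ⟨_, _, hab, l1, hl1, hal1, hbl1, hxl1⟩ := hsx
          obtain ⟨_, _, _, l2, hl2, hal2, hbl2, hyl2⟩ := hsy
          have e12 : l1 = l2 := line_unique L h.st hl1 hl2 hab hal1 hbl1 hal2 hbl2
          subst e12
          have e1l : l1 = l := line_unique L h.st hl1 hl hxy hxl1 hyl2 hx hy
          subst e1l
          exact hoffl a hal1 ha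
        · exact h0')
    have heq : l.image (extMap h h' e heH hinj) = m :=
      eq_of_subset_of_card_le hsub
        (by rw [card_image_of_injective _ hfinj, h.st.1 l hl, h'.st.1 m hm])
    rw [heq]
    exact hm

/-- the extension carries the lines of the first plane exactly onto those of the second -/
theorem extMap_iso (h : HO L H) (h' : HO L' H') (e : α → β) (heH : ∀ a ∈ H, e a ∈ H')
    (hinj : Set.InjOn e H) :
    (fun b : Finset α => b.image (extMap h h' e heH hinj)) '' L = L' := by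
  have hfinj := extMap_injective h h' e heH hinj
  apply Set.Subset.antisymm
  · rintro _ ⟨l, hl, rfl⟩
    exact extMap_image_line h h' e heH hinj hl
  · intro l' hl'
    have hsub : (linesF L).image (fun b : Finset α => b.image (extMap h h' e heH hinj)) ⊆
        linesF L' := by
      intro z hz
      obtain ⟨l, hl, rfl⟩ := mem_image.mp hz
      exact mem_linesF.mpr (extMap_image_line h h' e heH hinj (mem_linesF.mp hl))
    have hcard : (linesF L').card ≤
        ((linesF L).image (fun b : Finset α => b.image (extMap h h' e heH hinj))).card := by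
      rw [card_image_of_injective _ (Finset.image_injective hfinj),
        card_linesF h.card L h.st, card_linesF h'.card L' h'.st]
    have heq := eq_of_subset_of_card_le hsub hcard
    have hmem : l' ∈ linesF L' := mem_linesF.mpr hl'
    rw [← heq] at hmem
    obtain ⟨l, hl, rfl⟩ := mem_image.mp hmem
    exact ⟨l, mem_linesF.mp hl, rfl⟩

end Transport

/-- every plane of order 4 has a hyperoval -/
theorem exists_hyperoval {α : Type*} [Fintype α] [DecidableEq α] (hα : Fintype.card α = 21)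
    (L : Set (Finset α)) (hL : Cfsg.IsSteinerSystem 2 5 L) : ∃ H : Finset α, HO L H := by
  have h := card_arcs_six hα L hL
  have hne : (arcsF L 6).Nonempty := by
    rw [← Finset.card_pos, h]; norm_num
  obtain ⟨H, hH⟩ := hne
  rw [mem_arcsF] at hH
  exact ⟨H, ⟨hα, hL, hH.2, hH.1⟩⟩

end Cfsg.Agent.Helper93
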