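import Mathlib
import Cfsg.Prelude.Def_Sporadic_a
import Cfsg.Agent.Helper93.SteinerConc
import Cfsg.Agent.S5625
import Cfsg.Agent.S5626
import Cfsg.Agent.S5627

/-!
Uniqueness of "partial" Steiner systems on the 24 points: families of `8`-sets through a
fixed set `R` of at most two base points such that every `5`-set through `R` lies in exactly
one member, and any two members meet evenly.  Every such family is the image of the octads
through `R` under a permutation fixing the base triple pointwise.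
-/

set_option autoImplicit false

namespace Cfsg.Agent.Helper93

open Cfsg Cfsg.Agent.Helper26
open scoped Pointwise

/-- a partial Steiner system through `R` -/
def IsPart (R : Finset GolayPt) (𝓑 : Set (Finset GolayPt)) : Prop :=
  (∀ b ∈ 𝓑, b.card = 8 ∧ R ⊆ b) ∧
  (∀ s : Finset GolayPt, s.card = 5 → R ⊆ s → ∃ b ∈ 𝓑, s ⊆ b) ∧
  (∀ b ∈ 𝓑, ∀ b' ∈ 𝓑, Even (b ∩ b').card) ∧
  (∀ b ∈ 𝓑, ∀ b' ∈ 𝓑, 5 ≤ (b ∩ b').card → b = b')

/-- the octads through `R` -/
def octR (R : Finset GolayPt) : Set (Finset GolayPt) := {O | O ∈ octads ∧ R ⊆ O}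

theorem isPart_octR (R : Finset GolayPt) : IsPart R (octR R) := by
  refine ⟨fun b hb => ⟨octads_card hb.1, hb.2⟩, ?_, ?_, ?_⟩
  · intro s hs hRs
    obtain ⟨O, hO, hsO⟩ := exists_octad_of_five s hs
    exact ⟨O, ⟨hO, hRs.trans hsO⟩, hsO⟩
  · intro b hb b' hb'
    exact even_iff_two_dvd.2 (even_card_inter (octads_supports hb.1) (octads_supports hb'.1))
  · intro b hb b' hb' h
    exact octads_unique_of_five h hb.1 hb'.1 Finset.inter_subset_left Finset.inter_subset_right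

theorem perm_smul_finset_mem (g : Equiv.Perm GolayPt) (b : Finset GolayPt) (x : GolayPt) :
    x ∈ g • b ↔ g⁻¹ x ∈ b := by
  rw [← Finset.smul_mem_smul_finset_iff g⁻¹, inv_smul_smul]
  rfl

theorem perm_inv_smul_finset_mem (g : Equiv.Perm GolayPt) (b : Finset GolayPt) (x : GolayPt) :
    x ∈ g⁻¹ • b ↔ g x ∈ b := by
  rw [perm_smul_finset_mem, inv_inv]

theorem IsPart.smul {R : Finset GolayPt} {𝓑 : Set (Finset GolayPt)} (h : IsPart R 𝓑)
    (g : Equiv.Perm GolayPt) (hg : ∀ r ∈ R, g r = r) : IsPart R (g • 𝓑) := by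
  obtain ⟨h1, h2, h3, h4⟩ := h
  have hginv : ∀ r ∈ R, g⁻¹ r = r := by
    intro r hr
    rw [Equiv.Perm.inv_eq_iff_eq, hg r hr]
  refine ⟨?_, ?_, ?_, ?_⟩
  · rintro b ⟨b₀, hb₀, rfl⟩
    refine ⟨by rw [Finset.card_smul_finset]; exact (h1 b₀ hb₀).1, ?_⟩
    intro r hr
    rw [perm_smul_finset_mem, hginv r hr]
    exact (h1 b₀ hb₀).2 hr
  · intro s hs hRs
    obtain ⟨b₀, hb₀, hsb⟩ := h2 (g⁻¹ • s) (by rw [Finset.card_smul_finset]; exact hs) (by
      intro r hr
      rw [perm_inv_smul_finset_mem, hg r hr]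
      exact hRs hr)
    refine ⟨g • b₀, Set.smul_mem_smul_set hb₀, ?_⟩
    rw [Finset.subset_smul_finset_iff]
    exact hsb
  · rintro b ⟨b₀, hb₀, rfl⟩ b' ⟨b₀', hb₀', rfl⟩
    rw [← Finset.smul_finset_inter, Finset.card_smul_finset]
    exact h3 b₀ hb₀ b₀' hb₀'
  · rintro b ⟨b₀, hb₀, rfl⟩ b' ⟨b₀', hb₀', rfl⟩ h5
    rw [← Finset.smul_finset_inter, Finset.card_smul_finset] at h5
    rw [h4 b₀ hb₀ b₀' hb₀' h5]

/-! ### The plane on the 21 points off the base triple -/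

/-- the 21 points off the base triple -/
abbrev P3 : Type := {p : GolayPt // p ∉ TB3}

theorem card_P3 : Fintype.card P3 = 21 := by
  rw [Fintype.card_subtype]
  have : (Finset.univ.filter fun p : GolayPt => p ∉ TB3) = TB3ᶜ := by
    ext p; simp
  rw [this, Finset.card_compl, card_golayPt, card_TB3]

/-- a set of plane points together with the base triple -/
def up (ℓ : Finset P3) : Finset GolayPt := ℓ.map (Function.Embedding.subtype _) ∪ TB3

/-- the plane points of a set -/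
def down (b : Finset GolayPt) : Finset P3 := b.subtype (fun p => p ∉ TB3)

theorem mem_up {ℓ : Finset P3} {x : GolayPt} :
    x ∈ up ℓ ↔ (∃ h : x ∉ TB3, (⟨x, h⟩ : P3) ∈ ℓ) ∨ x ∈ TB3 := by
  unfold up
  rw [Finset.mem_union, Finset.mem_map]
  constructor
  · rintro (⟨⟨y, hy⟩, hyl, rfl⟩ | h)
    · exact Or.inl ⟨hy, hyl⟩
    · exact Or.inr h
  · rintro (⟨h, hl⟩ | h)
    · exact Or.inl ⟨⟨x, h⟩, hl, rfl⟩
    · exact Or.inr h

theorem mem_down {b : Finset GolayPt} {x : P3} : x ∈ down b ↔ (x : GolayPt) ∈ b :=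
  Finset.mem_subtype

theorem up_down {b : Finset GolayPt} (hb : TB3 ⊆ b) : up (down b) = b := by
  ext x
  rw [mem_up]
  constructor
  · rintro (⟨h, hl⟩ | h)
    · exact mem_down.1 hl
    · exact hb h
  · intro hx
    by_cases h : x ∈ TB3
    · exact Or.inr h
    · exact Or.inl ⟨h, mem_down.2 hx⟩

theorem down_up (ℓ : Finset P3) : down (up ℓ) = ℓ := by
  ext ⟨x, hx⟩
  rw [mem_down, mem_up]
  constructor
  · rintro (⟨h, hl⟩ | h)
    · exact hl
    · exact absurd h hx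
  · intro h
    exact Or.inl ⟨hx, h⟩

theorem TB3_subset_up (ℓ : Finset P3) : TB3 ⊆ up ℓ := Finset.subset_union_right

theorem card_up (ℓ : Finset P3) : (up ℓ).card = ℓ.card + 3 := by
  unfold up
  rw [Finset.card_union_of_disjoint, Finset.card_map, card_TB3]
  rw [Finset.disjoint_left]
  intro x hx hxT
  rw [Finset.mem_map] at hx
  obtain ⟨⟨y, hy⟩, -, rfl⟩ := hx
  exact hy hxT

theorem up_injective : Function.Injective up := by
  intro ℓ ℓ' h
  rw [← down_up ℓ, ← down_up ℓ', h]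

theorem up_inter (ℓ ℓ' : Finset P3) : up ℓ ∩ up ℓ' = up (ℓ ∩ ℓ') := by
  ext x
  simp only [Finset.mem_inter, mem_up]
  constructor
  · rintro ⟨⟨h, hl⟩ | h, ⟨h', hl'⟩ | h'⟩
    · exact Or.inl ⟨h, hl, hl'⟩
    · exact Or.inr h'
    · exact Or.inr h
    · exact Or.inr h
  · rintro (⟨h, hl, hl'⟩ | h)
    · exact ⟨Or.inl ⟨h, hl⟩, Or.inl ⟨h, hl'⟩⟩
    · exact ⟨Or.inr h, Or.inr h⟩

theorem up_subset_up {ℓ ℓ' : Finset P3} : up ℓ ⊆ up ℓ' ↔ ℓ ⊆ ℓ' := by
  constructor
  · intro h x hx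
    have : (x : GolayPt) ∈ up ℓ' := h (mem_up.2 (Or.inl ⟨x.2, hx⟩))
    rcases mem_up.1 this with ⟨_, hl⟩ | h'
    · exact hl
    · exact absurd h' x.2
  · intro h x hx
    rcases mem_up.1 hx with ⟨h', hl⟩ | h'
    · exact mem_up.2 (Or.inl ⟨h', h hl⟩)
    · exact mem_up.2 (Or.inr h')

/-- the lines of the plane: blocks through the base triple -/
def linesOf (𝓑 : Set (Finset GolayPt)) : Set (Finset P3) := {ℓ | up ℓ ∈ 𝓑}

theorem linesOf_steiner {R : Finset GolayPt} {𝓑 : Set (Finset GolayPt)} (h : IsPart R 𝓑)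
    (hR : R ⊆ TB3) : IsSteinerSystem 2 5 (linesOf 𝓑) := by
  obtain ⟨h1, h2, h3, h4⟩ := h
  refine ⟨?_, ?_⟩
  · intro ℓ hℓ
    have := (h1 _ hℓ).1
    rw [card_up] at this
    omega
  · intro s hs
    obtain ⟨b, hb, hsb⟩ := h2 (up s) (by rw [card_up, hs]) (hR.trans (TB3_subset_up s))
    have hTb : TB3 ⊆ b := (TB3_subset_up s).trans hsb
    refine ⟨down b, ⟨?_, ?_⟩, ?_⟩
    · show up (down b) ∈ 𝓑
      rw [up_down hTb]; exact hb
    · rw [← up_subset_up, up_down hTb]; exact hsb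
    · rintro ℓ ⟨hℓ, hsℓ⟩
      have h5 : 5 ≤ (up ℓ ∩ b).card := by
        have : up s ⊆ up ℓ ∩ b := Finset.subset_inter (up_subset_up.2 hsℓ) hsb
        have := Finset.card_le_card this
        rw [card_up, hs] at this
        exact this
      have := h4 _ hℓ b hb h5
      rw [← this, down_up]

/-- the action of a permutation of the plane points, extended by the identity -/
theorem ofSubtype_smul_up (f : Equiv.Perm P3) (ℓ : Finset P3) :
    (Equiv.Perm.ofSubtype (p := fun p : GolayPt => p ∉ TB3) f) • up ℓ = up (ℓ.image f) := by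
  ext x
  rw [perm_smul_finset_mem, ← map_inv, mem_up, mem_up]
  by_cases hx : x ∈ TB3
  · rw [Equiv.Perm.ofSubtype_apply_of_not_mem (p := fun p : GolayPt => p ∉ TB3) _ (by simpa using hx)]
    simp [hx]
  · rw [Equiv.Perm.ofSubtype_apply_of_mem (p := fun p : GolayPt => p ∉ TB3) _ hx]
    constructor
    · rintro (⟨h, hl⟩ | h)
      · refine Or.inl ⟨hx, ?_⟩
        rw [Finset.mem_image]
        exact ⟨_, hl, by simp⟩
      · exact absurd h (f⁻¹ ⟨x, hx⟩).2
    · rintro (⟨h, hl⟩ | h)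
      · rw [Finset.mem_image] at hl
        obtain ⟨y, hy, hyx⟩ := hl
        refine Or.inl ⟨(f⁻¹ ⟨x, hx⟩).2, ?_⟩
        have : f⁻¹ ⟨x, hx⟩ = y := by rw [← hyx]; simp
        rw [Subtype.coe_eta, this]
        exact hy
      · exact absurd h hx

theorem ofSubtype_fix (f : Equiv.Perm P3) :
    ∀ t ∈ TB3, Equiv.Perm.ofSubtype (p := fun p : GolayPt => p ∉ TB3) f t = t := by
  intro t ht
  exact Equiv.Perm.ofSubtype_apply_of_not_mem (p := fun p : GolayPt => p ∉ TB3) _ (by simpa using ht)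

/-- **Step 1**: after a permutation fixing the base triple, the blocks through the base
triple are the octads through it. -/
theorem exists_plane_iso {R : Finset GolayPt} {𝓑 : Set (Finset GolayPt)} (h : IsPart R 𝓑)
    (hR : R ⊆ TB3) : ∃ g : Equiv.Perm GolayPt, (∀ t ∈ TB3, g t = t) ∧
      ∀ b, TB3 ⊆ b → (b ∈ g • 𝓑 ↔ b ∈ octads) := by
  have hL := linesOf_steiner h hR
  have hL0 := linesOf_steiner (isPart_octR ∅) (Finset.empty_subset _)
  obtain ⟨e, he⟩ := Cfsg.Agent.S5626.result card_P3 card_P3 hL hL0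
  refine ⟨Equiv.Perm.ofSubtype (p := fun p : GolayPt => p ∉ TB3) e, ofSubtype_fix e, ?_⟩
  intro b hb
  rw [Set.mem_smul_set_iff_inv_smul_mem, ← map_inv, ← up_down hb, ofSubtype_smul_up]
  have h1 : down b ∈ linesOf (octR ∅) ↔ up (down b) ∈ octads := by
    show up (down b) ∈ octR ∅ ↔ _
    simp [octR]
  rw [← h1, ← he]
  constructor
  · intro hm
    refine ⟨_, hm, ?_⟩
    show Finset.image (⇑e) (Finset.image (⇑e⁻¹) (down b)) = down b
    rw [Finset.image_image]
    have : (⇑e ∘ ⇑e⁻¹) = id := by ext x; simp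
    rw [this, Finset.image_id]
  · rintro ⟨ℓ, hℓ, hℓb⟩
    show up ((down b).image ⇑e⁻¹) ∈ 𝓑
    rw [← hℓb]
    show up (Finset.image (⇑e⁻¹) (Finset.image (⇑e) ℓ)) ∈ 𝓑
    rw [Finset.image_image]
    have : (⇑e⁻¹ ∘ ⇑e) = id := by ext x; simp
    rw [this, Finset.image_id]
    exact hℓ

/-! ### Hyperovals -/

theorem map_down (b : Finset GolayPt) :
    (down b).map (Function.Embedding.subtype _) = b \ TB3 := by
  unfold down
  rw [Finset.subtype_map, Finset.filter_notMem_eq_sdiff]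

theorem card_down (b : Finset GolayPt) : (down b).card = (b \ TB3).card := by
  rw [← map_down, Finset.card_map]

theorem card_sdiff_TB3 (b : Finset GolayPt) : (b \ TB3).card + (b ∩ TB3).card = b.card :=
  Finset.card_sdiff_add_card_inter b TB3

theorem card_down_inter (l : Finset P3) (b : Finset GolayPt) :
    (l ∩ down b).card + (b ∩ TB3).card = (up l ∩ b).card := by
  have h1 : (l ∩ down b).map (Function.Embedding.subtype _) = (up l ∩ b) \ TB3 := by
    ext x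
    simp only [Finset.mem_map, Finset.mem_inter, mem_down, Finset.mem_sdiff, mem_up,
      Function.Embedding.coe_subtype]
    constructor
    · rintro ⟨⟨y, hy⟩, ⟨hyl, hyb⟩, rfl⟩
      exact ⟨⟨Or.inl ⟨hy, hyl⟩, hyb⟩, hy⟩
    · rintro ⟨⟨⟨hx, hl⟩ | hx, hxb⟩, hxT⟩
      · exact ⟨⟨x, hx⟩, ⟨hl, hxb⟩, rfl⟩
      · exact absurd hx hxT
  have h2 : (up l ∩ b) ∩ TB3 = b ∩ TB3 := by
    ext x
    simp only [Finset.mem_inter, mem_up]
    tauto
  have h3 := Finset.card_sdiff_add_card_inter (up l ∩ b) TB3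
  rw [← h1, Finset.card_map, h2] at h3
  exact h3

/-- every hyperoval of the plane of the octads comes from an octad meeting the base triple
in two points -/
theorem hyperoval_octad (h : Finset GolayPt) (hd : Disjoint h TB3) (h6 : h.card = 6)
    (harc : ∀ K ∈ octads, TB3 ⊆ K → (h ∩ K).card ≤ 2) :
    ∃ O ∈ octads, O \ TB3 = h ∧ (O ∩ TB3).card = 2 := by
  have hL0 := linesOf_steiner (isPart_octR ∅) (Finset.empty_subset _)
  have hlin : ∀ l ∈ linesOf (octR ∅), up l ∈ octads := fun l hl => hl.1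
  obtain ⟨-, h168, -⟩ := Cfsg.Agent.S5627.result card_P3 (linesOf (octR ∅)) hL0
  obtain ⟨-, h168', -, -⟩ := Cfsg.Agent.S5625.result GolayPt card_golayPt octads octads_steiner
    TB3 card_TB3
  set 𝓗 : Set (Finset P3) :=
    {H : Finset P3 | (H.card = 6 ∧ ∀ l ∈ linesOf (octR ∅), (l ∩ H).card ≤ 2)} with h𝓗
  set 𝓢 : Set (Finset GolayPt) := {b : Finset GolayPt | b ∈ octads ∧ (b ∩ TB3).card = 2} with h𝓢
  have hinj : Set.InjOn down 𝓢 := by
    rintro b ⟨hb, hb2⟩ b' ⟨hb', hb2'⟩ hbb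
    have h1 : b \ TB3 = b' \ TB3 := by rw [← map_down, ← map_down, hbb]
    have h2 := card_sdiff_TB3 b
    rw [octads_card hb, hb2] at h2
    exact octads_unique_of_five (s := b \ TB3) (by omega) hb hb' Finset.sdiff_subset
      (by rw [h1]; exact Finset.sdiff_subset)
  have hsub : down '' 𝓢 ⊆ 𝓗 := by
    rintro _ ⟨b, ⟨hb, hb2⟩, rfl⟩
    refine ⟨?_, ?_⟩
    · rw [card_down]
      have h2 := card_sdiff_TB3 b
      rw [octads_card hb, hb2] at h2
      omega
    · intro l hl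
      have hne : up l ≠ b := by
        intro e
        have : b ∩ TB3 = TB3 := by
          rw [← e]; exact Finset.inter_eq_right.2 (TB3_subset_up l)
        rw [this, card_TB3] at hb2
        omega
      have h4 := octads_inter_le (hlin l hl) hb hne
      have h5 := card_down_inter l b
      omega
  have heq : down '' 𝓢 = 𝓗 := by
    apply Set.eq_of_subset_of_ncard_le hsub
    · rw [hinj.ncard_image, h168, h168']
  have hmem : down h ∈ 𝓗 := by
    refine ⟨?_, ?_⟩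
    · rw [card_down, Finset.sdiff_eq_self_of_disjoint hd, h6]
    · intro l hl
      have h1 := harc (up l) (hlin l hl) (TB3_subset_up l)
      have h2 := card_down_inter l h
      rw [Finset.disjoint_iff_inter_eq_empty.1 hd, Finset.card_empty] at h2
      rw [Finset.inter_comm h (up l)] at h1
      omega
  rw [← heq] at hmem
  obtain ⟨O, ⟨hO, hO2⟩, hOh⟩ := hmem
  refine ⟨O, hO, ?_, hO2⟩
  rw [← map_down, hOh, map_down, Finset.sdiff_eq_self_of_disjoint hd]

theorem TB3_two {D : Finset GolayPt} (hD : D ⊆ TB3) (h2 : D.card = 2) :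
    ∃ u ∈ TB3, D = TB3.erase u := by
  have h1 : (TB3 \ D).card = 1 := by
    rw [Finset.card_sdiff_of_subset hD, card_TB3, h2]
  obtain ⟨u, hu⟩ := Finset.card_eq_one.1 h1
  refine ⟨u, ?_, ?_⟩
  · have : u ∈ TB3 \ D := by rw [hu]; exact Finset.mem_singleton_self u
    exact (Finset.mem_sdiff.1 this).1
  · rw [← Finset.sdiff_singleton_eq_erase, ← hu, Finset.sdiff_sdiff_eq_self hD]

theorem card_erase_inter_erase : ∀ t ∈ TB3, ∀ t' ∈ TB3,
    (TB3.erase t ∩ TB3.erase t').card = if t = t' then 2 else 1 := by decide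

/-- the size of the intersection of two sets of given types -/
theorem card_inter_type {b b' : Finset GolayPt} {t t' : GolayPt} (ht : t ∈ TB3) (ht' : t' ∈ TB3)
    (hb : b ∩ TB3 = TB3.erase t) (hb' : b' ∩ TB3 = TB3.erase t') :
    (b ∩ b').card = ((b \ TB3) ∩ (b' \ TB3)).card + (if t = t' then 2 else 1) := by
  have h1 := Finset.card_sdiff_add_card_inter (b ∩ b') TB3
  have h2 : (b ∩ b') \ TB3 = (b \ TB3) ∩ (b' \ TB3) := by
    ext x
    simp only [Finset.mem_inter, Finset.mem_sdiff]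
    tauto
  have h3 : (b ∩ b') ∩ TB3 = TB3.erase t ∩ TB3.erase t' := by
    rw [← hb, ← hb']
    ext x
    simp only [Finset.mem_inter]
    tauto
  rw [h2, h3, card_erase_inter_erase t ht t' ht'] at h1
  exact h1.symm

/-- blocks through the base triple are the octads through it -/
def H0 (𝓑 : Set (Finset GolayPt)) : Prop := ∀ b, TB3 ⊆ b → (b ∈ 𝓑 ↔ b ∈ octads)

theorem block_type {R : Finset GolayPt} {𝓑 : Set (Finset GolayPt)} (h : IsPart R 𝓑)
    (h0 : H0 𝓑) {b : Finset GolayPt} (hb : b ∈ 𝓑) (h2 : (b ∩ TB3).card = 2) :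
    ∃ O ∈ octads, O \ TB3 = b \ TB3 ∧ ∃ u ∈ TB3, O ∩ TB3 = TB3.erase u := by
  obtain ⟨h1, -, -, h4⟩ := h
  have hc := card_sdiff_TB3 b
  rw [(h1 b hb).1, h2] at hc
  obtain ⟨O, hO, hOb, hO2⟩ := hyperoval_octad (b \ TB3) Finset.sdiff_disjoint (by omega) (by
    intro K hK hTK
    have hK𝓑 : K ∈ 𝓑 := (h0 K hTK).2 hK
    have hne : b ≠ K := by
      intro e
      have : b ∩ TB3 = TB3 := by rw [e]; exact Finset.inter_eq_right.2 hTK
      rw [this, card_TB3] at h2
      omega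
    have h5 : (b ∩ K).card ≤ 4 := by
      by_contra hlt
      exact hne (h4 b hb K hK𝓑 (by omega))
    have h6 := Finset.card_sdiff_add_card_inter (b ∩ K) TB3
    have h7 : (b ∩ K) \ TB3 = b \ TB3 ∩ K := by
      ext x
      simp only [Finset.mem_inter, Finset.mem_sdiff]
      tauto
    have h8 : (b ∩ K) ∩ TB3 = b ∩ TB3 := by
      ext x
      simp only [Finset.mem_inter]
      constructor
      · rintro ⟨⟨hxb, -⟩, hxT⟩; exact ⟨hxb, hxT⟩
      · rintro ⟨hxb, hxT⟩; exact ⟨⟨hxb, hTK hxT⟩, hxT⟩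
    rw [h7, h8, h2] at h6
    omega)
  obtain ⟨u, hu, hOu⟩ := TB3_two Finset.inter_subset_right hO2
  exact ⟨O, hO, hOb, u, hu, hOu⟩

/-- parity comparison of types -/
theorem type_parity {R : Finset GolayPt} {𝓑 : Set (Finset GolayPt)} (h : IsPart R 𝓑)
    {b b' O O' : Finset GolayPt} {t t' u u' : GolayPt} (hb : b ∈ 𝓑) (hb' : b' ∈ 𝓑)
    (hO : O ∈ octads) (hO' : O' ∈ octads) (ht : t ∈ TB3) (ht' : t' ∈ TB3) (hu : u ∈ TB3)
    (hu' : u' ∈ TB3) (hbt : b ∩ TB3 = TB3.erase t) (hbt' : b' ∩ TB3 = TB3.erase t')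
    (hOu : O ∩ TB3 = TB3.erase u) (hOu' : O' ∩ TB3 = TB3.erase u')
    (hOb : O \ TB3 = b \ TB3) (hOb' : O' \ TB3 = b' \ TB3) : t = t' ↔ u = u' := by
  have e1 := h.2.2.1 b hb b' hb'
  have e2 : Even (O ∩ O').card :=
    even_iff_two_dvd.2 (even_card_inter (octads_supports hO) (octads_supports hO'))
  rw [card_inter_type ht ht' hbt hbt'] at e1
  rw [card_inter_type hu hu' hOu hOu', hOb, hOb'] at e2
  rw [Nat.even_iff] at e1 e2
  by_cases c1 : t = t' <;> by_cases c2 : u = u' <;> simp only [c1, c2, if_true, if_false] at e1 e2 ⊢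
  · omega
  · omega

theorem exists_block_type {R : Finset GolayPt} {𝓑 : Set (Finset GolayPt)} (h : IsPart R 𝓑)
    (hR : R ⊆ TB3) (h0 : H0 𝓑) {t : GolayPt} (ht : t ∈ TB3) (htR : t ∉ R) :
    ∃ b ∈ 𝓑, b ∩ TB3 = TB3.erase t := by
  obtain ⟨O₀, hO₀, hO₀t⟩ := exists_octad_type t ht
  have hc := card_sdiff_TB3 O₀
  have hc2 : (TB3.erase t).card = 2 := by rw [Finset.card_erase_of_mem ht, card_TB3]
  rw [octads_card hO₀, hO₀t, hc2] at hc
  obtain ⟨w, hw, hw3⟩ := Finset.exists_subset_card_eq (show 3 ≤ (O₀ \ TB3).card by omega)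
  have hdisj : Disjoint (TB3.erase t) w := by
    rw [Finset.disjoint_left]
    intro x hx hxw
    exact (Finset.mem_sdiff.1 (hw hxw)).2 (Finset.mem_of_mem_erase hx)
  have hs5 : (TB3.erase t ∪ w).card = 5 := by
    rw [Finset.card_union_of_disjoint hdisj, hc2, hw3]
  have hRs : R ⊆ TB3.erase t ∪ w := by
    intro r hr
    exact Finset.mem_union_left _ (Finset.mem_erase.2 ⟨fun e => htR (e ▸ hr), hR hr⟩)
  obtain ⟨b, hb, hsb⟩ := h.2.1 _ hs5 hRs
  have hsO : TB3.erase t ∪ w ⊆ O₀ := by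
    apply Finset.union_subset
    · rw [← hO₀t]; exact Finset.inter_subset_left
    · exact hw.trans Finset.sdiff_subset
  have htb : t ∉ b := by
    intro htb
    have hTb : TB3 ⊆ b := by
      intro x hx
      by_cases e : x = t
      · rw [e]; exact htb
      · exact hsb (Finset.mem_union_left _ (Finset.mem_erase.2 ⟨e, hx⟩))
    have hbO : b = O₀ := octads_unique_of_five (le_of_eq hs5.symm) ((h0 b hTb).1 hb) hO₀ hsb hsO
    have : t ∈ O₀ ∩ TB3 := Finset.mem_inter.2 ⟨hbO ▸ htb, ht⟩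
    rw [hO₀t] at this
    exact (Finset.mem_erase.1 this).1 rfl
  refine ⟨b, hb, ?_⟩
  ext x
  rw [Finset.mem_inter, Finset.mem_erase]
  constructor
  · rintro ⟨hxb, hxT⟩
    exact ⟨fun e => htb (e ▸ hxb), hxT⟩
  · rintro ⟨hxt, hxT⟩
    exact ⟨hsb (Finset.mem_union_left _ (Finset.mem_erase.2 ⟨hxt, hxT⟩)), hxT⟩

/-- **Step 2**: the types of the blocks meeting the base triple in two points -/
theorem exists_types {R : Finset GolayPt} {𝓑 : Set (Finset GolayPt)} (h : IsPart R 𝓑)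
    (hR : R ⊆ TB3) (h0 : H0 𝓑) :
    ∃ c : GolayPt → GolayPt, (∀ t ∈ TB3, t ∉ R → c t ∈ TB3) ∧
      (∀ t ∈ TB3, t ∉ R → ∀ t' ∈ TB3, t' ∉ R → c t = c t' → t = t') ∧
      ∀ b ∈ 𝓑, ∀ t ∈ TB3, b ∩ TB3 = TB3.erase t → (b \ TB3) ∪ TB3.erase (c t) ∈ octads := by
  have key : ∀ t : GolayPt, ∃ u : GolayPt, t ∈ TB3 → t ∉ R → u ∈ TB3 ∧ ∃ b ∈ 𝓑, ∃ O ∈ octads,
      b ∩ TB3 = TB3.erase t ∧ O \ TB3 = b \ TB3 ∧ O ∩ TB3 = TB3.erase u := by
    intro t
    by_cases ht : t ∈ TB3 ∧ t ∉ R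
    · obtain ⟨b, hb, hbt⟩ := exists_block_type h hR h0 ht.1 ht.2
      have h2 : (b ∩ TB3).card = 2 := by rw [hbt, Finset.card_erase_of_mem ht.1, card_TB3]
      obtain ⟨O, hO, hOb, u, hu, hOu⟩ := block_type h h0 hb h2
      exact ⟨u, fun _ _ => ⟨hu, b, hb, O, hO, hbt, hOb, hOu⟩⟩
    · exact ⟨t, fun h1 h2 => absurd ⟨h1, h2⟩ ht⟩
  choose c hc using key
  refine ⟨c, fun t ht htR => (hc t ht htR).1, ?_, ?_⟩
  · intro t ht htR t' ht' htR' hcc
    obtain ⟨hu, b, hb, O, hO, hbt, hOb, hOu⟩ := hc t ht htR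
    obtain ⟨hu', b', hb', O', hO', hbt', hOb', hOu'⟩ := hc t' ht' htR'
    exact (type_parity h hb hb' hO hO' ht ht' hu hu' hbt hbt' hOu hOu' hOb hOb').2 hcc
  · intro b hb t ht hbt
    have htR : t ∉ R := by
      intro htR
      have : t ∈ b ∩ TB3 := Finset.mem_inter.2 ⟨(h.1 b hb).2 htR, ht⟩
      rw [hbt] at this
      exact (Finset.mem_erase.1 this).1 rfl
    obtain ⟨hu', b', hb', O', hO', hbt', hOb', hOu'⟩ := hc t ht htR
    have h2 : (b ∩ TB3).card = 2 := by rw [hbt, Finset.card_erase_of_mem ht, card_TB3]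
    obtain ⟨O, hO, hOb, u, hu, hOu⟩ := block_type h h0 hb h2
    have huc : u = c t :=
      (type_parity h hb hb' hO hO' ht ht hu hu' hbt hbt' hOu hOu' hOb hOb').1 rfl
    rw [← huc, ← hOb, ← hOu, Finset.sdiff_union_inter]
    exact hO

/-! ### Step 3: adjusting the types -/

/-- the permutation acting as `σ` off the base triple and fixing the base triple pointwise -/
def hyb (σ : Equiv.Perm GolayPt) (hσ : ∀ x, σ x ∉ TB3 ↔ x ∉ TB3) : Equiv.Perm GolayPt :=
  Equiv.Perm.ofSubtype (p := fun p : GolayPt => p ∉ TB3) (σ.subtypePerm hσ)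

theorem hyb_mem (σ : Equiv.Perm GolayPt) (hσ : ∀ x, σ x ∉ TB3 ↔ x ∉ TB3) {x : GolayPt}
    (hx : x ∈ TB3) : hyb σ hσ x = x :=
  Equiv.Perm.ofSubtype_apply_of_not_mem (p := fun p : GolayPt => p ∉ TB3) _ (by simpa using hx)

theorem hyb_not_mem (σ : Equiv.Perm GolayPt) (hσ : ∀ x, σ x ∉ TB3 ↔ x ∉ TB3) {x : GolayPt}
    (hx : x ∉ TB3) : hyb σ hσ x = σ x := by
  unfold hyb
  rw [Equiv.Perm.ofSubtype_apply_of_mem (p := fun p : GolayPt => p ∉ TB3) _ hx]
  rfl

theorem hyb_inv_mem (σ : Equiv.Perm GolayPt) (hσ : ∀ x, σ x ∉ TB3 ↔ x ∉ TB3) {x : GolayPt}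
    (hx : x ∈ TB3) : (hyb σ hσ)⁻¹ x = x := by
  rw [Equiv.Perm.inv_eq_iff_eq, hyb_mem σ hσ hx]

theorem hyb_inv_not_mem (σ : Equiv.Perm GolayPt) (hσ : ∀ x, σ x ∉ TB3 ↔ x ∉ TB3) {x : GolayPt}
    (hx : x ∉ TB3) : (hyb σ hσ)⁻¹ x = σ⁻¹ x := by
  rw [Equiv.Perm.inv_eq_iff_eq]
  have h1 : σ⁻¹ x ∉ TB3 := by
    rw [← hσ]; simpa using hx
  rw [hyb_not_mem σ hσ h1]
  simp

theorem fix_types {R : Finset GolayPt} {𝓑 : Set (Finset GolayPt)} (h : IsPart R 𝓑)
    (hR : R ⊆ TB3) (h0 : H0 𝓑) (σ : Equiv.Perm GolayPt) (hσ : σ ∈ M24)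
    (hσT : ∀ x, σ x ∈ TB3 ↔ x ∈ TB3) (c : GolayPt → GolayPt)
    (hc : ∀ b ∈ 𝓑, ∀ t ∈ TB3, b ∩ TB3 = TB3.erase t → (b \ TB3) ∪ TB3.erase (c t) ∈ octads)
    (hσc : ∀ t ∈ TB3, t ∉ R → σ (c t) = t) :
    ∃ φ : Equiv.Perm GolayPt, (∀ t ∈ TB3, φ t = t) ∧ H0 (φ • 𝓑) ∧
      ∀ b ∈ φ • 𝓑, (b ∩ TB3).card = 2 → b ∈ octads := by
  have hσ' : ∀ x, σ x ∉ TB3 ↔ x ∉ TB3 := fun x => not_congr (hσT x)
  have hσinv : ∀ x, σ⁻¹ x ∈ TB3 ↔ x ∈ TB3 := by
    intro x
    rw [← hσT (σ⁻¹ x)]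
    simp
  refine ⟨hyb σ hσ', fun t ht => hyb_mem σ hσ' ht, ?_, ?_⟩
  · intro b hTb
    rw [Set.mem_smul_set_iff_inv_smul_mem]
    have e : (hyb σ hσ')⁻¹ • b = σ⁻¹ • b := by
      ext x
      rw [perm_inv_smul_finset_mem, perm_inv_smul_finset_mem]
      by_cases hx : x ∈ TB3
      · rw [hyb_mem σ hσ' hx]
        exact ⟨fun _ => hTb ((hσT x).2 hx), fun _ => hTb hx⟩
      · rw [hyb_not_mem σ hσ' hx]
    have hT : TB3 ⊆ (hyb σ hσ')⁻¹ • b := by
      intro x hx
      rw [perm_inv_smul_finset_mem, hyb_mem σ hσ' hx]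
      exact hTb hx
    rw [h0 _ hT, e]
    exact Helper91.smul_mem_octads_iff (inv_mem hσ)
  · rintro b ⟨b₀, hb₀, rfl⟩ h2
    have e : (hyb σ hσ' • b₀) ∩ TB3 = b₀ ∩ TB3 := by
      ext x
      rw [Finset.mem_inter, Finset.mem_inter, perm_smul_finset_mem]
      constructor
      · rintro ⟨hx, hxT⟩
        rw [hyb_inv_mem σ hσ' hxT] at hx
        exact ⟨hx, hxT⟩
      · rintro ⟨hx, hxT⟩
        rw [hyb_inv_mem σ hσ' hxT]
        exact ⟨hx, hxT⟩
    have e' : (hyb σ hσ' • b₀) ∩ TB3 = b₀ ∩ TB3 := e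
    rw [show ((fun x => hyb σ hσ' • x) b₀ ∩ TB3) = (hyb σ hσ' • b₀) ∩ TB3 from rfl, e] at h2
    obtain ⟨t, ht, hbt⟩ := TB3_two Finset.inter_subset_right h2
    have htR : t ∉ R := by
      intro htR
      have : t ∈ b₀ ∩ TB3 := Finset.mem_inter.2 ⟨(h.1 b₀ hb₀).2 htR, ht⟩
      rw [hbt] at this
      exact (Finset.mem_erase.1 this).1 rfl
    have hO := hc b₀ hb₀ t ht hbt
    have hst := hσc t ht htR
    have e2 : hyb σ hσ' • b₀ = σ • (b₀ \ TB3 ∪ TB3.erase (c t)) := by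
      ext x
      rw [perm_smul_finset_mem, perm_smul_finset_mem, Finset.mem_union, Finset.mem_sdiff,
        Finset.mem_erase]
      by_cases hx : x ∈ TB3
      · rw [hyb_inv_mem σ hσ' hx]
        have hx' := (hσinv x).2 hx
        constructor
        · intro hxb
          right
          refine ⟨?_, hx'⟩
          intro e3
          have : x = t := by rw [← hst, ← e3]; simp
          have hm : x ∈ b₀ ∩ TB3 := Finset.mem_inter.2 ⟨hxb, hx⟩
          rw [hbt, this] at hm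
          exact (Finset.mem_erase.1 hm).1 rfl
        · rintro (⟨-, hn⟩ | ⟨hne, -⟩)
          · exact absurd hx' hn
          · have hxt : x ≠ t := by
              intro e3
              apply hne
              rw [e3, Equiv.Perm.inv_eq_iff_eq, hst]
            have hm : x ∈ b₀ ∩ TB3 := by
              rw [hbt]; exact Finset.mem_erase.2 ⟨hxt, hx⟩
            exact (Finset.mem_inter.1 hm).1
      · rw [hyb_inv_not_mem σ hσ' hx]
        have hx' : σ⁻¹ x ∉ TB3 := fun h' => hx ((hσinv x).1 h')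
        constructor
        · intro hxb
          exact Or.inl ⟨hxb, hx'⟩
        · rintro (⟨hxb, -⟩ | ⟨-, hn⟩)
          · exact hxb
          · exact absurd hn hx'
    show hyb σ hσ' • b₀ ∈ octads
    rw [e2]
    exact Helper91.smul_mem_octads hσ hO

theorem TB3_third : ∀ y ∈ TB3, ∀ z ∈ TB3, ∃ x ∈ TB3, x ≠ y ∧ x ≠ z := by decide

theorem TB3_third' : ∀ z ∈ TB3, ∃ x ∈ TB3, ∃ y ∈ TB3, x ≠ y ∧ x ≠ z ∧ y ≠ z := by decide

theorem TB3_cover : ∀ x ∈ TB3, ∀ y ∈ TB3, ∀ z ∈ TB3, x ≠ y → x ≠ z → y ≠ z →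
    ∀ w ∈ TB3, w = x ∨ w = y ∨ w = z := by decide

theorem exists_sigma {R : Finset GolayPt} (hR : R = ∅ ∨ R = {none} ∨ R = {none, some 0})
    (c : GolayPt → GolayPt) (hc : ∀ t ∈ TB3, t ∉ R → c t ∈ TB3)
    (hinj : ∀ t ∈ TB3, t ∉ R → ∀ t' ∈ TB3, t' ∉ R → c t = c t' → t = t') :
    ∃ σ ∈ M24, (∀ x, σ x ∈ TB3 ↔ x ∈ TB3) ∧ ∀ t ∈ TB3, t ∉ R → σ (c t) = t := by
  have hn : (none : GolayPt) ∈ TB3 := by decide
  have h0 : (some 0 : GolayPt) ∈ TB3 := by decide
  have h1 : (some 1 : GolayPt) ∈ TB3 := by decide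
  have key : ∃ x ∈ TB3, ∃ y ∈ TB3, ∃ z ∈ TB3, x ≠ y ∧ x ≠ z ∧ y ≠ z ∧
      ((none : GolayPt) ∉ R → x = c none) ∧ ((some 0 : GolayPt) ∉ R → y = c (some 0)) ∧
      ((some 1 : GolayPt) ∉ R → z = c (some 1)) := by
    rcases hR with rfl | rfl | rfl
    · refine ⟨c none, hc _ hn (by simp), c (some 0), hc _ h0 (by simp), c (some 1),
        hc _ h1 (by simp), ?_, ?_, ?_, fun _ => rfl, fun _ => rfl, fun _ => rfl⟩
      · intro e
        exact absurd (hinj _ hn (by simp) _ h0 (by simp) e) (by decide)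
      · intro e
        exact absurd (hinj _ hn (by simp) _ h1 (by simp) e) (by decide)
      · intro e
        exact absurd (hinj _ h0 (by simp) _ h1 (by simp) e) (by decide)
    · have m0 : (some 0 : GolayPt) ∉ ({none} : Finset GolayPt) := by decide
      have m1 : (some 1 : GolayPt) ∉ ({none} : Finset GolayPt) := by decide
      obtain ⟨x, hx, hxy, hxz⟩ := TB3_third _ (hc _ h0 m0) _ (hc _ h1 m1)
      refine ⟨x, hx, c (some 0), hc _ h0 m0, c (some 1), hc _ h1 m1, hxy, hxz, ?_,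
        fun hh => absurd (Finset.mem_singleton_self _) hh, fun _ => rfl, fun _ => rfl⟩
      intro e
      exact absurd (hinj _ h0 m0 _ h1 m1 e) (by decide)
    · have m1 : (some 1 : GolayPt) ∉ ({none, some 0} : Finset GolayPt) := by decide
      obtain ⟨x, hx, y, hy, hxy, hxz, hyz⟩ := TB3_third' _ (hc _ h1 m1)
      refine ⟨x, hx, y, hy, c (some 1), hc _ h1 m1, hxy, hxz, hyz,
        fun hh => absurd (by decide) hh, fun hh => absurd (by decide) hh, fun _ => rfl⟩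
  obtain ⟨x, hx, y, hy, z, hz, hxy, hxz, hyz, e1, e2, e3⟩ := key
  obtain ⟨u, hu, u1, u2, u3⟩ := m24_three x y z hx hy hz hxy hxz hyz
  have huT : ∀ w, w ∈ TB3 → u w ∈ TB3 := by
    intro w hw
    rw [mem_TB3] at hw
    rcases hw with rfl | rfl | rfl
    · rw [u1]; exact hx
    · rw [u2]; exact hy
    · rw [u3]; exact hz
  have huinv : ∀ w, w ∈ TB3 → u⁻¹ w ∈ TB3 := by
    intro w hw
    rcases TB3_cover x hx y hy z hz hxy hxz hyz w hw with rfl | rfl | rfl
    · rw [← u1]; simpa using hn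
    · rw [← u2]; simpa using h0
    · rw [← u3]; simpa using h1
  refine ⟨u⁻¹, inv_mem hu, ?_, ?_⟩
  · intro w
    constructor
    · intro hw
      have := huT _ hw
      simpa using this
    · exact huinv w
  · intro t ht htR
    rw [mem_TB3] at ht
    rcases ht with rfl | rfl | rfl
    · rw [← e1 htR, ← u1]; simp
    · rw [← e2 htR, ← u2]; simp
    · rw [← e3 htR, ← u3]; simp

/-! ### Step 4: all blocks are octads -/

theorem final_eq {R : Finset GolayPt} {𝓑 : Set (Finset GolayPt)} (h : IsPart R 𝓑)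
    (hR : R = ∅ ∨ R = {none} ∨ R = {none, some 0}) (h0 : H0 𝓑)
    (h1 : ∀ b ∈ 𝓑, (b ∩ TB3).card = 2 → b ∈ octads) : 𝓑 = octR R := by
  have hRT : R ⊆ TB3 := by
    rcases hR with rfl | rfl | rfl <;> decide
  have hRc : R.card ≤ 2 := by
    rcases hR with rfl | rfl | rfl <;> decide
  have ha : ∀ b ∈ 𝓑, 2 ≤ (b ∩ TB3).card → b ∈ octads := by
    intro b hb h2
    have h3 : (b ∩ TB3).card ≤ 3 := by
      rw [← card_TB3]; exact Finset.card_le_card Finset.inter_subset_right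
    rcases Nat.lt_or_ge (b ∩ TB3).card 3 with h4 | h4
    · exact h1 b hb (by omega)
    · have : b ∩ TB3 = TB3 :=
        Finset.eq_of_subset_of_card_le Finset.inter_subset_right (by rw [card_TB3]; exact h4)
      exact (h0 b (Finset.inter_eq_right.1 this)).1 hb
  have hb' : ∀ O ∈ octads, R ⊆ O → 2 ≤ (O ∩ TB3).card → O ∈ 𝓑 := by
    intro O hO hRO h2
    have h3 : (O ∩ TB3).card ≤ 3 := by
      rw [← card_TB3]; exact Finset.card_le_card Finset.inter_subset_right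
    obtain ⟨s, hs1, hs2, hs5⟩ := Finset.exists_subsuperset_card_eq
      (Finset.inter_subset_left : O ∩ TB3 ⊆ O) (show (O ∩ TB3).card ≤ 5 by omega)
      (show 5 ≤ O.card by rw [octads_card hO]; norm_num)
    obtain ⟨b, hb, hsb⟩ := h.2.1 s hs5 (fun r hr => hs1 (Finset.mem_inter.2 ⟨hRO hr, hRT hr⟩))
    have h4 : 2 ≤ (b ∩ TB3).card := by
      refine le_trans h2 (Finset.card_le_card ?_)
      intro x hx
      exact Finset.mem_inter.2 ⟨hsb (hs1 hx), (Finset.mem_inter.1 hx).2⟩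
    have := octads_unique_of_five (le_of_eq hs5.symm) (ha b hb h4) hO hsb hs2
    rw [← this]; exact hb
  have hc : ∀ b ∈ 𝓑, b ∈ octads := by
    intro b hb
    rcases Nat.lt_or_ge (b ∩ TB3).card 2 with h2 | h2
    · have hRb : R ⊆ b ∩ TB3 := fun r hr => Finset.mem_inter.2 ⟨(h.1 b hb).2 hr, hRT hr⟩
      have hR1 : R.card ≤ 1 := by
        have := Finset.card_le_card hRb
        omega
      have hR' : R = ∅ ∨ R = {none} := by
        rcases hR with rfl | rfl | rfl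
        · exact Or.inl rfl
        · exact Or.inr rfl
        · exact absurd hR1 (by decide)
      refine ⟨supports_of_even b ?_, (h.1 b hb).1⟩
      intro K hK hn h01
      have hRK : R ⊆ K := by
        rcases hR' with rfl | rfl
        · exact Finset.empty_subset _
        · exact Finset.singleton_subset_iff.2 hn
      have hK2 : 2 ≤ (K ∩ TB3).card := by
        rcases h01 with h01 | h01
        · have : ({none, some 0} : Finset GolayPt) ⊆ K ∩ TB3 := by
            intro x hx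
            rw [Finset.mem_insert, Finset.mem_singleton] at hx
            rcases hx with rfl | rfl
            · exact Finset.mem_inter.2 ⟨hn, by decide⟩
            · exact Finset.mem_inter.2 ⟨h01, by decide⟩
          exact le_trans (by decide) (Finset.card_le_card this)
        · have : ({none, some 1} : Finset GolayPt) ⊆ K ∩ TB3 := by
            intro x hx
            rw [Finset.mem_insert, Finset.mem_singleton] at hx
            rcases hx with rfl | rfl
            · exact Finset.mem_inter.2 ⟨hn, by decide⟩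
            · exact Finset.mem_inter.2 ⟨h01, by decide⟩
          exact le_trans (by decide) (Finset.card_le_card this)
      exact h.2.2.1 b hb K (hb' K hK hRK hK2)
    · exact ha b hb h2
  ext b
  constructor
  · intro hb
    exact ⟨hc b hb, (h.1 b hb).2⟩
  · rintro ⟨hO, hRO⟩
    obtain ⟨s, hs1, hs2, hs5⟩ := Finset.exists_subsuperset_card_eq hRO
      (show R.card ≤ 5 by omega) (show 5 ≤ b.card by rw [octads_card hO]; norm_num)
    obtain ⟨b', hb', hsb'⟩ := h.2.1 s hs5 hs1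
    have := octads_unique_of_five (le_of_eq hs5.symm) (hc b' hb') hO hsb' hs2
    rw [← this]; exact hb'

/-- **Uniqueness of partial Steiner systems.** -/
theorem part_unique {R : Finset GolayPt} {𝓑 : Set (Finset GolayPt)}
    (hR : R = ∅ ∨ R = {none} ∨ R = {none, some 0}) (h : IsPart R 𝓑) :
    ∃ φ : Equiv.Perm GolayPt, (∀ t ∈ TB3, φ t = t) ∧ φ • 𝓑 = octR R := by
  have hRT : R ⊆ TB3 := by
    rcases hR with rfl | rfl | rfl <;> decide
  obtain ⟨g, hg, hg0⟩ := exists_plane_iso h hRT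
  have h' : IsPart R (g • 𝓑) := h.smul g (fun r hr => hg r (hRT hr))
  obtain ⟨c, hc1, hc2, hc3⟩ := exists_types h' hRT hg0
  obtain ⟨σ, hσ, hσT, hσc⟩ := exists_sigma hR c hc1 hc2
  obtain ⟨φ, hφ, hφ0, hφ1⟩ := fix_types h' hRT hg0 σ hσ hσT c hc3 hσc
  have h'' : IsPart R (φ • g • 𝓑) := h'.smul φ (fun r hr => hφ r (hRT hr))
  refine ⟨φ * g, ?_, ?_⟩
  · intro t ht
    rw [Equiv.Perm.mul_apply, hg t ht, hφ t ht]
  · rw [mul_smul]
    exact final_eq h'' hR hφ0 hφ1

end Cfsg.Agent.Helper93
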