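import Mathlib
import Cfsg.Prelude.Def_Sporadic_a
import Cfsg.Agent.Helper93.SteinerPart
import Cfsg.Agent.Helper93.SteinerInter

/-!
Transport: every Steiner system `S(5 - r, 8 - r, 24 - r)` (`r ≤ 2`) is isomorphic to the
system of the octads through `r` base points, with these points removed.
-/

set_option autoImplicit false

namespace Cfsg.Agent.Helper93

open Cfsg Cfsg.Agent.Helper26
open scoped Pointwise

/-! ### Generalities on isomorphisms of set systems -/

section Iso

variable {α : Type*} {β : Type*} {γ : Type*} [DecidableEq α] [DecidableEq β] [DecidableEq γ]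

theorem setSystemIso_symm {B : Set (Finset α)} {B' : Set (Finset β)}
    (h : SetSystemIso B B') : SetSystemIso B' B := by
  obtain ⟨e, he⟩ := h
  refine ⟨e.symm, ?_⟩
  rw [← he, Set.image_image]
  have : (fun x : Finset α => Finset.image (⇑e.symm) (Finset.image (⇑e) x)) = id := by
    funext x
    rw [Finset.image_image]
    have : (⇑e.symm ∘ ⇑e) = id := by ext y; simp
    rw [this, Finset.image_id]; rfl
  rw [this, Set.image_id]

omit [DecidableEq α] in
theorem setSystemIso_trans {B : Set (Finset α)} {B' : Set (Finset β)} {B'' : Set (Finset γ)}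
    (h : SetSystemIso B B') (h' : SetSystemIso B' B'') : SetSystemIso B B'' := by
  obtain ⟨e, he⟩ := h
  obtain ⟨e', he'⟩ := h'
  refine ⟨e.trans e', ?_⟩
  rw [← he', ← he, Set.image_image]
  congr 1
  funext x
  rw [Finset.image_image]
  rfl

theorem steiner_image {t k : ℕ} {B : Set (Finset α)} (hB : IsSteinerSystem t k B) (e : α ≃ β) :
    IsSteinerSystem t k ((fun b => b.image e) '' B) := by
  refine ⟨?_, ?_⟩
  · rintro _ ⟨b, hb, rfl⟩
    rw [Finset.card_image_of_injective _ e.injective]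
    exact hB.1 b hb
  · intro s hs
    obtain ⟨b, ⟨hb, hsb⟩, hu⟩ := hB.2 (s.image e.symm)
      (by rw [Finset.card_image_of_injective _ e.symm.injective]; exact hs)
    have hsub : ∀ c : Finset α, s ⊆ c.image e ↔ s.image e.symm ⊆ c := by
      intro c
      constructor
      · intro h x hx
        rw [Finset.mem_image] at hx
        obtain ⟨y, hy, rfl⟩ := hx
        have := h hy
        rw [Finset.mem_image] at this
        obtain ⟨z, hz, hzy⟩ := this
        rw [← hzy]; simpa using hz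
      · intro h x hx
        rw [Finset.mem_image]
        exact ⟨e.symm x, h (Finset.mem_image_of_mem _ hx), by simp⟩
    refine ⟨b.image e, ⟨⟨b, hb, rfl⟩, (hsub b).2 hsb⟩, ?_⟩
    rintro _ ⟨⟨c, hc, rfl⟩, hsc⟩
    rw [hu c ⟨hc, (hsub c).1 hsc⟩]

end Iso

/-! ### Sets off a set `R` of base points -/

/-- a set of points off `R` together with `R` -/
def upR (R : Finset GolayPt) (ℓ : Finset {p : GolayPt // p ∉ R}) : Finset GolayPt :=
  ℓ.map (Function.Embedding.subtype _) ∪ R

theorem mem_upR {R : Finset GolayPt} {ℓ : Finset {p : GolayPt // p ∉ R}} {x : GolayPt} :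
    x ∈ upR R ℓ ↔ (∃ h : x ∉ R, (⟨x, h⟩ : {p : GolayPt // p ∉ R}) ∈ ℓ) ∨ x ∈ R := by
  unfold upR
  rw [Finset.mem_union, Finset.mem_map]
  constructor
  · rintro (⟨⟨y, hy⟩, hyl, rfl⟩ | h)
    · exact Or.inl ⟨hy, hyl⟩
    · exact Or.inr h
  · rintro (⟨h, hl⟩ | h)
    · exact Or.inl ⟨⟨x, h⟩, hl, rfl⟩
    · exact Or.inr h

theorem R_subset_upR (R : Finset GolayPt) (ℓ : Finset {p : GolayPt // p ∉ R}) : R ⊆ upR R ℓ :=
  Finset.subset_union_right

theorem card_upR (R : Finset GolayPt) (ℓ : Finset {p : GolayPt // p ∉ R}) :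
    (upR R ℓ).card = ℓ.card + R.card := by
  unfold upR
  rw [Finset.card_union_of_disjoint, Finset.card_map]
  rw [Finset.disjoint_left]
  intro x hx hxT
  rw [Finset.mem_map] at hx
  obtain ⟨⟨y, hy⟩, -, rfl⟩ := hx
  exact hy hxT

theorem upR_subset_upR {R : Finset GolayPt} {ℓ ℓ' : Finset {p : GolayPt // p ∉ R}} :
    upR R ℓ ⊆ upR R ℓ' ↔ ℓ ⊆ ℓ' := by
  constructor
  · intro h x hx
    have : (x : GolayPt) ∈ upR R ℓ' := h (mem_upR.2 (Or.inl ⟨x.2, hx⟩))
    rcases mem_upR.1 this with ⟨_, hl⟩ | h'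
    · exact hl
    · exact absurd h' x.2
  · intro h x hx
    rcases mem_upR.1 hx with ⟨h', hl⟩ | h'
    · exact mem_upR.2 (Or.inl ⟨h', h hl⟩)
    · exact mem_upR.2 (Or.inr h')

theorem upR_injective (R : Finset GolayPt) : Function.Injective (upR R) := by
  intro ℓ ℓ' h
  exact Finset.Subset.antisymm (upR_subset_upR.1 (le_of_eq h)) (upR_subset_upR.1 (le_of_eq h.symm))

theorem upR_inter (R : Finset GolayPt) (ℓ ℓ' : Finset {p : GolayPt // p ∉ R}) :
    upR R ℓ ∩ upR R ℓ' = upR R (ℓ ∩ ℓ') := by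
  ext x
  simp only [Finset.mem_inter, mem_upR]
  constructor
  · rintro ⟨⟨h, hl⟩ | h, ⟨h', hl'⟩ | h'⟩
    · exact Or.inl ⟨h, hl, hl'⟩
    · exact Or.inr h'
    · exact Or.inr h
    · exact Or.inr h
  · rintro (⟨h, hl, hl'⟩ | h)
    · exact ⟨Or.inl ⟨h, hl⟩, Or.inl ⟨h, hl'⟩⟩
    · exact ⟨Or.inr h, Or.inr h⟩

/-- every set containing `R` is of the form `upR R ℓ` -/
theorem exists_upR {R : Finset GolayPt} {s : Finset GolayPt} (hs : R ⊆ s) :
    ∃ ℓ : Finset {p : GolayPt // p ∉ R}, upR R ℓ = s := by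
  refine ⟨s.subtype (fun p => p ∉ R), ?_⟩
  ext x
  rw [mem_upR]
  constructor
  · rintro (⟨h, hl⟩ | h)
    · exact Finset.mem_subtype.1 hl
    · exact hs h
  · intro hx
    by_cases h : x ∈ R
    · exact Or.inr h
    · exact Or.inl ⟨h, Finset.mem_subtype.2 hx⟩

theorem card_offR (R : Finset GolayPt) : Fintype.card {p : GolayPt // p ∉ R} = 24 - R.card := by
  rw [Fintype.card_subtype]
  have : (Finset.univ.filter fun p : GolayPt => p ∉ R) = Rᶜ := by
    ext p; simp
  rw [this, Finset.card_compl, card_golayPt]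

/-- the concrete system: octads through `R` with `R` removed -/
def concR (R : Finset GolayPt) : Set (Finset {p : GolayPt // p ∉ R}) := {c | upR R c ∈ octads}

theorem isPart_of_steiner (R : Finset GolayPt) (t k : ℕ) (ht : t + R.card = 5)
    (hk : k + R.card = 8) (B : Set (Finset {p : GolayPt // p ∉ R})) (hB : IsSteinerSystem t k B)
    (hpar : ∀ b ∈ B, ∀ b' ∈ B, Even ((b ∩ b').card + R.card)) :
    IsPart R (upR R '' B) := by
  refine ⟨?_, ?_, ?_, ?_⟩
  · rintro _ ⟨b, hb, rfl⟩
    refine ⟨?_, R_subset_upR R b⟩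
    rw [card_upR, hB.1 b hb, hk]
  · intro s hs hRs
    obtain ⟨ℓ, rfl⟩ := exists_upR hRs
    rw [card_upR] at hs
    obtain ⟨b, ⟨hb, hℓb⟩, -⟩ := hB.2 ℓ (by omega)
    exact ⟨upR R b, ⟨b, hb, rfl⟩, upR_subset_upR.2 hℓb⟩
  · rintro _ ⟨b, hb, rfl⟩ _ ⟨b', hb', rfl⟩
    rw [upR_inter, card_upR]
    exact hpar b hb b' hb'
  · rintro _ ⟨b, hb, rfl⟩ _ ⟨b', hb', rfl⟩ h5
    rw [upR_inter, card_upR] at h5
    obtain ⟨s, hs, hst⟩ := Finset.exists_subset_card_eq (show t ≤ (b ∩ b').card by omega)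
    obtain ⟨c, -, hu⟩ := hB.2 s hst
    rw [hu b ⟨hb, hs.trans Finset.inter_subset_left⟩,
      hu b' ⟨hb', hs.trans Finset.inter_subset_right⟩]

/-- **Every such Steiner system is isomorphic to the concrete one.** -/
theorem steiner_iso_conc {R : Finset GolayPt} (hR : R = ∅ ∨ R = {none} ∨ R = {none, some 0})
    (t k : ℕ) (ht : t + R.card = 5) (hk : k + R.card = 8)
    (B : Set (Finset {p : GolayPt // p ∉ R})) (hB : IsSteinerSystem t k B)
    (hpar : ∀ b ∈ B, ∀ b' ∈ B, Even ((b ∩ b').card + R.card)) :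
    SetSystemIso B (concR R) := by
  have hRT : R ⊆ TB3 := by
    rcases hR with rfl | rfl | rfl <;> decide
  obtain ⟨φ, hφ, hφB⟩ := part_unique hR (isPart_of_steiner R t k ht hk B hB hpar)
  have hφR : ∀ x, φ x ∉ R ↔ x ∉ R := by
    intro x
    constructor
    · intro h hx
      rw [hφ x (hRT hx)] at h
      exact h hx
    · intro h hx
      apply h
      have e1 := hφ (φ x) (hRT hx)
      have : φ x = x := φ.injective e1
      rw [← this]; exact hx
  have hφinv : ∀ x ∈ R, φ⁻¹ x = x := by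
    intro x hx
    rw [Equiv.Perm.inv_eq_iff_eq, hφ x (hRT hx)]
  set e : Equiv.Perm {p : GolayPt // p ∉ R} := φ.subtypePerm hφR with he
  have key : ∀ b : Finset {p : GolayPt // p ∉ R}, φ • upR R b = upR R (b.image e) := by
    intro b
    ext x
    rw [perm_smul_finset_mem, mem_upR, mem_upR]
    by_cases hx : x ∈ R
    · rw [hφinv x hx]
      simp [hx]
    · have hx' : φ⁻¹ x ∉ R := by
        rw [← hφR]; simpa using hx
      constructor
      · rintro (⟨h, hl⟩ | h)
        · refine Or.inl ⟨hx, ?_⟩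
          rw [Finset.mem_image]
          refine ⟨_, hl, ?_⟩
          apply Subtype.ext
          rw [he, Equiv.Perm.subtypePerm_apply]
          simp
        · exact absurd h hx'
      · rintro (⟨h, hl⟩ | h)
        · rw [Finset.mem_image] at hl
          obtain ⟨y, hy, hyx⟩ := hl
          refine Or.inl ⟨hx', ?_⟩
          have : (⟨φ⁻¹ x, hx'⟩ : {p : GolayPt // p ∉ R}) = y := by
            apply Subtype.ext
            have := congrArg Subtype.val hyx
            rw [he, Equiv.Perm.subtypePerm_apply] at this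
            simp only at this
            show φ⁻¹ x = ↑y
            rw [Equiv.Perm.inv_eq_iff_eq]
            exact this.symm
          rw [this]; exact hy
        · exact absurd h hx
  refine ⟨e, ?_⟩
  ext c
  constructor
  · rintro ⟨b, hb, rfl⟩
    show upR R (b.image e) ∈ octads
    rw [← key]
    have : φ • upR R b ∈ φ • (upR R '' B) := Set.smul_mem_smul_set ⟨b, hb, rfl⟩
    rw [hφB] at this
    exact this.1
  · intro hc
    have h1 : upR R c ∈ octR R := ⟨hc, R_subset_upR R c⟩
    rw [← hφB] at h1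
    obtain ⟨_, ⟨b, hb, rfl⟩, hbc⟩ := h1
    refine ⟨b, hb, ?_⟩
    apply upR_injective R
    rw [← key]
    exact hbc

/-- **Uniqueness**: a Steiner system `S(5 - r, 8 - r, 24 - r)` on any type is isomorphic to the
concrete one. -/
theorem steiner_iso_conc' {α : Type*} [Fintype α] [DecidableEq α] {R : Finset GolayPt}
    (hR : R = ∅ ∨ R = {none} ∨ R = {none, some 0})
    (t k : ℕ) (ht : t + R.card = 5) (hk : k + R.card = 8) (hα : Fintype.card α = 24 - R.card)
    (B : Set (Finset α)) (hB : IsSteinerSystem t k B)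
    (hpar : ∀ b ∈ B, ∀ b' ∈ B, Even ((b ∩ b').card + R.card)) :
    SetSystemIso B (concR R) := by
  have hcard : Fintype.card α = Fintype.card {p : GolayPt // p ∉ R} := by
    rw [card_offR, hα]
  let e₀ : α ≃ {p : GolayPt // p ∉ R} := Fintype.equivOfCardEq hcard
  have h1 : SetSystemIso B ((fun b => b.image e₀) '' B) := ⟨e₀, rfl⟩
  refine setSystemIso_trans h1 (steiner_iso_conc hR t k ht hk _ (steiner_image hB e₀) ?_)
  rintro _ ⟨b, hb, rfl⟩ _ ⟨b', hb', rfl⟩
  rw [← Finset.image_inter _ _ e₀.injective, Finset.card_image_of_injective _ e₀.injective]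
  exact hpar b hb b' hb'

end Cfsg.Agent.Helper93
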