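import Mathlib
import Cfsg.Prelude.Def_Sporadic_a
import Cfsg.Agent.Helper93.SteinerTransport

/-!
The large Steiner systems are isomorphic to the concrete ones cut out of the octads.
-/

set_option autoImplicit false

namespace Cfsg.Agent.Helper93

open Cfsg Cfsg.Agent.Helper26

/-- the base sets of points removed for `S(5,8,24)`, `S(4,7,23)`, `S(3,6,22)` -/
def R0 : Finset GolayPt := ∅

/-- the base point removed for `S(4,7,23)` -/
def R1 : Finset GolayPt := {none}

/-- the base points removed for `S(3,6,22)` -/
def R2 : Finset GolayPt := {none, some 0}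

theorem card_R0 : R0.card = 0 := by decide

theorem card_R1 : R1.card = 1 := by decide

theorem card_R2 : R2.card = 2 := by decide

theorem steiner_5_8_24_conc {α : Type*} [Fintype α] [DecidableEq α] (hα : Fintype.card α = 24)
    {B : Set (Finset α)} (hB : IsSteinerSystem 5 8 B) : SetSystemIso B (concR R0) := by
  refine steiner_iso_conc' (R := R0) (Or.inl rfl) 5 8 (by rw [card_R0]) (by rw [card_R0])
    (by rw [card_R0, hα]) B hB ?_
  intro b hb b' hb'
  rw [card_R0]
  rcases steiner_5_8_24_inter hα B hB hb' hb with h | h | h | h <;> rw [h] <;> decide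

theorem steiner_4_7_23_conc {α : Type*} [Fintype α] [DecidableEq α] (hα : Fintype.card α = 23)
    {B : Set (Finset α)} (hB : IsSteinerSystem 4 7 B) : SetSystemIso B (concR R1) := by
  refine steiner_iso_conc' (R := R1) (Or.inr (Or.inl rfl)) 4 7 (by rw [card_R1])
    (by rw [card_R1]) (by rw [card_R1, hα]) B hB ?_
  intro b hb b' hb'
  rw [card_R1]
  rcases steiner_4_7_23_inter hα B hB hb' hb with h | h | h <;> rw [h] <;> decide

theorem steiner_3_6_22_conc {α : Type*} [Fintype α] [DecidableEq α] (hα : Fintype.card α = 22)
    {B : Set (Finset α)} (hB : IsSteinerSystem 3 6 B) : SetSystemIso B (concR R2) := by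
  refine steiner_iso_conc' (R := R2) (Or.inr (Or.inr rfl)) 3 6 (by rw [card_R2])
    (by rw [card_R2]) (by rw [card_R2, hα]) B hB ?_
  intro b hb b' hb'
  rw [card_R2]
  rcases steiner_3_6_22_inter hα B hB hb' hb with h | h | h <;> rw [h] <;> decide

end Cfsg.Agent.Helper93
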