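/-
Helper93: table utilities for `Cfsg.M24` on top of the Helper91 engine: the pointwise stabiliser of the five
base points 23, 0, 1, 2, 3 as an explicit list of 48 tables, enumeration of the elements of `M24` with
prescribed images of the base points, fixed-point counts and order tests on tables.
-/
import Cfsg.Agent.Helper91.M24Five
import Cfsg.Agent.Helper91.M24Chain

set_option autoImplicit false

namespace Cfsg.Agent.Helper93

open Cfsg Cfsg.Agent.Helper91
open scoped Pointwise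

theorem perm_apply_inv (f : Equiv.Perm GolayPt) (x : GolayPt) : f (f⁻¹ x) = x :=
  Equiv.apply_symm_apply f x

theorem perm_inv_apply (f : Equiv.Perm GolayPt) (x : GolayPt) : f⁻¹ (f x) = x :=
  Equiv.symm_apply_apply f x

/-! ## Tables and permutations -/

/-- Two valid tables with the same function are equal. -/
theorem tab_ext {S T : List Nat} (hS : validTab S = true) (hT : validTab T = true)
    (h : tabFun S = tabFun T) : S = T := by
  apply List.ext_getElem (by rw [validTab_length hS, validTab_length hT])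
  intro i h1 h2
  have hi : i < 24 := by rw [validTab_length hS] at h1; exact h1
  have e := congrArg idx (congrFun h (pt i))
  rw [idx_tabFun hS, idx_tabFun hT, idx_pt hi] at e
  rw [List.getD_eq_getElem _ _ h1, List.getD_eq_getElem _ _ h2] at e
  exact e

theorem permT_inj {S T : List Nat} (hS : validTab S = true) (hT : validTab T = true)
    (h : permT S hS = permT T hT) : S = T :=
  tab_ext hS hT (by rw [← coe_permT S hS, ← coe_permT T hT, h])

theorem permT_congr {S T : List Nat} (hS : validTab S = true) (hT : validTab T = true)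
    (h : S = T) : permT S hS = permT T hT := by
  subst h; rfl

theorem permT_comp {S T : List Nat} (hS : validTab S = true) (hT : validTab T = true) :
    permT (comp S T) (validTab_comp hS hT) = permT S hS * permT T hT := by
  apply Equiv.ext
  intro p
  rw [permT_apply, tabFun_comp hT, Equiv.Perm.mul_apply, permT_apply, permT_apply]; rfl

theorem permT_idTab : permT idTab validTab_idTab = 1 := by
  apply Equiv.ext
  intro p
  rw [permT_apply, tabFun_idTab]; rfl

theorem permT_pt {T : List Nat} (hT : validTab T = true) {i : Nat} (hi : i < 24) :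
    permT T hT (pt i) = pt (T.getD i 0) := by
  rw [permT_apply, tabFun, idx_pt hi]

theorem idx_permT {T : List Nat} (hT : validTab T = true) (p : GolayPt) :
    idx (permT T hT p) = T.getD (idx p) 0 := by
  rw [permT_apply, idx_tabFun hT]

/-! ## The pointwise stabiliser of the five base points -/

/-- The 48 elements of `M24` fixing the points of indices 23, 0, 1, 2, 3. -/
def h5Tabs : List (List Nat) :=
  [[0, 1, 2, 3, 4, 5, 6, 7, 8, 9, 10, 11, 12, 13, 14, 15, 16, 17, 18, 19, 20, 21, 22, 23],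
   [0, 1, 2, 3, 6, 5, 4, 22, 20, 12, 11, 10, 9, 19, 14, 18, 21, 17, 15, 13, 8, 16, 7, 23],
   [0, 1, 2, 3, 7, 5, 22, 4, 15, 11, 12, 9, 10, 21, 14, 8, 19, 17, 20, 16, 18, 13, 6, 23],
   [0, 1, 2, 3, 8, 5, 20, 15, 4, 21, 19, 13, 16, 11, 14, 7, 12, 17, 22, 10, 6, 9, 18, 23],
   [0, 1, 2, 3, 9, 5, 12, 11, 21, 4, 22, 7, 6, 15, 14, 13, 20, 17, 19, 18, 16, 8, 10, 23],
   [0, 1, 2, 3, 10, 5, 11, 12, 19, 22, 4, 6, 7, 20, 14, 16, 15, 17, 21, 8, 13, 18, 9, 23],
   [0, 1, 2, 3, 11, 5, 10, 9, 13, 7, 6, 4, 22, 8, 14, 21, 18, 17, 16, 20, 19, 15, 12, 23],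
   [0, 1, 2, 3, 12, 5, 9, 10, 16, 6, 7, 22, 4, 18, 14, 19, 8, 17, 13, 15, 21, 20, 11, 23],
   [0, 1, 2, 3, 13, 5, 19, 21, 11, 15, 20, 8, 18, 4, 14, 9, 22, 17, 12, 6, 10, 7, 16, 23],
   [0, 1, 2, 3, 15, 5, 18, 8, 7, 13, 16, 21, 19, 9, 14, 4, 10, 17, 6, 12, 22, 11, 20, 23],
   [0, 1, 2, 3, 16, 5, 21, 19, 12, 20, 15, 18, 8, 22, 14, 10, 4, 17, 11, 7, 9, 6, 13, 23],
   [0, 1, 2, 3, 18, 5, 15, 20, 22, 19, 21, 16, 13, 12, 14, 6, 11, 17, 4, 9, 7, 10, 8, 23],
   [0, 1, 2, 3, 19, 5, 13, 16, 10, 18, 8, 20, 15, 6, 14, 12, 7, 17, 9, 4, 11, 22, 21, 23],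
   [0, 1, 2, 3, 20, 5, 8, 18, 6, 16, 13, 19, 21, 10, 14, 22, 9, 17, 7, 11, 4, 12, 15, 23],
   [0, 1, 2, 3, 21, 5, 16, 13, 9, 8, 18, 15, 20, 7, 14, 11, 6, 17, 10, 22, 12, 4, 19, 23],
   [0, 1, 2, 3, 22, 5, 7, 6, 18, 10, 9, 12, 11, 16, 14, 20, 13, 17, 8, 21, 15, 19, 4, 23],
   [0, 1, 2, 3, 6, 14, 18, 11, 16, 20, 9, 13, 22, 7, 17, 15, 19, 5, 4, 8, 10, 12, 21, 23],
   [0, 1, 2, 3, 18, 14, 6, 21, 10, 22, 13, 9, 20, 8, 17, 4, 12, 5, 15, 7, 16, 19, 11, 23],
   [0, 1, 2, 3, 11, 14, 21, 6, 15, 13, 22, 20, 9, 12, 17, 16, 8, 5, 10, 19, 4, 7, 18, 23],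
   [0, 1, 2, 3, 16, 14, 10, 15, 6, 12, 8, 7, 19, 13, 17, 11, 22, 5, 21, 9, 18, 20, 4, 23],
   [0, 1, 2, 3, 20, 14, 22, 13, 12, 6, 21, 11, 18, 15, 17, 7, 10, 5, 8, 4, 19, 16, 9, 23],
   [0, 1, 2, 3, 9, 14, 13, 22, 8, 21, 6, 18, 11, 10, 17, 19, 15, 5, 12, 16, 7, 4, 20, 23],
   [0, 1, 2, 3, 13, 14, 9, 20, 7, 11, 18, 6, 21, 16, 17, 12, 4, 5, 19, 10, 8, 15, 22, 23],
   [0, 1, 2, 3, 22, 14, 20, 9, 19, 18, 11, 21, 6, 4, 17, 8, 16, 5, 7, 15, 12, 10, 13, 23],
   [0, 1, 2, 3, 7, 14, 8, 12, 13, 15, 10, 16, 4, 6, 17, 20, 21, 5, 22, 18, 9, 11, 19, 23],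
   [0, 1, 2, 3, 15, 14, 4, 16, 11, 7, 19, 12, 8, 20, 17, 6, 9, 5, 18, 22, 21, 13, 10, 23],
   [0, 1, 2, 3, 19, 14, 12, 8, 22, 10, 15, 4, 16, 21, 17, 9, 6, 5, 13, 11, 20, 18, 7, 23],
   [0, 1, 2, 3, 4, 14, 15, 10, 21, 8, 12, 19, 7, 22, 17, 18, 13, 5, 6, 20, 11, 9, 16, 23],
   [0, 1, 2, 3, 8, 14, 7, 19, 9, 4, 16, 10, 15, 18, 17, 22, 11, 5, 20, 6, 13, 21, 12, 23],
   [0, 1, 2, 3, 10, 14, 16, 4, 18, 19, 7, 8, 12, 9, 17, 21, 20, 5, 11, 13, 6, 22, 15, 23],
   [0, 1, 2, 3, 12, 14, 19, 7, 20, 16, 4, 15, 10, 11, 17, 13, 18, 5, 9, 21, 22, 6, 8, 23],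
   [0, 1, 2, 3, 21, 14, 11, 18, 4, 9, 20, 22, 13, 19, 17, 10, 7, 5, 16, 12, 15, 8, 6, 23],
   [0, 1, 2, 3, 18, 17, 4, 13, 19, 10, 20, 7, 21, 11, 5, 15, 8, 14, 6, 16, 9, 22, 12, 23],
   [0, 1, 2, 3, 4, 17, 18, 12, 9, 21, 7, 20, 10, 16, 5, 6, 22, 14, 15, 11, 19, 8, 13, 23],
   [0, 1, 2, 3, 13, 17, 12, 18, 15, 7, 21, 10, 20, 22, 5, 19, 16, 14, 9, 8, 6, 11, 4, 23],
   [0, 1, 2, 3, 19, 17, 9, 15, 18, 22, 16, 11, 8, 7, 5, 13, 21, 14, 12, 20, 4, 10, 6, 23],
   [0, 1, 2, 3, 10, 17, 21, 7, 22, 18, 12, 13, 4, 15, 5, 11, 9, 14, 16, 6, 8, 19, 20, 23],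
   [0, 1, 2, 3, 20, 17, 7, 21, 16, 12, 18, 4, 13, 9, 5, 8, 15, 14, 22, 19, 11, 6, 10, 23],
   [0, 1, 2, 3, 7, 17, 20, 10, 11, 13, 4, 18, 12, 19, 5, 22, 6, 14, 8, 9, 16, 15, 21, 23],
   [0, 1, 2, 3, 21, 17, 10, 20, 8, 4, 13, 12, 18, 6, 5, 16, 19, 14, 11, 15, 22, 9, 7, 23],
   [0, 1, 2, 3, 11, 17, 16, 22, 7, 15, 9, 19, 6, 18, 5, 10, 12, 14, 21, 4, 20, 13, 8, 23],
   [0, 1, 2, 3, 15, 17, 6, 19, 13, 11, 8, 22, 16, 10, 5, 18, 20, 14, 4, 21, 12, 7, 9, 23],
   [0, 1, 2, 3, 8, 17, 22, 16, 21, 9, 15, 6, 19, 12, 5, 20, 18, 14, 7, 13, 10, 4, 11, 23],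
   [0, 1, 2, 3, 6, 17, 15, 9, 12, 16, 22, 8, 11, 21, 5, 4, 7, 14, 18, 10, 13, 20, 19, 23],
   [0, 1, 2, 3, 16, 17, 11, 8, 20, 6, 19, 9, 15, 4, 5, 21, 13, 14, 10, 18, 7, 12, 22, 23],
   [0, 1, 2, 3, 9, 17, 19, 6, 4, 8, 11, 16, 22, 20, 5, 12, 10, 14, 13, 7, 18, 21, 15, 23],
   [0, 1, 2, 3, 22, 17, 8, 11, 10, 19, 6, 15, 9, 13, 5, 7, 4, 14, 20, 12, 21, 18, 16, 23],
   [0, 1, 2, 3, 12, 17, 13, 4, 6, 20, 10, 21, 7, 8, 5, 9, 11, 14, 19, 22, 15, 16, 18, 23]]

/-- The last two levels of the stabiliser chain of `M24`, with certificate steps starting from the five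
fixed base points. -/
def h5Levels : List Level :=
  match m24Levels.drop 5 with
  | [l6, l7] =>
    [⟨[.sub 8388623, .compl 8388623, .cw 8536111 [8388592], .compl 8536111, .and 8388592 8536111],
        l6.omega, l6.beta, l6.tabs⟩, l7]
  | _ => []

theorem h5_chain_ok : checkChain [] 8388623 8388623 [] h5Levels m24Fin = true := by
  decide +kernel

theorem h5_all :
    allProd (fun T => h5Tabs.contains T) (h5Levels.map (fun lv => lv.tabs)) idTab = true := by
  decide +kernel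

theorem h5Tabs_ok : h5Tabs.all (tabOK 8388623 []) = true := by decide +kernel

theorem h5Tabs_valid {T : List Nat} (hT : T ∈ h5Tabs) : validTab T = true :=
  tabOK_valid (List.all_eq_true.1 h5Tabs_ok T hT)

theorem h5Tabs_mem {T : List Nat} (hT : T ∈ h5Tabs) :
    permT T (h5Tabs_valid hT) ∈ stabSub 8388623 [] :=
  tabOK_spec (List.all_eq_true.1 h5Tabs_ok T hT)

/-- Every element of `M24` fixing the five base points is given by one of the 48 tables. -/
theorem h5_mem {g : Equiv.Perm GolayPt} (hg : g ∈ stabSub 8388623 []) :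
    ∃ T, ∃ hT : T ∈ h5Tabs, permT T (h5Tabs_valid hT) = g := by
  have hchain := chain_sound [] h5Levels 8388623 8388623 [] m24Fin h5_chain_ok
    (fun g hg => hg.2) g hg
  obtain ⟨T, hT, hf, e⟩ := forall_of_allProd h5_all hchain
  have hmem : T ∈ h5Tabs := List.contains_iff_mem.1 hf
  exact ⟨T, hmem, Equiv.ext (fun p => by rw [permT_apply, e])⟩

theorem fixOn_base {g : GolayPt → GolayPt} :
    FixOn g 8388623 ↔
      g (pt 23) = pt 23 ∧ g (pt 0) = pt 0 ∧ g (pt 1) = pt 1 ∧ g (pt 2) = pt 2 ∧ g (pt 3) = pt 3 := by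
  constructor
  · intro h
    exact ⟨h _ (by decide), h _ (by decide), h _ (by decide), h _ (by decide), h _ (by decide)⟩
  · rintro ⟨h1, h2, h3, h4, h5⟩ p hp
    have : p = pt 23 ∨ p = pt 0 ∨ p = pt 1 ∨ p = pt 2 ∨ p = pt 3 := by
      revert p; decide
    rcases this with rfl | rfl | rfl | rfl | rfl <;> assumption

/-! ## Enumeration with prescribed images of the base points -/

/-- The images of the base points 23, 0, 1, 2, 3 under a table. -/
def baseImg (X : List Nat) : List Nat := [X.getD 23 0, X.getD 0 0, X.getD 1 0, X.getD 2 0, X.getD 3 0]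

/-- The images of the base points under a map. -/
def baseOf (g : GolayPt → GolayPt) : List Nat :=
  [idx (g (pt 23)), idx (g (pt 0)), idx (g (pt 1)), idx (g (pt 2)), idx (g (pt 3))]

/-- The test `f` holds on the coset `X * H5`, and `X` is in `M24`. -/
def chk5 (f : List Nat → Bool) (X : List Nat) : Bool :=
  tabOK 0 [] X && h5Tabs.all (fun T => f (comp X T))

/-- Every element of `M24` with the same images of the base points as the table `X` is given by a table
satisfying the test `f` checked on the coset of `X`. -/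
theorem enum5 {f : List Nat → Bool} {X : List Nat} (h : chk5 f X = true) {g : Equiv.Perm GolayPt}
    (hg : g ∈ M24) (hX : baseImg X = baseOf g) :
    ∃ T, ∃ hT : validTab T = true, f T = true ∧ permT T hT = g := by
  rw [chk5, Bool.and_eq_true, List.all_eq_true] at h
  obtain ⟨hXok, hall⟩ := h
  have hv := tabOK_valid hXok
  have hXM : permT X hv ∈ M24 := (tabOK_spec hXok).1
  simp only [baseImg, baseOf, List.cons.injEq, and_true] at hX
  obtain ⟨e1, e2, e3, e4, e5⟩ := hX
  have key : ∀ i, i < 24 → X.getD i 0 = idx (g (pt i)) → ((permT X hv)⁻¹ * g) (pt i) = pt i := by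
    intro i hi e
    rw [Equiv.Perm.mul_apply, Equiv.Perm.inv_eq_iff_eq, permT_pt hv hi, e, pt_idx]
  have hmem : (permT X hv)⁻¹ * g ∈ stabSub 8388623 [] := by
    refine ⟨mul_mem (inv_mem hXM) hg, ?_, fun I hI => absurd hI (List.not_mem_nil)⟩
    rw [fixOn_base]
    exact ⟨key 23 (by norm_num) e1, key 0 (by norm_num) e2, key 1 (by norm_num) e3,
      key 2 (by norm_num) e4, key 3 (by norm_num) e5⟩
  obtain ⟨T, hT, e⟩ := h5_mem hmem
  refine ⟨comp X T, validTab_comp hv (h5Tabs_valid hT), hall T hT, ?_⟩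
  rw [permT_comp hv (h5Tabs_valid hT), e]; group

/-- Enumeration over a list of cosets. -/
theorem enumBase {f : List Nat → Bool} {Xs : List (List Nat)} (h : Xs.all (chk5 f) = true)
    {g : Equiv.Perm GolayPt} (hg : g ∈ M24) (hX : Xs.any (fun X => baseImg X == baseOf g) = true) :
    ∃ T, ∃ hT : validTab T = true, f T = true ∧ permT T hT = g := by
  rw [List.any_eq_true] at hX
  obtain ⟨X, hXmem, hXe⟩ := hX
  exact enum5 (List.all_eq_true.1 h X hXmem) hg (beq_iff_eq.1 hXe)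

/-! ## Fixed points and orders -/

/-- The number of indices `i < k` fixed by the table. -/
def fixCnt : Nat → List Nat → Nat
  | 0, _ => 0
  | k + 1, T => fixCnt k T + (if T.getD k 0 = k then 1 else 0)

theorem fixCnt_eq_sum (k : Nat) (T : List Nat) :
    fixCnt k T = ∑ i ∈ Finset.range k, (if T.getD i 0 = i then 1 else 0) := by
  induction k with
  | zero => rfl
  | succ k ih => rw [fixCnt, ih, Finset.sum_range_succ]

/-- The number of fixed points of the permutation of a table. -/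
theorem card_fix {T : List Nat} (hT : validTab T = true) :
    (Finset.univ.filter (fun p => permT T hT p = p)).card = fixCnt 24 T := by
  rw [Finset.card_filter, fixCnt_eq_sum, ← sum_idx (fun i => if T.getD i 0 = i then 1 else 0)]
  apply Finset.sum_congr rfl
  intro p _
  have : permT T hT p = p ↔ T.getD (idx p) 0 = idx p := by
    constructor
    · intro h
      have := congrArg idx h
      rwa [idx_permT] at this
    · intro h
      rw [permT_apply, tabFun, h, pt_idx]
  simp only [this]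

theorem fix_iff {T : List Nat} (hT : validTab T = true) (p : GolayPt) :
    permT T hT p = p ↔ T.getD (idx p) 0 = idx p := by
  constructor
  · intro h
    have := congrArg idx h
    rwa [idx_permT] at this
  · intro h
    rw [permT_apply, tabFun, h, pt_idx]

/-- The table is an involution or the identity. -/
def isInvT (T : List Nat) : Bool := comp T T == idTab

/-- The cube of the table is the identity. -/
def isOrd3T (T : List Nat) : Bool := comp T (comp T T) == idTab

theorem isInvT_iff {T : List Nat} (hT : validTab T = true) :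
    isInvT T = true ↔ permT T hT * permT T hT = 1 := by
  rw [isInvT, beq_iff_eq, ← permT_comp hT hT, ← permT_idTab]
  constructor
  · intro h; exact permT_congr _ _ h
  · intro h; exact permT_inj _ _ h

theorem isOrd3T_iff {T : List Nat} (hT : validTab T = true) :
    isOrd3T T = true ↔ permT T hT * (permT T hT * permT T hT) = 1 := by
  rw [isOrd3T, beq_iff_eq, ← permT_comp hT hT, ← permT_comp hT (validTab_comp hT hT), ← permT_idTab]
  constructor
  · intro h; exact permT_congr _ _ h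
  · intro h; exact permT_inj _ _ h

theorem isId_iff {T : List Nat} (hT : validTab T = true) :
    (T == idTab) = true ↔ permT T hT = 1 := by
  rw [beq_iff_eq, ← permT_idTab]
  constructor
  · intro h; exact permT_congr _ _ h
  · intro h; exact permT_inj _ _ h

/-- The tables `S` and `T` commute. -/
def commT (S T : List Nat) : Bool := comp S T == comp T S

theorem commT_iff {S T : List Nat} (hS : validTab S = true) (hT : validTab T = true) :
    commT S T = true ↔ permT S hS * permT T hT = permT T hT * permT S hS := by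
  rw [commT, beq_iff_eq, ← permT_comp hS hT, ← permT_comp hT hS]
  constructor
  · intro h; exact permT_congr _ _ h
  · intro h; exact permT_inj _ _ h

/-- Some table of the list conjugates `R` to `T`. -/
def conjAny (L : List (List Nat)) (R T : List Nat) : Bool := L.any (fun U => comp U R == comp T U)

theorem conjAny_spec {L : List (List Nat)} {R T : List Nat} (hL : L.all (tabOK 0 []) = true)
    (hR : validTab R = true) (hT : validTab T = true) (h : conjAny L R T = true) :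
    ∃ u ∈ M24, permT T hT = u * permT R hR * u⁻¹ := by
  rw [conjAny, List.any_eq_true] at h
  obtain ⟨U, hU, e⟩ := h
  have hUok := List.all_eq_true.1 hL U hU
  have hv := tabOK_valid hUok
  refine ⟨permT U hv, (tabOK_spec hUok).1, ?_⟩
  have e' : permT U hv * permT R hR = permT T hT * permT U hv := by
    rw [← permT_comp hv hR, ← permT_comp hT hv]
    exact permT_congr _ _ (beq_iff_eq.1 e)
  rw [e']; group

end Cfsg.Agent.Helper93
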