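/-
Helper93: counting the octads, dodecads, trios and sextets fixed by an element of `Cfsg.M24` given by a
table, by kernel-friendly loops over masks; transport of these counts along conjugation.
-/
import Cfsg.Agent.Helper93.M24Tab
import Cfsg.Agent.Helper91.OrbitLib
import Cfsg.Agent.Helper26.GolayTrio

set_option autoImplicit false

namespace Cfsg.Agent.Helper93

open Cfsg Cfsg.Agent.Helper91
open scoped Pointwise

/-! ## Preimages of masks -/

theorem enc_inv_smul {T : List Nat} (hT : validTab T = true) (s : Finset GolayPt) :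
    Helper26.enc ((permT T hT)⁻¹ • s) = pullMask T (Helper26.enc s) := by
  have h := setM_pullMask hT (Helper26.enc s)
  rw [setM_enc] at h
  rw [← h, enc_setM (pullMask_lt hT _)]

theorem smul_eq_iff_inv {α : Type*} [MulAction (Equiv.Perm GolayPt) α] (g : Equiv.Perm GolayPt)
    (a : α) : g • a = a ↔ g⁻¹ • a = a := by
  constructor
  · intro h; rw [inv_smul_eq_iff, h]
  · intro h; rw [inv_smul_eq_iff] at h; exact h.symm

theorem smul_eq_iff_pull {T : List Nat} (hT : validTab T = true) (s : Finset GolayPt) :
    permT T hT • s = s ↔ pullMask T (Helper26.enc s) = Helper26.enc s := by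
  rw [smul_eq_iff_inv, ← enc_inv_smul hT]
  constructor
  · intro h; rw [h]
  · intro h; exact Helper26.enc_injective h

/-! ## Octads and dodecads -/

/-- The number of octads fixed by a table. -/
def fixOctN (T : List Nat) : Nat :=
  Helper26.countL (fun m => Nat.beq (pullMask T m) m) Helper26.octL

/-- The number of dodecads fixed by a table. -/
def fixDodN (T : List Nat) : Nat :=
  Helper26.countL (fun m => Nat.beq (pullMask T m) m) Helper26.dodL

theorem ncard_fix_octads {T : List Nat} (hT : validTab T = true) :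
    {o : Finset GolayPt | o ∈ octads ∧ permT T hT • o = o}.ncard = fixOctN T :=
  ncard_octads_filter _ _ (fun s => by rw [smul_eq_iff_pull hT, Nat.beq_eq])

theorem ncard_fix_dodecads {T : List Nat} (hT : validTab T = true) :
    {o : Finset GolayPt | o ∈ dodecads ∧ permT T hT • o = o}.ncard = fixDodN T :=
  ncard_dodecads_filter _ _ (fun s => by rw [smul_eq_iff_pull hT, Nat.beq_eq])

/-! ## Sums over lists of masks -/

/-- Sum of `f` over a list (written with `List.rec` for fast kernel reduction). -/
def sumL (f : Nat → Nat) (l : List Nat) : Nat :=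
  List.rec (motive := fun _ => Nat) 0 (fun b _ ih => Nat.add ih (f b)) l

theorem sumL_eq (f : Nat → Nat) (l : List Nat) : sumL f l = (l.map f).sum := by
  induction l with
  | nil => rfl
  | cons b l ih =>
    rw [List.map_cons, List.sum_cons, ← ih, Nat.add_comm]; rfl

theorem sum_octF (F : Nat → Nat) :
    ∑ a ∈ Helper26.octF, F (Helper26.enc a) = sumL F Helper26.octL := by
  classical
  have h1 : Helper26.octF = Helper26.octL.toFinset.image Helper26.dec := by
    ext b
    rw [Finset.mem_image, Helper26.mem_octF]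
    constructor
    · intro hb
      exact ⟨Helper26.enc b, List.mem_toFinset.2 ((Helper26.mem_octL_iff b).2 hb),
        Helper26.dec_enc b⟩
    · rintro ⟨m, hm, rfl⟩
      rw [List.mem_toFinset] at hm
      rw [← Helper26.mem_octL_iff, Helper26.enc_dec m (Helper26.octL_lt m hm)]; exact hm
  rw [h1, Finset.sum_image]
  · rw [sumL_eq, ← List.sum_toFinset _ Helper26.octL_nodup]
    apply Finset.sum_congr rfl
    intro m hm
    rw [List.mem_toFinset] at hm
    rw [Helper26.enc_dec m (Helper26.octL_lt m hm)]
  · intro m hm m' hm' h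
    rw [Finset.mem_coe, List.mem_toFinset] at hm hm'
    have := congrArg Helper26.enc h
    rwa [Helper26.enc_dec m (Helper26.octL_lt m hm), Helper26.enc_dec m' (Helper26.octL_lt m' hm')]
      at this

/-! ## Trios -/

/-- Test, on the masks of an ordered pair of disjoint octads, that the table fixes their trio. -/
def trioFixB (T : List Nat) (a b : Nat) : Bool :=
  (Nat.beq (pullMask T a) a || Nat.beq (pullMask T a) b ||
      Nat.beq (pullMask T a) (Nat.xor (Nat.lor a b) 16777215)) &&
    (Nat.beq (pullMask T b) a || Nat.beq (pullMask T b) b ||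
      Nat.beq (pullMask T b) (Nat.xor (Nat.lor a b) 16777215))

/-- The number of ordered pairs of disjoint octads whose trio is fixed by the table. -/
def fixTrioN (T : List Nat) : Nat :=
  sumL (fun a => Helper26.countL (fun b => Nat.beq (Nat.land a b) 0 && trioFixB T a b) Helper26.octL)
    Helper26.octL

theorem smul_compl (g : Equiv.Perm GolayPt) (s : Finset GolayPt) : g • sᶜ = (g • s)ᶜ := by
  rw [Finset.compl_eq_univ_sdiff, Finset.compl_eq_univ_sdiff, Finset.smul_finset_sdiff,
    Finset.smul_finset_univ]

theorem disjoint_smul_iff (g : Equiv.Perm GolayPt) (s t : Finset GolayPt) :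
    Disjoint (g • s) (g • t) ↔ Disjoint s t := by
  rw [Finset.disjoint_iff_inter_eq_empty, Finset.disjoint_iff_inter_eq_empty,
    ← Finset.smul_finset_inter, Finset.smul_finset_eq_empty]

theorem smul_trioOf (g : Equiv.Perm GolayPt) (a b : Finset GolayPt) :
    g • Helper26.trioOf (a, b) = Helper26.trioOf (g • a, g • b) := by
  unfold Helper26.trioOf
  rw [Finset.smul_finset_insert, Finset.smul_finset_insert, Finset.smul_finset_singleton,
    smul_compl, Finset.smul_finset_union]

theorem trio_fix_iff {T : List Nat} (hT : validTab T = true) {a b : Finset GolayPt}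
    (ha : a ∈ octads) (hb : b ∈ octads) (hd : Disjoint a b) :
    permT T hT • Helper26.trioOf (a, b) = Helper26.trioOf (a, b) ↔
      trioFixB T (Helper26.enc a) (Helper26.enc b) = true := by
  have hc : Helper26.enc ((a ∪ b)ᶜ) =
      Nat.xor (Nat.lor (Helper26.enc a) (Helper26.enc b)) 16777215 := by
    rw [Helper26.enc_compl, Helper26.enc_union]; rfl
  have key : ∀ x : Finset GolayPt, (permT T hT)⁻¹ • x ∈ Helper26.trioOf (a, b) ↔
      (Nat.beq (pullMask T (Helper26.enc x)) (Helper26.enc a) ||
        Nat.beq (pullMask T (Helper26.enc x)) (Helper26.enc b) ||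
        Nat.beq (pullMask T (Helper26.enc x))
          (Nat.xor (Nat.lor (Helper26.enc a) (Helper26.enc b)) 16777215)) = true := by
    intro x
    rw [Helper26.mem_trioOf, Bool.or_eq_true, Bool.or_eq_true, Nat.beq_eq,
      Nat.beq_eq, Nat.beq_eq, ← enc_inv_smul hT, ← hc, or_assoc]
    constructor
    · rintro (h | h | h)
      · exact Or.inl (congrArg _ h)
      · exact Or.inr (Or.inl (congrArg _ h))
      · exact Or.inr (Or.inr (congrArg _ h))
    · rintro (h | h | h)
      · exact Or.inl (Helper26.enc_injective h)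
      · exact Or.inr (Or.inl (Helper26.enc_injective h))
      · exact Or.inr (Or.inr (Helper26.enc_injective h))
  rw [smul_eq_iff_inv, trioFixB, Bool.and_eq_true, ← key a, ← key b]
  constructor
  · intro h
    have h1 : (permT T hT)⁻¹ • a ∈ (permT T hT)⁻¹ • Helper26.trioOf (a, b) :=
      Finset.smul_mem_smul_finset (Helper26.mem_trioOf.2 (Or.inl rfl))
    have h2 : (permT T hT)⁻¹ • b ∈ (permT T hT)⁻¹ • Helper26.trioOf (a, b) :=
      Finset.smul_mem_smul_finset (Helper26.mem_trioOf.2 (Or.inr (Or.inl rfl)))
    rw [h] at h1 h2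
    exact ⟨h1, h2⟩
  · rintro ⟨h1, h2⟩
    rw [smul_trioOf]
    have hT' := Helper26.trioOf_mem_trios ha hb hd
    have hne : (permT T hT)⁻¹ • a ≠ (permT T hT)⁻¹ • b := fun e =>
      (Helper26.ne_of_disjoint_octads ha hd) (MulAction.injective _ e)
    exact (Helper26.trio_eq_trioOf hT' h1 h2 hne).symm

theorem card_fix_trioPairs {T : List Nat} (hT : validTab T = true) :
    (Helper26.disjPairs.filter
      (fun p => permT T hT • Helper26.trioOf p = Helper26.trioOf p)).card = fixTrioN T := by
  classical
  have h1 : Helper26.disjPairs.filter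
      (fun p => permT T hT • Helper26.trioOf p = Helper26.trioOf p) =
      (Helper26.octF ×ˢ Helper26.octF).filter (fun p =>
        (Nat.beq (Nat.land (Helper26.enc p.1) (Helper26.enc p.2)) 0 &&
          trioFixB T (Helper26.enc p.1) (Helper26.enc p.2)) = true) := by
    ext ⟨a, b⟩
    rw [Finset.mem_filter, Finset.mem_filter, Helper26.mem_disjPairs, Finset.mem_product,
      Helper26.mem_octF, Helper26.mem_octF, Bool.and_eq_true, Nat.beq_eq]
    constructor
    · rintro ⟨⟨ha, hb, hd⟩, h⟩
      exact ⟨⟨ha, hb⟩, (Helper26.disjoint_iff_enc a b).1 hd, (trio_fix_iff hT ha hb hd).1 h⟩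
    · rintro ⟨⟨ha, hb⟩, hd, h⟩
      have hd' := (Helper26.disjoint_iff_enc a b).2 hd
      exact ⟨⟨ha, hb, hd'⟩, (trio_fix_iff hT ha hb hd').2 h⟩
  rw [h1, Finset.card_filter, Finset.sum_product, fixTrioN, ← sum_octF]
  apply Finset.sum_congr rfl
  intro a _
  rw [← Helper26.card_filter_octF, Finset.card_filter]

/-- Six times the number of trios fixed by a table. -/
theorem ncard_fix_trios {T : List Nat} (hT : validTab T = true) :
    {T' : Finset (Finset GolayPt) | T' ∈ trios ∧ permT T hT • T' = T'}.ncard * 6 = fixTrioN T := by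
  classical
  rw [← card_fix_trioPairs hT]
  have hset : {T' : Finset (Finset GolayPt) | T' ∈ trios ∧ permT T hT • T' = T'} =
      ↑(Helper26.trioF.filter (fun T' => permT T hT • T' = T')) := by
    ext T'
    rw [Finset.coe_filter, Set.mem_ofPred_eq, Set.mem_ofPred_eq, Helper26.mem_trioF]
  rw [hset, Set.ncard_coe_finset]
  symm
  apply Helper26.fiber_count _ _ Helper26.trioOf 6
  · intro p hp
    rw [Finset.mem_filter] at hp ⊢
    refine ⟨?_, hp.2⟩
    unfold Helper26.trioF
    exact Finset.mem_image_of_mem _ hp.1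
  · intro T' hT'
    rw [Finset.mem_filter, Helper26.mem_trioF] at hT'
    have : (Helper26.disjPairs.filter
        (fun p => permT T hT • Helper26.trioOf p = Helper26.trioOf p)).filter
        (fun p => Helper26.trioOf p = T') = T'.offDiag := by
      ext ⟨a, b⟩
      rw [Finset.mem_filter, Finset.mem_filter, Finset.mem_offDiag, Helper26.mem_disjPairs]
      constructor
      · rintro ⟨⟨⟨ha, _, hd⟩, _⟩, rfl⟩
        exact ⟨Helper26.mem_trioOf.2 (Or.inl rfl), Helper26.mem_trioOf.2 (Or.inr (Or.inl rfl)),
          Helper26.ne_of_disjoint_octads ha hd⟩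
      · rintro ⟨ha, hb, hne⟩
        have e := (Helper26.trio_eq_trioOf hT'.1 ha hb hne).symm
        exact ⟨⟨⟨hT'.1.2.1 a ha, hT'.1.2.1 b hb, hT'.1.2.2 a ha b hb hne⟩, by rw [e]; exact hT'.2⟩, e⟩
    rw [this, Finset.offDiag_card, hT'.1.1]

/-! ## Sextets -/

/-- The masks below `2 ^ n` with exactly `k` bits, in increasing order. -/
def subsM : Nat → Nat → List Nat
  | 0, 0 => [0]
  | 0, _ + 1 => []
  | _ + 1, 0 => [0]
  | n + 1, k + 1 => subsM n (k + 1) ++ (subsM n k).map (fun m => m + 2 ^ n)

/-- The masks of the 4-element sets of points. -/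
def tetL : List Nat := subsM 24 4

/-- The list is strictly increasing. -/
def incrL : List Nat → Bool
  | [] => true
  | [_] => true
  | a :: b :: l => decide (a < b) && incrL (b :: l)

theorem incrL_pairwise : ∀ l : List Nat, incrL l = true → l.Pairwise (· < ·)
  | [], _ => List.Pairwise.nil
  | [_], _ => List.pairwise_singleton _ _
  | a :: b :: l, h => by
    rw [incrL, Bool.and_eq_true, decide_eq_true_eq] at h
    have ih := incrL_pairwise (b :: l) h.2
    rw [List.pairwise_cons]
    refine ⟨?_, ih⟩
    intro x hx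
    rcases List.mem_cons.1 hx with rfl | hx
    · exact h.1
    · exact lt_trans h.1 ((List.pairwise_cons.1 ih).1 x hx)

theorem tetL_ok : tetL.length = 10626 ∧ incrL tetL = true ∧
    tetL.all (fun m => decide (m < 2 ^ 24) && Nat.beq (Helper26.pc24 m) 4) = true := by
  decide +kernel

theorem tetL_nodup : tetL.Nodup :=
  (incrL_pairwise _ tetL_ok.2.1).imp (fun h => Nat.ne_of_lt h)

theorem tetL_spec {m : Nat} (hm : m ∈ tetL) : m < 2 ^ 24 ∧ Helper26.pc24 m = 4 := by
  have := List.all_eq_true.1 tetL_ok.2.2 m hm
  rw [Bool.and_eq_true, decide_eq_true_eq, Nat.beq_eq] at this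
  exact this

theorem tetL_lt : ∀ m ∈ tetL, m < 2 ^ 24 := fun _ hm => (tetL_spec hm).1

theorem mem_tetL_iff (t : Finset GolayPt) :
    t ∈ Finset.powersetCard 4 (Finset.univ : Finset GolayPt) ↔ Helper26.enc t ∈ tetL := by
  classical
  have hsub : tetL.toFinset.image Helper26.dec ⊆
      Finset.powersetCard 4 (Finset.univ : Finset GolayPt) := by
    intro s hs
    rw [Finset.mem_image] at hs
    obtain ⟨m, hm, rfl⟩ := hs
    rw [List.mem_toFinset] at hm
    rw [Finset.mem_powersetCard]
    refine ⟨Finset.subset_univ _, ?_⟩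
    rw [Helper26.card_eq_pc24, Helper26.enc_dec m (tetL_spec hm).1, (tetL_spec hm).2]
  have hcard : (Finset.powersetCard 4 (Finset.univ : Finset GolayPt)).card ≤
      (tetL.toFinset.image Helper26.dec).card := by
    rw [Finset.card_image_of_injOn, List.toFinset_card_of_nodup tetL_nodup, tetL_ok.1,
      Finset.card_powersetCard, Finset.card_univ, Helper26.card_golayPt]
    · decide
    · intro m hm m' hm' h
      rw [Finset.mem_coe, List.mem_toFinset] at hm hm'
      have := congrArg Helper26.enc h
      rwa [Helper26.enc_dec m (tetL_lt m hm), Helper26.enc_dec m' (tetL_lt m' hm')] at this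
  have heq := Finset.eq_of_subset_of_card_le hsub hcard
  rw [← heq, Finset.mem_image]
  constructor
  · rintro ⟨m, hm, rfl⟩
    rw [List.mem_toFinset] at hm
    rw [Helper26.enc_dec m (tetL_lt m hm)]; exact hm
  · intro h
    exact ⟨Helper26.enc t, List.mem_toFinset.2 h, Helper26.dec_enc t⟩

/-- Test, on the mask of a 4-set, that the table fixes its sextet. -/
def sextFixB (T : List Nat) (t : Nat) : Bool :=
  Nat.beq (pullMask T t) t ||
    (Nat.beq (Nat.land (pullMask T t) t) 0 && Helper26.isCode (Nat.lor (pullMask T t) t))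

/-- The number of 4-sets whose sextet is fixed by the table. -/
def fixSextN (T : List Nat) : Nat := Helper26.countL (sextFixB T) tetL

theorem smul_mem_sextets {u : Equiv.Perm GolayPt} (hu : u ∈ M24) {S : Finset (Finset GolayPt)}
    (hS : S ∈ sextets) : u • S ∈ sextets := by
  obtain ⟨h6, h4, hun⟩ := hS
  refine ⟨by rw [Finset.card_smul_finset]; exact h6, ?_, ?_⟩
  · intro t ht
    obtain ⟨t', ht', rfl⟩ := Finset.mem_smul_finset.1 ht
    rw [Finset.card_smul_finset]; exact h4 t' ht'
  · intro t ht t2 ht2 hne
    obtain ⟨t', ht', rfl⟩ := Finset.mem_smul_finset.1 ht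
    obtain ⟨t2', ht2', rfl⟩ := Finset.mem_smul_finset.1 ht2
    rw [← Finset.smul_finset_union]
    exact smul_mem_octads hu (hun t' ht' t2' ht2' (fun e => hne (by rw [e])))

theorem smul_mem_sextets_iff {u : Equiv.Perm GolayPt} (hu : u ∈ M24) {S : Finset (Finset GolayPt)} :
    u • S ∈ sextets ↔ S ∈ sextets :=
  ⟨fun h => by simpa using smul_mem_sextets (inv_mem hu) h, smul_mem_sextets hu⟩

theorem smul_mem_trios {u : Equiv.Perm GolayPt} (hu : u ∈ M24) {T : Finset (Finset GolayPt)}
    (hT : T ∈ trios) : u • T ∈ trios := by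
  obtain ⟨h3, hoct, hdis⟩ := hT
  refine ⟨by rw [Finset.card_smul_finset]; exact h3, ?_, ?_⟩
  · intro o ho
    obtain ⟨o', ho', rfl⟩ := Finset.mem_smul_finset.1 ho
    exact smul_mem_octads hu (hoct o' ho')
  · intro o ho o2 ho2 hne
    obtain ⟨o', ho', rfl⟩ := Finset.mem_smul_finset.1 ho
    obtain ⟨o2', ho2', rfl⟩ := Finset.mem_smul_finset.1 ho2
    rw [disjoint_smul_iff]
    exact hdis o' ho' o2' ho2' (fun e => hne (by rw [e]))

theorem smul_mem_trios_iff {u : Equiv.Perm GolayPt} (hu : u ∈ M24) {T : Finset (Finset GolayPt)} :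
    u • T ∈ trios ↔ T ∈ trios :=
  ⟨fun h => by simpa using smul_mem_trios (inv_mem hu) h, smul_mem_trios hu⟩

theorem sext_fix_iff {T : List Nat} (hT : validTab T = true) (hM : permT T hT ∈ M24)
    {t : Finset GolayPt} (ht : t.card = 4) :
    permT T hT • Helper26.sextetOf t = Helper26.sextetOf t ↔
      sextFixB T (Helper26.enc t) = true := by
  have hS := Helper26.sextetOf_mem_sextets t ht
  have hcard : ((permT T hT)⁻¹ • t).card = 4 := by rw [Finset.card_smul_finset]; exact ht
  have step1 : permT T hT • Helper26.sextetOf t = Helper26.sextetOf t ↔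
      (permT T hT)⁻¹ • t ∈ Helper26.sextetOf t := by
    rw [smul_eq_iff_inv]
    constructor
    · intro h
      have h1 : (permT T hT)⁻¹ • t ∈ (permT T hT)⁻¹ • Helper26.sextetOf t :=
        Finset.smul_mem_smul_finset (Helper26.mem_sextetOf_self t)
      rwa [h] at h1
    · intro h
      have hS' := smul_mem_sextets (inv_mem hM) hS
      have h1 : (permT T hT)⁻¹ • t ∈ (permT T hT)⁻¹ • Helper26.sextetOf t :=
        Finset.smul_mem_smul_finset (Helper26.mem_sextetOf_self t)
      rw [Helper26.eq_sextetOf hS' h1, ← Helper26.eq_sextetOf hS h]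
  rw [step1, Helper26.mem_sextetOf, sextFixB, Bool.or_eq_true, Bool.and_eq_true, Nat.beq_eq,
    Nat.beq_eq, ← enc_inv_smul hT]
  constructor
  · rintro (h | ⟨o, ⟨ho, hto⟩, h⟩)
    · exact Or.inl (congrArg _ h)
    · right
      rw [← h]
      constructor
      · have hd : Disjoint (o \ t) t := Finset.sdiff_disjoint
        exact (Helper26.disjoint_iff_enc _ _).1 hd
      · have e : Nat.lor (Helper26.enc (o \ t)) (Helper26.enc t) = Helper26.enc o := by
          have := Helper26.enc_union (o \ t) t
          rw [Finset.sdiff_union_of_subset hto] at this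
          exact this.symm
        rw [e]
        exact ((Helper26.mem_octads_iff o).1 ho).1
  · rintro (h | ⟨hd, hc⟩)
    · exact Or.inl (Helper26.enc_injective h)
    · right
      have hd' : Disjoint ((permT T hT)⁻¹ • t) t := (Helper26.disjoint_iff_enc _ _).2 hd
      refine ⟨(permT T hT)⁻¹ • t ∪ t, ⟨?_, Finset.subset_union_right⟩, ?_⟩
      · rw [Helper26.mem_octads_iff]
        refine ⟨?_, ?_⟩
        · rw [Helper26.enc_union]; exact hc
        · rw [Finset.card_union_of_disjoint hd', hcard, ht]
      · exact Finset.union_sdiff_cancel_right hd'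

theorem card_fix_sextTets {T : List Nat} (hT : validTab T = true) (hM : permT T hT ∈ M24) :
    ((Finset.powersetCard 4 (Finset.univ : Finset GolayPt)).filter
      (fun t => permT T hT • Helper26.sextetOf t = Helper26.sextetOf t)).card = fixSextN T := by
  classical
  have e : (Finset.powersetCard 4 (Finset.univ : Finset GolayPt)).filter
      (fun t => permT T hT • Helper26.sextetOf t = Helper26.sextetOf t) =
      (Finset.powersetCard 4 (Finset.univ : Finset GolayPt)).filter
        (fun b => sextFixB T (Helper26.enc b) = true) := by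
    ext t
    rw [Finset.mem_filter, Finset.mem_filter]
    constructor
    · rintro ⟨h1, h2⟩
      exact ⟨h1, (sext_fix_iff hT hM (Finset.mem_powersetCard.1 h1).2).1 h2⟩
    · rintro ⟨h1, h2⟩
      exact ⟨h1, (sext_fix_iff hT hM (Finset.mem_powersetCard.1 h1).2).2 h2⟩
  rw [e, fixSextN]
  exact Helper26.card_filter_enc tetL tetL_nodup tetL_lt
    (Finset.powersetCard 4 (Finset.univ : Finset GolayPt)) mem_tetL_iff (sextFixB T)

/-- Six times the number of sextets fixed by a table. -/
theorem ncard_fix_sextets {T : List Nat} (hT : validTab T = true) (hM : permT T hT ∈ M24) :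
    {S : Finset (Finset GolayPt) | S ∈ sextets ∧ permT T hT • S = S}.ncard * 6 = fixSextN T := by
  classical
  rw [← card_fix_sextTets hT hM]
  have hset : {S : Finset (Finset GolayPt) | S ∈ sextets ∧ permT T hT • S = S} =
      ↑(Helper26.sextetF.filter (fun S => permT T hT • S = S)) := by
    ext S
    rw [Finset.coe_filter, Set.mem_ofPred_eq, Set.mem_ofPred_eq, Helper26.mem_sextetF]
  rw [hset, Set.ncard_coe_finset]
  have hmaps : ∀ t ∈ (Finset.powersetCard 4 (Finset.univ : Finset GolayPt)).filter
      (fun t => permT T hT • Helper26.sextetOf t = Helper26.sextetOf t),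
      Helper26.sextetOf t ∈ Helper26.sextetF.filter (fun S => permT T hT • S = S) := by
    intro t ht
    rw [Finset.mem_filter] at ht ⊢
    refine ⟨?_, ht.2⟩
    unfold Helper26.sextetF
    exact Finset.mem_image_of_mem _ ht.1
  have hfib : ∀ S ∈ Helper26.sextetF.filter (fun S => permT T hT • S = S),
      (((Finset.powersetCard 4 (Finset.univ : Finset GolayPt)).filter
        (fun t => permT T hT • Helper26.sextetOf t = Helper26.sextetOf t)).filter
        (fun t => Helper26.sextetOf t = S)).card = 6 := by
    intro S hS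
    rw [Finset.mem_filter, Helper26.mem_sextetF] at hS
    have : ((Finset.powersetCard 4 (Finset.univ : Finset GolayPt)).filter
        (fun t => permT T hT • Helper26.sextetOf t = Helper26.sextetOf t)).filter
        (fun t => Helper26.sextetOf t = S) = S := by
      ext t
      rw [Finset.mem_filter, Finset.mem_filter, Finset.mem_powersetCard]
      constructor
      · rintro ⟨_, rfl⟩
        exact Helper26.mem_sextetOf_self t
      · intro ht
        have e := (Helper26.eq_sextetOf hS.1 ht).symm
        exact ⟨⟨⟨Finset.subset_univ _, hS.1.2.1 t ht⟩, by rw [e]; exact hS.2⟩, e⟩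
    rw [this]
    exact hS.1.1
  exact (Helper26.fiber_count _ _ Helper26.sextetOf 6 hmaps hfib).symm

/-! ## Transport along conjugation -/

theorem ncard_conj_octads {u : Equiv.Perm GolayPt} (hu : u ∈ M24) (r : Equiv.Perm GolayPt) :
    {o : Finset GolayPt | o ∈ octads ∧ (u * r * u⁻¹) • o = o}.ncard =
      {o : Finset GolayPt | o ∈ octads ∧ r • o = o}.ncard :=
  ncard_smul_set u _ _ (fun s => by rw [smul_mem_octads_iff hu, conj_smul, smul_left_cancel_iff])

theorem ncard_conj_dodecads {u : Equiv.Perm GolayPt} (hu : u ∈ M24) (r : Equiv.Perm GolayPt) :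
    {o : Finset GolayPt | o ∈ dodecads ∧ (u * r * u⁻¹) • o = o}.ncard =
      {o : Finset GolayPt | o ∈ dodecads ∧ r • o = o}.ncard :=
  ncard_smul_set u _ _ (fun s => by rw [smul_mem_dodecads_iff hu, conj_smul, smul_left_cancel_iff])

theorem ncard_conj_trios {u : Equiv.Perm GolayPt} (hu : u ∈ M24) (r : Equiv.Perm GolayPt) :
    {o : Finset (Finset GolayPt) | o ∈ trios ∧ (u * r * u⁻¹) • o = o}.ncard =
      {o : Finset (Finset GolayPt) | o ∈ trios ∧ r • o = o}.ncard :=
  ncard_smul_set u _ _ (fun s => by rw [smul_mem_trios_iff hu, conj_smul, smul_left_cancel_iff])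

theorem ncard_conj_sextets {u : Equiv.Perm GolayPt} (hu : u ∈ M24) (r : Equiv.Perm GolayPt) :
    {o : Finset (Finset GolayPt) | o ∈ sextets ∧ (u * r * u⁻¹) • o = o}.ncard =
      {o : Finset (Finset GolayPt) | o ∈ sextets ∧ r • o = o}.ncard :=
  ncard_smul_set u _ _ (fun s => by rw [smul_mem_sextets_iff hu, conj_smul, smul_left_cancel_iff])

/-- Conjugate permutations have the same number of fixed points. -/
theorem card_fix_conj (u r : Equiv.Perm GolayPt) :
    (Finset.univ.filter (fun p => (u * r * u⁻¹) p = p)).card =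
      (Finset.univ.filter (fun p => r p = p)).card := by
  symm
  apply Finset.card_bij (fun p _ => u p)
  · intro p hp
    rw [Finset.mem_filter] at hp ⊢
    refine ⟨Finset.mem_univ _, ?_⟩
    rw [conj_apply, hp.2]
  · intro p _ q _ h
    exact u.injective h
  · intro q hq
    rw [Finset.mem_filter] at hq
    refine ⟨u⁻¹ q, ?_, perm_apply_inv u q⟩
    rw [Finset.mem_filter]
    refine ⟨Finset.mem_univ _, ?_⟩
    have := hq.2
    rw [Equiv.Perm.mul_apply, Equiv.Perm.mul_apply] at this
    exact u.injective (this.trans (Equiv.apply_symm_apply u q).symm)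

end Cfsg.Agent.Helper93
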