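/-
Helper93: the classes of elements of order 2 and 3 of `Cfsg.M24`: every involution is conjugate to one of two
representatives (8 fixed points, or none), every element of order 3 to one of two representatives (6 fixed
points, or none).
-/
import Cfsg.Agent.Helper93.M24ClassData
import Cfsg.Agent.Helper93.M24Count

set_option autoImplicit false

namespace Cfsg.Agent.Helper93

open Cfsg Cfsg.Agent.Helper91
open scoped Pointwise

/-! ## Normal forms by conjugation -/

/-- Conjugate `g` so that five chosen points become the base points, and enumerate. -/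
theorem conj_reduce {f : List Nat → Bool} {Xs : List (List Nat)} (h : Xs.all (chk5 f) = true)
    {g : Equiv.Perm GolayPt} (hg : g ∈ M24) (ps : List GolayPt) (hlen : ps.length = 5)
    (hnd : ps.Nodup)
    (hcov : ∀ u : Equiv.Perm GolayPt, ps = [u (pt 23), u (pt 0), u (pt 1), u (pt 2), u (pt 3)] →
      Xs.any (fun X => baseImg X == baseOf (u⁻¹ * g * u)) = true) :
    ∃ u ∈ M24, ∃ T, ∃ hT : validTab T = true, f T = true ∧ permT T hT = u⁻¹ * g * u := by
  obtain ⟨u, hu, hps⟩ := m24_five_trans ps hlen hnd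
  obtain ⟨T, hT, hf, e⟩ := enumBase h (mul_mem (mul_mem (inv_mem hu) hg) hu) (hcov u hps)
  exact ⟨u, hu, T, hT, hf, e⟩

theorem baseOf_conj (u g : Equiv.Perm GolayPt) {p1 p2 p3 p4 p5 q1 q2 q3 q4 q5 : GolayPt}
    (hps : [p1, p2, p3, p4, p5] = [u (pt 23), u (pt 0), u (pt 1), u (pt 2), u (pt 3)])
    (h1 : g p1 = q1) (h2 : g p2 = q2) (h3 : g p3 = q3) (h4 : g p4 = q4) (h5 : g p5 = q5) :
    baseOf (u⁻¹ * g * u) =
      [idx (u⁻¹ q1), idx (u⁻¹ q2), idx (u⁻¹ q3), idx (u⁻¹ q4), idx (u⁻¹ q5)] := by
  simp only [List.cons.injEq, and_true] at hps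
  obtain ⟨e1, e2, e3, e4, e5⟩ := hps
  subst e1 e2 e3 e4 e5
  rw [← h1, ← h2, ← h3, ← h4, ← h5]
  rfl

theorem idx_inv_base (u : Equiv.Perm GolayPt) {p1 p2 p3 p4 p5 : GolayPt}
    (hps : [p1, p2, p3, p4, p5] = [u (pt 23), u (pt 0), u (pt 1), u (pt 2), u (pt 3)]) :
    idx (u⁻¹ p1) = 23 ∧ idx (u⁻¹ p2) = 0 ∧ idx (u⁻¹ p3) = 1 ∧ idx (u⁻¹ p4) = 2 ∧ idx (u⁻¹ p5) = 3 := by
  simp only [List.cons.injEq, and_true] at hps
  obtain ⟨e1, e2, e3, e4, e5⟩ := hps
  subst e1 e2 e3 e4 e5
  simp only [perm_inv_apply]
  decide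

theorem idx_inv_ne {u : Equiv.Perm GolayPt} {q : GolayPt} {i : Nat} (h : q ≠ u (pt i)) :
    idx (u⁻¹ q) ≠ i := by
  intro e
  apply h
  rw [← e, pt_idx, perm_apply_inv]

theorem idx_inv_free (u : Equiv.Perm GolayPt) {p1 p2 p3 p4 p5 : GolayPt}
    (hps : [p1, p2, p3, p4, p5] = [u (pt 23), u (pt 0), u (pt 1), u (pt 2), u (pt 3)]) {q : GolayPt}
    (h1 : q ≠ p1) (h2 : q ≠ p2) (h3 : q ≠ p3) (h4 : q ≠ p4) (h5 : q ≠ p5) :
    ([23, 0, 1, 2, 3] : List Nat).contains (idx (u⁻¹ q)) = false := by
  simp only [List.cons.injEq, and_true] at hps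
  obtain ⟨e1, e2, e3, e4, e5⟩ := hps
  subst e1 e2 e3 e4 e5
  have a1 := idx_inv_ne h1
  have a2 := idx_inv_ne h2
  have a3 := idx_inv_ne h3
  have a4 := idx_inv_ne h4
  have a5 := idx_inv_ne h5
  have key : ∀ d : Nat, d ≠ 23 → d ≠ 0 → d ≠ 1 → d ≠ 2 → d ≠ 3 →
      ([23, 0, 1, 2, 3] : List Nat).contains d = false := by
    intro d h1 h2 h3 h4 h5
    simp [h1, h2, h3, h4, h5]
  exact key _ a1 a2 a3 a4 a5

theorem exists_notMem (s : Finset GolayPt) (h : s.card < 24) : ∃ x, x ∉ s := by
  by_contra hc
  push Not at hc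
  have : s = Finset.univ := Finset.eq_univ_iff_forall.2 hc
  rw [this, Finset.card_univ, Helper26.card_golayPt] at h
  exact lt_irrefl _ h

/-- If `g` has fewer than five fixed points, it moves a point outside any given set of at most four
points. -/
theorem exists_moved (g : Equiv.Perm GolayPt)
    (hF : (Finset.univ.filter (fun p => g p = p)).card < 5) (s : Finset GolayPt) (hs : s.card ≤ 4) :
    ∃ x, x ∉ s ∧ g x ≠ x := by
  by_contra hc
  push Not at hc
  have hsub : sᶜ ⊆ Finset.univ.filter (fun p => g p = p) := by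
    intro x hx
    rw [Finset.mem_compl] at hx
    rw [Finset.mem_filter]
    exact ⟨Finset.mem_univ _, hc x hx⟩
  have h1 := Finset.card_le_card hsub
  rw [Finset.card_compl, Helper26.card_golayPt] at h1
  omega

/-- Five fixed points of a permutation with at least five fixed points. -/
theorem exists_five_fixed (g : Equiv.Perm GolayPt)
    (hF : 5 ≤ (Finset.univ.filter (fun p => g p = p)).card) :
    ∃ ps : List GolayPt, ps.length = 5 ∧ ps.Nodup ∧ ∀ p ∈ ps, g p = p := by
  obtain ⟨t, hsub, hcard⟩ := Finset.exists_subset_card_eq hF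
  refine ⟨t.toList, by rw [Finset.length_toList, hcard], t.nodup_toList, ?_⟩
  intro p hp
  rw [Finset.mem_toList] at hp
  exact (Finset.mem_filter.1 (hsub hp)).2

/-! ## The checks -/

/-- The test for involutions: the table is conjugate to one of the representatives. -/
def fInv (T : List Nat) : Bool :=
  !(isInvT T) || T == idTab || conjAny conj2A r2A T || conjAny conj2B r2B T

/-- The test for elements of order 3. -/
def fOrd3 (T : List Nat) : Bool :=
  !(isOrd3T T) || T == idTab || conjAny conj3A r3A T || conjAny conj3B r3B T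

theorem xsInv_ok : xsInv.all (chk5 fInv) = true := by decide +kernel

theorem xsOrd3_ok : xsOrd3.all (chk5 fOrd3) = true := by decide +kernel

theorem conj_ok : conj2A.all (tabOK 0 []) = true ∧ conj2B.all (tabOK 0 []) = true ∧
    conj3A.all (tabOK 0 []) = true ∧ conj3B.all (tabOK 0 []) = true := by decide +kernel

theorem reps_ok : tabOK 8388623 [] r2A = true ∧ tabOK 0 [] r2B = true ∧ tabOK 8388623 [] r3A = true ∧
    tabOK 0 [] r3B = true ∧ fixCnt 24 r2A = 8 ∧ fixCnt 24 r2B = 0 ∧ fixCnt 24 r3A = 6 ∧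
    fixCnt 24 r3B = 0 ∧ isInvT r2A = true ∧ isInvT r2B = true ∧ isOrd3T r3A = true ∧
    isOrd3T r3B = true := by decide +kernel

theorem xsInv_cover : xsInv.any (fun X => baseImg X == [23, 0, 1, 2, 3]) = true ∧
    xsInv.any (fun X => baseImg X == [23, 1, 0, 3, 2]) = true ∧
    (List.range 24).all (fun d => ([23, 0, 1, 2, 3] : List Nat).contains d ||
      xsInv.any (fun X => baseImg X == [0, 23, 2, 1, d])) = true := by decide +kernel

theorem xsOrd3_cover : xsOrd3.any (fun X => baseImg X == [23, 0, 1, 2, 3]) = true ∧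
    (List.range 24).all (fun d => ([23, 0, 1, 2, 3] : List Nat).contains d ||
      xsOrd3.any (fun X => baseImg X == [23, 1, 2, 0, d])) = true ∧
    (List.range 24).all (fun d => ([23, 0, 1, 2, 3] : List Nat).contains d ||
      xsOrd3.any (fun X => baseImg X == [0, 1, 23, 3, d])) = true := by decide +kernel

theorem cover_free {Xs : List (List Nat)} {γ : Nat → List Nat}
    (h : (List.range 24).all (fun d => ([23, 0, 1, 2, 3] : List Nat).contains d ||
      Xs.any (fun X => baseImg X == γ d)) = true) (p : GolayPt)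
    (hp : ([23, 0, 1, 2, 3] : List Nat).contains (idx p) = false) :
    Xs.any (fun X => baseImg X == γ (idx p)) = true := by
  have := List.all_eq_true.1 h (idx p) (List.mem_range.2 (idx_lt p))
  rw [hp, Bool.false_or] at this
  exact this

/-! ## Representatives -/

/-- The representative of the involutions with 8 fixed points. -/
noncomputable def R2A : Equiv.Perm GolayPt := permT r2A (tabOK_valid reps_ok.1)

/-- The representative of the fixed-point-free involutions. -/
noncomputable def R2B : Equiv.Perm GolayPt := permT r2B (tabOK_valid reps_ok.2.1)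

/-- The representative of the elements of order 3 with 6 fixed points. -/
noncomputable def R3A : Equiv.Perm GolayPt := permT r3A (tabOK_valid reps_ok.2.2.1)

/-- The representative of the fixed-point-free elements of order 3. -/
noncomputable def R3B : Equiv.Perm GolayPt := permT r3B (tabOK_valid reps_ok.2.2.2.1)

theorem R2A_mem : R2A ∈ M24 := (tabOK_spec reps_ok.1).1
theorem R2B_mem : R2B ∈ M24 := (tabOK_spec reps_ok.2.1).1
theorem R3A_mem : R3A ∈ M24 := (tabOK_spec reps_ok.2.2.1).1
theorem R3B_mem : R3B ∈ M24 := (tabOK_spec reps_ok.2.2.2.1).1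

theorem R2A_fix : (Finset.univ.filter (fun p => R2A p = p)).card = 8 := by
  rw [R2A, card_fix, reps_ok.2.2.2.2.1]

theorem R2B_fix : (Finset.univ.filter (fun p => R2B p = p)).card = 0 := by
  rw [R2B, card_fix, reps_ok.2.2.2.2.2.1]

theorem R3A_fix : (Finset.univ.filter (fun p => R3A p = p)).card = 6 := by
  rw [R3A, card_fix, reps_ok.2.2.2.2.2.2.1]

theorem R3B_fix : (Finset.univ.filter (fun p => R3B p = p)).card = 0 := by
  rw [R3B, card_fix, reps_ok.2.2.2.2.2.2.2.1]

theorem R2A_sq : R2A * R2A = 1 := (isInvT_iff _).1 reps_ok.2.2.2.2.2.2.2.2.1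
theorem R2B_sq : R2B * R2B = 1 := (isInvT_iff _).1 reps_ok.2.2.2.2.2.2.2.2.2.1
theorem R3A_cube : R3A * (R3A * R3A) = 1 := (isOrd3T_iff _).1 reps_ok.2.2.2.2.2.2.2.2.2.2.1
theorem R3B_cube : R3B * (R3B * R3B) = 1 := (isOrd3T_iff _).1 reps_ok.2.2.2.2.2.2.2.2.2.2.2

/-! ## Involutions -/

theorem conj_back {u g x : Equiv.Perm GolayPt} (h : x = u⁻¹ * g * u) : g = u * x * u⁻¹ := by
  rw [h]; group

theorem conj_conj {u v g r x : Equiv.Perm GolayPt} (h : x = u⁻¹ * g * u) (hx : x = v * r * v⁻¹) :
    g = (u * v) * r * (u * v)⁻¹ := by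
  rw [conj_back h, hx]; group

/-- Every involution of `M24` is conjugate to `R2A` or to `R2B`. -/
theorem inv_class {g : Equiv.Perm GolayPt} (hg : g ∈ M24) (h2 : g * g = 1) (h1 : g ≠ 1) :
    (∃ u ∈ M24, g = u * R2A * u⁻¹) ∨ (∃ u ∈ M24, g = u * R2B * u⁻¹) := by
  have hgg : ∀ p, g (g p) = p := fun p => by
    have := congrArg (fun f : Equiv.Perm GolayPt => f p) h2
    simpa using this
  -- reduction to a table satisfying the test
  have key : ∃ u ∈ M24, ∃ T, ∃ hT : validTab T = true, fInv T = true ∧ permT T hT = u⁻¹ * g * u := by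
    by_cases hF : 5 ≤ (Finset.univ.filter (fun p => g p = p)).card
    · obtain ⟨ps, hlen, hnd, hfix⟩ := exists_five_fixed g hF
      refine conj_reduce xsInv_ok hg ps hlen hnd ?_
      intro u hps
      have e : baseOf (u⁻¹ * g * u) = [23, 0, 1, 2, 3] := by
        have hfix' : ∀ i, g (u (pt i)) = u (pt i) ∨ u (pt i) ∉ ps := fun i => by
          by_cases hi : u (pt i) ∈ ps
          · exact Or.inl (hfix _ hi)
          · exact Or.inr hi
        have m : ∀ i, i = 23 ∨ i = 0 ∨ i = 1 ∨ i = 2 ∨ i = 3 → u (pt i) ∈ ps := by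
          intro i hi
          rw [hps]
          rcases hi with rfl | rfl | rfl | rfl | rfl <;> simp
        have f : ∀ i, i = 23 ∨ i = 0 ∨ i = 1 ∨ i = 2 ∨ i = 3 →
            (u⁻¹ * g * u) (pt i) = pt i := by
          intro i hi
          rw [Equiv.Perm.mul_apply, Equiv.Perm.mul_apply, hfix _ (m i hi), perm_inv_apply]
        simp only [baseOf]
        rw [f 23 (by simp), f 0 (by simp), f 1 (by simp), f 2 (by simp), f 3 (by simp)]
        decide
      rw [e]; exact xsInv_cover.1
    · rw [not_le] at hF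
      by_cases hne : ∃ f, g f = f
      · obtain ⟨f, hf⟩ := hne
        obtain ⟨a, -, ha⟩ := exists_moved g hF ∅ (by simp)
        have hfa : f ≠ a := fun e => ha (e ▸ hf)
        have hfb : f ≠ g a := fun e => ha (by
          have := hgg a
          rw [← e, hf] at this
          rw [← e, this])
        obtain ⟨c, hc, hcm⟩ := exists_moved g hF {f, a, g a} (by
          refine le_trans (Finset.card_insert_le _ _) ?_
          have := Finset.card_insert_le a ({g a} : Finset GolayPt)
          rw [Finset.card_singleton] at this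
          omega)
        simp only [Finset.mem_insert, Finset.mem_singleton, not_or] at hc
        obtain ⟨hcf, hca, hcb⟩ := hc
        have hef : g c ≠ f := fun e => hcf (by rw [← hgg c, e, hf])
        have hea : g c ≠ a := fun e => hcb (by rw [← hgg c, e])
        have heb : g c ≠ g a := fun e => hca (g.injective e)
        refine conj_reduce xsInv_ok hg [f, a, g a, c, g c] rfl ?_ ?_
        · simp only [List.nodup_cons, List.mem_cons, List.not_mem_nil, or_false, not_or,
            List.nodup_nil, and_true, not_false_eq_true]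
          exact ⟨⟨hfa, hfb, fun e => hcf e.symm, fun e => hef e.symm⟩,
            ⟨fun e => ha e.symm, fun e => hca e.symm, fun e => hea e.symm⟩,
            ⟨fun e => hcb e.symm, fun e => heb e.symm⟩, fun e => hcm e.symm⟩
        · intro u hps
          obtain ⟨i1, i2, i3, i4, i5⟩ := idx_inv_base u hps
          rw [baseOf_conj u g hps hf rfl (hgg a) rfl (hgg c), i1, i2, i3, i4, i5]
          exact xsInv_cover.2.1
      · push Not at hne
        obtain ⟨a⟩ : Nonempty GolayPt := ⟨none⟩
        obtain ⟨c, hc⟩ := exists_notMem {a, g a} (by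
          refine lt_of_le_of_lt (Finset.card_insert_le _ _) ?_
          rw [Finset.card_singleton]; norm_num)
        simp only [Finset.mem_insert, Finset.mem_singleton, not_or] at hc
        obtain ⟨hca, hcb⟩ := hc
        have hea : g c ≠ a := fun e => hcb (by rw [← hgg c, e])
        have heb : g c ≠ g a := fun e => hca (g.injective e)
        obtain ⟨x, hx⟩ := exists_notMem {a, g a, c, g c} (by
          refine lt_of_le_of_lt (Finset.card_le_four) ?_
          norm_num)
        simp only [Finset.mem_insert, Finset.mem_singleton, not_or] at hx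
        obtain ⟨hxa, hxb, hxc, hxe⟩ := hx
        have hqa : g x ≠ a := fun e => hxb (by rw [← hgg x, e])
        have hqb : g x ≠ g a := fun e => hxa (g.injective e)
        have hqc : g x ≠ c := fun e => hxe (by rw [← hgg x, e])
        have hqe : g x ≠ g c := fun e => hxc (g.injective e)
        refine conj_reduce xsInv_ok hg [a, g a, c, g c, x] rfl ?_ ?_
        · simp only [List.nodup_cons, List.mem_cons, List.not_mem_nil, or_false, not_or,
            List.nodup_nil, and_true, not_false_eq_true]
          exact ⟨⟨fun e => hne a e.symm, fun e => hca e.symm, fun e => hea e.symm,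
              fun e => hxa e.symm⟩,
            ⟨fun e => hcb e.symm, fun e => heb e.symm, fun e => hxb e.symm⟩,
            ⟨fun e => hne c e.symm, fun e => hxc e.symm⟩, fun e => hxe e.symm⟩
        · intro u hps
          obtain ⟨i1, i2, i3, i4, i5⟩ := idx_inv_base u hps
          rw [baseOf_conj u g hps rfl (hgg a) rfl (hgg c) rfl, i1, i2, i3, i4]
          exact cover_free (γ := fun d => [0, 23, 2, 1, d]) xsInv_cover.2.2 _
            (idx_inv_free u hps hqa hqb hqc hqe (hne x))
  obtain ⟨u, hu, T, hT, hf, e⟩ := key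
  have hsq : permT T hT * permT T hT = 1 := by
    rw [e]
    have : u⁻¹ * g * u * (u⁻¹ * g * u) = u⁻¹ * (g * g) * u := by group
    rw [this, h2]; group
  have hne1 : permT T hT ≠ 1 := by
    rw [e]
    intro h
    apply h1
    have : g = u * (u⁻¹ * g * u) * u⁻¹ := by group
    rw [this, h]; group
  rw [fInv, Bool.or_eq_true, Bool.or_eq_true, Bool.or_eq_true] at hf
  rcases hf with ((hf | hf) | hf) | hf
  · rw [(isInvT_iff hT).2 hsq] at hf
    exact absurd hf (by decide)
  · exact absurd ((isId_iff hT).1 hf) hne1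
  · obtain ⟨v, hv, hconj⟩ := conjAny_spec conj_ok.1 (tabOK_valid reps_ok.1) hT hf
    exact Or.inl ⟨u * v, mul_mem hu hv, conj_conj e hconj⟩
  · obtain ⟨v, hv, hconj⟩ := conjAny_spec conj_ok.2.1 (tabOK_valid reps_ok.2.1) hT hf
    exact Or.inr ⟨u * v, mul_mem hu hv, conj_conj e hconj⟩

/-! ## Elements of order 3 -/

/-- Every element of order 3 of `M24` is conjugate to `R3A` or to `R3B`. -/
theorem ord3_class {g : Equiv.Perm GolayPt} (hg : g ∈ M24) (h3 : g * (g * g) = 1) (h1 : g ≠ 1) :
    (∃ u ∈ M24, g = u * R3A * u⁻¹) ∨ (∃ u ∈ M24, g = u * R3B * u⁻¹) := by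
  have hggg : ∀ p, g (g (g p)) = p := fun p => by
    have := congrArg (fun f : Equiv.Perm GolayPt => f p) h3
    simpa using this
  -- a moved point gives a 3-cycle
  have cyc : ∀ a, g a ≠ a → g (g a) ≠ g a ∧ g (g a) ≠ a := by
    intro a ha
    refine ⟨fun e => ha (g.injective e), fun e => ha ?_⟩
    have := hggg a
    rw [e] at this
    exact this
  have key : ∃ u ∈ M24, ∃ T, ∃ hT : validTab T = true, fOrd3 T = true ∧ permT T hT = u⁻¹ * g * u := by
    by_cases hF : 5 ≤ (Finset.univ.filter (fun p => g p = p)).card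
    · obtain ⟨ps, hlen, hnd, hfix⟩ := exists_five_fixed g hF
      refine conj_reduce xsOrd3_ok hg ps hlen hnd ?_
      intro u hps
      have e : baseOf (u⁻¹ * g * u) = [23, 0, 1, 2, 3] := by
        have m : ∀ i, i = 23 ∨ i = 0 ∨ i = 1 ∨ i = 2 ∨ i = 3 → u (pt i) ∈ ps := by
          intro i hi
          rw [hps]
          rcases hi with rfl | rfl | rfl | rfl | rfl <;> simp
        have f : ∀ i, i = 23 ∨ i = 0 ∨ i = 1 ∨ i = 2 ∨ i = 3 →
            (u⁻¹ * g * u) (pt i) = pt i := by
          intro i hi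
          rw [Equiv.Perm.mul_apply, Equiv.Perm.mul_apply, hfix _ (m i hi), perm_inv_apply]
        simp only [baseOf]
        rw [f 23 (by simp), f 0 (by simp), f 1 (by simp), f 2 (by simp), f 3 (by simp)]
        decide
      rw [e]; exact xsOrd3_cover.1
    · rw [not_le] at hF
      by_cases hne : ∃ f, g f = f
      · obtain ⟨f, hf⟩ := hne
        obtain ⟨a, -, ha⟩ := exists_moved g hF ∅ (by simp)
        obtain ⟨hb, hc⟩ := cyc a ha
        have hfa : f ≠ a := fun e => ha (e ▸ hf)
        have hfb : f ≠ g a := fun e => ha (g.injective (by rw [← e, hf]))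
        have hfc : f ≠ g (g a) := fun e => hfb (g.injective (by rw [← e, hf]))
        obtain ⟨x, hx, hxm⟩ := exists_moved g hF {f, a, g a, g (g a)} Finset.card_le_four
        simp only [Finset.mem_insert, Finset.mem_singleton, not_or] at hx
        obtain ⟨hxf, hxa, hxb, hxc⟩ := hx
        have hqf : g x ≠ f := fun e => hxf (g.injective (by rw [e, hf]))
        have hqa : g x ≠ a := fun e => hxc (g.injective (by rw [e, hggg a]))
        have hqb : g x ≠ g a := fun e => hxa (g.injective e)
        have hqc : g x ≠ g (g a) := fun e => hxb (g.injective e)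
        refine conj_reduce xsOrd3_ok hg [f, a, g a, g (g a), x] rfl ?_ ?_
        · simp only [List.nodup_cons, List.mem_cons, List.not_mem_nil, or_false, not_or,
            List.nodup_nil, and_true, not_false_eq_true]
          exact ⟨⟨hfa, hfb, hfc, fun e => hxf e.symm⟩,
            ⟨fun e => ha e.symm, fun e => hc e.symm, fun e => hxa e.symm⟩,
            ⟨fun e => hb e.symm, fun e => hxb e.symm⟩, fun e => hxc e.symm⟩
        · intro u hps
          obtain ⟨i1, i2, i3, i4, i5⟩ := idx_inv_base u hps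
          rw [baseOf_conj u g hps hf rfl rfl (hggg a) rfl, i1, i3, i4, i2]
          exact cover_free (γ := fun d => [23, 1, 2, 0, d]) xsOrd3_cover.2.1 _
            (idx_inv_free u hps hqf hqa hqb hqc hxm)
      · push Not at hne
        obtain ⟨a⟩ : Nonempty GolayPt := ⟨none⟩
        obtain ⟨hb, hc⟩ := cyc a (hne a)
        obtain ⟨x, hx⟩ := exists_notMem {a, g a, g (g a)} (by
          refine lt_of_le_of_lt (Finset.card_le_three) ?_
          norm_num)
        simp only [Finset.mem_insert, Finset.mem_singleton, not_or] at hx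
        obtain ⟨hxa, hxb, hxc⟩ := hx
        obtain ⟨hyy, hyx⟩ := cyc x (hne x)
        have hya : g x ≠ a := fun e => hxc (g.injective (by rw [e, hggg a]))
        have hyb : g x ≠ g a := fun e => hxa (g.injective e)
        have hyc : g x ≠ g (g a) := fun e => hxb (g.injective e)
        have hqa : g (g x) ≠ a := fun e => hyc (g.injective (by rw [e, hggg a]))
        have hqb : g (g x) ≠ g a := fun e => hya (g.injective e)
        have hqc : g (g x) ≠ g (g a) := fun e => hyb (g.injective e)
        refine conj_reduce xsOrd3_ok hg [a, g a, g (g a), x, g x] rfl ?_ ?_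
        · simp only [List.nodup_cons, List.mem_cons, List.not_mem_nil, or_false, not_or,
            List.nodup_nil, and_true, not_false_eq_true]
          exact ⟨⟨fun e => hne a e.symm, fun e => hc e.symm, fun e => hxa e.symm,
              fun e => hya e.symm⟩,
            ⟨fun e => hb e.symm, fun e => hxb e.symm, fun e => hyb e.symm⟩,
            ⟨fun e => hxc e.symm, fun e => hyc e.symm⟩, fun e => hne x e.symm⟩
        · intro u hps
          obtain ⟨i1, i2, i3, i4, i5⟩ := idx_inv_base u hps
          rw [baseOf_conj u g hps rfl rfl (hggg a) rfl rfl, i2, i3, i1, i5]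
          exact cover_free (γ := fun d => [0, 1, 23, 3, d]) xsOrd3_cover.2.2 _
            (idx_inv_free u hps hqa hqb hqc hyx hyy)
  obtain ⟨u, hu, T, hT, hf, e⟩ := key
  have hcube : permT T hT * (permT T hT * permT T hT) = 1 := by
    rw [e]
    have : u⁻¹ * g * u * (u⁻¹ * g * u * (u⁻¹ * g * u)) = u⁻¹ * (g * (g * g)) * u := by group
    rw [this, h3]; group
  have hne1 : permT T hT ≠ 1 := by
    rw [e]
    intro h
    apply h1
    have : g = u * (u⁻¹ * g * u) * u⁻¹ := by group
    rw [this, h]; group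
  rw [fOrd3, Bool.or_eq_true, Bool.or_eq_true, Bool.or_eq_true] at hf
  rcases hf with ((hf | hf) | hf) | hf
  · rw [(isOrd3T_iff hT).2 hcube] at hf
    exact absurd hf (by decide)
  · exact absurd ((isId_iff hT).1 hf) hne1
  · obtain ⟨v, hv, hconj⟩ := conjAny_spec conj_ok.2.2.1 (tabOK_valid reps_ok.2.2.1) hT hf
    exact Or.inl ⟨u * v, mul_mem hu hv, conj_conj e hconj⟩
  · obtain ⟨v, hv, hconj⟩ := conjAny_spec conj_ok.2.2.2 (tabOK_valid reps_ok.2.2.2.1) hT hf
    exact Or.inr ⟨u * v, mul_mem hu hv, conj_conj e hconj⟩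

/-! ## The four classes by fixed points -/

theorem sq_of_orderOf_two {g : Equiv.Perm GolayPt} (h : orderOf g = 2) : g * g = 1 ∧ g ≠ 1 := by
  refine ⟨?_, ?_⟩
  · rw [← sq, ← h, pow_orderOf_eq_one]
  · rintro rfl
    rw [orderOf_one] at h
    exact absurd h (by norm_num)

theorem cube_of_orderOf_three {g : Equiv.Perm GolayPt} (h : orderOf g = 3) :
    g * (g * g) = 1 ∧ g ≠ 1 := by
  refine ⟨?_, ?_⟩
  · have := pow_orderOf_eq_one g
    rw [h, pow_succ, pow_two] at this
    rw [← this]; group
  · rintro rfl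
    rw [orderOf_one] at h
    exact absurd h (by norm_num)

theorem fix_card_zero_iff (g : Equiv.Perm GolayPt) :
    (Finset.univ.filter (fun p => g p = p)).card = 0 ↔ ∀ p, g p ≠ p := by
  rw [Finset.card_eq_zero, Finset.filter_eq_empty_iff]
  simp

/-- An involution of `M24` with 8 fixed points is conjugate to `R2A`. -/
theorem class_2A {g : Equiv.Perm GolayPt} (hg : g ∈ M24) (h2 : orderOf g = 2)
    (h8 : (Finset.univ.filter (fun p => g p = p)).card = 8) : ∃ u ∈ M24, g = u * R2A * u⁻¹ := by
  obtain ⟨hsq, hne⟩ := sq_of_orderOf_two h2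
  rcases inv_class hg hsq hne with h | ⟨u, hu, rfl⟩
  · exact h
  · rw [card_fix_conj, R2B_fix] at h8
    exact absurd h8 (by norm_num)

/-- A fixed-point-free involution of `M24` is conjugate to `R2B`. -/
theorem class_2B {g : Equiv.Perm GolayPt} (hg : g ∈ M24) (h2 : orderOf g = 2)
    (h0 : ∀ p, g p ≠ p) : ∃ u ∈ M24, g = u * R2B * u⁻¹ := by
  obtain ⟨hsq, hne⟩ := sq_of_orderOf_two h2
  rcases inv_class hg hsq hne with ⟨u, hu, rfl⟩ | h
  · rw [← fix_card_zero_iff, card_fix_conj, R2A_fix] at h0
    exact absurd h0 (by norm_num)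
  · exact h

/-- An element of order 3 of `M24` with 6 fixed points is conjugate to `R3A`. -/
theorem class_3A {g : Equiv.Perm GolayPt} (hg : g ∈ M24) (h3 : orderOf g = 3)
    (h6 : (Finset.univ.filter (fun p => g p = p)).card = 6) : ∃ u ∈ M24, g = u * R3A * u⁻¹ := by
  obtain ⟨hcube, hne⟩ := cube_of_orderOf_three h3
  rcases ord3_class hg hcube hne with h | ⟨u, hu, rfl⟩
  · exact h
  · rw [card_fix_conj, R3B_fix] at h6
    exact absurd h6 (by norm_num)

/-- A fixed-point-free element of order 3 of `M24` is conjugate to `R3B`. -/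
theorem class_3B {g : Equiv.Perm GolayPt} (hg : g ∈ M24) (h3 : orderOf g = 3)
    (h0 : ∀ p, g p ≠ p) : ∃ u ∈ M24, g = u * R3B * u⁻¹ := by
  obtain ⟨hcube, hne⟩ := cube_of_orderOf_three h3
  rcases ord3_class hg hcube hne with ⟨u, hu, rfl⟩ | h
  · rw [← fix_card_zero_iff, card_fix_conj, R3A_fix] at h0
    exact absurd h0 (by norm_num)
  · exact h

end Cfsg.Agent.Helper93
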