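/-
Helper93: a non-identity element of `Cfsg.M24` fixes at most eight points.
-/
import Cfsg.Agent.Helper93.M24Class

set_option autoImplicit false

namespace Cfsg.Agent.Helper93

open Cfsg Cfsg.Agent.Helper91
open scoped Pointwise

theorem h5_fix_ok : h5Tabs.all (fun T => T == idTab || Nat.ble (fixCnt 24 T) 8) = true := by
  decide +kernel

/-- An element of `M24` with at least nine fixed points is the identity. -/
theorem eq_one_of_nine_fixed {g : Equiv.Perm GolayPt} (hg : g ∈ M24)
    (h : 9 ≤ (Finset.univ.filter (fun p => g p = p)).card) : g = 1 := by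
  obtain ⟨ps, hlen, hnd, hfix⟩ := exists_five_fixed g (by omega)
  obtain ⟨u, hu, hps⟩ := m24_five_trans ps hlen hnd
  have hfix' : ∀ q ∈ [u (pt 23), u (pt 0), u (pt 1), u (pt 2), u (pt 3)], g q = q := by
    rw [← hps]; exact hfix
  have key : ∀ i, g (u (pt i)) = u (pt i) → (u⁻¹ * g * u) (pt i) = pt i := by
    intro i h
    simp only [Equiv.Perm.mul_apply]
    rw [h, perm_inv_apply]
  have hmem : u⁻¹ * g * u ∈ stabSub 8388623 [] :=
    ⟨mul_mem (mul_mem (inv_mem hu) hg) hu,
      fixOn_base.2 ⟨key 23 (hfix' _ (by simp)), key 0 (hfix' _ (by simp)), key 1 (hfix' _ (by simp)),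
        key 2 (hfix' _ (by simp)), key 3 (hfix' _ (by simp))⟩,
      fun I hI => absurd hI (List.not_mem_nil)⟩
  obtain ⟨T, hT, eT⟩ := h5_mem hmem
  have hv := h5Tabs_valid hT
  have hcnt : fixCnt 24 T = (Finset.univ.filter (fun p => g p = p)).card := by
    rw [← card_fix hv, eT]
    have := card_fix_conj u⁻¹ g
    rw [inv_inv] at this
    exact this
  have hfact := List.all_eq_true.1 h5_fix_ok T hT
  rw [Bool.or_eq_true, Nat.ble_eq] at hfact
  rcases hfact with h1 | h1
  · have h1' : u⁻¹ * g * u = 1 := by rw [← eT]; exact (isId_iff hv).1 h1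
    have : g = u * (u⁻¹ * g * u) * u⁻¹ := by group
    rw [this, h1']; group
  · omega

end Cfsg.Agent.Helper93
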