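import Mathlib
import Cfsg.Prelude.Def_Sporadic_a
import Cfsg.Agent.Helper93.SteinerUniq
import Cfsg.Agent.Helper93.AutTransfer

/-!
Every `S(5,8,24)` is isomorphic to the system of octads.
-/

set_option autoImplicit false

namespace Cfsg.Agent.Helper93

open Cfsg Cfsg.Agent.Helper26
open scoped Pointwise

theorem concR0_iso_octads : SetSystemIso (concR R0) octads := by
  have hp : ∀ x : GolayPt, x ∉ R0 := by intro x; simp [R0]
  refine ⟨Equiv.subtypeUnivEquiv hp, ?_⟩
  have key : ∀ c : Finset {p : GolayPt // p ∉ R0},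
      c.image (Equiv.subtypeUnivEquiv hp) = upR R0 c := by
    intro c
    ext x
    rw [Finset.mem_image, mem_upR]
    constructor
    · rintro ⟨y, hy, rfl⟩
      exact Or.inl ⟨y.2, hy⟩
    · rintro (⟨h, hl⟩ | h)
      · exact ⟨⟨x, h⟩, hl, rfl⟩
      · exact absurd h (hp x)
  ext O
  constructor
  · rintro ⟨c, hc, rfl⟩
    show c.image (Equiv.subtypeUnivEquiv hp) ∈ octads
    rw [key]; exact hc
  · intro hO
    obtain ⟨ℓ, hℓ⟩ := exists_upR (R := R0) (s := O) (Finset.empty_subset _)
    refine ⟨ℓ, ?_, ?_⟩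
    · show upR R0 ℓ ∈ octads
      rw [hℓ]; exact hO
    · show ℓ.image (Equiv.subtypeUnivEquiv hp) = O
      rw [key, hℓ]

theorem steiner_5_8_24_octads {α : Type*} [Fintype α] [DecidableEq α]
    (hα : Fintype.card α = 24) {B : Set (Finset α)} (hB : IsSteinerSystem 5 8 B) :
    SetSystemIso B octads :=
  setSystemIso_trans (steiner_5_8_24_conc hα hB) concR0_iso_octads

end Cfsg.Agent.Helper93
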