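import Mathlib
import Cfsg.Prelude.Def_Sporadic_a
import Cfsg.Agent.Helper93.SteinerAut
import Cfsg.Agent.S0369

/-!
The automorphism group of the concrete `S(4,7,23)` (octads through `none`, with `none`
removed) is the stabilizer of `none` in `M24`.
-/

set_option autoImplicit false

namespace Cfsg.Agent.Helper93

open Cfsg Cfsg.Agent.Helper26
open scoped Pointwise

section Restrict

variable {R : Finset GolayPt}

/-- action on `upR` of a permutation preserving the complement of `R` -/
theorem smul_upR (u : Equiv.Perm GolayPt) (h : ∀ x, u x ∉ R ↔ x ∉ R)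
    (c : Finset {p : GolayPt // p ∉ R}) :
    u • upR R c = upR R (c.image (u.subtypePerm h)) := by
  have hinv : ∀ x, u⁻¹ x ∉ R ↔ x ∉ R := by
    intro x
    rw [← h (u⁻¹ x)]
    simp
  ext x
  rw [perm_smul_finset_mem, mem_upR, mem_upR]
  by_cases hx : x ∈ R
  · have : u⁻¹ x ∈ R := by
      by_contra h'
      exact ((hinv x).1 h') hx
    exact ⟨fun _ => Or.inr hx, fun _ => Or.inr this⟩
  · have hx' : u⁻¹ x ∉ R := (hinv x).2 hx
    constructor
    · rintro (⟨h', hl⟩ | h')
      · refine Or.inl ⟨hx, ?_⟩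
        rw [Finset.mem_image]
        refine ⟨_, hl, ?_⟩
        apply Subtype.ext
        rw [Equiv.Perm.subtypePerm_apply]
        simp
      · exact absurd h' hx'
    · rintro (⟨h', hl⟩ | h')
      · rw [Finset.mem_image] at hl
        obtain ⟨y, hy, hyx⟩ := hl
        refine Or.inl ⟨hx', ?_⟩
        have : (⟨u⁻¹ x, hx'⟩ : {p : GolayPt // p ∉ R}) = y := by
          apply Subtype.ext
          have := congrArg Subtype.val hyx
          rw [Equiv.Perm.subtypePerm_apply] at this
          simp only at this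
          show u⁻¹ x = ↑y
          rw [Equiv.Perm.inv_eq_iff_eq]
          exact this.symm
        rw [this]
        exact hy
      · exact absurd h' hx

theorem perm_smul_eq_image {X : Type*} [DecidableEq X] (f : Equiv.Perm X) (c : Finset X) :
    f • c = c.image f := rfl

/-- the restriction of an element of `M24` preserving `R` is an automorphism -/
theorem restrict_mem_aut {u : Equiv.Perm GolayPt} (hu : u ∈ M24) (h : ∀ x, u x ∉ R ↔ x ∉ R) :
    u.subtypePerm h ∈ setSystemAut (concR R) := by
  rw [MulAction.mem_stabilizer_set_iff_smul_set_subset (Set.toFinite _)]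
  rintro _ ⟨c, hc, rfl⟩
  show upR R ((u.subtypePerm h) • c) ∈ octads
  rw [perm_smul_eq_image, ← smul_upR]
  exact Helper91.smul_mem_octads hu hc

theorem ofSubtype_pres (f : Equiv.Perm {p : GolayPt // p ∉ R}) :
    ∀ x, Equiv.Perm.ofSubtype (p := fun p : GolayPt => p ∉ R) f x ∉ R ↔ x ∉ R := by
  intro x
  by_cases hx : x ∈ R
  · rw [Equiv.Perm.ofSubtype_apply_of_not_mem (p := fun p : GolayPt => p ∉ R) _ (by simpa using hx)]
  · rw [Equiv.Perm.ofSubtype_apply_of_mem (p := fun p : GolayPt => p ∉ R) _ hx]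
    exact ⟨fun _ => hx, fun _ => (f ⟨x, hx⟩).2⟩

/-- the extension of an automorphism maps octads through `R` to octads through `R` -/
theorem ofSubtype_smul_octad (f : Equiv.Perm {p : GolayPt // p ∉ R})
    (hf : f ∈ setSystemAut (concR R)) {K : Finset GolayPt} (hK : K ∈ octads) (hRK : R ⊆ K) :
    Equiv.Perm.ofSubtype (p := fun p : GolayPt => p ∉ R) f • K ∈ octads := by
  obtain ⟨c, rfl⟩ := exists_upR hRK
  rw [smul_upR _ (ofSubtype_pres f), Equiv.Perm.subtypePerm_ofSubtype]
  have h1 : f • c ∈ f • concR R := Set.smul_mem_smul_set hK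
  rw [MulAction.mem_stabilizer_iff.1 hf] at h1
  exact h1

end Restrict

/-- the extension of an automorphism of the concrete `S(4,7,23)` lies in `M24` -/
theorem ofSubtype_mem_M24 (f : Equiv.Perm {p : GolayPt // p ∉ R1})
    (hf : f ∈ setSystemAut (concR R1)) :
    Equiv.Perm.ofSubtype (p := fun p : GolayPt => p ∉ R1) f ∈ M24 := by
  rw [Cfsg.Agent.S0369.result]
  show _ ∈ MulAction.stabilizer (Equiv.Perm GolayPt) octads
  rw [MulAction.mem_stabilizer_set_iff_smul_set_subset (Set.toFinite _)]
  rintro _ ⟨O, hO, rfl⟩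
  set F := Equiv.Perm.ofSubtype (p := fun p : GolayPt => p ∉ R1) f with hF
  show F • O ∈ octads
  refine ⟨supports_of_even _ ?_, by rw [Finset.card_smul_finset]; exact octads_card hO⟩
  intro K hK hn _
  have hRK : R1 ⊆ K := Finset.singleton_subset_iff.2 hn
  have hK' := ofSubtype_smul_octad f⁻¹ (inv_mem hf) hK hRK
  rw [map_inv, ← hF] at hK'
  have e1 : F • O ∩ K = F • (O ∩ F⁻¹ • K) := by
    rw [Finset.smul_finset_inter, smul_inv_smul]
  rw [e1, Finset.card_smul_finset]
  exact even_iff_two_dvd.2 (even_card_inter (octads_supports hO) (octads_supports hK'))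

/-- extension by the identity as a homomorphism into the point stabilizer of `M24` -/
def aut23Hom : setSystemAut (concR R1) →* MulAction.stabilizer M24 (none : GolayPt) where
  toFun f := ⟨⟨Equiv.Perm.ofSubtype (p := fun p : GolayPt => p ∉ R1) f.1,
    ofSubtype_mem_M24 f.1 f.2⟩, by
      rw [MulAction.mem_stabilizer_iff]
      exact Equiv.Perm.ofSubtype_apply_of_not_mem (p := fun p : GolayPt => p ∉ R1) _
        (by simp [R1])⟩
  map_one' := by
    apply Subtype.ext
    apply Subtype.ext
    simp
  map_mul' f g := by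
    apply Subtype.ext
    apply Subtype.ext
    simp

theorem aut23Hom_bijective : Function.Bijective aut23Hom := by
  constructor
  · intro f g h
    have h1 := congrArg (fun z : MulAction.stabilizer M24 (none : GolayPt) =>
      ((z : M24) : Equiv.Perm GolayPt)) h
    apply Subtype.ext
    exact Equiv.Perm.ofSubtype_injective h1
  · rintro ⟨⟨u, hu⟩, hfix⟩
    have hn : u none = none := MulAction.mem_stabilizer_iff.1 hfix
    have h : ∀ x, u x ∉ R1 ↔ x ∉ R1 := by
      intro x
      simp only [R1, Finset.mem_singleton]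
      rw [not_iff_not]
      constructor
      · intro hx
        apply u.injective
        rw [hx, hn]
      · intro hx
        rw [hx, hn]
    refine ⟨⟨u.subtypePerm h, restrict_mem_aut hu h⟩, ?_⟩
    apply Subtype.ext
    apply Subtype.ext
    show Equiv.Perm.ofSubtype (p := fun p : GolayPt => p ∉ R1) (u.subtypePerm h) = u
    apply Equiv.Perm.ofSubtype_subtypePerm
    intro x hx hxR
    simp only [R1, Finset.mem_singleton] at hxR
    rw [hxR] at hx
    exact hx hn

/-- `Aut` of the concrete `S(4,7,23)` is the stabilizer of a point in `M24` -/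
noncomputable def aut23Equiv :
    setSystemAut (concR R1) ≃* MulAction.stabilizer M24 (none : GolayPt) :=
  MulEquiv.ofBijective aut23Hom aut23Hom_bijective

/-- `Aut` of the concrete `S(4,7,23)` is `4`-transitive -/
theorem aut23_trans :
    MulAction.IsMultiplyPretransitive (setSystemAut (concR R1)) {p : GolayPt // p ∉ R1} 4 := by
  constructor
  intro x y
  have hne : ∀ (z : Fin 4 ↪ {p : GolayPt // p ∉ R1}) (i : Fin 4), (z i : GolayPt) ≠ none := by
    intro z i h
    exact (z i).2 (by rw [h]; simp [R1])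
  have hnd : ∀ z : Fin 4 ↪ {p : GolayPt // p ∉ R1},
      [none, (z 0 : GolayPt), (z 1 : GolayPt), (z 2 : GolayPt), (z 3 : GolayPt)].Nodup := by
    intro z
    have e : [none, (z 0 : GolayPt), (z 1 : GolayPt), (z 2 : GolayPt), (z 3 : GolayPt)] =
        none :: List.ofFn (fun i : Fin 4 => (z i : GolayPt)) := rfl
    rw [e, List.nodup_cons, List.nodup_ofFn]
    refine ⟨?_, fun i j h => z.injective (Subtype.ext h)⟩
    rw [List.mem_ofFn]
    rintro ⟨i, hi⟩
    exact hne z i hi
  obtain ⟨u, hu, eu⟩ := Helper91.m24_five_trans _ rfl (hnd x)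
  obtain ⟨v, hv, ev⟩ := Helper91.m24_five_trans _ rfl (hnd y)
  simp only [List.cons.injEq, and_true] at eu ev
  obtain ⟨u0, u1, u2, u3, u4⟩ := eu
  obtain ⟨v0, v1, v2, v3, v4⟩ := ev
  set w := v * u⁻¹ with hw
  have hwM : w ∈ M24 := mul_mem hv (inv_mem hu)
  have hui : ∀ {a b : GolayPt}, a = u b → u⁻¹ a = b := by
    intro a b hab
    rw [Equiv.Perm.inv_eq_iff_eq]; exact hab
  have hwn : w none = none := by
    rw [hw, Equiv.Perm.mul_apply, hui u0]
    exact v0.symm
  have h : ∀ p, w p ∉ R1 ↔ p ∉ R1 := by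
    intro p
    simp only [R1, Finset.mem_singleton]
    rw [not_iff_not]
    constructor
    · intro hp
      apply w.injective
      rw [hp, hwn]
    · intro hp
      rw [hp, hwn]
  refine ⟨⟨w.subtypePerm h, restrict_mem_aut hwM h⟩, ?_⟩
  apply Function.Embedding.ext
  intro i
  apply Subtype.ext
  show w (x i) = y i
  rw [hw, Equiv.Perm.mul_apply]
  fin_cases i
  · show v (u⁻¹ (x 0 : GolayPt)) = (y 0 : GolayPt)
    rw [hui u1, v1]
  · show v (u⁻¹ (x 1 : GolayPt)) = (y 1 : GolayPt)
    rw [hui u2, v2]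
  · show v (u⁻¹ (x 2 : GolayPt)) = (y 2 : GolayPt)
    rw [hui u3, v3]
  · show v (u⁻¹ (x 3 : GolayPt)) = (y 3 : GolayPt)
    rw [hui u4, v4]

end Cfsg.Agent.Helper93
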