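import Mathlib
import Cfsg.Prelude.Def_Sporadic_a
import Cfsg.Agent.Helper93.SteinerAut23
import Cfsg.Agent.Helper93.M24Rigid
import Cfsg.Agent.Helper7.M24Trans
import Cfsg.Agent.S0378
import Cfsg.Agent.S0366
import Cfsg.Agent.S0379

/-!
The automorphism group of the concrete `S(3,6,22)` (octads through `none` and `some 0`, with
these two points removed) is the setwise stabilizer of this pair of points in `M24`.
-/

set_option autoImplicit false

namespace Cfsg.Agent.Helper93

open Cfsg Cfsg.Agent.Helper26
open scoped Pointwise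

/-- a set meeting the twelve dual basis vectors evenly is the support of a code word -/
theorem supports_of_even_dual (s : Finset GolayPt)
    (h : ∀ d ∈ dualL, Even (s ∩ dec d).card) :
    s ∈ supports (golayCode : Set (GolayPt → ZMod 2)) := by
  set c := dec (codeOf (enc s % 4096)) with hc
  have hcs : c ∈ supports (golayCode : Set (GolayPt → ZMod 2)) :=
    dec_mem_supports _ (codeOf_lt _) (isCode_codeOf _)
  have henc : enc c = codeOf (enc s % 4096) := enc_dec _ (codeOf_lt _)
  set e := symmDiff s c with he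
  have hev : ∀ d ∈ dualL, Even (e ∩ dec d).card := by
    intro d hd
    have h1 := h d hd
    obtain ⟨hd1, hd2⟩ := dualL_code d hd
    have h2 : Even (c ∩ dec d).card :=
      even_iff_two_dvd.2 (even_card_inter hcs (dec_mem_supports d hd1 hd2))
    exact even_symmDiff_inter h1 h2
  have hmod : enc e % 4096 = 0 := by
    rw [he, enc_symmDiff, henc]
    have h1 : (enc s ^^^ codeOf (enc s % 4096)) % 2 ^ 12 =
        enc s % 2 ^ 12 ^^^ codeOf (enc s % 4096) % 2 ^ 12 := Nat.xor_mod_two_pow
    have h2 : codeOf (enc s % 4096) % 4096 = enc s % 4096 :=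
      codeOf_mod_self _ (Nat.mod_lt _ (by norm_num))
    norm_num at h1
    rw [h1, h2, Nat.xor_self]
  have hhigh : ∀ p ∈ e, 12 ≤ idx p := by
    intro p hp
    by_contra hlt
    push Not at hlt
    have h1 := (testBit_enc_idx e p)
    have h2 := Nat.testBit_mod_two_pow (enc e) 12 (idx p)
    norm_num at h2
    rw [hmod] at h2
    simp only [Nat.zero_testBit] at h2
    have h3 : (enc e).testBit (idx p) = true := by rw [h1]; simpa using hp
    rw [h3] at h2
    simp [hlt] at h2
  have hempty : e = ∅ := by
    rw [Finset.eq_empty_iff_forall_notMem]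
    intro p hp
    have h12 := hhigh p hp
    have h24 := idx_lt p
    set j : Fin 12 := ⟨idx p - 12, by omega⟩ with hj
    have hd : dualL.getD j.val 0 ∈ dualL := by
      rw [List.getD_eq_getElem _ _ (by simp [dualL])]
      exact List.getElem_mem _
    have hone : e ∩ dec (dualL.getD j.val 0) = {p} := by
      ext q
      rw [Finset.mem_inter, mem_dec, Finset.mem_singleton]
      constructor
      · rintro ⟨hq, hqb⟩
        have hq12 := hhigh q hq
        have hq24 := idx_lt q
        have := dualL_high j ⟨idx q - 12, by omega⟩ (by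
          show (dualL.getD j.val 0).testBit (idx q - 12 + 12) = true
          rw [Nat.sub_add_cancel hq12]; exact hqb)
        apply idx_injective
        have h' := congrArg Fin.val this
        simp only [hj] at h'
        omega
      · rintro rfl
        refine ⟨hp, ?_⟩
        have := dualL_diag j
        simp only [hj] at this
        rw [Nat.sub_add_cancel h12] at this
        exact this
    have := hev _ hd
    rw [hone, Finset.card_singleton] at this
    exact absurd this (by decide)
  have hsc : s = c := by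
    have : symmDiff s c = ⊥ := hempty
    exact symmDiff_eq_bot.1 this
  rw [hsc]
  exact hcs

/-! ### Parity -/

theorem inter_symmDiff_mod (s a b : Finset GolayPt) :
    (s ∩ symmDiff a b).card % 2 = ((s ∩ a).card + (s ∩ b).card) % 2 := by
  have h1 : s ∩ symmDiff a b = symmDiff (s ∩ a) (s ∩ b) := by
    ext x
    simp only [Finset.mem_inter, Finset.mem_symmDiff]
    tauto
  have h2 := card_symmDiff_add (s ∩ a) (s ∩ b)
  rw [h1]
  omega

theorem symmDiff_inter_mod (s a b : Finset GolayPt) :
    (symmDiff s a ∩ b).card % 2 = ((s ∩ b).card + (a ∩ b).card) % 2 := by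
  rw [Finset.inter_comm, inter_symmDiff_mod, Finset.inter_comm b s, Finset.inter_comm b a]

theorem card_inter_R2 (X : Finset GolayPt) :
    (X ∩ R2).card = (if (none : GolayPt) ∈ X then 1 else 0) +
      (if (some 0 : GolayPt) ∈ X then 1 else 0) := by
  have h1 : X ∩ R2 = R2.filter (fun p => p ∈ X) := by
    ext p
    simp only [Finset.mem_inter, Finset.mem_filter]
    tauto
  rw [h1]
  unfold R2
  rw [Finset.filter_insert, Finset.filter_singleton]
  by_cases hn : (none : GolayPt) ∈ X <;> by_cases h0 : (some 0 : GolayPt) ∈ X <;>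
    simp [hn, h0]

/-- parity of the intersection with the base pair, on encodings -/
def parD (d : ℕ) : Bool := xor (d.testBit 23) (d.testBit 0)

theorem card_dec_inter_R2 (d : ℕ) :
    (R2 ∩ dec d).card % 2 = if parD d = true then 1 else 0 := by
  rw [Finset.inter_comm, card_inter_R2]
  have e1 : (none : GolayPt) ∈ dec d ↔ d.testBit 23 = true := mem_dec d none
  have e2 : (some 0 : GolayPt) ∈ dec d ↔ d.testBit 0 = true := mem_dec d (some 0)
  simp only [e1, e2]
  unfold parD
  cases d.testBit 23 <;> cases d.testBit 0 <;> simp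

/-! ### The dual of the octads through the base pair -/

/-- sums of two octads through the base pair -/
def dual2Expr : List (ℕ × ℕ) := [(8391797, 8398155), (8391797, 8412681), (8391797, 8421811),
  (8412681, 8471941), (8391797, 8524371), (8391797, 8657159), (8398155, 8922769),
  (8391797, 9440193), (8391797, 10486557), (8391797, 12587685)]

/-- the targets: dual basis vectors, corrected by the first one when they meet the base pair
oddly -/
def tgt2 : List ℕ := [10558, 21116, 36294, 72588, 138790, 267634, 525274, 1050548, 2101096,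
  4202192, 8391797]

/-- an octad through the base pair -/
def good2 (k : ℕ) : Bool :=
  decide (k < 2 ^ 24) && isCode k && Nat.beq (pc24 k) 8 && k.testBit 23 && k.testBit 0

theorem dual2Expr_ok : ∀ e ∈ dual2Expr, good2 e.1 = true ∧ good2 e.2 = true := by
  decide +kernel

theorem dual2Expr_xor : dual2Expr.map (fun e => e.1 ^^^ e.2) ++ [8391797] = tgt2 := by
  decide +kernel

theorem good2_last : good2 8391797 = true := by decide +kernel

theorem tgt2_lt : ∀ t ∈ tgt2, t < 2 ^ 24 := by decide +kernel

theorem dual2_cases : ∀ d ∈ dualL, (d ∈ tgt2 ∧ parD d = false) ∨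
    ((d ^^^ 5279) ∈ tgt2 ∧ parD d = true) ∨ d = 5279 := by decide +kernel

theorem parD_first : parD 5279 = true := by decide +kernel

theorem good2_lt {k : ℕ} (hk : good2 k = true) : k < 2 ^ 24 := by
  simp only [good2, Bool.and_eq_true, decide_eq_true_eq] at hk
  exact hk.1.1.1.1

theorem even_good2 {s : Finset GolayPt}
    (h : ∀ K ∈ octads, (none : GolayPt) ∈ K → (some 0 : GolayPt) ∈ K → Even (s ∩ K).card)
    {k : ℕ} (hk : good2 k = true) : Even (s ∩ dec k).card := by
  simp only [good2, Bool.and_eq_true, decide_eq_true_eq, Nat.beq_eq] at hk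
  obtain ⟨⟨⟨⟨h1, h2⟩, h3⟩, h4⟩, h5⟩ := hk
  apply h _ (dec_mem_octads k h1 h2 h3)
  · rw [mem_dec]; exact h4
  · rw [mem_dec]; exact h5

theorem even_tgt2 {s : Finset GolayPt}
    (h : ∀ K ∈ octads, (none : GolayPt) ∈ K → (some 0 : GolayPt) ∈ K → Even (s ∩ K).card) :
    ∀ t ∈ tgt2, Even (s ∩ dec t).card := by
  intro t ht
  rw [← dual2Expr_xor, List.mem_append, List.mem_map] at ht
  rcases ht with ⟨e, he, rfl⟩ | ht
  · obtain ⟨h1, h2⟩ := dual2Expr_ok e he
    rw [dec_xor _ _ (good2_lt h1) (good2_lt h2)]
    exact even_inter_symmDiff (even_good2 h h1) (even_good2 h h2)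
  · rw [List.mem_singleton] at ht
    subst ht
    exact even_good2 h good2_last

/-- a set meeting every octad through the base pair evenly is the support of a code word, or
becomes one after adding the base pair -/
theorem supports_or_of_even (s : Finset GolayPt)
    (h : ∀ K ∈ octads, (none : GolayPt) ∈ K → (some 0 : GolayPt) ∈ K → Even (s ∩ K).card) :
    s ∈ supports (golayCode : Set (GolayPt → ZMod 2)) ∨
      symmDiff s R2 ∈ supports (golayCode : Set (GolayPt → ZMod 2)) := by
  have ht := even_tgt2 h
  have hdx : ∀ d ∈ dualL, (d ^^^ 5279) ∈ tgt2 →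
      (s ∩ dec d).card % 2 = ((s ∩ dec (d ^^^ 5279)).card + (s ∩ dec 5279).card) % 2 := by
    intro d hd hx
    have e1 : d = (d ^^^ 5279) ^^^ 5279 := by
      rw [Nat.xor_assoc, Nat.xor_self, Nat.xor_zero]
    have e2 : dec d = symmDiff (dec (d ^^^ 5279)) (dec 5279) := by
      rw [← dec_xor _ _ (tgt2_lt _ hx) (by norm_num), ← e1]
    rw [e2, inter_symmDiff_mod]
  by_cases h0 : Even (s ∩ dec 5279).card
  · left
    apply supports_of_even_dual
    intro d hd
    rcases dual2_cases d hd with ⟨hm, -⟩ | ⟨hm, -⟩ | rfl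
    · exact ht d hm
    · have := hdx d hd hm
      have h1 := ht _ hm
      rw [Nat.even_iff] at h0 h1 ⊢
      omega
    · exact h0
  · right
    apply supports_of_even_dual
    intro d hd
    have h1 := symmDiff_inter_mod s R2 (dec d)
    have h2 := card_dec_inter_R2 d
    rw [Nat.even_iff] at h0 ⊢
    rcases dual2_cases d hd with ⟨hm, hp⟩ | ⟨hm, hp⟩ | rfl
    · have h3 := ht d hm
      rw [Nat.even_iff] at h3
      rw [hp] at h2
      simp only [Bool.false_eq_true, if_false] at h2
      omega
    · have h3 := hdx d hd hm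
      have h4 := ht _ hm
      rw [Nat.even_iff] at h4
      rw [hp] at h2
      simp only [if_true] at h2
      omega
    · rw [parD_first] at h2
      simp only [if_true] at h2
      omega

/-! ### The transposition of the base pair -/

/-- the transposition of the two base points -/
def tau2 : Equiv.Perm GolayPt := Equiv.swap none (some 0)

theorem tau2_smul_mem (X : Finset GolayPt) (x : GolayPt) : x ∈ tau2 • X ↔ tau2 x ∈ X := by
  rw [perm_smul_finset_mem]
  have : tau2⁻¹ = tau2 := Equiv.swap_inv _ _
  rw [this]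

theorem tau2_none : tau2 none = some 0 := Equiv.swap_apply_left _ _

theorem tau2_zero : tau2 (some 0) = none := Equiv.swap_apply_right _ _

theorem tau2_other {x : GolayPt} (hx : x ∉ R2) : tau2 x = x := by
  apply Equiv.swap_apply_of_ne_of_ne
  · intro h; exact hx (by rw [h]; decide)
  · intro h; exact hx (by rw [h]; decide)

theorem mem_R2 {x : GolayPt} : x ∈ R2 ↔ x = none ∨ x = some 0 := by
  simp [R2]

theorem tau2_smul_of_one {X : Finset GolayPt} (h : (X ∩ R2).card = 1) :
    tau2 • X = symmDiff X R2 := by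
  rw [card_inter_R2] at h
  ext x
  rw [tau2_smul_mem, Finset.mem_symmDiff]
  by_cases hx : x ∈ R2
  · rcases mem_R2.1 hx with rfl | rfl
    · rw [tau2_none]
      by_cases hn : (none : GolayPt) ∈ X <;> by_cases h0 : (some 0 : GolayPt) ∈ X <;>
        simp [hn, h0] at h ⊢ <;> simp [R2]
    · rw [tau2_zero]
      by_cases hn : (none : GolayPt) ∈ X <;> by_cases h0 : (some 0 : GolayPt) ∈ X <;>
        simp [hn, h0] at h ⊢ <;> simp [R2]
  · rw [tau2_other hx]
    tauto

theorem tau2_smul_of_ne_one {X : Finset GolayPt} (h : (X ∩ R2).card ≠ 1) : tau2 • X = X := by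
  rw [card_inter_R2] at h
  ext x
  rw [tau2_smul_mem]
  by_cases hx : x ∈ R2
  · rcases mem_R2.1 hx with rfl | rfl
    · rw [tau2_none]
      by_cases hn : (none : GolayPt) ∈ X <;> by_cases h0 : (some 0 : GolayPt) ∈ X <;>
        simp [hn, h0] at h ⊢
    · rw [tau2_zero]
      by_cases hn : (none : GolayPt) ∈ X <;> by_cases h0 : (some 0 : GolayPt) ∈ X <;>
        simp [hn, h0] at h ⊢
  · rw [tau2_other hx]

/-! ### Extending automorphisms of the concrete `S(3,6,22)` -/

theorem ofSubtype_or_swap_mem_M24 (f : Equiv.Perm {p : GolayPt // p ∉ R2})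
    (hf : f ∈ setSystemAut (concR R2)) :
    Equiv.Perm.ofSubtype (p := fun p : GolayPt => p ∉ R2) f ∈ M24 ∨
      tau2 * Equiv.Perm.ofSubtype (p := fun p : GolayPt => p ∉ R2) f ∈ M24 := by
  set F := Equiv.Perm.ofSubtype (p := fun p : GolayPt => p ∉ R2) f with hF
  have hFfix : ∀ x ∈ R2, F x = x := fun x hx =>
    Equiv.Perm.ofSubtype_apply_of_not_mem (p := fun p : GolayPt => p ∉ R2) _ (by simpa using hx)
  have hFinv : ∀ x ∈ R2, F⁻¹ x = x := by
    intro x hx
    rw [Equiv.Perm.inv_eq_iff_eq, hFfix x hx]
  have hFR : ∀ X : Finset GolayPt, (F • X) ∩ R2 = X ∩ R2 := by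
    intro X
    ext x
    rw [Finset.mem_inter, Finset.mem_inter, perm_smul_finset_mem]
    constructor
    · rintro ⟨hx, hxR⟩
      rw [hFinv x hxR] at hx
      exact ⟨hx, hxR⟩
    · rintro ⟨hx, hxR⟩
      rw [hFinv x hxR]
      exact ⟨hx, hxR⟩
  have hcR : R2.card = 2 := card_R2
  have hor : ∀ O ∈ octads, F • O ∈ supports (golayCode : Set (GolayPt → ZMod 2)) ∨
      symmDiff (F • O) R2 ∈ supports (golayCode : Set (GolayPt → ZMod 2)) := by
    intro O hO
    apply supports_or_of_even
    intro K hK hn h0
    have hRK : R2 ⊆ K := by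
      intro x hx
      rcases mem_R2.1 hx with rfl | rfl
      · exact hn
      · exact h0
    have hK' := ofSubtype_smul_octad f⁻¹ (inv_mem hf) hK hRK
    rw [map_inv, ← hF] at hK'
    have e1 : F • O ∩ K = F • (O ∩ F⁻¹ • K) := by
      rw [Finset.smul_finset_inter, smul_inv_smul]
    rw [e1, Finset.card_smul_finset]
    exact even_iff_two_dvd.2 (even_card_inter (octads_supports hO) (octads_supports hK'))
  have hle : ∀ X : Finset GolayPt, (X ∩ R2).card ≤ 2 := by
    intro X
    rw [← hcR]
    exact Finset.card_le_card Finset.inter_subset_right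
  have h02 : ∀ O ∈ octads, (O ∩ R2).card ≠ 1 →
      F • O ∈ supports (golayCode : Set (GolayPt → ZMod 2)) := by
    intro O hO h1
    rcases hor O hO with h | h
    · exact h
    · exfalso
      have e1 := card_symmDiff_add (F • O) R2
      rw [hFR, Finset.card_smul_finset, octads_card hO, hcR] at e1
      have e2 := card_of_mem_supports h
      have e3 := hle O
      omega
  have hcons : ∀ O₁ ∈ octads, ∀ O₂ ∈ octads, (O₁ ∩ R2).card = 1 → (O₂ ∩ R2).card = 1 →
      F • O₁ ∈ supports (golayCode : Set (GolayPt → ZMod 2)) →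
      F • O₂ ∈ supports (golayCode : Set (GolayPt → ZMod 2)) := by
    intro O₁ hO₁ O₂ hO₂ h1 h2 hs1
    by_contra hn
    have hs2 := (hor O₂ hO₂).resolve_left hn
    have hs := supports_symmDiff hs1 hs2
    rw [← symmDiff_assoc, ← Finset.smul_finset_symmDiff] at hs
    have e1 := card_symmDiff_add (F • symmDiff O₁ O₂) R2
    rw [hFR, Finset.card_smul_finset, hcR] at e1
    have e2 := card_of_mem_supports hs
    have e3 := card_of_mem_supports (supports_symmDiff (octads_supports hO₁) (octads_supports hO₂))
    have e4 := symmDiff_inter_mod O₁ O₂ R2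
    have e5 := hle (symmDiff O₁ O₂)
    omega
  have hcard : ∀ O ∈ octads, ∀ g : Equiv.Perm GolayPt, (g • O).card = 8 := by
    intro O hO g
    rw [Finset.card_smul_finset]; exact octads_card hO
  by_cases hex : ∃ O ∈ octads, (O ∩ R2).card = 1 ∧
      F • O ∉ supports (golayCode : Set (GolayPt → ZMod 2))
  · right
    obtain ⟨O₀, hO₀, h1₀, hn₀⟩ := hex
    rw [Cfsg.Agent.S0369.result]
    show _ ∈ MulAction.stabilizer (Equiv.Perm GolayPt) octads
    rw [MulAction.mem_stabilizer_set_iff_smul_set_subset (Set.toFinite _)]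
    rintro _ ⟨O, hO, rfl⟩
    show (tau2 * F) • O ∈ octads
    refine ⟨?_, hcard O hO _⟩
    rw [mul_smul]
    by_cases h1 : (O ∩ R2).card = 1
    · have hn : F • O ∉ supports (golayCode : Set (GolayPt → ZMod 2)) :=
        fun hs => hn₀ (hcons O hO O₀ hO₀ h1 h1₀ hs)
      rw [tau2_smul_of_one (by rw [hFR]; exact h1)]
      exact (hor O hO).resolve_left hn
    · rw [tau2_smul_of_ne_one (by rw [hFR]; exact h1)]
      exact h02 O hO h1
  · left
    push Not at hex
    rw [Cfsg.Agent.S0369.result]
    show _ ∈ MulAction.stabilizer (Equiv.Perm GolayPt) octads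
    rw [MulAction.mem_stabilizer_set_iff_smul_set_subset (Set.toFinite _)]
    rintro _ ⟨O, hO, rfl⟩
    show F • O ∈ octads
    refine ⟨?_, hcard O hO _⟩
    by_cases h1 : (O ∩ R2).card = 1
    · exact hex O hO h1
    · exact h02 O hO h1

/-! ### The setwise stabilizer of the base pair -/

/-- the setwise stabilizer of the base pair in `M24` -/
abbrev G2 : Subgroup M24 := MulAction.stabilizer M24 (R2 : Finset GolayPt)

theorem pres_of_smul_eq {R : Finset GolayPt} {u : Equiv.Perm GolayPt} (h : u • R = R) :
    ∀ x, u x ∉ R ↔ x ∉ R := by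
  intro x
  rw [not_iff_not]
  have h1 : u x ∈ u • R ↔ x ∈ R := Finset.smul_mem_smul_finset_iff u
  rw [h] at h1
  exact h1

theorem smul_eq_of_pres {R : Finset GolayPt} {u : Equiv.Perm GolayPt}
    (h : ∀ x, u x ∉ R ↔ x ∉ R) : u • R = R := by
  ext x
  rw [perm_smul_finset_mem]
  have := h (u⁻¹ x)
  have e : u (u⁻¹ x) = x := by simp
  rw [e, not_iff_not] at this
  exact this.symm

theorem G2_pres (g : M24) (hg : g ∈ G2) : ∀ x, (g : Equiv.Perm GolayPt) x ∉ R2 ↔ x ∉ R2 :=
  pres_of_smul_eq (MulAction.mem_stabilizer_iff.1 hg)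

/-- restriction to the 22 points -/
def aut22Hom : G2 →* setSystemAut (concR R2) where
  toFun g := ⟨(g.1 : Equiv.Perm GolayPt).subtypePerm (G2_pres g.1 g.2),
    restrict_mem_aut g.1.2 _⟩
  map_one' := by
    apply Subtype.ext
    apply Equiv.ext
    intro x
    apply Subtype.ext
    rfl
  map_mul' g g' := by
    apply Subtype.ext
    apply Equiv.ext
    intro x
    apply Subtype.ext
    rfl

theorem aut22Hom_apply (g : G2) (x : {p : GolayPt // p ∉ R2}) :
    (((aut22Hom g : setSystemAut (concR R2)) : Equiv.Perm {p : GolayPt // p ∉ R2}) x : GolayPt) =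
      (g.1 : Equiv.Perm GolayPt) x := rfl

theorem card_compl_R2 : (R2ᶜ : Finset GolayPt).card = 22 := by
  rw [Finset.card_compl, card_golayPt, card_R2]

theorem aut22Hom_bijective : Function.Bijective aut22Hom := by
  constructor
  · intro g g' h
    have h1 : ∀ x : GolayPt, x ∉ R2 → (g.1 : Equiv.Perm GolayPt) x = (g'.1 : Equiv.Perm GolayPt) x := by
      intro x hx
      have := congrArg (fun z : setSystemAut (concR R2) =>
        ((z : Equiv.Perm {p : GolayPt // p ∉ R2}) ⟨x, hx⟩ : GolayPt)) h
      exact this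
    have hw : ((g'.1 : Equiv.Perm GolayPt))⁻¹ * (g.1 : Equiv.Perm GolayPt) = 1 := by
      apply eq_one_of_nine_fixed (mul_mem (inv_mem g'.1.2) g.1.2)
      have hsub : (R2ᶜ : Finset GolayPt) ⊆ Finset.univ.filter
          (fun p => (((g'.1 : Equiv.Perm GolayPt))⁻¹ * (g.1 : Equiv.Perm GolayPt)) p = p) := by
        intro x hx
        rw [Finset.mem_compl] at hx
        rw [Finset.mem_filter]
        refine ⟨Finset.mem_univ _, ?_⟩
        rw [Equiv.Perm.mul_apply, h1 x hx]
        simp
      have := Finset.card_le_card hsub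
      rw [card_compl_R2] at this
      omega
    apply Subtype.ext
    apply Subtype.ext
    rw [inv_mul_eq_one] at hw
    exact hw.symm
  · rintro ⟨f, hf⟩
    set F := Equiv.Perm.ofSubtype (p := fun p : GolayPt => p ∉ R2) f with hF
    have hFp := ofSubtype_pres f
    rcases ofSubtype_or_swap_mem_M24 f hf with hM | hM
    · refine ⟨⟨⟨F, hM⟩, ?_⟩, ?_⟩
      · rw [MulAction.mem_stabilizer_iff]
        exact smul_eq_of_pres hFp
      · apply Subtype.ext
        apply Equiv.ext
        intro x
        apply Subtype.ext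
        show F x = f x
        rw [hF, Equiv.Perm.ofSubtype_apply_of_mem (p := fun p : GolayPt => p ∉ R2) _ x.2]
    · have hτ : ∀ x, (tau2 * F) x ∉ R2 ↔ x ∉ R2 := by
        intro x
        rw [Equiv.Perm.mul_apply, ← hFp x]
        by_cases hx : F x ∈ R2
        · rcases mem_R2.1 hx with h | h
          · rw [h, tau2_none]; simp [R2]
          · rw [h, tau2_zero]; simp [R2]
        · rw [tau2_other hx]
      refine ⟨⟨⟨tau2 * F, hM⟩, ?_⟩, ?_⟩
      · rw [MulAction.mem_stabilizer_iff]
        exact smul_eq_of_pres hτ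
      · apply Subtype.ext
        apply Equiv.ext
        intro x
        apply Subtype.ext
        show (tau2 * F) x = f x
        have e1 : F x = f x :=
          Equiv.Perm.ofSubtype_apply_of_mem (p := fun p : GolayPt => p ∉ R2) _ x.2
        rw [Equiv.Perm.mul_apply, e1, tau2_other (f x).2]

/-- `Aut` of the concrete `S(3,6,22)` is the setwise stabilizer of a pair of points in `M24` -/
noncomputable def aut22Equiv : G2 ≃* setSystemAut (concR R2) :=
  MulEquiv.ofBijective aut22Hom aut22Hom_bijective

theorem card_G2 : Nat.card G2 = 887040 := by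
  have h := Cfsg.Agent.Helper7.card_orbit_mul_card_stabilizer (X := Finset GolayPt) R2
  have h2 : MulAction.IsMultiplyPretransitive M24 GolayPt 2 := by
    have := Cfsg.Agent.S0366.result
    exact MulAction.isMultiplyPretransitive_of_le (n := 5) (by norm_num)
      (by rw [Nat.card_eq_fintype_card, card_golayPt]; norm_num)
  rw [MulAction.is_two_pretransitive_iff] at h2
  have horb : MulAction.orbit M24 (R2 : Finset GolayPt) =
      ((Finset.powersetCard 2 (Finset.univ : Finset GolayPt) : Finset (Finset GolayPt)) :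
        Set (Finset GolayPt)) := by
    ext s
    rw [Finset.mem_coe, Finset.mem_powersetCard]
    constructor
    · rintro ⟨g, rfl⟩
      refine ⟨Finset.subset_univ _, ?_⟩
      show ((g : Equiv.Perm GolayPt) • R2).card = 2
      rw [Finset.card_smul_finset, card_R2]
    · rintro ⟨-, hs⟩
      obtain ⟨a, b, hab, rfl⟩ := Finset.card_eq_two.1 hs
      obtain ⟨g, hg1, hg2⟩ := h2 (a := (none : GolayPt)) (b := some 0) (c := a) (d := b)
        (by decide) hab
      refine ⟨g, ?_⟩
      show (g : Equiv.Perm GolayPt) • R2 = {a, b}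
      have e1 : (g : Equiv.Perm GolayPt) none = a := hg1
      have e2 : (g : Equiv.Perm GolayPt) (some 0) = b := hg2
      ext x
      rw [perm_smul_finset_mem, mem_R2, Finset.mem_insert, Finset.mem_singleton,
        Equiv.Perm.inv_eq_iff_eq, Equiv.Perm.inv_eq_iff_eq, e1, e2]
  have hcard : Nat.card (MulAction.orbit M24 (R2 : Finset GolayPt)) = 276 := by
    rw [horb, Nat.card_coe_set_eq, Set.ncard_coe_finset, Finset.card_powersetCard,
      Finset.card_univ, card_golayPt]
    rfl
  rw [hcard] at h
  show Nat.card (MulAction.stabilizer M24 (R2 : Finset GolayPt)) = 887040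
  omega

/-- the pointwise stabilizer of the base pair, inside the setwise stabilizer -/
theorem pointwise_le_G2 :
    MulAction.stabilizer M24 (none : GolayPt) ⊓ MulAction.stabilizer M24 (some 0 : GolayPt) ≤ G2 := by
  rintro g ⟨h1, h2⟩
  have e1 : (g : Equiv.Perm GolayPt) none = none := MulAction.mem_stabilizer_iff.1 h1
  have e2 : (g : Equiv.Perm GolayPt) (some 0) = some 0 := MulAction.mem_stabilizer_iff.1 h2
  rw [MulAction.mem_stabilizer_iff]
  show (g : Equiv.Perm GolayPt) • R2 = R2
  ext x
  rw [perm_smul_finset_mem, mem_R2, Equiv.Perm.inv_eq_iff_eq, Equiv.Perm.inv_eq_iff_eq, e1, e2,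
    mem_R2]

theorem card_aut22 : Nat.card (setSystemAut (concR R2)) = 887040 := by
  rw [← Nat.card_congr aut22Equiv.toEquiv]
  exact card_G2

/-- the simple subgroup of index two -/
theorem exists_M22_sub : ∃ H : Subgroup (setSystemAut (concR R2)),
    IsSimpleGroup H ∧ Nat.card H = 443520 := by
  set K := MulAction.stabilizer M24 (none : GolayPt) ⊓
    MulAction.stabilizer M24 (some 0 : GolayPt) with hK
  have e1 : K.subgroupOf G2 ≃* K := Subgroup.subgroupOfEquivOfLe pointwise_le_G2
  have e2 := Subgroup.equivMapOfInjective (K.subgroupOf G2) (aut22Equiv.toMonoidHom)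
    aut22Equiv.injective
  have e3 := e2.symm.trans e1
  refine ⟨(K.subgroupOf G2).map aut22Equiv.toMonoidHom, ?_, ?_⟩
  · have := Cfsg.Agent.S0379.result none (some 0) (by decide)
    exact e3.isSimpleGroup
  · rw [Nat.card_congr e3.toEquiv]
    exact Cfsg.Agent.S0378.result none (some 0) (by decide)

/-- `Aut` of the concrete `S(3,6,22)` is `3`-transitive -/
theorem aut22_trans :
    MulAction.IsMultiplyPretransitive (setSystemAut (concR R2)) {p : GolayPt // p ∉ R2} 3 := by
  constructor
  intro x y
  have hne : ∀ (z : Fin 3 ↪ {p : GolayPt // p ∉ R2}) (i : Fin 3),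
      (z i : GolayPt) ≠ none ∧ (z i : GolayPt) ≠ some 0 := by
    intro z i
    have := (z i).2
    rw [mem_R2] at this
    push Not at this
    exact this
  have hnd : ∀ z : Fin 3 ↪ {p : GolayPt // p ∉ R2},
      [none, some 0, (z 0 : GolayPt), (z 1 : GolayPt), (z 2 : GolayPt)].Nodup := by
    intro z
    have e : [none, some 0, (z 0 : GolayPt), (z 1 : GolayPt), (z 2 : GolayPt)] =
        none :: some 0 :: List.ofFn (fun i : Fin 3 => (z i : GolayPt)) := rfl
    rw [e, List.nodup_cons, List.nodup_cons, List.nodup_ofFn]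
    refine ⟨?_, ?_, fun i j h => z.injective (Subtype.ext h)⟩
    · rw [List.mem_cons, List.mem_ofFn]
      rintro (h | ⟨i, hi⟩)
      · exact absurd h (by decide)
      · exact (hne z i).1 hi
    · rw [List.mem_ofFn]
      rintro ⟨i, hi⟩
      exact (hne z i).2 hi
  obtain ⟨u, hu, eu⟩ := Helper91.m24_five_trans _ rfl (hnd x)
  obtain ⟨v, hv, ev⟩ := Helper91.m24_five_trans _ rfl (hnd y)
  simp only [List.cons.injEq, and_true] at eu ev
  obtain ⟨u0, u1, u2, u3, u4⟩ := eu
  obtain ⟨v0, v1, v2, v3, v4⟩ := ev
  set w := v * u⁻¹ with hw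
  have hwM : w ∈ M24 := mul_mem hv (inv_mem hu)
  have hui : ∀ {a b : GolayPt}, a = u b → u⁻¹ a = b := by
    intro a b hab
    rw [Equiv.Perm.inv_eq_iff_eq]; exact hab
  have hwn : w none = none := by
    rw [hw, Equiv.Perm.mul_apply, hui u0]
    exact v0.symm
  have hw0 : w (some 0) = some 0 := by
    rw [hw, Equiv.Perm.mul_apply, hui u1]
    exact v1.symm
  have h : ∀ p, w p ∉ R2 ↔ p ∉ R2 := by
    apply pres_of_smul_eq
    ext p
    rw [perm_smul_finset_mem, mem_R2, Equiv.Perm.inv_eq_iff_eq, Equiv.Perm.inv_eq_iff_eq,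
      hwn, hw0, mem_R2]
  refine ⟨⟨w.subtypePerm h, restrict_mem_aut hwM h⟩, ?_⟩
  apply Function.Embedding.ext
  intro i
  apply Subtype.ext
  show w (x i) = y i
  rw [hw, Equiv.Perm.mul_apply]
  fin_cases i
  · show v (u⁻¹ (x 0 : GolayPt)) = (y 0 : GolayPt)
    rw [hui u2, v2]
  · show v (u⁻¹ (x 1 : GolayPt)) = (y 1 : GolayPt)
    rw [hui u3, v3]
  · show v (u⁻¹ (x 2 : GolayPt)) = (y 2 : GolayPt)
    rw [hui u4, v4]

end Cfsg.Agent.Helper93
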