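import Mathlib
import Cfsg.Prelude.Def_Sporadic_a
import Cfsg.Agent.Helper93.Srg100Iso
import Cfsg.Agent.S0410
import Cfsg.Agent.S0414
import Cfsg.Agent.S0428

/-!
The automorphism group of the point-block graph of an `S(3,6,22)`: vertex-transitive with
vertex stabilizer the automorphism group of the Steiner system.
-/

set_option autoImplicit false

namespace Cfsg.Agent.Helper93

open Cfsg
open scoped Pointwise

section StabNone

variable {α : Type*} {B : Set (Finset α)}

/-- the point map induced by an automorphism of the point-block graph -/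
def ptMap (φ : pointBlockGraph B ≃g pointBlockGraph B) (a : α) : α :=
  match φ (some (Sum.inl a)) with
  | some (Sum.inl a') => a'
  | _ => a

theorem ptMap_spec (φ : pointBlockGraph B ≃g pointBlockGraph B) (hφ : φ none = none) (a : α) :
    φ (some (Sum.inl a)) = some (Sum.inl (ptMap φ a)) := by
  have hadj : (pointBlockGraph B).Adj none (φ (some (Sum.inl a))) := by
    rw [← hφ]
    exact φ.map_rel_iff.2 (pb_adj_none_inl B a)
  unfold ptMap
  rcases hx : φ (some (Sum.inl a)) with _ | a' | b
  · rw [hx] at hadj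
    exact absurd hadj (pb_adj_none_none B)
  · rfl
  · rw [hx] at hadj
    exact absurd hadj (pb_adj_none_inr B b)

theorem symm_none (φ : pointBlockGraph B ≃g pointBlockGraph B) (hφ : φ none = none) :
    φ.symm none = none := by
  rw [RelIso.symm_apply_eq, hφ]

theorem ptMap_symm (φ : pointBlockGraph B ≃g pointBlockGraph B) (hφ : φ none = none) (a : α) :
    ptMap φ.symm (ptMap φ a) = a := by
  have h1 := ptMap_spec φ.symm (symm_none φ hφ) (ptMap φ a)
  rw [← ptMap_spec φ hφ a, RelIso.symm_apply_apply] at h1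
  exact (Sum.inl.inj (Option.some.inj h1)).symm

theorem ptMap_symm' (φ : pointBlockGraph B ≃g pointBlockGraph B) (hφ : φ none = none) (a : α) :
    ptMap φ (ptMap φ.symm a) = a := by
  exact ptMap_symm φ.symm (symm_none φ hφ) a

/-- the permutation of the points induced by an automorphism fixing the extra vertex -/
def ptPerm (φ : pointBlockGraph B ≃g pointBlockGraph B) (hφ : φ none = none) : Equiv.Perm α where
  toFun := ptMap φ
  invFun := ptMap φ.symm
  left_inv := ptMap_symm φ hφ
  right_inv := ptMap_symm' φ hφ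

theorem ptPerm_apply (φ : pointBlockGraph B ≃g pointBlockGraph B) (hφ : φ none = none) (a : α) :
    ptPerm φ hφ a = ptMap φ a := rfl

theorem blk_spec (φ : pointBlockGraph B ≃g pointBlockGraph B) (hφ : φ none = none) (b : ↥B) :
    ∃ b' : ↥B, φ (some (Sum.inr b)) = some (Sum.inr b') := by
  have hadj : ¬(pointBlockGraph B).Adj none (φ (some (Sum.inr b))) := by
    rw [← hφ]
    intro hc
    exact pb_adj_none_inr B b (φ.map_rel_iff.1 hc)
  rcases hx : φ (some (Sum.inr b)) with _ | a' | b'
  · rw [← hφ] at hx
    exact absurd (φ.injective hx) (by simp)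
  · rw [hx] at hadj
    exact absurd (pb_adj_none_inl B a') hadj
  · exact ⟨b', rfl⟩

variable [DecidableEq α]

theorem blk_image (φ : pointBlockGraph B ≃g pointBlockGraph B) (hφ : φ none = none) (b b' : ↥B)
    (hb : φ (some (Sum.inr b)) = some (Sum.inr b')) :
    (b' : Finset α) = (b : Finset α).image (ptPerm φ hφ) := by
  have key : ∀ a, a ∈ (b : Finset α) ↔ ptMap φ a ∈ (b' : Finset α) := by
    intro a
    rw [← pb_adj_inl_inr, ← pb_adj_inl_inr, ← ptMap_spec φ hφ a, ← hb]
    exact φ.map_rel_iff.symm
  ext a'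
  rw [Finset.mem_image]
  constructor
  · intro ha'
    refine ⟨ptMap φ.symm a', ?_, ?_⟩
    · rw [key, ptMap_symm' φ hφ]
      exact ha'
    · rw [ptPerm_apply, ptMap_symm' φ hφ]
  · rintro ⟨a, ha, rfl⟩
    rw [ptPerm_apply]
    exact (key a).1 ha

theorem aut_image_eq (g : Equiv.Perm α) (hg : g ∈ setSystemAut B) :
    (fun b => b.image g) '' B = B := by
  rw [MulAction.mem_stabilizer_iff] at hg
  exact hg

variable [Fintype α]

theorem ptPerm_mem (φ : pointBlockGraph B ≃g pointBlockGraph B) (hφ : φ none = none) :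
    ptPerm φ hφ ∈ setSystemAut B := by
  rw [MulAction.mem_stabilizer_set_iff_smul_set_subset (Set.toFinite _)]
  rintro _ ⟨b, hb, rfl⟩
  obtain ⟨b', hb'⟩ := blk_spec φ hφ ⟨b, hb⟩
  have := blk_image φ hφ ⟨b, hb⟩ b' hb'
  show (b.image (ptPerm φ hφ)) ∈ B
  rw [← this]
  exact b'.2

/-- automorphisms of the set system give automorphisms of the graph fixing the extra vertex -/
noncomputable def autToStab (g : ↥(setSystemAut B)) :
    {φ : pointBlockGraph B ≃g pointBlockGraph B // φ none = none} :=
  ⟨pbIso g.1 (aut_image_eq g.1 g.2), pbIso_none _ _⟩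

theorem autToStab_bijective : Function.Bijective (autToStab (B := B)) := by
  constructor
  · intro g g' hgg
    apply Subtype.ext
    apply Equiv.ext
    intro a
    have h1 : pbIso g.1 (aut_image_eq g.1 g.2) (some (Sum.inl a)) =
        pbIso g'.1 (aut_image_eq g'.1 g'.2) (some (Sum.inl a)) := by
      have := congrArg Subtype.val hgg
      exact congrArg (fun φ : pointBlockGraph B ≃g pointBlockGraph B => φ (some (Sum.inl a))) this
    rw [pbIso_inl, pbIso_inl] at h1
    exact Sum.inl.inj (Option.some.inj h1)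
  · rintro ⟨φ, hφ⟩
    refine ⟨⟨ptPerm φ hφ, ptPerm_mem φ hφ⟩, ?_⟩
    apply Subtype.ext
    apply RelIso.ext
    intro x
    show pbIso (ptPerm φ hφ) _ x = φ x
    rcases x with _ | a | b
    · rw [pbIso_none, hφ]
    · rw [pbIso_inl, ptMap_spec φ hφ a, ptPerm_apply]
    · obtain ⟨b', hb'⟩ := blk_spec φ hφ b
      rw [pbIso_inr, hb']
      congr 2
      apply Subtype.ext
      rw [blockEquiv_coe]
      exact (blk_image φ hφ b b' hb').symm

theorem card_stab_none :
    Nat.card {φ : pointBlockGraph B ≃g pointBlockGraph B // φ none = none} =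
      Nat.card ↥(setSystemAut B) :=
  (Nat.card_congr (Equiv.ofBijective _ autToStab_bijective)).symm

end StabNone

section Count

variable {α : Type*} [Fintype α] [DecidableEq α] {B : Set (Finset α)}

theorem pb_transitive (hα : Fintype.card α = 22) (hB : IsSteinerSystem 3 6 B)
    (u : Option (α ⊕ ↥B)) : ∃ φ : pointBlockGraph B ≃g pointBlockGraph B, φ u = none := by
  classical
  have hΓ : (pointBlockGraph B).IsSRGWith 100 22 0 6 := Cfsg.Agent.S0428.result hα hB
  obtain ⟨e, he⟩ := Cfsg.Agent.S0410.result (card_NbT hΓ u) hα (locB_steiner hΓ u) hB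
  refine ⟨(locIso hΓ u).trans (pbIso e he), ?_⟩
  show pbIso e he (locIso hΓ u u) = none
  rw [locIso_apply, locMap_self, pbIso_none]

theorem card_pb_aut (hα : Fintype.card α = 22) (hB : IsSteinerSystem 3 6 B) :
    Nat.card (pointBlockGraph B ≃g pointBlockGraph B) = 88704000 := by
  classical
  have hΓ : (pointBlockGraph B).IsSRGWith 100 22 0 6 := Cfsg.Agent.S0428.result hα hB
  have horb : MulAction.orbit (pointBlockGraph B ≃g pointBlockGraph B)
      (none : Option (α ⊕ ↥B)) = Set.univ := by
    rw [Set.eq_univ_iff_forall]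
    intro u
    obtain ⟨φ, hφ⟩ := pb_transitive hα hB u
    refine ⟨φ.symm, ?_⟩
    show φ.symm none = u
    rw [RelIso.symm_apply_eq, hφ]
  have hstab : Nat.card ↥(MulAction.stabilizer (pointBlockGraph B ≃g pointBlockGraph B)
      (none : Option (α ⊕ ↥B))) = 887040 := by
    rw [← (Cfsg.Agent.S0414.result hα hB).1, ← card_stab_none]
    rfl
  rw [Subgroup.card_eq_card_quotient_mul_card_subgroup
      (MulAction.stabilizer (pointBlockGraph B ≃g pointBlockGraph B) (none : Option (α ⊕ ↥B))),
    ← Nat.card_congr (MulAction.orbitEquivQuotientStabilizer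
      (pointBlockGraph B ≃g pointBlockGraph B) (none : Option (α ⊕ ↥B))), horb, hstab,
    Nat.card_coe_set_eq, Set.ncard_univ, Nat.card_eq_fintype_card, hΓ.card]

end Count

end Cfsg.Agent.Helper93
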