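import Mathlib
import Cfsg.Prelude.Def_Sporadic_a
import Cfsg.Agent.Helper93.Srg100

/-!
An explicit copy of the Higman-Sims graph on `Fin 100` (adjacency rows as bit masks), with the
verification that it is strongly regular with parameters `(100, 22, 0, 6)`, and an explicit
automorphism which is an odd permutation of the vertices.
-/

set_option autoImplicit false

namespace Cfsg.Agent.Helper93

/-- the number of set bits among the lowest `n` bits -/
def pcN : ℕ → ℕ → ℕ
  | 0, _ => 0
  | n + 1, m => m % 2 + pcN n (m / 2)

theorem card_filter_testBit (n m : ℕ) :
    (Finset.univ.filter (fun z : Fin n => m.testBit z.val = true)).card = pcN n m := by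
  induction n generalizing m with
  | zero => simp [pcN]
  | succ n ih =>
    rw [Fin.univ_succ, Finset.filter_cons, pcN]
    have h1 : (Finset.filter (fun z : Fin (n + 1) => m.testBit z.val = true)
        (Finset.map ⟨Fin.succ, Fin.succ_injective n⟩ Finset.univ)).card = pcN n (m / 2) := by
      rw [Finset.filter_map, Finset.card_map, ← ih (m / 2)]
      congr 1
      apply Finset.filter_congr
      intro z _
      simp only [Function.comp_apply, Function.Embedding.coeFn_mk, Fin.val_succ]
      rw [Nat.testBit_succ]
    by_cases hb : m.testBit 0 = true
    · have hm : m % 2 = 1 := by
        rw [Nat.testBit_zero] at hb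
        simpa using hb
      simp only [Fin.val_zero, hb, if_true]
      rw [Finset.card_cons, h1, hm]
      omega
    · have hm : m % 2 = 0 := by
        rw [Nat.testBit_zero] at hb
        simp only [decide_eq_true_eq] at hb
        omega
      simp only [Fin.val_zero, hb]
      rw [hm, zero_add]
      simpa using h1

/-- adjacency rows of the Higman-Sims graph -/
def hsRows : List ℕ := [
  8388606, 17592177655809, 1152903912680849409,
  4721213825251863953409, 2413137345184868325130241, 152357774416207920339353601,
  4799553647251750028495028225, 35131583118638885721776062465, 133862850272019281621773451265,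
  185091701173582428160047185921, 367417949947133017859813277697, 170961984161447210983347978241,
  837543866955804638674233065473, 1129169508242861914093080543233, 170864176057011021055745064961,
  426550220041608509795774496769, 138974583443858169717952872449, 958504706201650837923309813761,
  714642765847559625589527674881, 716343261621804925300840071169, 516419940574426126659339943937,
  694581417012645330287415263233, 404888757415944595962310164481, 409042105296029829557504709134,
  549756603100672197850705952854, 801103044624144988097392772134, 120815613417571611347444195462,
  654583834015734333131153475846, 1113664882881691719110297190810, 228556304247836846378008838186,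
  737899787754711522275125904458, 46138110833761199992448002058, 97487781857382010794948960306,
  673951966315483522796689080850, 100435140026538947580451232786, 1069582010290561151362322664162,
  338267343887701355551579984162, 158501226640641538147102130498, 9962465375368859012330238018,
  158469115670146016234047014018, 2506411959210501679304970370, 2558212486651263436531705602,
  9983503720568157615955837442, 322638136966968731475800049666, 1096660132301936259684915759164,
  831965540755324236528992944332, 179586213845742146299043120396, 18047198812693400359449993228,
  715618806252090690855658063508, 4086170902834310913667936532, 169174661621933141960517943316,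
  108940387650882672537124343908, 478465113215022291169195590052, 49827807113365928220559942180,
  950854167930827653045366637380, 84185393722055395508318383172, 318172960577020149529355819140,
  39774911515016873690502957572, 19971842116502960721847669764, 5271092575057914495407538180,
  128866656668582274343347823192, 166053214879088340688764699672, 30051478024183125175099199512,
  490225011136081041316953784424, 82942964885088644883560805544, 636612063023383188086964912936,
  336745087573155188011750922568, 356613854253471951136148439688, 79850782923514103441877239944,
  967244547973038078018216200, 633983112157823018963853970952, 1431826240022383156900646920,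
  812088668575907348105461237104, 199308348169963057210093895856, 329446793840878136988644217392,
  396189170821744722093025546448, 638796403840988377298725079120, 40252396497785596544809183376,
  317229391001717028200410254096, 20503383109042977266860441872, 6267071854861514307166364688,
  44566145126153345771912880224, 634444572442638815011366060192, 1856947993216424433588316448,
  79383131771237648026952680992, 24758841517291180607273700384, 466041052206827219353376800,
  96736499549304852768629184, 158533999144825948213707474112, 15263573922146861992941120,
  9914412471095233702933037632, 59421140832815751969272121408, 42387973692109664167269248,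
  635063259057866522375965691264, 2515174968763951405445784192, 2478458639550456679978046720,
  158475705935360522689698431232, 79537661702720082057974807040, 359130531601098237715456,
  9908437515295167059197833216]

/-- the `i`-th adjacency row -/
def hsRow (i : ℕ) : ℕ := hsRows.getD i 0

/-- adjacency as a boolean function -/
def hsAdjB (i j : ℕ) : Bool := (hsRow i).testBit j

theorem hsAdjB_symm : ∀ i j : Fin 100, hsAdjB i.val j.val = hsAdjB j.val i.val := by
  decide +kernel

theorem hsAdjB_irrefl : ∀ i : Fin 100, hsAdjB i.val i.val = false := by
  decide +kernel

/-- the Higman-Sims graph on `Fin 100` -/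
def hsGraph : SimpleGraph (Fin 100) where
  Adj i j := hsAdjB i.val j.val = true
  symm := ⟨by
    intro i j h
    rw [← hsAdjB_symm]
    exact h⟩
  loopless := ⟨by
    intro i h
    rw [hsAdjB_irrefl] at h
    exact absurd h (by simp)⟩

instance hsGraph_decAdj : DecidableRel hsGraph.Adj :=
  fun i j => inferInstanceAs (Decidable (hsAdjB i.val j.val = true))

theorem hsGraph_adj (i j : Fin 100) : hsGraph.Adj i j ↔ hsAdjB i.val j.val = true := Iff.rfl

theorem hs_count : ∀ i j : Fin 100, pcN 100 (hsRow i.val &&& hsRow j.val) =
    if i = j then 22 else if hsAdjB i.val j.val then 0 else 6 := by
  decide +kernel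

theorem hs_filter (i j : Fin 100) :
    (Finset.univ.filter (fun z : Fin 100 => hsGraph.Adj i z ∧ hsGraph.Adj j z)).card =
      pcN 100 (hsRow i.val &&& hsRow j.val) := by
  rw [← card_filter_testBit]
  congr 1
  apply Finset.filter_congr
  intro z _
  rw [hsGraph_adj, hsGraph_adj, Nat.testBit_and, Bool.and_eq_true]
  rfl

theorem hsGraph_srg : hsGraph.IsSRGWith 100 22 0 6 where
  card := by simp
  regular := by
    intro v
    rw [← SimpleGraph.card_neighborSet_eq_degree,
      card_set_eq_filter _ (fun z : Fin 100 => hsGraph.Adj v z ∧ hsGraph.Adj v z)
        (fun z => by rw [SimpleGraph.mem_neighborSet, and_self]),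
      hs_filter, hs_count, if_pos rfl]
  of_adj := by
    intro v w hvw
    have hne : v ≠ w := hsGraph.ne_of_adj hvw
    rw [card_set_eq_filter _ (fun z : Fin 100 => hsGraph.Adj v z ∧ hsGraph.Adj w z)
        (fun z => SimpleGraph.mem_commonNeighbors hsGraph),
      hs_filter, hs_count, if_neg hne, if_pos ((hsGraph_adj v w).1 hvw)]
  of_not_adj := by
    intro v w hne hvw
    rw [card_set_eq_filter _ (fun z : Fin 100 => hsGraph.Adj v z ∧ hsGraph.Adj w z)
        (fun z => SimpleGraph.mem_commonNeighbors hsGraph),
      hs_filter, hs_count, if_neg hne, if_neg (fun h => hvw ((hsGraph_adj v w).2 h))]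

/-- an involutory automorphism, as a list of images -/
def hsPermL : List ℕ := [
  0, 22, 11, 15, 17, 9, 19, 13, 20, 5, 16, 2, 21, 7, 18, 3, 10, 4, 14, 6,
  8, 12, 1, 86, 91, 70, 77, 27, 98, 33, 96, 45, 92, 29, 50, 53, 90, 62, 39, 38,
  69, 82, 72, 58, 57, 31, 76, 93, 83, 68, 34, 78, 97, 35, 85, 56, 55, 44, 43, 66,
  73, 71, 37, 89, 94, 65, 59, 81, 49, 40, 25, 61, 42, 60, 84, 99, 46, 26, 51, 79,
  88, 67, 41, 48, 74, 54, 23, 87, 80, 63, 36, 24, 32, 47, 64, 95, 30, 52, 28, 75]

/-- the automorphism as a function -/
def hsPermFun (i : Fin 100) : Fin 100 := ⟨hsPermL.getD i.val 0 % 100, Nat.mod_lt _ (by norm_num)⟩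

theorem hsPermFun_invol : ∀ i : Fin 100, hsPermFun (hsPermFun i) = i := by
  decide +kernel

theorem hsPermFun_adj : ∀ i j : Fin 100,
    hsAdjB (hsPermFun i).val (hsPermFun j).val = hsAdjB i.val j.val := by
  decide +kernel

/-- the automorphism as a permutation -/
def hsPerm : Equiv.Perm (Fin 100) where
  toFun := hsPermFun
  invFun := hsPermFun
  left_inv := hsPermFun_invol
  right_inv := hsPermFun_invol

/-- the automorphism of the graph -/
def hsAut : hsGraph ≃g hsGraph where
  toEquiv := hsPerm
  map_rel_iff' := by
    intro a b
    show hsAdjB (hsPermFun a).val (hsPermFun b).val = true ↔ hsAdjB a.val b.val = true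
    rw [hsPermFun_adj]

theorem hsPerm_sign : Equiv.Perm.sign hsPerm = -1 := by
  decide +kernel

end Cfsg.Agent.Helper93
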