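import Mathlib

/-!
A simplicity criterion for transitive groups of degree `100` whose point stabilizer is simple
with orbits of sizes `1`, `22`, `77`.
-/

set_option autoImplicit false

namespace Cfsg.Agent.Helper93

open MulAction

section Rank3

variable {G : Type*} [Group G] {X : Type*} [MulAction G X]

/-- a normal subgroup of a 2-transitive group which moves a point is transitive -/
theorem normal_trans_of_two_trans (N : Subgroup G) [hN : N.Normal]
    (h2 : ∀ {a b c d : X}, a ≠ b → c ≠ d → ∃ g : G, g • a = c ∧ g • b = d)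
    {n : G} (hn : n ∈ N) {x : X} (hx : n • x ≠ x) (a b : X) : ∃ m ∈ N, m • a = b := by
  by_cases hab : a = b
  · exact ⟨1, N.one_mem, by rw [one_smul, hab]⟩
  · obtain ⟨g, h1, h2'⟩ := h2 (Ne.symm hx) hab
    refine ⟨g * n * g⁻¹, hN.conj_mem n hn g, ?_⟩
    rw [mul_smul, mul_smul, ← h1, inv_smul_smul, h2']

/-- a subgroup of index 2 is transitive on every orbit of odd size -/
theorem index_two_orbit (K : Subgroup G) (hK : K.index = 2) (x : X)
    (hodd : Odd (orbit G x).ncard) {y : X} (hy : y ∈ orbit G x) : ∃ k ∈ K, k • x = y := by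
  have hfin : (orbit G x).Finite := by
    apply Set.finite_of_ncard_ne_zero
    intro h0
    rw [h0] at hodd
    exact absurd hodd (by decide)
  have hsub : orbit ↥K x ⊆ orbit G x := by
    rintro _ ⟨k, rfl⟩
    exact ⟨(k : G), rfl⟩
  have hstab : stabilizer ↥K x = (stabilizer G x).subgroupOf K := by
    ext k
    rw [Subgroup.mem_subgroupOf, mem_stabilizer_iff, mem_stabilizer_iff]
    rfl
  have h1 : (orbit ↥K x).ncard = (stabilizer G x).relIndex K := by
    rw [← index_stabilizer, hstab]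
    rfl
  have h2 := Subgroup.relIndex_mul_index (inf_le_left : K ⊓ stabilizer G x ≤ K)
  have h3 := Subgroup.relIndex_mul_index (inf_le_right : K ⊓ stabilizer G x ≤ stabilizer G x)
  rw [Subgroup.inf_relIndex_left, hK, ← h1] at h2
  rw [index_stabilizer, ← h2] at h3
  have hle : (orbit ↥K x).ncard ≤ (orbit G x).ncard := Set.ncard_le_ncard hsub hfin
  have hpos : 0 < (orbit ↥K x).ncard := by
    rw [Set.ncard_pos (hfin.subset hsub)]
    exact ⟨x, mem_orbit_self x⟩
  have hr : Even ((K ⊓ stabilizer G x).relIndex (stabilizer G x)) := by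
    have he : Even ((K ⊓ stabilizer G x).relIndex (stabilizer G x) * (orbit G x).ncard) := by
      rw [h3]
      exact even_two.mul_left _
    rcases Nat.even_mul.1 he with h | h
    · exact h
    · exact absurd h (Nat.not_even_iff_odd.2 hodd)
  obtain ⟨r', hr'⟩ := hr
  rw [hr'] at h3
  have hge : (orbit G x).ncard ≤ (orbit ↥K x).ncard := by
    have hr1 : 1 ≤ r' := by
      rcases Nat.eq_zero_or_pos r' with h0 | h0
      · rw [h0] at h3
        simp at h3
        omega
      · exact h0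
    nlinarith
  have heq : orbit ↥K x = orbit G x := Set.eq_of_subset_of_ncard_le hsub hge hfin
  rw [← heq] at hy
  obtain ⟨k, rfl⟩ := hy
  exact ⟨k, k.2, rfl⟩

/-- in the rank 3 setting, a normal subgroup moving the base point is transitive -/
theorem rank3_normal_trans (x0 : X) (P Q : Set X)
    (hcover : ∀ x, x = x0 ∨ x ∈ P ∨ x ∈ Q)
    (hP0 : x0 ∉ P) (hQ0 : x0 ∉ Q)
    (hPc : P.ncard = 22) (hQc : Q.ncard = 77)
    (hP : ∀ x ∈ P, ∀ y ∈ P, ∃ g : G, g • x0 = x0 ∧ g • x = y)
    (hQ : ∀ x ∈ Q, ∀ y ∈ Q, ∃ g : G, g • x0 = x0 ∧ g • x = y)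
    (N : Subgroup G) [hN : N.Normal] [Finite N]
    (hmove : ∃ n ∈ N, n • x0 ≠ x0)
    (h23 : ¬ 23 ∣ Nat.card N) (h13 : ¬ 13 ∣ Nat.card N) (x : X) : ∃ n ∈ N, n • x0 = x := by
  set O : Set X := {y | ∃ n ∈ N, n • x0 = y} with hO
  have hinv : ∀ g : G, g • x0 = x0 → ∀ y ∈ O, g • y ∈ O := by
    rintro g hg _ ⟨n, hn, rfl⟩
    refine ⟨g * n * g⁻¹, hN.conj_mem n hn g, ?_⟩
    have : g⁻¹ • x0 = x0 := by
      rw [inv_smul_eq_iff, hg]
    rw [mul_smul, mul_smul, this]
  have hPO : (∃ y ∈ P, y ∈ O) → P ⊆ O := by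
    rintro ⟨y, hyP, hyO⟩ y' hy'
    obtain ⟨g, hg0, hg⟩ := hP y hyP y' hy'
    rw [← hg]
    exact hinv g hg0 y hyO
  have hQO : (∃ y ∈ Q, y ∈ O) → Q ⊆ O := by
    rintro ⟨y, hyQ, hyO⟩ y' hy'
    obtain ⟨g, hg0, hg⟩ := hQ y hyQ y' hy'
    rw [← hg]
    exact hinv g hg0 y hyO
  have hx0 : x0 ∈ O := ⟨1, N.one_mem, one_smul _ _⟩
  have hOorb : O = orbit ↥N x0 := by
    ext y
    constructor
    · rintro ⟨n, hn, rfl⟩
      exact ⟨⟨n, hn⟩, rfl⟩
    · rintro ⟨n, rfl⟩
      exact ⟨n, n.2, rfl⟩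
  have hdvd : O.ncard ∣ Nat.card N := by
    rw [hOorb, ← index_stabilizer]
    exact Subgroup.index_dvd_card _
  have hPfin : P.Finite := Set.finite_of_ncard_ne_zero (by rw [hPc]; norm_num)
  have hQfin : Q.Finite := Set.finite_of_ncard_ne_zero (by rw [hQc]; norm_num)
  obtain ⟨n, hn, hnx⟩ := hmove
  have hyO : n • x0 ∈ O := ⟨n, hn, rfl⟩
  by_contra hxO
  have hxO' : x ∉ O := hxO
  rcases hcover x with hx | hx | hx
  · rw [hx] at hxO'
    exact hxO' hx0
  · -- `P` misses `O`, so `O = {x0} ∪ Q`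
    have hPdis : ∀ y ∈ P, y ∉ O := fun y hy hyO' => hxO' (hPO ⟨y, hy, hyO'⟩ hx)
    have hQsub : Q ⊆ O := by
      apply hQO
      rcases hcover (n • x0) with h | h | h
      · exact absurd h hnx
      · exact absurd hyO (hPdis _ h)
      · exact ⟨_, h, hyO⟩
    have hOeq : O = insert x0 Q := by
      ext y
      constructor
      · intro hy
        rcases hcover y with h | h | h
        · rw [h]
          exact Set.mem_insert _ _
        · exact absurd hy (hPdis y h)
        · exact Set.mem_insert_of_mem _ h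
      · rintro (rfl | h)
        · exact hx0
        · exact hQsub h
    rw [hOeq, Set.ncard_insert_of_notMem hQ0 hQfin, hQc] at hdvd
    exact h13 (dvd_trans (by norm_num) hdvd)
  · have hQdis : ∀ y ∈ Q, y ∉ O := fun y hy hyO' => hxO' (hQO ⟨y, hy, hyO'⟩ hx)
    have hPsub : P ⊆ O := by
      apply hPO
      rcases hcover (n • x0) with h | h | h
      · exact absurd h hnx
      · exact ⟨_, h, hyO⟩
      · exact absurd hyO (hQdis _ h)
    have hOeq : O = insert x0 P := by
      ext y
      constructor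
      · intro hy
        rcases hcover y with h | h | h
        · rw [h]
          exact Set.mem_insert _ _
        · exact Set.mem_insert_of_mem _ h
        · exact absurd hy (hQdis y h)
      · rintro (rfl | h)
        · exact hx0
        · exact hPsub h
    rw [hOeq, Set.ncard_insert_of_notMem hP0 hPfin, hPc] at hdvd
    exact h23 hdvd

/-- no regular normal subgroup in the rank 3 setting with subdegrees `1, 22, 77` -/
theorem rank3_no_regular (x0 : X) (P Q : Set X)
    (hcover : ∀ x, x = x0 ∨ x ∈ P ∨ x ∈ Q)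
    (hP0 : x0 ∉ P) (hQ0 : x0 ∉ Q) (hPQ : Disjoint P Q)
    (hPc : P.ncard = 22) (hQc : Q.ncard = 77)
    (hP : ∀ x ∈ P, ∀ y ∈ P, ∃ g : G, g • x0 = x0 ∧ g • x = y)
    (hQ : ∀ x ∈ Q, ∀ y ∈ Q, ∃ g : G, g • x0 = x0 ∧ g • x = y)
    (N : Subgroup G) [hN : N.Normal] [Finite N]
    (htr : ∀ x, ∃ n ∈ N, n • x0 = x)
    (hreg : ∀ n ∈ N, n • x0 = x0 → n = 1) : False := by
  classical
  have hinj : ∀ n ∈ N, ∀ n' ∈ N, n • x0 = n' • x0 → n = n' := by
    intro n hn n' hn' h
    have h1 : (n'⁻¹ * n) • x0 = x0 := by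
      rw [mul_smul, h, inv_smul_smul]
    have := hreg _ (N.mul_mem (N.inv_mem hn') hn) h1
    rw [inv_mul_eq_one] at this
    exact this.symm
  set e : ↥N ≃ X := Equiv.ofBijective (fun n : ↥N => (n : G) • x0)
    ⟨fun n n' h => Subtype.ext (hinj n n.2 n' n'.2 h),
     fun x => by
       obtain ⟨n, hn, h⟩ := htr x
       exact ⟨⟨n, hn⟩, h⟩⟩ with he
  have he_apply : ∀ n : ↥N, e n = (n : G) • x0 := fun n => rfl
  have : Finite X := Finite.of_equiv _ e
  have hX : Nat.card X = 100 := by
    have hu : (Set.univ : Set X) = insert x0 (P ∪ Q) := by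
      ext y
      simp only [Set.mem_univ, Set.mem_insert_iff, Set.mem_union, true_iff]
      exact hcover y
    rw [← Set.ncard_univ, hu, Set.ncard_insert_of_notMem (by
      rw [Set.mem_union]
      exact fun h => h.elim hP0 hQ0) (Set.toFinite _),
      Set.ncard_union_eq hPQ (Set.toFinite _) (Set.toFinite _), hPc, hQc]
  have hN100 : Nat.card ↥N = 100 := by
    rw [Nat.card_congr e, hX]
  have hcases : ∀ n : ↥N, n ≠ 1 → e n ∈ P ∨ e n ∈ Q := by
    intro n hn
    rcases hcover (e n) with h | h | h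
    · exfalso
      apply hn
      apply Subtype.ext
      exact hreg _ n.2 h
    · exact Or.inl h
    · exact Or.inr h
  have hconj : ∀ (S : Set X), (∀ x ∈ S, ∀ y ∈ S, ∃ g : G, g • x0 = x0 ∧ g • x = y) →
      ∀ n n' : ↥N, e n ∈ S → e n' ∈ S → orderOf n = orderOf n' := by
    intro S hS n n' hn hn'
    obtain ⟨g, hg0, hg⟩ := hS _ hn _ hn'
    have hg0' : g⁻¹ • x0 = x0 := by
      rw [inv_smul_eq_iff, hg0]
    have hm : g * (n : G) * g⁻¹ ∈ N := hN.conj_mem _ n.2 g
    have hmx : (g * (n : G) * g⁻¹) • x0 = (n' : G) • x0 := by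
      rw [mul_smul, mul_smul, hg0']
      exact hg
    have heq : g * (n : G) * g⁻¹ = (n' : G) := hinj _ hm _ n'.2 hmx
    rw [← Subgroup.orderOf_coe n, ← Subgroup.orderOf_coe n', ← heq]
    have hsc : SemiconjBy g (n : G) (g * (n : G) * g⁻¹) := by
      unfold SemiconjBy
      group
    exact hsc.orderOf_eq
  have : Fact (Nat.Prime 5) := ⟨by norm_num⟩
  obtain ⟨a, ha⟩ := exists_prime_orderOf_dvd_card' (G := ↥N) 5 (by rw [hN100]; norm_num)
  obtain ⟨b, hb⟩ := exists_prime_orderOf_dvd_card' (G := ↥N) 2 (hp := ⟨by norm_num⟩)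
    (by rw [hN100]; norm_num)
  have ha1 : a ≠ 1 := by
    rintro rfl
    rw [orderOf_one] at ha
    omega
  have hb1 : b ≠ 1 := by
    rintro rfl
    rw [orderOf_one] at hb
    omega
  rcases hcases a ha1 with haP | haQ <;> rcases hcases b hb1 with hbP | hbQ
  · have := hconj P hP a b haP hbP
    omega
  · -- elements over `P` have order 5, elements over `Q` have order 2: Sylow 5-subgroup too big
    obtain ⟨K5, hK5⟩ := Sylow.exists_subgroup_card_pow_prime (G := ↥N) 5 (n := 2)
      (by rw [hN100]; norm_num)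
    have hsub : (K5 : Set ↥N) ⊆ insert 1 (e ⁻¹' P) := by
      intro k hk
      by_cases hk1 : k = 1
      · rw [hk1]
        exact Set.mem_insert _ _
      · refine Set.mem_insert_of_mem _ ?_
        rcases hcases k hk1 with h | h
        · exact h
        · exfalso
          have h2 : orderOf k = 2 := by
            rw [hconj Q hQ k b h hbQ, hb]
          have h25 : orderOf (⟨k, hk⟩ : ↥K5) ∣ 5 ^ 2 := by
            rw [← hK5]
            exact orderOf_dvd_natCard _
          rw [Subgroup.orderOf_mk, h2] at h25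
          omega
    have hc1 : (K5 : Set ↥N).ncard = 25 := by
      rw [← Nat.card_coe_set_eq]
      exact hK5
    have hc2 : (e ⁻¹' P).ncard = 22 := by
      rw [← hPc, ← Set.ncard_image_of_injective _ e.injective, Equiv.image_preimage]
    have hc3 := Set.ncard_le_ncard hsub (Set.toFinite _)
    have hc4 := Set.ncard_insert_le (1 : ↥N) (e ⁻¹' P)
    omega
  · -- elements over `Q` have order 5: inversion is a fixed-point-free involution on 77 elements
    have hmem : ∀ n : ↥N, e n ∈ Q → e n⁻¹ ∈ Q := by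
      intro n hn
      have h5 : orderOf n = 5 := by
        rw [hconj Q hQ n a hn haQ, ha]
      have hn1 : n⁻¹ ≠ 1 := by
        intro h
        rw [inv_eq_one] at h
        rw [h, orderOf_one] at h5
        omega
      rcases hcases n⁻¹ hn1 with h | h
      · exfalso
        have := hconj P hP n⁻¹ b h hbP
        rw [orderOf_inv, h5, hb] at this
        omega
      · exact h
    have hne : ∀ n : ↥N, e n ∈ Q → n⁻¹ ≠ n := by
      intro n hn h
      have h5 : orderOf n = 5 := by
        rw [hconj Q hQ n a hn haQ, ha]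
      have h2 : n ^ 2 = 1 := by
        rw [pow_two]
        nth_rewrite 1 [← h]
        exact inv_mul_cancel n
      have := orderOf_dvd_of_pow_eq_one h2
      rw [h5] at this
      omega
    haveI : Fintype ↥N := Fintype.ofFinite _
    have hsum : ∑ n ∈ (e ⁻¹' Q).toFinset, (1 : ZMod 2) = 0 := by
      refine Finset.sum_involution (fun n _ => n⁻¹) ?_ ?_ ?_ ?_
      · intro n _
        exact (by decide : (1 : ZMod 2) + 1 = 0)
      · intro n hn _
        rw [Set.mem_toFinset] at hn
        exact hne n hn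
      · intro n hn
        rw [Set.mem_toFinset] at hn ⊢
        exact hmem n hn
      · intro n _
        exact inv_inv n
    rw [Finset.sum_const, nsmul_eq_mul, mul_one, ZMod.natCast_eq_zero_iff,
      ← Set.ncard_eq_toFinset_card'] at hsum
    have hc2 : (e ⁻¹' Q).ncard = 77 := by
      rw [← hQc, ← Set.ncard_image_of_injective _ e.injective, Equiv.image_preimage]
    rw [hc2] at hsum
    omega
  · have := hconj Q hQ a b haQ hbQ
    omega

/-- simplicity in the rank 3 setting with subdegrees `1, 22, 77` and simple point stabilizer -/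
theorem simple_of_rank3 [Finite G] [FaithfulSMul G X] (x0 : X) (P Q : Set X)
    (hcover : ∀ x, x = x0 ∨ x ∈ P ∨ x ∈ Q)
    (hP0 : x0 ∉ P) (hQ0 : x0 ∉ Q) (hPQ : Disjoint P Q)
    (hPc : P.ncard = 22) (hQc : Q.ncard = 77)
    (htrans : ∀ x, ∃ g : G, g • x0 = x)
    (hP : ∀ x ∈ P, ∀ y ∈ P, ∃ g : G, g • x0 = x0 ∧ g • x = y)
    (hQ : ∀ x ∈ Q, ∀ y ∈ Q, ∃ g : G, g • x0 = x0 ∧ g • x = y)
    (hsimple : IsSimpleGroup ↥(stabilizer G x0))
    (h23 : ¬ 23 ∣ Nat.card G) (h13 : ¬ 13 ∣ Nat.card G) : IsSimpleGroup G := by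
  have : Nontrivial G := by
    obtain ⟨s, t, hst⟩ := hsimple.toNontrivial
    exact ⟨⟨(s : G), (t : G), fun h => hst (Subtype.ext h)⟩⟩
  refine ⟨fun N hN => ?_⟩
  by_cases hbot : N = ⊥
  · exact Or.inl hbot
  right
  -- `N` moves the base point
  have hmove : ∃ n ∈ N, n • x0 ≠ x0 := by
    obtain ⟨n, hn1⟩ := (Subgroup.ne_bot_iff_exists_ne_one.1 hbot)
    have : ∃ x : X, (n : G) • x ≠ x := by
      by_contra hall
      push Not at hall
      apply hn1
      apply Subtype.ext
      apply eq_of_smul_eq_smul (α := X)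
      intro x
      rw [hall x, Subgroup.coe_one, one_smul]
    obtain ⟨x, hx⟩ := this
    obtain ⟨g, hg⟩ := htrans x
    refine ⟨g⁻¹ * (n : G) * g, hN.conj_mem' _ n.2 g, ?_⟩
    intro h
    apply hx
    rw [mul_smul, mul_smul, hg, inv_smul_eq_iff, hg] at h
    exact h
  have htr : ∀ x, ∃ n ∈ N, n • x0 = x :=
    rank3_normal_trans x0 P Q hcover hP0 hQ0 hPc hQc hP hQ N hmove
      (fun h => h23 (dvd_trans h (Subgroup.card_subgroup_dvd_card N)))
      (fun h => h13 (dvd_trans h (Subgroup.card_subgroup_dvd_card N)))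
  rcases hsimple.eq_bot_or_eq_top_of_normal (N.subgroupOf (stabilizer G x0)) inferInstance
    with h | h
  · exfalso
    rw [Subgroup.subgroupOf_eq_bot, Subgroup.disjoint_def] at h
    exact rank3_no_regular x0 P Q hcover hP0 hQ0 hPQ hPc hQc hP hQ N htr
      (fun n hn hnx => h hn hnx)
  · rw [Subgroup.subgroupOf_eq_top] at h
    rw [eq_top_iff]
    intro g _
    obtain ⟨n, hn, hnx⟩ := htr (g • x0)
    have h1 : n⁻¹ * g ∈ stabilizer G x0 := by
      rw [mem_stabilizer_iff, mul_smul, ← hnx, inv_smul_smul]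
    have h2 : n * (n⁻¹ * g) ∈ N := N.mul_mem hn (h h1)
    rwa [mul_inv_cancel_left] at h2

end Rank3

end Cfsg.Agent.Helper93
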