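import Mathlib
import Cfsg.Prelude.Def_Sporadic_a
import Cfsg.Prelude.Def_Sporadic
import Cfsg.Agent.Helper93.HsAut
import Cfsg.Agent.Helper93.HsData
import Cfsg.Agent.Helper93.Rank3Simple
import Cfsg.Agent.S0430

/-!
The automorphism group of the point-block graph of an `S(3,6,22)` has a simple subgroup of
index `2` (the even automorphisms).
-/

set_option autoImplicit false

namespace Cfsg.Agent.Helper93

open Cfsg MulAction
open scoped Pointwise

/-- a homomorphism from a simple group with more than two elements to `ℤˣ` is trivial -/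
theorem simple_hom_trivial {K : Type*} [Group K] [IsSimpleGroup K] (hc : 2 < Nat.card K)
    (f : K →* ℤˣ) (k : K) : f k = 1 := by
  rcases f.normal_ker.eq_bot_or_eq_top with h | h
  · exfalso
    have hinj : Function.Injective f := (MonoidHom.ker_eq_bot_iff f).1 h
    have hfin : Finite K := Nat.finite_of_card_ne_zero (by omega)
    have := Nat.card_le_card_of_injective f hinj
    rw [Nat.card_eq_fintype_card (α := ℤˣ), Fintype.card_units_int] at this
    omega
  · have : k ∈ f.ker := by
      rw [h]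
      exact Subgroup.mem_top k
    exact MonoidHom.mem_ker.1 this

theorem three_trans_apply {G : Type*} [Group G] {X : Type*} [MulAction G X]
    (h3 : IsMultiplyPretransitive G X 3) {x y z x' y' z' : X}
    (hxy : x ≠ y) (hxz : x ≠ z) (hyz : y ≠ z) (hxy' : x' ≠ y') (hxz' : x' ≠ z')
    (hyz' : y' ≠ z') : ∃ g : G, g • x = x' ∧ g • y = y' ∧ g • z = z' := by
  have hinj : ∀ (a b c : X), a ≠ b → a ≠ c → b ≠ c → Function.Injective ![a, b, c] := by
    intro a b c hab hac hbc i j hij
    fin_cases i <;> fin_cases j <;> simp_all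
  obtain ⟨g, hg⟩ := (isMultiplyPretransitive_iff.1 h3) ⟨![x, y, z], hinj x y z hxy hxz hyz⟩
    ⟨![x', y', z'], hinj _ _ _ hxy' hxz' hyz'⟩
  refine ⟨g, ?_, ?_, ?_⟩
  · have := congrArg (fun e : Fin 3 ↪ X => e 0) hg
    simpa using this
  · have := congrArg (fun e : Fin 3 ↪ X => e 1) hg
    simpa using this
  · have := congrArg (fun e : Fin 3 ↪ X => e 2) hg
    simpa using this

section PbHom

variable {α : Type*} [Fintype α] [DecidableEq α] {B : Set (Finset α)}

/-- the action of the automorphism group of the set system on the point-block graph -/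
noncomputable def pbHom : ↥(setSystemAut B) →* (pointBlockGraph B ≃g pointBlockGraph B) :=
  MonoidHom.mk' (fun g => pbIso g.1 (aut_image_eq g.1 g.2)) (by
    intro g g'
    apply RelIso.ext
    intro x
    rcases x with _ | a | b
    · rfl
    · rfl
    · show some (Sum.inr _) = some (Sum.inr _)
      congr 2
      apply Subtype.ext
      show (b : Finset α).image ((g * g' : ↥(setSystemAut B)) : Equiv.Perm α) =
        ((b : Finset α).image (g' : Equiv.Perm α)).image (g : Equiv.Perm α)
      rw [Finset.image_image]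
      rfl)

theorem pbHom_none (g : ↥(setSystemAut B)) : pbHom g none = none := rfl

theorem pbHom_inl (g : ↥(setSystemAut B)) (a : α) :
    pbHom g (some (Sum.inl a)) = some (Sum.inl ((g : Equiv.Perm α) a)) := rfl

theorem pbHom_inr (g : ↥(setSystemAut B)) (b b' : ↥B)
    (h : (b : Finset α).image (g : Equiv.Perm α) = (b' : Finset α)) :
    pbHom g (some (Sum.inr b)) = some (Sum.inr b') := by
  show some (Sum.inr _) = some (Sum.inr _)
  congr 2
  apply Subtype.ext
  exact h

theorem pbHom_injective : Function.Injective (pbHom (B := B)) := by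
  intro g g' h
  apply Subtype.ext
  apply Equiv.ext
  intro a
  have h1 := congrArg (fun φ : pointBlockGraph B ≃g pointBlockGraph B => φ (some (Sum.inl a))) h
  simp only [pbHom_inl] at h1
  exact Sum.inl.inj (Option.some.inj h1)

end PbHom

section Main

variable {α : Type*} [Fintype α] [DecidableEq α] {B : Set (Finset α)} [Fintype ↥B]

/-- the sign of an automorphism as a permutation of the vertices -/
noncomputable def signHom : (pointBlockGraph B ≃g pointBlockGraph B) →* ℤˣ :=
  Equiv.Perm.sign.comp (MonoidHom.mk' (fun φ => φ.toEquiv) (fun _ _ => rfl))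

theorem signHom_apply (φ : pointBlockGraph B ≃g pointBlockGraph B) :
    signHom φ = Equiv.Perm.sign φ.toEquiv := rfl

theorem exists_odd (hα : Fintype.card α = 22) (hB : IsSteinerSystem 3 6 B) :
    ∃ φ : pointBlockGraph B ≃g pointBlockGraph B, signHom φ = -1 := by
  classical
  have hΓ : (pointBlockGraph B).IsSRGWith 100 22 0 6 := Cfsg.Agent.S0428.result hα hB
  obtain ⟨ψ⟩ := Cfsg.Agent.S0430.result hsGraph_srg hΓ
  refine ⟨ψ.symm.trans (hsAut.trans ψ), ?_⟩
  rw [signHom_apply]
  have : (ψ.symm.trans (hsAut.trans ψ)).toEquiv = ψ.toEquiv.permCongr hsPerm := by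
    apply Equiv.ext
    intro x
    rfl
  rw [this, Equiv.Perm.sign_permCongr, hsPerm_sign]

theorem card_signKer (hα : Fintype.card α = 22) (hB : IsSteinerSystem 3 6 B) :
    Nat.card ↥(signHom (B := B)).ker = 44352000 := by
  obtain ⟨φ, hφ⟩ := exists_odd hα hB
  have hsurj : Function.Surjective (signHom (B := B)) := by
    intro u
    rcases Int.units_eq_one_or u with rfl | rfl
    · exact ⟨1, map_one _⟩
    · exact ⟨φ, hφ⟩
  have hidx : (signHom (B := B)).ker.index = 2 := by
    rw [Subgroup.index_ker, MonoidHom.range_eq_top.2 hsurj, Subgroup.card_top,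
      Nat.card_eq_fintype_card, Fintype.card_units_int]
  have := Subgroup.card_mul_index (signHom (B := B)).ker
  rw [hidx, card_pb_aut hα hB] at this
  omega

theorem card_blocks (hα : Fintype.card α = 22) (hB : IsSteinerSystem 3 6 B) : B.ncard = 77 := by
  classical
  have hΓ : (pointBlockGraph B).IsSRGWith 100 22 0 6 := Cfsg.Agent.S0428.result hα hB
  have h := hΓ.card
  rw [Fintype.card_option, Fintype.card_sum, hα] at h
  rw [← Nat.card_coe_set_eq, Nat.card_eq_fintype_card]
  omega

omit [Fintype ↥B] in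
theorem h0_trans_points (hα : Fintype.card α = 22) (hB : IsSteinerSystem 3 6 B)
    (H0 : Subgroup ↥(setSystemAut B)) (hidx : H0.index = 2) (hM : IsM22 ↥H0) (a a' : α) :
    ∃ h ∈ H0, (h : Equiv.Perm α) a = a' := by
  have h3 := (Cfsg.Agent.S0414.result hα hB).2.1
  have h2 : IsMultiplyPretransitive ↥(setSystemAut B) α 2 :=
    isMultiplyPretransitive_of_le (n := 3) (by norm_num)
      (by rw [Nat.card_eq_fintype_card, hα]; norm_num)
  haveI := Subgroup.normal_of_index_eq_two hidx
  have hne : ∃ n ∈ H0, ∃ x : α, n • x ≠ x := by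
    have hc : Nat.card ↥H0 = 443520 := hM.2
    have hbot : H0 ≠ ⊥ := by
      rintro rfl
      rw [Subgroup.card_bot] at hc
      omega
    obtain ⟨n, hn1⟩ := Subgroup.ne_bot_iff_exists_ne_one.1 hbot
    by_contra hall
    push Not at hall
    apply hn1
    apply Subtype.ext
    apply Subtype.ext
    apply Equiv.ext
    intro x
    exact hall n.1 n.2 x
  obtain ⟨n, hn, x, hx⟩ := hne
  obtain ⟨m, hm, hma⟩ := normal_trans_of_two_trans H0 (is_two_pretransitive_iff.1 h2) hn hx a a'
  exact ⟨m, hm, hma⟩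

theorem h0_trans_blocks (hα : Fintype.card α = 22) (hB : IsSteinerSystem 3 6 B)
    (H0 : Subgroup ↥(setSystemAut B)) (hidx : H0.index = 2) (b b' : Finset α) (hb : b ∈ B)
    (hb' : b' ∈ B) : ∃ h ∈ H0, b.image (h : Equiv.Perm α) = b' := by
  have h3 := (Cfsg.Agent.S0414.result hα hB).2.1
  have hsm : ∀ g : ↥(setSystemAut B), g • b ∈ B := by
    intro g
    have hg := g.2
    rw [mem_stabilizer_iff] at hg
    have : (g : Equiv.Perm α) • b ∈ (g : Equiv.Perm α) • B := Set.smul_mem_smul_set hb
    rw [hg] at this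
    exact this
  have horb : orbit ↥(setSystemAut B) b = B := by
    ext c
    constructor
    · rintro ⟨g, rfl⟩
      exact hsm g
    · intro hc
      obtain ⟨t, ht, htc⟩ := Finset.exists_subset_card_eq
        (show 3 ≤ b.card by rw [hB.1 b hb]; norm_num)
      obtain ⟨t', ht', htc'⟩ := Finset.exists_subset_card_eq
        (show 3 ≤ c.card by rw [hB.1 c hc]; norm_num)
      obtain ⟨x, y, z, hxy, hxz, hyz, rfl⟩ := Finset.card_eq_three.1 htc
      obtain ⟨x', y', z', hxy', hxz', hyz', rfl⟩ := Finset.card_eq_three.1 htc'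
      obtain ⟨g, hgx, hgy, hgz⟩ := three_trans_apply h3 hxy hxz hyz hxy' hxz' hyz'
      refine ⟨g, ?_⟩
      have hsub : ({x', y', z'} : Finset α) ⊆ g • b := by
        intro w hw
        simp only [Finset.mem_insert, Finset.mem_singleton] at hw
        rcases hw with rfl | rfl | rfl
        · rw [← hgx]
          exact Finset.smul_mem_smul_finset (ht (by simp))
        · rw [← hgy]
          exact Finset.smul_mem_smul_finset (ht (by simp))
        · rw [← hgz]
          exact Finset.smul_mem_smul_finset (ht (by simp))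
      exact (hB.2 _ htc').unique ⟨hsm g, hsub⟩ ⟨hc, ht'⟩
  have hodd : Odd (orbit ↥(setSystemAut B) b).ncard := by
    rw [horb, card_blocks hα hB]
    decide
  obtain ⟨k, hk, hkb⟩ := index_two_orbit H0 hidx b hodd (by rw [horb]; exact hb')
  exact ⟨k, hk, hkb⟩

theorem hs_simple (hα : Fintype.card α = 22) (hB : IsSteinerSystem 3 6 B) :
    IsSimpleGroup ↥(signHom (B := B)).ker := by
  classical
  have hΓ : (pointBlockGraph B).IsSRGWith 100 22 0 6 := Cfsg.Agent.S0428.result hα hB
  obtain ⟨H0, hidx, hM⟩ := (Cfsg.Agent.S0414.result hα hB).2.2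
  have hcardH := card_signKer hα hB
  set H := (signHom (B := B)).ker with hH
  have hfinH : Finite ↥H := Nat.finite_of_card_ne_zero (by rw [hcardH]; norm_num)
  have hmem : ∀ h ∈ H0, pbHom h ∈ H := by
    intro h hh
    rw [hH, MonoidHom.mem_ker]
    haveI := hM.1
    exact simple_hom_trivial (K := ↥H0) (by rw [hM.2]; norm_num)
      ((signHom.comp pbHom).comp H0.subtype) ⟨h, hh⟩
  set P : Set (Option (α ⊕ ↥B)) := Set.range (fun a : α => some (Sum.inl a)) with hPdef
  set Q : Set (Option (α ⊕ ↥B)) := Set.range (fun b : ↥B => some (Sum.inr b)) with hQdef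
  have hcover : ∀ u : Option (α ⊕ ↥B), u = none ∨ u ∈ P ∨ u ∈ Q := by
    rintro (_ | a | b)
    · exact Or.inl rfl
    · exact Or.inr (Or.inl ⟨a, rfl⟩)
    · exact Or.inr (Or.inr ⟨b, rfl⟩)
  have hP0 : (none : Option (α ⊕ ↥B)) ∉ P := by
    rintro ⟨a, ha⟩
    exact absurd ha (by simp)
  have hQ0 : (none : Option (α ⊕ ↥B)) ∉ Q := by
    rintro ⟨a, ha⟩
    exact absurd ha (by simp)
  have hPQ : Disjoint P Q := by
    rw [Set.disjoint_left]
    rintro _ ⟨a, rfl⟩ ⟨b, hb⟩
    exact absurd hb (by simp)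
  have hPc : P.ncard = 22 := by
    rw [hPdef, Set.ncard_range_of_injective (fun a a' h => by simpa using h),
      Nat.card_eq_fintype_card, hα]
  have hQc : Q.ncard = 77 := by
    rw [hQdef, Set.ncard_range_of_injective (fun a a' h => by simpa using h),
      Nat.card_coe_set_eq, card_blocks hα hB]
  have hPA : ∀ x ∈ P, ∀ y ∈ P, ∃ h ∈ H0, pbHom h x = y := by
    rintro _ ⟨a, rfl⟩ _ ⟨a', rfl⟩
    obtain ⟨h, hh, hha⟩ := h0_trans_points hα hB H0 hidx hM a a'
    exact ⟨h, hh, by rw [pbHom_inl, hha]⟩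
  have hQA : ∀ x ∈ Q, ∀ y ∈ Q, ∃ h ∈ H0, pbHom h x = y := by
    rintro _ ⟨b, rfl⟩ _ ⟨b', rfl⟩
    obtain ⟨h, hh, hhb⟩ := h0_trans_blocks hα hB H0 hidx b.1 b'.1 b.2 b'.2
    exact ⟨h, hh, pbHom_inr h b b' hhb⟩
  have hstab : Nat.card ↥(stabilizer (pointBlockGraph B ≃g pointBlockGraph B)
      (none : Option (α ⊕ ↥B))) = 887040 := by
    rw [← (Cfsg.Agent.S0414.result hα hB).1, ← card_stab_none]
    rfl
  have hmove : ∃ n ∈ H, n • (none : Option (α ⊕ ↥B)) ≠ none := by
    by_contra hall
    push Not at hall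
    have hle : H ≤ stabilizer (pointBlockGraph B ≃g pointBlockGraph B)
        (none : Option (α ⊕ ↥B)) := fun n hn => hall n hn
    have := Subgroup.card_dvd_of_le hle
    rw [hcardH, hstab] at this
    omega
  have htrH : ∀ u : Option (α ⊕ ↥B), ∃ n ∈ H, n • (none : Option (α ⊕ ↥B)) = u :=
    rank3_normal_trans none P Q hcover hP0 hQ0 hPc hQc
      (fun x hx y hy => by
        obtain ⟨h, hh, e⟩ := hPA x hx y hy
        exact ⟨pbHom h, pbHom_none h, e⟩)
      (fun x hx y hy => by
        obtain ⟨h, hh, e⟩ := hQA x hx y hy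
        exact ⟨pbHom h, pbHom_none h, e⟩)
      H hmove (by rw [hcardH]; norm_num) (by rw [hcardH]; norm_num)
  have hstabH : Nat.card ↥(stabilizer ↥H (none : Option (α ⊕ ↥B))) = 443520 := by
    have h1 := Subgroup.card_mul_index (stabilizer ↥H (none : Option (α ⊕ ↥B)))
    have horb : orbit ↥H (none : Option (α ⊕ ↥B)) = Set.univ := by
      rw [Set.eq_univ_iff_forall]
      intro u
      obtain ⟨n, hn, e⟩ := htrH u
      exact ⟨⟨n, hn⟩, e⟩
    rw [index_stabilizer, horb, Set.ncard_univ,
      Nat.card_eq_fintype_card (α := Option (α ⊕ ↥B)), hΓ.card, hcardH] at h1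
    omega
  let Θ0 : ↥H0 →* ↥H :=
    ((pbHom (B := B)).comp H0.subtype).codRestrict H (fun h => hmem h.1 h.2)
  let Θ : ↥H0 →* ↥(stabilizer ↥H (none : Option (α ⊕ ↥B))) :=
    Θ0.codRestrict _ (fun h => by
      rw [mem_stabilizer_iff]
      exact pbHom_none h.1)
  have hΘinj : Function.Injective Θ := by
    intro h h' e
    have e1 : pbHom h.1 = pbHom h'.1 :=
      congrArg (fun t : ↥(stabilizer ↥H (none : Option (α ⊕ ↥B))) =>
        ((t : ↥H) : pointBlockGraph B ≃g pointBlockGraph B)) e
    exact Subtype.ext (pbHom_injective e1)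
  have hΘsurj : Function.Surjective Θ :=
    (hΘinj.bijective_of_nat_card_le (by rw [hstabH, hM.2])).2
  haveI := hM.1
  haveI : Nontrivial ↥(stabilizer ↥H (none : Option (α ⊕ ↥B))) := hΘinj.nontrivial
  have hsimple : IsSimpleGroup ↥(stabilizer ↥H (none : Option (α ⊕ ↥B))) :=
    IsSimpleGroup.isSimpleGroup_of_surjective Θ hΘsurj
  exact simple_of_rank3 (G := ↥H) none P Q hcover hP0 hQ0 hPQ hPc hQc
    (fun u => by
      obtain ⟨n, hn, e⟩ := htrH u
      exact ⟨⟨n, hn⟩, e⟩)
    (fun x hx y hy => by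
      obtain ⟨h, hh, e⟩ := hPA x hx y hy
      exact ⟨⟨pbHom h, hmem h hh⟩, pbHom_none h, e⟩)
    (fun x hx y hy => by
      obtain ⟨h, hh, e⟩ := hQA x hx y hy
      exact ⟨⟨pbHom h, hmem h hh⟩, pbHom_none h, e⟩)
    hsimple (by rw [hcardH]; norm_num) (by rw [hcardH]; norm_num)

end Main

end Cfsg.Agent.Helper93
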