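/-
Helper93: a transitive permutation group of degree 100 whose point stabiliser has orbits of
sizes 1, 22, 77 preserves a strongly regular graph with parameters (100, 22, 0, 6).
-/
import Mathlib

set_option autoImplicit false

namespace Cfsg.Agent.Helper93

/-! ### Two divisibility conditions for strongly regular graphs -/

theorem z3_a : (100 : ℕ) • ((22 : ℕ) : ZMod 3) = 2200 := by
  rw [nsmul_eq_mul]; rfl

theorem z3_b : (2200 : ZMod 3) = 1 := by decide

theorem z23_a : ((23 : ℕ) : ZMod 23) = 0 := by decide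

theorem z23_b : ((100 : ℕ) : ZMod 23) ≠ 0 := by decide

theorem srg_lambda_mod3 {V : Type*} [Fintype V] (Γ : SimpleGraph V) [DecidableRel Γ.Adj]
    {ℓ μ : ℕ} (hs : Γ.IsSRGWith 100 22 ℓ μ) : 3 ∣ ℓ := by
  classical
  have hp3 : Fact (Nat.Prime 3) := ⟨by norm_num⟩
  have hsq : Γ.adjMatrix (ZMod 3) ^ 2 = (22 : ℕ) • (1 : Matrix V V (ZMod 3))
      + ℓ • Γ.adjMatrix (ZMod 3) + μ • Γᶜ.adjMatrix (ZMod 3) := hs.matrix_eq
  have htr : (Γ.adjMatrix (ZMod 3)).trace = 0 := SimpleGraph.trace_adjMatrix (ZMod 3) Γ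
  have h3 : (Γ.adjMatrix (ZMod 3) ^ 3).trace = 0 := by
    have h := FiniteField.trace_pow_card (Γ.adjMatrix (ZMod 3))
    rw [ZMod.card 3, htr] at h
    rw [h]
    simp
  have htr2 : (Γ.adjMatrix (ZMod 3) ^ 2).trace = (2200 : ZMod 3) := by
    rw [pow_two, Matrix.trace]
    simp only [Matrix.diag_apply]
    rw [Finset.sum_congr rfl (fun i _ => SimpleGraph.adjMatrix_mul_self_apply_self Γ i)]
    rw [Finset.sum_congr rfl (fun i _ => by rw [hs.regular.degree_eq i])]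
    rw [Finset.sum_const, Finset.card_univ, hs.card]
    exact z3_a
  have htrc : (Γ.adjMatrix (ZMod 3) * Γᶜ.adjMatrix (ZMod 3)).trace = 0 := by
    rw [Matrix.trace]
    apply Finset.sum_eq_zero
    intro i _
    rw [Matrix.diag_apply, Matrix.mul_apply]
    apply Finset.sum_eq_zero
    intro j _
    rw [SimpleGraph.adjMatrix_apply, SimpleGraph.adjMatrix_apply]
    by_cases hij : Γ.Adj i j
    · have hc : ¬ Γᶜ.Adj j i := by
        rw [SimpleGraph.compl_adj]
        intro hh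
        exact hh.2 hij.symm
      rw [if_neg hc, mul_zero]
    · rw [if_neg hij, zero_mul]
  have e : Γ.adjMatrix (ZMod 3) ^ 3 = (22 : ℕ) • Γ.adjMatrix (ZMod 3)
      + ℓ • Γ.adjMatrix (ZMod 3) ^ 2 + μ • (Γ.adjMatrix (ZMod 3) * Γᶜ.adjMatrix (ZMod 3)) := by
    rw [pow_succ' (Γ.adjMatrix (ZMod 3)) 2, hsq]
    simp only [mul_add, Matrix.mul_smul, mul_one]
    rw [← pow_two, hsq]
  rw [e, Matrix.trace_add, Matrix.trace_add, Matrix.trace_smul, Matrix.trace_smul,
    Matrix.trace_smul, htr, htr2, htrc, smul_zero, smul_zero, zero_add, add_zero,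
    nsmul_eq_mul] at h3
  have h1 : (2200 : ZMod 3) = 1 := z3_b
  rw [h1, mul_one] at h3
  exact (ZMod.natCast_eq_zero_iff ℓ 3).mp h3

theorem srg_not_21 {V : Type*} [Fintype V] (Γ : SimpleGraph V) [DecidableRel Γ.Adj]
    (hs : Γ.IsSRGWith 100 22 21 0) : False := by
  classical
  have hp23 : Fact (Nat.Prime 23) := ⟨by norm_num⟩
  have hsq : Γ.adjMatrix (ZMod 23) ^ 2 = (22 : ℕ) • (1 : Matrix V V (ZMod 23))
      + 21 • Γ.adjMatrix (ZMod 23) + 0 • Γᶜ.adjMatrix (ZMod 23) := hs.matrix_eq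
  have h23 : ∀ M : Matrix V V (ZMod 23), (23 : ℕ) • M = 0 := by
    intro M
    ext i j
    simp only [Matrix.smul_apply, Matrix.zero_apply, nsmul_eq_mul]
    have h0 : ((23 : ℕ) : ZMod 23) = 0 := z23_a
    rw [h0, zero_mul]
  have hnil : (Γ.adjMatrix (ZMod 23) + 1) ^ 2 = 0 := by
    have e : (Γ.adjMatrix (ZMod 23) + 1) ^ 2
        = Γ.adjMatrix (ZMod 23) ^ 2 + Γ.adjMatrix (ZMod 23) + (Γ.adjMatrix (ZMod 23) + 1) := by
      rw [pow_two, add_mul, mul_add, mul_add, mul_one, one_mul, one_mul, ← pow_two]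
    rw [e, hsq, zero_smul, add_zero]
    have e2 : (22 : ℕ) • (1 : Matrix V V (ZMod 23)) + 21 • Γ.adjMatrix (ZMod 23)
        + Γ.adjMatrix (ZMod 23) + (Γ.adjMatrix (ZMod 23) + 1)
        = (23 : ℕ) • (1 : Matrix V V (ZMod 23)) + (23 : ℕ) • Γ.adjMatrix (ZMod 23) := by
      abel
    rw [e2, h23, h23, add_zero]
  have htr : IsNilpotent (Γ.adjMatrix (ZMod 23) + 1).trace :=
    Matrix.isNilpotent_trace_of_isNilpotent ⟨2, hnil⟩
  rw [Matrix.trace_add, SimpleGraph.trace_adjMatrix, zero_add, Matrix.trace_one, hs.card] at htr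
  exact z23_b htr.eq_zero

/-- The parameters of a strongly regular graph on 100 vertices of valency 22 are forced when
there are any adjacent vertices at all. -/
theorem srg_params {V : Type*} [Fintype V] (Γ : SimpleGraph V) [DecidableRel Γ.Adj] {ℓ μ : ℕ}
    (hs : Γ.IsSRGWith 100 22 ℓ μ) : ℓ = 0 ∧ μ = 6 := by
  classical
  have h3 := srg_lambda_mod3 Γ hs
  have hp := hs.param_eq Γ (by norm_num)
  -- `ℓ ≤ 21`
  have hV : Nonempty V := by
    rw [← Fintype.card_pos_iff, hs.card]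
    norm_num
  obtain ⟨v⟩ := hV
  have hdeg : (Γ.neighborSet v).ncard = 22 := by
    rw [← Nat.card_coe_set_eq, ← Fintype.card_eq_nat_card, SimpleGraph.card_neighborSet_eq_degree,
      hs.regular.degree_eq v]
  have hne : (Γ.neighborSet v).Nonempty := by
    rw [← Set.ncard_pos (Set.toFinite _), hdeg]
    norm_num
  obtain ⟨w, hw⟩ := hne
  have hℓ : (Γ.commonNeighbors v w).ncard = ℓ := by
    rw [← Nat.card_coe_set_eq, ← Fintype.card_eq_nat_card]
    exact hs.of_adj v w hw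
  have hsub : Γ.commonNeighbors v w ⊆ Γ.neighborSet v \ {w} := by
    intro u hu
    refine ⟨hu.1, ?_⟩
    rintro rfl
    exact Γ.loopless.irrefl _ hu.2
  have hle := Set.ncard_le_ncard hsub (Set.toFinite _)
  rw [Set.ncard_sdiff_singleton_of_mem hw, hdeg, hℓ] at hle
  obtain ⟨t, rfl⟩ := h3
  have hcases : (3 * t = 0 ∧ μ = 6) ∨ (3 * t = 21 ∧ μ = 0) := by omega
  rcases hcases with h | h
  · exact h
  · exfalso
    rw [h.1, h.2] at hs
    exact srg_not_21 Γ hs

/-! ### The orbital graph -/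

section Orbital

variable {Ω : Type*} [Fintype Ω] [DecidableEq Ω]

/-- Hypotheses: a transitive permutation group of degree 100 whose stabiliser of `a` has the
orbits `O1` and `O2` of sizes 22 and 77 outside `a`. -/
structure R3 (G : Subgroup (Equiv.Perm Ω)) (a : Ω) (O1 O2 : Set Ω) : Prop where
  card : Fintype.card Ω = 100
  trans : ∀ x y : Ω, ∃ g ∈ G, g x = y
  c1 : O1.ncard = 22
  c2 : O2.ncard = 77
  a1 : a ∉ O1
  a2 : a ∉ O2
  disj : Disjoint O1 O2
  inv1 : ∀ g ∈ G, g a = a → ∀ y ∈ O1, g y ∈ O1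
  tr1 : ∀ y ∈ O1, ∀ y' ∈ O1, ∃ g ∈ G, g a = a ∧ g y = y'
  tr2 : ∀ y ∈ O2, ∀ y' ∈ O2, ∃ g ∈ G, g a = a ∧ g y = y'

/-- Adjacency in the orbital graph of the orbit `O1`. -/
def r3Adj (G : Subgroup (Equiv.Perm Ω)) (a : Ω) (O1 : Set Ω) (x y : Ω) : Prop :=
  ∃ g ∈ G, g a = x ∧ g⁻¹ y ∈ O1

namespace R3

variable {G : Subgroup (Equiv.Perm Ω)} {a : Ω} {O1 O2 : Set Ω}

theorem adj_iff (h : R3 G a O1 O2) {g : Equiv.Perm Ω} (hg : g ∈ G) {x : Ω} (hga : g a = x)
    (y : Ω) : r3Adj G a O1 x y ↔ g⁻¹ y ∈ O1 := by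
  constructor
  · rintro ⟨g', hg', hg'a, hy⟩
    have h1 : (g⁻¹ * g') a = a := by
      rw [Equiv.Perm.mul_apply, hg'a, ← hga]
      simp
    have h2 := h.inv1 _ (G.mul_mem (G.inv_mem hg) hg') h1 _ hy
    rw [Equiv.Perm.mul_apply] at h2
    simpa using h2
  · intro hy
    exact ⟨g, hg, hga, hy⟩

theorem adj_smul (h : R3 G a O1 O2) {g : Equiv.Perm Ω} (hg : g ∈ G) (x y : Ω) :
    r3Adj G a O1 (g x) (g y) ↔ r3Adj G a O1 x y := by
  obtain ⟨k, hk, hka⟩ := h.trans a x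
  rw [h.adj_iff hk hka, h.adj_iff (G.mul_mem hg hk) (by rw [Equiv.Perm.mul_apply, hka])]
  have e : (g * k)⁻¹ (g y) = k⁻¹ y := by
    rw [mul_inv_rev, Equiv.Perm.mul_apply]
    simp
  rw [e]

theorem adj_a (h : R3 G a O1 O2) (y : Ω) : r3Adj G a O1 a y ↔ y ∈ O1 := by
  rw [h.adj_iff G.one_mem (Equiv.Perm.one_apply a)]
  simp

theorem irrefl (h : R3 G a O1 O2) (x : Ω) : ¬ r3Adj G a O1 x x := by
  rintro ⟨g, hg, hga, hy⟩
  rw [← hga] at hy
  have e : g⁻¹ (g a) = a := by simp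
  rw [e] at hy
  exact h.a1 hy

theorem cover (h : R3 G a O1 O2) (y : Ω) : y = a ∨ y ∈ O1 ∨ y ∈ O2 := by
  have hc : (insert a (O1 ∪ O2)).ncard = Nat.card Ω := by
    rw [Set.ncard_insert_of_notMem (by simp [h.a1, h.a2]) (Set.toFinite _),
      Set.ncard_union_eq h.disj (Set.toFinite _) (Set.toFinite _), h.c1, h.c2,
      Nat.card_eq_fintype_card, h.card]
  have hu := (Set.eq_univ_iff_ncard _).mpr hc
  have hy : y ∈ insert a (O1 ∪ O2) := by
    rw [hu]
    exact Set.mem_univ y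
  simpa [Set.mem_insert_iff] using hy

theorem outN_eq (h : R3 G a O1 O2) {g : Equiv.Perm Ω} (hg : g ∈ G) {x : Ω} (hga : g a = x) :
    {y | r3Adj G a O1 x y} = g '' O1 := by
  ext y
  rw [Set.mem_ofPred_eq, h.adj_iff hg hga]
  constructor
  · intro hy
    exact ⟨g⁻¹ y, hy, by simp⟩
  · rintro ⟨u, hu, rfl⟩
    simpa using hu

theorem ncard_outN (h : R3 G a O1 O2) (x : Ω) : {y | r3Adj G a O1 x y}.ncard = 22 := by
  obtain ⟨g, hg, hga⟩ := h.trans a x
  rw [h.outN_eq hg hga, Set.ncard_image_of_injective _ g.injective, h.c1]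

theorem inN_smul (h : R3 G a O1 O2) {g : Equiv.Perm Ω} (hg : g ∈ G) (x : Ω) :
    {y | r3Adj G a O1 y (g x)} = g '' {y | r3Adj G a O1 y x} := by
  ext y
  constructor
  · intro hy
    refine ⟨g⁻¹ y, ?_, by simp⟩
    have hy' : r3Adj G a O1 (g (g⁻¹ y)) (g x) := by
      simpa using hy
    exact (h.adj_smul hg (g⁻¹ y) x).mp hy'
  · rintro ⟨u, hu, rfl⟩
    exact (h.adj_smul hg u x).mpr hu

theorem ncard_eq_sum (P : Ω → Prop) [DecidablePred P] :
    {y | P y}.ncard = ∑ y : Ω, if P y then 1 else 0 := by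
  rw [← Finset.card_filter, ← Set.ncard_coe_finset]
  congr 1
  ext y
  simp

theorem ncard_inN (h : R3 G a O1 O2) (x : Ω) : {y | r3Adj G a O1 y x}.ncard = 22 := by
  classical
  have hconst : ∀ x, {y | r3Adj G a O1 y x}.ncard = {y | r3Adj G a O1 y a}.ncard := by
    intro x
    obtain ⟨g, hg, hga⟩ := h.trans a x
    rw [← hga, h.inN_smul hg, Set.ncard_image_of_injective _ g.injective]
  have hdc : ∑ x : Ω, {y | r3Adj G a O1 y x}.ncard = ∑ x : Ω, {y | r3Adj G a O1 x y}.ncard := by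
    rw [Finset.sum_congr rfl (fun x _ => ncard_eq_sum (fun y => r3Adj G a O1 y x)),
      Finset.sum_congr rfl (fun x _ => ncard_eq_sum (fun y => r3Adj G a O1 x y))]
    exact Finset.sum_comm
  have h1 : ∑ x : Ω, {y | r3Adj G a O1 y x}.ncard = 100 * {y | r3Adj G a O1 y a}.ncard := by
    rw [Finset.sum_congr rfl (fun x _ => hconst x), Finset.sum_const, Finset.card_univ, h.card,
      smul_eq_mul]
  have h2 : ∑ x : Ω, {y | r3Adj G a O1 x y}.ncard = 100 * 22 := by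
    rw [Finset.sum_congr rfl (fun x _ => h.ncard_outN x), Finset.sum_const, Finset.card_univ,
      h.card, smul_eq_mul]
  rw [hconst x]
  omega

theorem inN_a (h : R3 G a O1 O2) : {y | r3Adj G a O1 y a} = O1 := by
  have hsub : {y | r3Adj G a O1 y a} ⊆ O1 := by
    intro y hy
    rcases h.cover y with h1 | h1 | h1
    · exfalso
      rw [h1] at hy
      exact h.irrefl a hy
    · exact h1
    · exfalso
      have hO2 : O2 ⊆ {y | r3Adj G a O1 y a} := by
        intro y' hy'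
        obtain ⟨g, hg, hga, hgy⟩ := h.tr2 y h1 y' hy'
        have h3 := (h.adj_smul hg y a).mpr hy
        rw [hga, hgy] at h3
        exact h3
      have h4 := Set.ncard_le_ncard hO2 (Set.toFinite _)
      rw [h.c2, h.ncard_inN] at h4
      omega
  exact Set.eq_of_subset_of_ncard_le hsub (by rw [h.c1, h.ncard_inN]) (Set.toFinite _)

theorem symm (h : R3 G a O1 O2) {x y : Ω} (hxy : r3Adj G a O1 x y) : r3Adj G a O1 y x := by
  obtain ⟨g, hg, hga⟩ := h.trans a x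
  have h1 : r3Adj G a O1 a (g⁻¹ y) := by
    apply (h.adj_smul hg a (g⁻¹ y)).mp
    rw [hga]
    simpa using hxy
  have h2 : g⁻¹ y ∈ O1 := (h.adj_a _).mp h1
  have h3 : r3Adj G a O1 (g⁻¹ y) a := by
    have h4 : g⁻¹ y ∈ {y | r3Adj G a O1 y a} := by
      rw [h.inN_a]
      exact h2
    exact h4
  have h5 := (h.adj_smul hg (g⁻¹ y) a).mpr h3
  rw [hga] at h5
  simpa using h5

/-- The orbital graph. -/
def graph (h : R3 G a O1 O2) : SimpleGraph Ω where
  Adj := r3Adj G a O1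
  symm := ⟨fun _ _ hxy => h.symm hxy⟩
  loopless := ⟨fun x hx => h.irrefl x hx⟩

theorem graph_adj (h : R3 G a O1 O2) (x y : Ω) : h.graph.Adj x y ↔ r3Adj G a O1 x y := Iff.rfl

theorem graph_smul (h : R3 G a O1 O2) {g : Equiv.Perm Ω} (hg : g ∈ G) (x y : Ω) :
    h.graph.Adj (g x) (g y) ↔ h.graph.Adj x y := h.adj_smul hg x y

theorem cn_smul (h : R3 G a O1 O2) {g : Equiv.Perm Ω} (hg : g ∈ G) (x y : Ω) :
    {w | r3Adj G a O1 (g x) w ∧ r3Adj G a O1 (g y) w}.ncard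
      = {w | r3Adj G a O1 x w ∧ r3Adj G a O1 y w}.ncard := by
  have e : {w | r3Adj G a O1 (g x) w ∧ r3Adj G a O1 (g y) w}
      = g '' {w | r3Adj G a O1 x w ∧ r3Adj G a O1 y w} := by
    ext w
    constructor
    · rintro ⟨h1, h2⟩
      refine ⟨g⁻¹ w, ⟨?_, ?_⟩, by simp⟩
      · apply (h.adj_smul hg x (g⁻¹ w)).mp
        simpa using h1
      · apply (h.adj_smul hg y (g⁻¹ w)).mp
        simpa using h2
    · rintro ⟨u, ⟨h1, h2⟩, rfl⟩
      exact ⟨(h.adj_smul hg x u).mpr h1, (h.adj_smul hg y u).mpr h2⟩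
  rw [e, Set.ncard_image_of_injective _ g.injective]

theorem exists_srg (h : R3 G a O1 O2) [DecidableRel h.graph.Adj] :
    ∃ ℓ μ : ℕ, h.graph.IsSRGWith 100 22 ℓ μ := by
  have hne1 : O1.Nonempty := by
    rw [← Set.ncard_pos (Set.toFinite _), h.c1]
    norm_num
  have hne2 : O2.Nonempty := by
    rw [← Set.ncard_pos (Set.toFinite _), h.c2]
    norm_num
  obtain ⟨b0, hb0⟩ := hne1
  obtain ⟨c0, hc0⟩ := hne2
  refine ⟨{w | r3Adj G a O1 a w ∧ r3Adj G a O1 b0 w}.ncard,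
    {w | r3Adj G a O1 a w ∧ r3Adj G a O1 c0 w}.ncard, ⟨h.card, ?_, ?_, ?_⟩⟩
  · intro v
    rw [← SimpleGraph.card_neighborSet_eq_degree, Fintype.card_eq_nat_card,
      Nat.card_coe_set_eq]
    exact h.ncard_outN v
  · intro v w hvw
    rw [Fintype.card_eq_nat_card, Nat.card_coe_set_eq]
    obtain ⟨g, hg, hga⟩ := h.trans a v
    have hu : g⁻¹ w ∈ O1 := (h.adj_iff hg hga w).mp hvw
    obtain ⟨k, hk, hka, hkb⟩ := h.tr1 b0 hb0 _ hu
    have e1 : (g * k) a = v := by rw [Equiv.Perm.mul_apply, hka, hga]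
    have e2 : (g * k) b0 = w := by
      rw [Equiv.Perm.mul_apply, hkb]
      simp
    have h3 := h.cn_smul (G.mul_mem hg hk) a b0
    rw [e1, e2] at h3
    exact h3
  · intro v w hvw hnadj
    rw [Fintype.card_eq_nat_card, Nat.card_coe_set_eq]
    obtain ⟨g, hg, hga⟩ := h.trans a v
    have hu : g⁻¹ w ∈ O2 := by
      rcases h.cover (g⁻¹ w) with h1 | h1 | h1
      · exfalso
        apply hvw
        rw [← hga, ← h1]
        simp
      · exfalso
        exact hnadj ((h.adj_iff hg hga w).mpr h1)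
      · exact h1
    obtain ⟨k, hk, hka, hkb⟩ := h.tr2 c0 hc0 _ hu
    have e1 : (g * k) a = v := by rw [Equiv.Perm.mul_apply, hka, hga]
    have e2 : (g * k) c0 = w := by
      rw [Equiv.Perm.mul_apply, hkb]
      simp
    have h3 := h.cn_smul (G.mul_mem hg hk) a c0
    rw [e1, e2] at h3
    exact h3

/-- The orbital graph is strongly regular with parameters `(100, 22, 0, 6)`. -/
theorem srg (h : R3 G a O1 O2) [DecidableRel h.graph.Adj] : h.graph.IsSRGWith 100 22 0 6 := by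
  obtain ⟨ℓ, μ, hs⟩ := h.exists_srg
  obtain ⟨rfl, rfl⟩ := srg_params _ hs
  exact hs

end R3

end Orbital

end Cfsg.Agent.Helper93
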