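/-
Helper93: two transitive permutation groups of degree 100 and order 44352000 whose point
stabilisers have orbits of sizes 1, 22, 77 are isomorphic (both are the subgroup of index 2 of
the automorphism group of the strongly regular graph with parameters (100, 22, 0, 6)).
-/
import Cfsg.Agent.Helper93.Rank3Srg
import Cfsg.Agent.Helper93.HsSimple
import Cfsg.Agent.Helper93.HsAut
import Cfsg.Agent.S0430

set_option autoImplicit false

namespace Cfsg.Agent.Helper93

open Cfsg

/-- Conjugation by a graph isomorphism identifies the automorphism groups. -/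
def graphAutConj {V W : Type*} {Γ : SimpleGraph V} {Δ : SimpleGraph W} (f : Γ ≃g Δ) :
    (Γ ≃g Γ) ≃* (Δ ≃g Δ) where
  toFun φ := (f.symm.trans φ).trans f
  invFun ψ := (f.trans ψ).trans f.symm
  left_inv φ := by
    ext x
    simp
  right_inv ψ := by
    ext x
    simp
  map_mul' φ ψ := by
    ext x
    simp [RelIso.mul_apply]

/-- The automorphism group of a strongly regular graph with parameters `(100, 22, 0, 6)` has
order `88704000`. -/
theorem srg100_card_aut {V : Type*} [Fintype V] (Γ : SimpleGraph V) [DecidableRel Γ.Adj]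
    (hΓ : Γ.IsSRGWith 100 22 0 6) : Nat.card (Γ ≃g Γ) = 88704000 := by
  classical
  have hV : Nonempty V := by
    rw [← Fintype.card_pos_iff, hΓ.card]
    norm_num
  obtain ⟨v⟩ := hV
  rw [Nat.card_congr (graphAutConj (locIso hΓ v)).toEquiv]
  exact card_pb_aut (card_NbT hΓ v) (locB_steiner hΓ v)

/-- The automorphism group of a strongly regular graph with parameters `(100, 22, 0, 6)` has
a simple subgroup of order `44352000`. -/
theorem srg100_exists_simple {V : Type*} [Fintype V] (Γ : SimpleGraph V) [DecidableRel Γ.Adj]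
    (hΓ : Γ.IsSRGWith 100 22 0 6) :
    ∃ H : Subgroup (Γ ≃g Γ), IsSimpleGroup ↥H ∧ Nat.card ↥H = 44352000 := by
  classical
  have hV : Nonempty V := by
    rw [← Fintype.card_pos_iff, hΓ.card]
    norm_num
  obtain ⟨v⟩ := hV
  haveI : Fintype ↥(locB Γ v) := Fintype.ofFinite _
  have hα := card_NbT hΓ v
  have hB := locB_steiner hΓ v
  haveI := hs_simple hα hB
  refine ⟨(signHom (B := locB Γ v)).ker.map (graphAutConj (locIso hΓ v)).symm.toMonoidHom, ?_, ?_⟩
  · exact ((graphAutConj (locIso hΓ v)).symm.subgroupMap (signHom (B := locB Γ v)).ker).symm.isSimpleGroup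
  · rw [Subgroup.card_map_of_injective (graphAutConj (locIso hΓ v)).symm.injective]
    exact card_signKer hα hB

/-- In the automorphism group of a strongly regular graph with parameters `(100, 22, 0, 6)`,
a subgroup of order `44352000` is the simple one. -/
theorem srg100_sub_unique {V : Type*} [Fintype V] (Γ : SimpleGraph V) [DecidableRel Γ.Adj]
    (hΓ : Γ.IsSRGWith 100 22 0 6) (H K : Subgroup (Γ ≃g Γ)) (hH : IsSimpleGroup ↥H)
    (hHc : Nat.card ↥H = 44352000) (hKc : Nat.card ↥K = 44352000) : K = H := by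
  have hcard := srg100_card_aut Γ hΓ
  haveI : Finite (Γ ≃g Γ) := Nat.finite_of_card_ne_zero (by rw [hcard]; norm_num)
  have hidx : K.index = 2 := by
    have h := Subgroup.card_mul_index K
    rw [hKc, hcard] at h
    omega
  haveI hKn : K.Normal := Subgroup.normal_of_index_eq_two hidx
  have hn : (K.subgroupOf H).Normal := Subgroup.normal_subgroupOf
  rcases hn.eq_bot_or_eq_top with h | h
  · exfalso
    rw [Subgroup.subgroupOf_eq_bot] at h
    have hinj := Subgroup.mul_injective_of_disjoint h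
    have hle := Nat.card_le_card_of_injective _ hinj
    rw [Nat.card_prod, hKc, hHc, hcard] at hle
    omega
  · rw [Subgroup.subgroupOf_eq_top] at h
    exact (Subgroup.eq_of_le_of_card_ge h (by rw [hHc, hKc])).symm

/-- Subgroups of order `44352000` of the automorphism groups of two strongly regular graphs with
parameters `(100, 22, 0, 6)` are isomorphic. -/
theorem srg100_sub_iso {V W : Type*} [Fintype V] [Fintype W] (Γ : SimpleGraph V)
    (Δ : SimpleGraph W) [DecidableRel Γ.Adj] [DecidableRel Δ.Adj]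
    (hΓ : Γ.IsSRGWith 100 22 0 6) (hΔ : Δ.IsSRGWith 100 22 0 6) (K : Subgroup (Γ ≃g Γ))
    (L : Subgroup (Δ ≃g Δ)) (hKc : Nat.card ↥K = 44352000) (hLc : Nat.card ↥L = 44352000) :
    Nonempty (↥K ≃* ↥L) := by
  obtain ⟨f⟩ := Cfsg.Agent.S0430.result hΓ hΔ
  obtain ⟨H, hH, hHc⟩ := srg100_exists_simple Δ hΔ
  have h1 : K.map (graphAutConj f).toMonoidHom = H :=
    srg100_sub_unique Δ hΔ H _ hH hHc (by
      rw [Subgroup.card_map_of_injective (graphAutConj f).injective]
      exact hKc)
  have h2 : L = H := srg100_sub_unique Δ hΔ H L hH hHc hLc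
  exact ⟨((graphAutConj f).subgroupMap K).trans (MulEquiv.subgroupCongr (h1.trans h2.symm))⟩

section Perm

variable {Ω : Type*}

/-- A permutation group preserving a graph, as a group of automorphisms of the graph. -/
def permToAut (G : Subgroup (Equiv.Perm Ω)) (Γ : SimpleGraph Ω)
    (hinv : ∀ g ∈ G, ∀ x y, Γ.Adj (g x) (g y) ↔ Γ.Adj x y) : ↥G →* (Γ ≃g Γ) where
  toFun g := ⟨g.1, fun {x y} => hinv g.1 g.2 x y⟩
  map_one' := by
    ext x
    rfl
  map_mul' g h := by
    ext x
    rfl

theorem permToAut_injective (G : Subgroup (Equiv.Perm Ω)) (Γ : SimpleGraph Ω)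
    (hinv : ∀ g ∈ G, ∀ x y, Γ.Adj (g x) (g y) ↔ Γ.Adj x y) :
    Function.Injective (permToAut G Γ hinv) := by
  intro g h e
  apply Subtype.ext
  ext x
  have := congrArg (fun φ : Γ ≃g Γ => φ x) e
  exact this

end Perm

/-- Two groups satisfying the rank 3 hypotheses, of order `44352000`, are isomorphic. -/
theorem r3_iso {Ω₁ Ω₂ : Type*} [Fintype Ω₁] [DecidableEq Ω₁] [Fintype Ω₂] [DecidableEq Ω₂]
    {G₁ : Subgroup (Equiv.Perm Ω₁)} {G₂ : Subgroup (Equiv.Perm Ω₂)} {a₁ : Ω₁} {a₂ : Ω₂}
    {O₁ O₁' : Set Ω₁} {O₂ O₂' : Set Ω₂} (h₁ : R3 G₁ a₁ O₁ O₁') (h₂ : R3 G₂ a₂ O₂ O₂')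
    (c₁ : Nat.card ↥G₁ = 44352000) (c₂ : Nat.card ↥G₂ = 44352000) : Nonempty (↥G₁ ≃* ↥G₂) := by
  classical
  have e₁ := MonoidHom.ofInjective
    (permToAut_injective G₁ h₁.graph (fun g hg x y => h₁.graph_smul hg x y))
  have e₂ := MonoidHom.ofInjective
    (permToAut_injective G₂ h₂.graph (fun g hg x y => h₂.graph_smul hg x y))
  obtain ⟨e⟩ := srg100_sub_iso h₁.graph h₂.graph h₁.srg h₂.srg _ _
    (by rw [← Nat.card_congr e₁.toEquiv]; exact c₁) (by rw [← Nat.card_congr e₂.toEquiv]; exact c₂)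
  exact ⟨(e₁.trans e).trans e₂.symm⟩

end Cfsg.Agent.Helper93
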