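/-
Helper93: a transitive permutation group of degree 100 whose point stabiliser is isomorphic to
`M22` and has orbits of sizes 1, 22, 77 is isomorphic to the Higman–Sims group of the Leech
lattice.
-/
import Cfsg.Agent.Helper93.HsRecog
import Cfsg.Agent.Helper92.LeechHS
import Cfsg.Agent.Helper91.M22Chain

set_option autoImplicit false

namespace Cfsg.Agent.Helper93

open Cfsg MulAction

/-! ### The abstract side -/

theorem r3_of_orbits {Ω : Type*} [Fintype Ω] [DecidableEq Ω] (hΩ : Fintype.card Ω = 100)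
    (G : Subgroup (Equiv.Perm Ω)) [MulAction.IsPretransitive G Ω] (a b c : Ω)
    (hb : (MulAction.orbit (MulAction.stabilizer G a) b).ncard = 22)
    (hc : (MulAction.orbit (MulAction.stabilizer G a) c).ncard = 77) :
    R3 G a (MulAction.orbit (MulAction.stabilizer G a) b)
      (MulAction.orbit (MulAction.stabilizer G a) c) := by
  have horb_a : MulAction.orbit (MulAction.stabilizer G a) a = {a} := by
    ext y
    constructor
    · rintro ⟨s, rfl⟩
      exact s.2
    · rintro rfl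
      exact MulAction.mem_orbit_self _
  have hnot : ∀ d : Ω, (MulAction.orbit (MulAction.stabilizer G a) d).ncard ≠ 1 →
      a ∉ MulAction.orbit (MulAction.stabilizer G a) d := by
    intro d hd h
    apply hd
    rw [← MulAction.orbit_eq_iff.mpr h, horb_a, Set.ncard_singleton]
  have hinv : ∀ d : Ω, ∀ g ∈ G, g a = a → ∀ y ∈ MulAction.orbit (MulAction.stabilizer G a) d,
      g y ∈ MulAction.orbit (MulAction.stabilizer G a) d := by
    intro d g hg hga y hy
    obtain ⟨s, rfl⟩ := hy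
    have hmem : (⟨g, hg⟩ : ↥G) ∈ MulAction.stabilizer (↥G) a := hga
    exact ⟨(⟨⟨g, hg⟩, hmem⟩ : MulAction.stabilizer G a) * s, mul_smul _ s d⟩
  have htr : ∀ d : Ω, ∀ y ∈ MulAction.orbit (MulAction.stabilizer G a) d,
      ∀ y' ∈ MulAction.orbit (MulAction.stabilizer G a) d, ∃ g ∈ G, g a = a ∧ g y = y' := by
    intro d y hy y' hy'
    obtain ⟨s, rfl⟩ := hy
    obtain ⟨s', rfl⟩ := hy'
    refine ⟨((s' * s⁻¹ : MulAction.stabilizer G a) : G), ((s' * s⁻¹ : MulAction.stabilizer G a) : G).2,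
      (s' * s⁻¹).2, ?_⟩
    show (s' * s⁻¹) • (s • d) = s' • d
    rw [mul_smul, inv_smul_smul]
  refine ⟨hΩ, ?_, hb, hc, hnot b (by rw [hb]; norm_num), hnot c (by rw [hc]; norm_num), ?_,
    hinv b, htr b, htr c⟩
  · intro x y
    obtain ⟨g, hg⟩ := MulAction.exists_smul_eq G x y
    exact ⟨g.1, g.2, hg⟩
  · rw [Set.disjoint_left]
    intro y hyb hyc
    have h1 := MulAction.orbit_eq_iff.mpr hyb
    have h2 := MulAction.orbit_eq_iff.mpr hyc
    rw [← h1, h2, hc] at hb
    norm_num at hb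

theorem card_of_stab_M22 {Ω : Type*} [Fintype Ω] [DecidableEq Ω] (hΩ : Fintype.card Ω = 100)
    (G : Subgroup (Equiv.Perm Ω)) [MulAction.IsPretransitive G Ω] (a : Ω)
    (e : MulAction.stabilizer G a ≃* Cfsg.Spor.M22) : Nat.card ↥G = 44352000 := by
  have h := Subgroup.card_mul_index (MulAction.stabilizer G a)
  rw [MulAction.index_stabilizer, MulAction.orbit_eq_univ, Set.ncard_univ,
    Nat.card_eq_fintype_card (α := Ω), hΩ, Nat.card_congr e.toEquiv,
    Cfsg.Agent.Helper91.card_M22] at h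
  omega

/-! ### The Leech lattice side -/

open Cfsg.Agent.Helper92

/-- The action of the lattice Higman–Sims group on the orbit of 100 points. -/
noncomputable def hsRho : ↥hsSub →* Equiv.Perm ↥(MulAction.orbit ↥hsSub hsPt) :=
  MulAction.toPermHom _ _

theorem hsRho_apply (s : ↥hsSub) (x : ↥(MulAction.orbit ↥hsSub hsPt)) :
    ((hsRho s x : ↥(MulAction.orbit ↥hsSub hsPt)) : leechLattice) = s • (x : leechLattice) := rfl

/-- The base point. -/
def hsBase : ↥(MulAction.orbit ↥hsSub hsPt) := ⟨hsPt, MulAction.mem_orbit_self _⟩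

/-- The two suborbits, as sets of points of the orbit. -/
def hsO (i : Fin 2) : Set ↥(MulAction.orbit ↥hsSub hsPt) := {y | (y : leechLattice) ∈ hsSuborb i}

theorem hsSuborb_subset (i : Fin 2) : hsSuborb i ⊆ MulAction.orbit ↥hsSub hsPt := by
  intro y hy
  rw [orbit_hsPt]
  exact Set.mem_insert_of_mem _ (Set.mem_iUnion.2 ⟨i, hy⟩)

theorem ncard_hsO (i : Fin 2) : (hsO i).ncard = ![77, 22] i := by
  rw [← ncard_hsSuborb i, ← Set.ncard_image_of_injective (hsO i) Subtype.val_injective]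
  congr 1
  ext y
  constructor
  · rintro ⟨x, hx, rfl⟩
    exact hx
  · intro hy
    exact ⟨⟨y, hsSuborb_subset i hy⟩, hy, rfl⟩

theorem iUnion_hsSuborb : (⋃ i, hsSuborb i) = hsSuborb 0 ∪ hsSuborb 1 := by
  ext y
  simp only [Set.mem_iUnion, Set.mem_union]
  constructor
  · rintro ⟨i, hi⟩
    fin_cases i
    · exact Or.inl hi
    · exact Or.inr hi
  · rintro (h | h)
    · exact ⟨0, h⟩
    · exact ⟨1, h⟩

theorem ncard_hsOrbit : (MulAction.orbit ↥hsSub hsPt : Set leechLattice).ncard = 100 := by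
  rw [orbit_hsPt, iUnion_hsSuborb,
    Set.ncard_insert_of_notMem (by
      rw [Set.mem_union]
      rintro (h | h)
      · exact hsPt_notMem 0 h
      · exact hsPt_notMem 1 h) ((hsSuborb_finite 0).union (hsSuborb_finite 1)),
    Set.ncard_union_eq (hsSuborb_disjoint 0 1 (by decide)) (hsSuborb_finite 0) (hsSuborb_finite 1),
    ncard_hsSuborb, ncard_hsSuborb]
  rfl

theorem hsOrbit_finite : Finite ↥(MulAction.orbit ↥hsSub hsPt) := by
  apply Set.finite_coe_iff.mpr
  apply Set.finite_of_ncard_ne_zero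
  rw [ncard_hsOrbit]
  norm_num

theorem hs_stab_suborb (s : ↥hsSub) (hs : s • hsPt = hsPt) (i : Fin 2) (y : leechLattice)
    (hy : y ∈ hsSuborb i) : s • y ∈ hsSuborb i := by
  have hV := ((mem_hsSub s.1).1 s.2).1
  have hU' := ((mem_hsSub s.1).1 s.2).2
  have hU : (s : Co0) • Spor.leechU = Spor.leechU := by
    have h1 : (s : Co0) • (-Spor.leechU) = -Spor.leechU := hs
    rw [Cfsg.Agent.Helper92.co0_neg] at h1
    exact neg_injective h1
  have hn : sqNorm (((s : Co0) • y : leechLattice) : GolayPt → ℤ) = 32 := by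
    rw [co0_sqNorm]
    exact hy.1
  refine ⟨hn, ?_⟩
  show Cfsg.Agent.Helper26.clsM (Cfsg.Agent.Helper26.pk
    (((s : Co0) • y : leechLattice) : GolayPt → ℤ)) = (i : ℕ) + 1
  rw [Cfsg.Agent.Helper26.clsM_congr ((s : Co0) • y) y hn hy.1
    (Cfsg.Agent.Helper26.dot_fix s.1 _ hV y) (Cfsg.Agent.Helper26.dot_fix s.1 _ hU' y)
    (Cfsg.Agent.Helper26.dot_fix s.1 _ hU y)]
  exact hy.2

theorem r3_leech [Fintype ↥(MulAction.orbit ↥hsSub hsPt)]
    [DecidableEq ↥(MulAction.orbit ↥hsSub hsPt)] :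
    R3 hsRho.range hsBase (hsO 1) (hsO 0) := by
  have htr : ∀ i : Fin 2, ∀ y ∈ hsO i, ∀ y' ∈ hsO i,
      ∃ g ∈ hsRho.range, g hsBase = hsBase ∧ g y = y' := by
    intro i y hy y' hy'
    obtain ⟨s, hs, hsy⟩ := hs_suborb_trans i y.1 hy y'.1 hy'
    exact ⟨hsRho s, ⟨s, rfl⟩, Subtype.ext hs, Subtype.ext hsy⟩
  refine ⟨?_, ?_, ?_, ?_, ?_, ?_, ?_, ?_, htr 1, htr 0⟩
  · rw [Fintype.card_eq_nat_card, Nat.card_coe_set_eq, ncard_hsOrbit]
  · intro x y
    obtain ⟨g, hg⟩ := x.2
    obtain ⟨g', hg'⟩ := y.2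
    refine ⟨hsRho (g' * g⁻¹), ⟨_, rfl⟩, Subtype.ext ?_⟩
    show (g' * g⁻¹) • (x : leechLattice) = y
    rw [← hg, ← hg', mul_smul, inv_smul_smul]
  · rw [ncard_hsO]
    rfl
  · rw [ncard_hsO]
    rfl
  · exact hsPt_notMem 1
  · exact hsPt_notMem 0
  · rw [Set.disjoint_left]
    intro y h1 h0
    exact Set.disjoint_left.mp (hsSuborb_disjoint 1 0 (by decide)) h1 h0
  · rintro g ⟨s, rfl⟩ hga y hy
    have hs : s • hsPt = hsPt := congrArg Subtype.val hga
    exact hs_stab_suborb s hs 1 y.1 hy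

theorem hsRho_injective : Function.Injective hsRho := by
  haveI := isSimpleGroup_hsSub
  rw [← MonoidHom.ker_eq_bot_iff]
  rcases (MonoidHom.normal_ker hsRho).eq_bot_or_eq_top with h | h
  · exact h
  · exfalso
    have hne : (hsSuborb 0).Nonempty := by
      rw [← Set.ncard_pos (hsSuborb_finite 0), ncard_hsSuborb]
      decide
    obtain ⟨y, hy⟩ := hne
    obtain ⟨s, hs⟩ := hsSuborb_subset 0 hy
    have h1 : s ∈ hsRho.ker := by
      rw [h]
      exact Subgroup.mem_top s
    have h2 : hsRho s hsBase = hsBase := by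
      rw [MonoidHom.mem_ker.mp h1]
      rfl
    have h3 : s • hsPt = hsPt := congrArg Subtype.val h2
    have h4 : y = hsPt := by
      rw [← hs]
      exact h3
    rw [h4] at hy
    exact hsPt_notMem 0 hy

theorem card_hsRho_range : Nat.card ↥hsRho.range = 44352000 := by
  rw [← Nat.card_congr (MonoidHom.ofInjective hsRho_injective).toEquiv]
  exact card_hsSub

/-- The Higman–Sims group of the definitions is the group `hsSub`. -/
def hsEquiv : ↥Spor.HS ≃* ↥hsSub where
  toFun g := ⟨⟨g.1, g.2.1.1⟩, (mem_hsSub _).2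
    ⟨MulAction.mem_stabilizer_iff.mp g.2.1.2, MulAction.mem_stabilizer_iff.mp g.2.2⟩⟩
  invFun h := ⟨h.1.1, ⟨⟨h.1.2, MulAction.mem_stabilizer_iff.mpr ((mem_hsSub h.1).1 h.2).1⟩,
    MulAction.mem_stabilizer_iff.mpr ((mem_hsSub h.1).1 h.2).2⟩⟩
  left_inv _ := rfl
  right_inv _ := rfl
  map_mul' _ _ := rfl

/-- Recognition of the Higman–Sims group by its rank 3 action on 100 points. -/
theorem hs_recognition {Ω : Type*} [Fintype Ω] [DecidableEq Ω] (hΩ : Fintype.card Ω = 100)
    (G : Subgroup (Equiv.Perm Ω)) [MulAction.IsPretransitive G Ω] (a : Ω)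
    (e : MulAction.stabilizer G a ≃* Cfsg.Spor.M22) (b c : Ω)
    (hb : (MulAction.orbit (MulAction.stabilizer G a) b).ncard = 22)
    (hc : (MulAction.orbit (MulAction.stabilizer G a) c).ncard = 77) : Cfsg.Spor.IsoHS G := by
  classical
  haveI := hsOrbit_finite
  haveI : Fintype ↥(MulAction.orbit ↥hsSub hsPt) := Fintype.ofFinite _
  have h1 := r3_of_orbits hΩ G a b c hb hc
  have c1 := card_of_stab_M22 hΩ G a e
  obtain ⟨f⟩ := r3_iso h1 r3_leech c1 card_hsRho_range
  exact ⟨(f.trans (MonoidHom.ofInjective hsRho_injective).symm).trans hsEquiv.symm⟩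

end Cfsg.Agent.Helper93
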