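import Mathlib
import Cfsg.Agent.Helper93.HsData

/-!
# Explicit automorphisms of the Higman–Sims graph (seat helper93)

Automorphisms `a0` (order 11, one fixed vertex), `c0` (order 7, two fixed vertices) and `s0`
(order 15) of the explicit graph on `Fin 100`, with words witnessing transitivity.
-/

set_option autoImplicit false

namespace Cfsg.Agent.Helper93.HsOut

open Cfsg.Agent.Helper93

/-- a function on `Fin 100` from a list of images -/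
def lf (l : List ℕ) (i : Fin 100) : Fin 100 := ⟨l.getD i.val 0 % 100, Nat.mod_lt _ (by norm_num)⟩

/-- images under `a0` -/
def a0L : List ℕ := [
  0, 18, 15, 14, 17, 16, 2, 20, 4, 13, 22, 3, 5, 7, 12, 19, 8, 1, 11, 9,
  10, 6, 21, 81, 57, 96, 40, 61, 79, 43, 58, 67, 88, 99, 29, 47, 74, 24, 52, 90,
  85, 77, 41, 66, 71, 59, 33, 93, 98, 73, 37, 25, 76, 94, 49, 45, 65, 31, 86, 89,
  26, 91, 84, 54, 82, 80, 44, 97, 30, 75, 69, 36, 50, 42, 83, 51, 46, 68, 60, 34,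
  92, 56, 95, 28, 38, 70, 63, 48, 27, 53, 55, 23, 32, 62, 87, 72, 78, 64, 39, 35]

/-- images under the inverse of `a0` -/
def a0I : List ℕ := [
  0, 17, 6, 11, 8, 12, 21, 13, 16, 19, 20, 18, 14, 9, 3, 2, 5, 4, 1, 15,
  7, 22, 10, 91, 37, 51, 60, 88, 83, 34, 68, 57, 92, 46, 79, 99, 71, 50, 84, 98,
  26, 42, 73, 29, 66, 55, 76, 35, 87, 54, 72, 75, 38, 89, 63, 90, 81, 24, 30, 45,
  78, 27, 93, 86, 97, 56, 43, 31, 77, 70, 85, 44, 95, 49, 36, 69, 52, 41, 96, 28,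
  65, 23, 64, 74, 62, 40, 58, 94, 32, 59, 39, 61, 80, 47, 53, 82, 25, 67, 48, 33]

theorem a0_inv1 : ∀ i : Fin 100, lf a0I (lf a0L i) = i := by decide +kernel

theorem a0_inv2 : ∀ i : Fin 100, lf a0L (lf a0I i) = i := by decide +kernel

theorem a0_adj : ∀ i j : Fin 100,
    hsAdjB (lf a0L i).val (lf a0L j).val = hsAdjB i.val j.val := by decide +kernel

/-- images under `c0` -/
def c0L : List ℕ := [
  0, 14, 10, 21, 20, 8, 1, 19, 2, 5, 11, 12, 9, 4, 16, 7, 15, 13, 3, 6,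
  18, 17, 22, 84, 30, 93, 80, 58, 59, 69, 43, 75, 79, 82, 97, 36, 54, 26, 33, 91,
  67, 44, 81, 71, 95, 39, 55, 61, 85, 48, 98, 41, 46, 72, 25, 34, 89, 64, 70, 88,
  32, 68, 90, 37, 78, 52, 23, 63, 99, 50, 86, 94, 27, 87, 65, 42, 40, 62, 51, 47,
  76, 28, 96, 49, 83, 66, 92, 24, 31, 35, 29, 38, 53, 56, 73, 57, 45, 74, 77, 60]

/-- images under the inverse of `c0` -/
def c0I : List ℕ := [
  0, 6, 8, 18, 13, 9, 19, 15, 5, 12, 2, 10, 11, 17, 1, 16, 14, 21, 20, 7,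
  4, 3, 22, 66, 87, 54, 37, 72, 81, 90, 24, 88, 60, 38, 55, 89, 35, 63, 91, 45,
  76, 51, 75, 30, 41, 96, 52, 79, 49, 83, 69, 78, 65, 92, 36, 46, 93, 95, 27, 28,
  99, 47, 77, 67, 57, 74, 85, 40, 61, 29, 58, 43, 53, 94, 97, 31, 80, 98, 64, 32,
  26, 42, 33, 84, 23, 48, 70, 73, 59, 56, 62, 39, 86, 25, 71, 44, 82, 34, 50, 68]

theorem c0_inv1 : ∀ i : Fin 100, lf c0I (lf c0L i) = i := by decide +kernel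

theorem c0_inv2 : ∀ i : Fin 100, lf c0L (lf c0I i) = i := by decide +kernel

theorem c0_adj : ∀ i j : Fin 100,
    hsAdjB (lf c0L i).val (lf c0L j).val = hsAdjB i.val j.val := by decide +kernel

/-- images under `s0` -/
def s0L : List ℕ := [
  62, 3, 20, 37, 43, 83, 26, 54, 12, 35, 52, 4, 93, 41, 81, 94, 57, 25, 55, 88,
  22, 84, 19, 47, 65, 30, 68, 0, 64, 67, 70, 44, 45, 46, 60, 61, 23, 66, 63, 31,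
  29, 71, 69, 28, 48, 85, 97, 82, 98, 51, 87, 90, 40, 59, 95, 76, 32, 79, 42, 27,
  1, 21, 53, 17, 8, 58, 74, 6, 77, 56, 80, 15, 89, 16, 11, 14, 72, 73, 49, 92,
  18, 13, 39, 75, 5, 33, 24, 86, 2, 7, 96, 78, 99, 34, 9, 38, 36, 50, 91, 10]

/-- images under the inverse of `s0` -/
def s0I : List ℕ := [
  27, 60, 88, 1, 11, 84, 67, 89, 64, 94, 99, 74, 8, 81, 75, 71, 73, 63, 80, 22,
  2, 61, 20, 36, 86, 17, 6, 59, 43, 40, 25, 39, 56, 85, 93, 9, 96, 3, 95, 82,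
  52, 13, 58, 4, 31, 32, 33, 23, 44, 78, 97, 49, 10, 62, 7, 18, 69, 16, 65, 53,
  34, 35, 0, 38, 28, 24, 37, 29, 26, 42, 30, 41, 76, 77, 66, 83, 55, 68, 91, 57,
  70, 14, 47, 5, 21, 45, 87, 50, 19, 72, 51, 98, 79, 12, 15, 54, 90, 46, 48, 92]

theorem s0_inv1 : ∀ i : Fin 100, lf s0I (lf s0L i) = i := by decide +kernel

theorem s0_inv2 : ∀ i : Fin 100, lf s0L (lf s0I i) = i := by decide +kernel

theorem s0_adj : ∀ i j : Fin 100,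
    hsAdjB (lf s0L i).val (lf s0L j).val = hsAdjB i.val j.val := by decide +kernel

theorem a0_pow : ∀ i : Fin 100, (lf a0L)^[11] i = i := by decide +kernel

theorem c0_pow : ∀ i : Fin 100, (lf c0L)^[7] i = i := by decide +kernel

theorem s0_pow : ∀ i : Fin 100, (lf s0L)^[15] i = i := by decide +kernel

theorem a0_fix : ∀ i : Fin 100, lf a0L i = i ↔ i = 0 := by decide +kernel

theorem c0_fix : ∀ i : Fin 100, lf c0L i = i ↔ (i = 0 ∨ i = 22) := by decide +kernel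

theorem s0_zero : lf s0L 0 ≠ 0 := by decide +kernel

theorem adj_zero : ∀ v : Fin 100, hsAdjB 0 v.val = true ↔ (v.val ≠ 0 ∧ v.val < 23) := by
  decide +kernel

/-- the generators as functions -/
def genF (k : ℕ) : Fin 100 → Fin 100 :=
  if k = 0 then lf a0L else if k = 1 then lf c0L else lf s0L

/-- evaluation of a word in the generators -/
def evalW (w : List ℕ) (x : Fin 100) : Fin 100 := w.foldr (fun k y => genF k y) x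

/-- words taking the vertex `0` to each vertex -/
def wordsN : List (List ℕ) := [
  [],
  [0, 2, 2, 0, 0, 2],
  [1, 1, 2, 0, 2],
  [2, 0, 2, 2, 0, 0, 2],
  [0, 1, 2, 0, 2],
  [2, 0, 2],
  [2, 2, 1, 1, 2],
  [2, 2, 1, 2, 2],
  [1, 2, 0, 2],
  [2, 0, 2, 2],
  [2, 0, 1, 0, 0, 2],
  [2, 0, 2, 2, 1, 2],
  [2, 1, 2, 0, 2],
  [0, 2, 0, 2, 2],
  [2, 2, 1, 0, 2],
  [1, 0, 2, 0, 2],
  [0, 2, 0, 2],
  [2, 2, 0, 0, 2],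
  [0, 0, 2, 2, 0, 0, 2],
  [0, 1, 0, 2, 0, 2],
  [1, 0, 1, 2, 0, 2],
  [2, 0, 1, 1, 2, 2],
  [0, 2, 0, 1, 0, 0, 2],
  [2, 2, 2, 1, 2],
  [1, 0, 0, 2, 2],
  [1, 0, 2, 0, 0, 2],
  [1, 1, 2, 0, 0, 2],
  [1, 1, 2, 2],
  [0, 1, 0, 2],
  [1, 1, 2],
  [1, 1, 0, 0, 2, 2],
  [1, 1, 2, 2, 2],
  [1, 2, 1, 0, 1, 2],
  [1, 0, 0, 2],
  [1, 0, 1, 2],
  [2, 2, 0, 2, 2],
  [2, 2, 1, 2],
  [1, 2, 0, 0, 2],
  [0, 0, 2],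
  [1, 0, 0, 1, 2],
  [2, 0, 0, 0, 2],
  [1, 2, 1, 1, 0, 2],
  [1, 2, 1, 0, 2],
  [0, 1, 1, 2],
  [0, 0, 0, 1, 1, 2],
  [0, 0, 1, 2],
  [1, 0, 0, 0, 2],
  [1, 0, 0, 1, 0, 2],
  [1, 1, 1, 0, 2],
  [1, 1, 0, 2],
  [0, 1, 2, 2],
  [2, 1, 1, 0, 2],
  [0, 0, 0, 2],
  [2, 2],
  [0, 2, 0, 0, 2],
  [0, 1, 2],
  [2, 1, 1, 1, 2],
  [2, 0, 2, 0, 2],
  [1, 1, 1, 2, 2],
  [2, 2, 2],
  [2, 1, 0, 1, 2],
  [0, 1, 1, 2, 2],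
  [2],
  [2, 0, 0, 2],
  [2, 0, 1, 0, 2],
  [0, 2, 1, 1, 1, 2],
  [0, 0, 1, 1, 2],
  [2, 1, 1, 2],
  [1, 0, 1, 1, 2, 2],
  [1, 1, 1, 2],
  [0, 2, 0, 0, 1, 2],
  [1, 0, 1, 1, 2],
  [1, 2, 2],
  [1, 0, 2, 2],
  [0, 2, 2, 1, 2],
  [2, 1, 0, 2],
  [2, 0, 1, 2],
  [1, 1, 0, 1, 2, 2],
  [0, 2, 1, 2],
  [0, 0, 1, 0, 2],
  [1, 1, 1, 2, 0, 0, 2],
  [1, 1, 2, 1, 0, 2],
  [1, 1, 0, 0, 2],
  [1, 0, 2],
  [0, 2],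
  [2, 0, 0, 1, 2],
  [2, 0, 0, 2, 2],
  [0, 0, 2, 2],
  [1, 2, 2, 2],
  [2, 1, 2, 2],
  [1, 2],
  [1, 1, 0, 0, 1, 2],
  [2, 0, 0, 1, 0, 2],
  [2, 2, 1, 2, 0, 2],
  [0, 2, 2],
  [0, 1, 1, 0, 0, 2],
  [2, 1, 2],
  [1, 1, 0, 1, 2],
  [1, 0, 1, 2, 2],
  [0, 1, 0, 0, 2]]

/-- words in `a0`, `c0` taking `1` to each neighbour of `0` and `23` to each other vertex -/
def wordsH : List (List ℕ) := [
  [],
  [],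
  [1, 0, 1, 1],
  [1, 0],
  [0, 0, 1, 1],
  [0, 0, 1],
  [0, 1, 1, 0],
  [1, 1, 1, 1],
  [0, 1, 1],
  [1, 0, 1],
  [1, 1, 0, 1, 1],
  [0, 0],
  [0, 1],
  [0, 1, 0, 1],
  [1],
  [1, 1, 1],
  [1, 1],
  [1, 1, 1, 0],
  [0],
  [0, 1, 1, 1],
  [1, 0, 0, 1, 1],
  [1, 1, 0],
  [0, 1, 1, 0, 1, 1],
  [],
  [1, 1, 0, 1, 1, 1],
  [1, 1, 1, 1, 1, 0, 0],
  [0, 1, 0, 1, 0, 1],
  [0, 1, 1, 1, 0],
  [1, 0],
  [0, 0, 0, 1, 0],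
  [0, 1, 1, 1, 0, 1, 0],
  [1, 1, 1, 1, 0],
  [0, 0, 0, 0, 0, 0],
  [1, 0, 1],
  [0, 0, 1, 0],
  [1, 1, 0, 0],
  [1, 1, 1, 0, 0],
  [0, 0, 1, 0, 1, 0, 0],
  [0, 1],
  [0, 0, 1, 1, 1, 1],
  [1, 0, 0, 0, 1],
  [0, 0, 0, 1, 1, 1],
  [0, 0, 1, 1, 1],
  [0, 0, 0, 0, 1, 0],
  [1, 0, 0, 0, 1, 1, 1],
  [0, 1, 1, 0, 0, 1],
  [1, 0, 0, 1],
  [1, 0, 1, 0],
  [1, 1, 1, 1],
  [1, 1, 1],
  [0, 1, 0, 1, 0, 0],
  [0, 1, 1, 1, 1, 1, 0],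
  [0, 0, 1],
  [0, 1, 0, 0],
  [1, 1, 1, 1, 0, 0],
  [1, 1, 0, 0, 1],
  [0, 0],
  [1, 0, 1, 1, 0, 1],
  [1, 0, 1, 1, 1, 0],
  [1, 1, 0],
  [1, 0, 1, 0, 1],
  [1, 1, 0, 1, 0],
  [0, 0, 1, 0, 1, 0],
  [1, 0, 1, 1, 1, 1, 0],
  [0, 1, 0, 0, 1, 0],
  [0, 0, 0],
  [1, 1, 1, 1, 1, 1],
  [0, 1, 1, 1, 1, 0],
  [1, 1, 1, 0, 1, 0],
  [1, 0, 0, 0, 1, 0],
  [0, 1, 1, 1, 1, 1],
  [1, 0, 0, 0, 0, 1, 0],
  [1, 0, 1, 0, 0],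
  [0, 1, 1, 1],
  [0, 1, 1, 1, 0, 0],
  [1, 1, 1, 1, 1, 0],
  [0, 0, 0, 1],
  [1, 0, 1, 1, 1, 1],
  [0, 1, 1, 1, 0, 1],
  [0, 1, 0],
  [0, 0, 0, 0],
  [0],
  [1, 1, 0, 1],
  [1, 1],
  [1],
  [1, 1, 1, 1, 1],
  [0, 1, 0, 1, 1, 1, 0],
  [1, 0, 1, 1, 1],
  [1, 1, 1, 0],
  [1, 0, 0],
  [1, 0, 0, 1, 0, 1, 0],
  [0, 1, 1, 0, 1, 0],
  [0, 0, 0, 0, 0],
  [0, 1, 0, 1, 0],
  [0, 0, 1, 0, 0],
  [0, 1, 1, 0, 1],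
  [1, 1, 1, 0, 1],
  [1, 0, 0, 1, 0],
  [0, 1, 1, 1, 1],
  [0, 1, 0, 1]]

theorem wordsN_ok : ∀ v : Fin 100, evalW (wordsN.getD v.val []) 0 = v := by decide +kernel

theorem wordsH_lt : ∀ v : Fin 100, ∀ k ∈ wordsH.getD v.val [], k < 2 := by decide +kernel

theorem wordsH_ok : ∀ v : Fin 100, v.val ≠ 0 →
    evalW (wordsH.getD v.val []) (if v.val < 23 then 1 else 23) = v := by decide +kernel

end Cfsg.Agent.Helper93.HsOut
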