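import Mathlib
import Cfsg.Agent.Helper93.Srg100

/-!
# Subgroups of order `443520` of the automorphism group of the Higman–Sims graph (seat helper93)

A group `K` of automorphisms of a strongly regular graph with parameters `(100, 22, 0, 6)`, of
order `443520`, in which the elements of order `11` fix exactly one vertex and the elements of
order `7` fix exactly two, fixes a vertex.  (Orbit arithmetic and counting in the graph.)
-/

set_option autoImplicit false

namespace Cfsg.Agent.Helper93.HsOut

open Finset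

section Basic

variable {V : Type*} [Fintype V] [DecidableEq V]

omit [Fintype V] in
/-- For a permutation of prime order `p`, an invariant set and its set of fixed points have the
same size modulo `p`. -/
theorem card_modEq_fix {p : ℕ} [Fact p.Prime] (g : Equiv.Perm V) (hg : g ^ p = 1) (S : Finset V)
    (hS : ∀ v, g v ∈ S ↔ v ∈ S) : S.card ≡ (S.filter (fun v => g v = v)).card [MOD p] := by
  let σ : Equiv.Perm {v // v ∈ S} := g.subtypePerm hS
  have hσ : σ ^ p ^ 1 = 1 := by
    rw [pow_one]
    ext x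
    simp only [σ, Equiv.Perm.subtypePerm_pow, hg]
    rfl
  have h := Equiv.Perm.card_compl_support_modEq hσ
  rw [Fintype.card_coe] at h
  have h2 : σ.supportᶜ.card = (S.filter (fun v => g v = v)).card := by
    rw [← Finset.card_map (Function.Embedding.subtype _)]
    congr 1
    ext v
    simp only [Finset.mem_map, Finset.mem_compl, Equiv.Perm.mem_support, not_not,
      Function.Embedding.coe_subtype, Finset.mem_filter]
    constructor
    · rintro ⟨u, hu, rfl⟩
      exact ⟨u.2, congrArg Subtype.val hu⟩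
    · rintro ⟨hv, hgv⟩
      exact ⟨⟨v, hv⟩, Subtype.ext hgv, rfl⟩
  rw [h2] at h
  exact h.symm

open Classical in
/-- the orbit of a vertex, as a finset -/
noncomputable def orbF (K : Subgroup (Equiv.Perm V)) (v : V) : Finset V :=
  univ.filter (fun w => ∃ g ∈ K, g v = w)

theorem mem_orbF {K : Subgroup (Equiv.Perm V)} {v w : V} : w ∈ orbF K v ↔ ∃ g ∈ K, g v = w := by
  simp [orbF]

theorem self_mem_orbF (K : Subgroup (Equiv.Perm V)) (v : V) : v ∈ orbF K v :=
  mem_orbF.mpr ⟨1, K.one_mem, rfl⟩

theorem orbF_smul {K : Subgroup (Equiv.Perm V)} {g : Equiv.Perm V} (hg : g ∈ K) (v w : V) :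
    g w ∈ orbF K v ↔ w ∈ orbF K v := by
  rw [mem_orbF, mem_orbF]
  constructor
  · rintro ⟨k, hk, h⟩
    exact ⟨g⁻¹ * k, K.mul_mem (K.inv_mem hg) hk, by simp [Equiv.Perm.mul_apply, h]⟩
  · rintro ⟨k, hk, h⟩
    exact ⟨g * k, K.mul_mem hg hk, by simp [Equiv.Perm.mul_apply, h]⟩

theorem orbF_eq {K : Subgroup (Equiv.Perm V)} {v w : V} (h : w ∈ orbF K v) :
    orbF K w = orbF K v := by
  obtain ⟨g, hg, rfl⟩ := mem_orbF.mp h
  ext u
  rw [mem_orbF, mem_orbF]
  constructor
  · rintro ⟨k, hk, rfl⟩
    exact ⟨k * g, K.mul_mem hk hg, rfl⟩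
  · rintro ⟨k, hk, rfl⟩
    exact ⟨k * g⁻¹, K.mul_mem hk (K.inv_mem hg), by simp⟩

theorem card_orbF_dvd (K : Subgroup (Equiv.Perm V)) (v : V) : (orbF K v).card ∣ Nat.card K := by
  have h1 : ((orbF K v : Finset V) : Set V) = MulAction.orbit K v := by
    ext w
    rw [Finset.mem_coe, mem_orbF, MulAction.mem_orbit_iff]
    constructor
    · rintro ⟨g, hg, h⟩
      exact ⟨⟨g, hg⟩, h⟩
    · rintro ⟨g, h⟩
      exact ⟨g.1, g.2, h⟩
  rw [← Set.ncard_coe_finset, h1, ← MulAction.index_stabilizer]
  exact Subgroup.index_dvd_card _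

theorem card_orbF_pos (K : Subgroup (Equiv.Perm V)) (v : V) : 0 < (orbF K v).card :=
  Finset.card_pos.mpr ⟨v, self_mem_orbF K v⟩

end Basic

theorem arithA : ∀ n : Fin 101, n.val ∣ 443520 → n.val % 11 = 1 → n.val % 7 ≤ 2 →
    n.val = 1 ∨ n.val = 56 := by decide

theorem arithB : ∀ n : Fin 45, 0 < n.val → n.val ∣ 443520 → n.val % 11 = 0 → n.val % 7 ≤ 2 →
    n.val = 22 ∨ n.val = 44 := by decide

section Graph

variable {V : Type*} [Fintype V] [DecidableEq V] {Γ : SimpleGraph V} [DecidableRel Γ.Adj]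

omit [DecidableEq V] in
theorem mem_nbF {u z : V} : z ∈ nbF Γ u ↔ Γ.Adj u z := by simp [nbF]

omit [DecidableEq V] in
theorem mem_cnF {u w z : V} : z ∈ cnF Γ u w ↔ Γ.Adj u z ∧ Γ.Adj w z := by simp [cnF]

/-- double counting of the edges between two sets -/
theorem edge_count (S T : Finset V) :
    ∑ v ∈ S, (nbF Γ v ∩ T).card = ∑ y ∈ T, (nbF Γ y ∩ S).card := by
  have h : ∀ (A : Finset V) (v : V),
      (nbF Γ v ∩ A).card = ∑ y ∈ A, if Γ.Adj v y then 1 else 0 := by
    intro A v
    rw [← Finset.sum_filter, ← Finset.card_eq_sum_ones]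
    congr 1
    ext z
    simp [mem_nbF, and_comm]
  simp only [h]
  rw [Finset.sum_comm]
  apply Finset.sum_congr rfl
  intro y _
  apply Finset.sum_congr rfl
  intro v _
  simp only [SimpleGraph.adj_comm]

/-- an automorphism preserving a set preserves the number of neighbours in the set -/
theorem nb_inter_card {g : Equiv.Perm V} (hg : ∀ x y, Γ.Adj (g x) (g y) ↔ Γ.Adj x y)
    (S : Finset V) (hS : ∀ w, g w ∈ S ↔ w ∈ S) (v : V) :
    (nbF Γ (g v) ∩ S).card = (nbF Γ v ∩ S).card := by
  rw [← Finset.card_map g.toEmbedding (s := nbF Γ v ∩ S)]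
  congr 1
  ext u
  rw [Finset.mem_map]
  constructor
  · intro hu
    rw [Finset.mem_inter, mem_nbF] at hu
    refine ⟨g.symm u, ?_, by simp⟩
    rw [Finset.mem_inter, mem_nbF]
    constructor
    · rw [← hg]
      simpa using hu.1
    · rw [← hS]
      simpa using hu.2
  · rintro ⟨w, hw, rfl⟩
    rw [Finset.mem_inter, mem_nbF] at hw
    rw [Finset.mem_inter, mem_nbF]
    exact ⟨(hg v w).mpr hw.1, (hS w).mpr hw.2⟩

end Graph

section Crux

variable {V : Type*} [Fintype V] [DecidableEq V] {Γ : SimpleGraph V} [DecidableRel Γ.Adj]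

/-- The case of an orbit of size `56` is impossible. -/
theorem no_orbit_56 (hΓ : Γ.IsSRGWith 100 22 0 6) (K : Subgroup (Equiv.Perm V))
    (hK : ∀ g ∈ K, ∀ x y, Γ.Adj (g x) (g y) ↔ Γ.Adj x y)
    (a : Equiv.Perm V) (haK : a ∈ K) (ha11 : a ^ 11 = 1) (x : V) (hax : ∀ v, a v = v ↔ v = x)
    (hO : (orbF K x).card = 56)
    (hsmall : ∀ w, w ∉ orbF K x → (orbF K w).card = 22 ∨ (orbF K w).card = 44) : False := by
  have : Fact (Nat.Prime 11) := ⟨by norm_num⟩
  set O := orbF K x with hOdef
  have hxO : x ∈ O := self_mem_orbF K x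
  have hinvO : ∀ g ∈ K, ∀ w, g w ∈ O ↔ w ∈ O := fun g hg w => orbF_smul hg x w
  have hdeg : ∀ v, (nbF Γ v).card = 22 := fun v => srg_card_nb hΓ v
  have hV : (univ : Finset V).card = 100 := by
    rw [Finset.card_univ]
    exact hΓ.card
  -- the number of neighbours inside `O` is constant on `O`
  have hconst : ∀ v ∈ O, (nbF Γ v ∩ O).card = (nbF Γ x ∩ O).card := by
    intro v hv
    obtain ⟨g, hg, rfl⟩ := mem_orbF.mp hv
    exact nb_inter_card (hK g hg) O (hinvO g hg) x
  -- it is divisible by `11`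
  have hd11 : (nbF Γ x ∩ O).card % 11 = 0 := by
    have hS : ∀ v, a v ∈ nbF Γ x ∩ O ↔ v ∈ nbF Γ x ∩ O := by
      intro v
      rw [Finset.mem_inter, Finset.mem_inter, hinvO a haK, mem_nbF, mem_nbF]
      have := hK a haK x v
      rw [(hax x).mpr rfl] at this
      rw [this]
    have h := card_modEq_fix a ha11 (nbF Γ x ∩ O) hS
    have h0 : ((nbF Γ x ∩ O).filter (fun v => a v = v)) = ∅ := by
      rw [Finset.filter_eq_empty_iff]
      intro v hv hav
      rw [hax] at hav
      rw [hav, Finset.mem_inter, mem_nbF] at hv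
      exact Γ.irrefl hv.1
    rw [h0, Finset.card_empty] at h
    exact h
  have hdle : (nbF Γ x ∩ O).card ≤ 22 := by
    rw [← hdeg x]
    exact Finset.card_le_card Finset.inter_subset_left
  have hYcard : (univ \ O).card = 44 := by
    rw [Finset.card_sdiff_of_subset (Finset.subset_univ _), hV, hO]
  have hd : (nbF Γ x ∩ O).card = 0 ∨ (nbF Γ x ∩ O).card = 11 ∨ (nbF Γ x ∩ O).card = 22 := by
    omega
  rcases hd with hd | hd | hd
  · -- no neighbours inside: too many edges leave `O`
    have h1 := edge_count (Γ := Γ) O (univ \ O)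
    have h2 : ∑ v ∈ O, (nbF Γ v ∩ (univ \ O)).card = 56 * 22 := by
      rw [← hO, ← smul_eq_mul, ← Finset.sum_const]
      apply Finset.sum_congr rfl
      intro v hv
      have h3 : nbF Γ v ∩ O = ∅ := Finset.card_eq_zero.mp ((hconst v hv).trans hd)
      have h4 : nbF Γ v ∩ (univ \ O) = nbF Γ v := by
        ext z
        simp only [Finset.mem_inter, Finset.mem_sdiff, Finset.mem_univ, true_and,
          and_iff_left_iff_imp]
        intro hz hzO
        have : z ∈ nbF Γ v ∩ O := Finset.mem_inter.mpr ⟨hz, hzO⟩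
        rw [h3] at this
        exact absurd this (Finset.notMem_empty z)
      rw [h4, hdeg]
    have h5 : ∑ y ∈ univ \ O, (nbF Γ y ∩ O).card ≤ 44 * 22 := by
      rw [← hYcard, ← smul_eq_mul, ← Finset.sum_const]
      apply Finset.sum_le_sum
      intro y _
      rw [← hdeg y]
      exact Finset.card_le_card Finset.inter_subset_left
    rw [h2] at h1
    omega
  · -- eleven neighbours inside
    have hconst' : ∀ v ∈ O, (nbF Γ v ∩ O).card = 11 := fun v hv => (hconst v hv).trans hd
    -- vertices outside `O` with a neighbour in `O` have exactly 14 of them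
    have hfourteen : ∀ w, w ∉ O → (nbF Γ w ∩ O).Nonempty → (nbF Γ w ∩ O).card = 14 := by
      intro w hw hne
      set Y' := orbF K w with hY'
      have hinvY : ∀ g ∈ K, ∀ u, g u ∈ Y' ↔ u ∈ Y' := fun g hg u => orbF_smul hg w u
      have hdisj : ∀ u ∈ Y', u ∉ O := by
        intro u hu huO
        apply hw
        have e1 : orbF K u = orbF K w := orbF_eq hu
        have e2 : orbF K u = orbF K x := orbF_eq huO
        rw [hOdef, ← e2, e1]
        exact self_mem_orbF K w
      have hb : ∀ v ∈ O, (nbF Γ v ∩ Y').card = (nbF Γ x ∩ Y').card := by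
        intro v hv
        obtain ⟨g, hg, rfl⟩ := mem_orbF.mp hv
        exact nb_inter_card (hK g hg) Y' (hinvY g hg) x
      have he : ∀ u ∈ Y', (nbF Γ u ∩ O).card = (nbF Γ w ∩ O).card := by
        intro u hu
        obtain ⟨g, hg, rfl⟩ := mem_orbF.mp hu
        exact nb_inter_card (hK g hg) O (hinvO g hg) w
      have h1 := edge_count (Γ := Γ) O Y'
      rw [Finset.sum_congr rfl hb, Finset.sum_congr rfl he, Finset.sum_const, Finset.sum_const,
        smul_eq_mul, smul_eq_mul, hO] at h1
      have hb1 : 1 ≤ (nbF Γ x ∩ Y').card := by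
        obtain ⟨x', hx'⟩ := hne
        rw [Finset.mem_inter, mem_nbF] at hx'
        rw [← hb x' hx'.2]
        apply Finset.card_pos.mpr
        exact ⟨w, Finset.mem_inter.mpr ⟨mem_nbF.mpr hx'.1.symm, self_mem_orbF K w⟩⟩
      have hb2 : (nbF Γ x ∩ Y').card ≤ 11 := by
        have h3 : nbF Γ x ∩ Y' ⊆ nbF Γ x \ (nbF Γ x ∩ O) := by
          intro z hz
          rw [Finset.mem_inter] at hz
          rw [Finset.mem_sdiff, Finset.mem_inter]
          exact ⟨hz.1, fun h => hdisj z hz.2 h.2⟩
        have h4 := Finset.card_le_card h3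
        rw [Finset.card_sdiff_of_subset Finset.inter_subset_left, hdeg, hd] at h4
        exact h4
      have he2 : (nbF Γ w ∩ O).card ≤ 22 := by
        rw [← hdeg w]
        exact Finset.card_le_card Finset.inter_subset_left
      rcases hsmall w hw with hm | hm
      · rw [hm] at h1
        omega
      · rw [hm] at h1
        omega
    -- count paths of length two from `x` into `O`
    set Z := O \ insert x (nbF Γ x ∩ O) with hZ
    have hxnb : x ∉ nbF Γ x ∩ O := by
      intro h
      rw [Finset.mem_inter, mem_nbF] at h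
      exact Γ.irrefl h.1
    have hZcard : Z.card = 44 := by
      rw [hZ, Finset.card_sdiff_of_subset, Finset.card_insert_of_notMem hxnb, hO, hd]
      intro z hz
      rw [Finset.mem_insert] at hz
      rcases hz with rfl | hz
      · exact hxO
      · exact (Finset.mem_inter.mp hz).2
    have hZmem : ∀ z, z ∈ Z ↔ z ∈ O ∧ z ≠ x ∧ ¬ Γ.Adj x z := by
      intro z
      rw [hZ, Finset.mem_sdiff, Finset.mem_insert, Finset.mem_inter, mem_nbF]
      constructor
      · rintro ⟨h1, h2⟩
        exact ⟨h1, fun h => h2 (Or.inl h), fun h => h2 (Or.inr ⟨h, h1⟩)⟩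
      · rintro ⟨h1, h2, h3⟩
        refine ⟨h1, ?_⟩
        rintro (h | h)
        · exact h2 h
        · exact h3 h.1
    have h1 := edge_count (Γ := Γ) Z (nbF Γ x)
    have h2 : ∑ z ∈ Z, (nbF Γ z ∩ nbF Γ x).card = 44 * 6 := by
      rw [← hZcard, ← smul_eq_mul, ← Finset.sum_const]
      apply Finset.sum_congr rfl
      intro z hz
      rw [hZmem] at hz
      have h3 : nbF Γ z ∩ nbF Γ x = cnF Γ x z := by
        ext u
        simp only [Finset.mem_inter, mem_nbF, mem_cnF]
        exact and_comm
      rw [h3]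
      exact srg_card_nadj hΓ (Ne.symm hz.2.1) hz.2.2
    have h4 : ∀ w ∈ nbF Γ x, (nbF Γ w ∩ O).card = (nbF Γ w ∩ Z).card + 1 := by
      intro w hw
      rw [mem_nbF] at hw
      have h5 : nbF Γ w ∩ O = insert x (nbF Γ w ∩ Z) := by
        ext u
        rw [Finset.mem_insert, Finset.mem_inter, Finset.mem_inter, hZmem, mem_nbF]
        constructor
        · rintro ⟨hu1, hu2⟩
          by_cases hux : u = x
          · exact Or.inl hux
          · refine Or.inr ⟨hu1, hu2, hux, ?_⟩
            intro hxu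
            have h6 := srg_card_adj hΓ hw
            have h7 : u ∈ cnF Γ x w := mem_cnF.mpr ⟨hxu, hu1⟩
            rw [Finset.card_eq_zero] at h6
            rw [h6] at h7
            exact absurd h7 (Finset.notMem_empty u)
        · rintro (rfl | ⟨hu1, hu2, -⟩)
          · exact ⟨hw.symm, hxO⟩
          · exact ⟨hu1, hu2⟩
      rw [h5, Finset.card_insert_of_notMem]
      intro h
      rw [Finset.mem_inter, hZmem] at h
      exact h.2.2.1 rfl
    have h8 : ∑ w ∈ nbF Γ x, (nbF Γ w ∩ Z).card = 11 * 13 + 11 * 10 := by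
      rw [← Finset.sum_sdiff (Finset.inter_subset_left (s₁ := nbF Γ x) (s₂ := O))]
      congr 1
      · have hc : (nbF Γ x \ (nbF Γ x ∩ O)).card = 11 := by
          rw [Finset.card_sdiff_of_subset Finset.inter_subset_left, hdeg, hd]
        rw [← hc, ← smul_eq_mul, ← Finset.sum_const]
        apply Finset.sum_congr rfl
        intro w hw
        rw [Finset.mem_sdiff] at hw
        have hwO : w ∉ O := fun h => hw.2 (Finset.mem_inter.mpr ⟨hw.1, h⟩)
        have h9 := h4 w hw.1
        have h10 : (nbF Γ w ∩ O).Nonempty :=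
          ⟨x, Finset.mem_inter.mpr ⟨mem_nbF.mpr (mem_nbF.mp hw.1).symm, hxO⟩⟩
        rw [hfourteen w hwO h10] at h9
        omega
      · rw [← hd, ← smul_eq_mul, ← Finset.sum_const]
        apply Finset.sum_congr rfl
        intro w hw
        have h9 := h4 w (Finset.mem_inter.mp hw).1
        rw [hconst' w (Finset.mem_inter.mp hw).2] at h9
        omega
    rw [h2, h8] at h1
    omega
  · -- all neighbours inside: `O` would be a union of components
    have hsub : ∀ v ∈ O, nbF Γ v ⊆ O := by
      intro v hv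
      have h1 : (nbF Γ v ∩ O).card = (nbF Γ v).card := by
        rw [hconst v hv, hd, hdeg]
      have h2 := Finset.eq_of_subset_of_card_le (Finset.inter_subset_left (s₁ := nbF Γ v) (s₂ := O))
        (le_of_eq h1.symm)
      rw [← h2]
      exact Finset.inter_subset_right
    have hne : (univ \ O).Nonempty := by
      rw [← Finset.card_pos, hYcard]
      norm_num
    obtain ⟨y, hy⟩ := hne
    rw [Finset.mem_sdiff] at hy
    have hxy : ¬ Γ.Adj x y := fun h => hy.2 (hsub x hxO (mem_nbF.mpr h))
    have hne' : x ≠ y := fun h => hy.2 (h ▸ hxO)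
    have h6 := srg_card_nadj hΓ hne' hxy
    have hne2 : (cnF Γ x y).Nonempty := by
      rw [← Finset.card_pos, h6]
      norm_num
    obtain ⟨w, hw⟩ := hne2
    rw [mem_cnF] at hw
    have hwO : w ∈ O := hsub x hxO (mem_nbF.mpr hw.1)
    exact hy.2 (hsub w hwO (mem_nbF.mpr hw.2.symm))

/-- A group of automorphisms of order `443520` of a strongly regular graph with parameters
`(100, 22, 0, 6)`, whose elements of order `11` fix exactly one vertex and whose elements of order
`7` fix exactly two, fixes a vertex. -/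
theorem exists_fixed_of_card (hΓ : Γ.IsSRGWith 100 22 0 6) (K : Subgroup (Equiv.Perm V))
    (hK : ∀ g ∈ K, ∀ x y, Γ.Adj (g x) (g y) ↔ Γ.Adj x y)
    (hc : Nat.card K = 443520)
    (h11 : ∀ g ∈ K, orderOf g = 11 → ∃ x, ∀ v, g v = v ↔ v = x)
    (h7 : ∀ g ∈ K, orderOf g = 7 → (univ.filter (fun v => g v = v)).card = 2) :
    ∃ y, ∀ g ∈ K, g y = y := by
  have : Fact (Nat.Prime 11) := ⟨by norm_num⟩
  have : Fact (Nat.Prime 7) := ⟨by norm_num⟩
  obtain ⟨a, ha⟩ := exists_prime_orderOf_dvd_card' (G := ↥K) 11 (by rw [hc]; norm_num)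
  obtain ⟨c, hc7⟩ := exists_prime_orderOf_dvd_card' (G := ↥K) 7 (by rw [hc]; norm_num)
  have ha' : orderOf (a : Equiv.Perm V) = 11 := by rw [Subgroup.orderOf_coe, ha]
  have hc' : orderOf (c : Equiv.Perm V) = 7 := by rw [Subgroup.orderOf_coe, hc7]
  obtain ⟨x, hx⟩ := h11 a.1 a.2 ha'
  have hfix7 := h7 c.1 c.2 hc'
  have ha11 : (a : Equiv.Perm V) ^ 11 = 1 := by rw [← ha']; exact pow_orderOf_eq_one _
  have hc7' : (c : Equiv.Perm V) ^ 7 = 1 := by rw [← hc']; exact pow_orderOf_eq_one _
  have hV : (univ : Finset V).card = 100 := by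
    rw [Finset.card_univ]
    exact hΓ.card
  -- arithmetic of an orbit
  have hmod7 : ∀ w, (orbF K w).card % 7 ≤ 2 := by
    intro w
    have h := card_modEq_fix c.1 hc7' (orbF K w) (fun v => orbF_smul c.2 w v)
    have h2 : ((orbF K w).filter (fun v => (c : Equiv.Perm V) v = v)).card ≤ 2 := by
      rw [← hfix7]
      exact Finset.card_le_card (Finset.filter_subset_filter _ (Finset.subset_univ _))
    have h3 : (orbF K w).card % 7 =
        ((orbF K w).filter (fun v => (c : Equiv.Perm V) v = v)).card % 7 := h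
    rw [h3]
    omega
  have hmod11 : ∀ w, (orbF K w).card % 11 = if x ∈ orbF K w then 1 else 0 := by
    intro w
    have h := card_modEq_fix a.1 ha11 (orbF K w) (fun v => orbF_smul a.2 w v)
    have h2 : ((orbF K w).filter (fun v => (a : Equiv.Perm V) v = v)) =
        if x ∈ orbF K w then {x} else ∅ := by
      split_ifs with hxw
      · ext v
        rw [Finset.mem_filter, hx, Finset.mem_singleton]
        constructor
        · exact fun h => h.2
        · rintro rfl
          exact ⟨hxw, rfl⟩
      · rw [Finset.filter_eq_empty_iff]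
        intro v hv hav
        rw [hx] at hav
        exact hxw (hav ▸ hv)
    have h3 : (orbF K w).card % 11 =
        ((orbF K w).filter (fun v => (a : Equiv.Perm V) v = v)).card % 11 := h
    rw [h3, h2]
    split_ifs <;> simp
  have hdvd : ∀ w, (orbF K w).card ∣ 443520 := fun w => hc ▸ card_orbF_dvd K w
  have hle : ∀ w, (orbF K w).card ≤ 100 := by
    intro w
    rw [← hV]
    exact Finset.card_le_card (Finset.subset_univ _)
  have hO : (orbF K x).card = 1 ∨ (orbF K x).card = 56 := by
    have h1 := hmod11 x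
    rw [if_pos (self_mem_orbF K x)] at h1
    exact arithA ⟨(orbF K x).card, Nat.lt_succ_of_le (hle x)⟩ (hdvd x) h1 (hmod7 x)
  rcases hO with hO | hO
  · refine ⟨x, fun g hg => ?_⟩
    obtain ⟨z, hz⟩ := Finset.card_eq_one.mp hO
    have h1 : x ∈ ({z} : Finset V) := hz ▸ self_mem_orbF K x
    have h2 : g x ∈ ({z} : Finset V) := hz ▸ (orbF_smul hg x x).mpr (self_mem_orbF K x)
    rw [Finset.mem_singleton] at h1 h2
    exact h2.trans h1.symm
  · exfalso
    apply no_orbit_56 hΓ K hK a.1 a.2 ha11 x hx hO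
    intro w hw
    have hxw : x ∉ orbF K w := by
      intro h
      apply hw
      rw [orbF_eq h]
      exact self_mem_orbF K w
    have h1 := hmod11 w
    rw [if_neg hxw] at h1
    have h2 : (orbF K w).card ≤ 44 := by
      have h3 : orbF K w ⊆ univ \ orbF K x := by
        intro u hu
        rw [Finset.mem_sdiff]
        refine ⟨Finset.mem_univ u, fun huO => hw ?_⟩
        rw [← orbF_eq huO, orbF_eq hu]
        exact self_mem_orbF K w
      have h4 := Finset.card_le_card h3
      rw [Finset.card_sdiff_of_subset (Finset.subset_univ _), hV, hO] at h4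
      exact h4
    exact arithB ⟨(orbF K w).card, Nat.lt_succ_of_le h2⟩ (card_orbF_pos K w) (hdvd w) h1 (hmod7 w)

end Crux

end Cfsg.Agent.Helper93.HsOut
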