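import Mathlib
import Cfsg.Prelude.Def_KGroupFacts
import Cfsg.Agent.Helper93.HsOutOrbit

/-!
# Automorphisms of a rank 3 group of automorphisms of the Higman–Sims graph (seat helper93)

Let `N` be a normal subgroup of the automorphism group `A` of a strongly regular graph with
parameters `(100, 22, 0, 6)`, transitive on vertices, whose point stabiliser is transitive on the
neighbours and on the non-neighbours of the point.  If every subgroup of `N` of the order of a
point stabiliser fixes a vertex, then every automorphism of `N` is induced by conjugation with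
an element of `A`, and `|Out N| · |N| = |A|`.
-/

set_option autoImplicit false

namespace Cfsg.Agent.Helper93.HsOut

open Finset

section Aut

variable {V : Type*}

/-- the automorphism group of a graph, as a group of permutations -/
def autSub (Γ : SimpleGraph V) : Subgroup (Equiv.Perm V) where
  carrier := {g | ∀ x y, Γ.Adj (g x) (g y) ↔ Γ.Adj x y}
  mul_mem' := by
    intro a b ha hb x y
    rw [Equiv.Perm.mul_apply, Equiv.Perm.mul_apply, ha, hb]
  one_mem' := fun x y => Iff.rfl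
  inv_mem' := by
    intro a ha x y
    rw [← ha]
    simp

theorem mem_autSub {Γ : SimpleGraph V} {g : Equiv.Perm V} :
    g ∈ autSub Γ ↔ ∀ x y, Γ.Adj (g x) (g y) ↔ Γ.Adj x y := Iff.rfl

/-- the permutation group of automorphisms is the automorphism group -/
def autSubEquiv (Γ : SimpleGraph V) : ↥(autSub Γ) ≃* (Γ ≃g Γ) where
  toFun g := ⟨g.1, fun {a b} => g.2 a b⟩
  invFun φ := ⟨φ.toEquiv, fun _ _ => φ.map_rel_iff⟩
  left_inv _ := rfl
  right_inv _ := rfl
  map_mul' _ _ := rfl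

end Aut

section Lift

variable {V : Type*} [Fintype V] [DecidableEq V] {Γ : SimpleGraph V} [DecidableRel Γ.Adj]

/-- hypotheses on the normal subgroup `N` -/
structure Rk3 (Γ : SimpleGraph V) (N : Subgroup (Equiv.Perm V)) (o : V) : Prop where
  le : N ≤ autSub Γ
  norm : ∀ τ ∈ autSub Γ, ∀ g ∈ N, τ * g * τ⁻¹ ∈ N
  tr : ∀ v, ∃ g ∈ N, g o = v
  nb : ∀ p q, Γ.Adj o p → Γ.Adj o q → ∃ h ∈ N, h o = o ∧ h p = q
  non : ∀ p q, p ≠ o → ¬ Γ.Adj o p → q ≠ o → ¬ Γ.Adj o q → ∃ h ∈ N, h o = o ∧ h p = q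
  move : ∀ y, y ≠ o → ∃ h ∈ N, h o = o ∧ h y ≠ y

variable {N : Subgroup (Equiv.Perm V)} {o : V}

/-- an element of the automorphism group centralising `N` is trivial -/
theorem cent_trivial (hN : Rk3 Γ N o) (τ : Equiv.Perm V)
    (hτ : ∀ g ∈ N, τ * g = g * τ) : τ = 1 := by
  have h0 : τ o = o := by
    by_contra hne
    obtain ⟨h, hh, hho, hhy⟩ := hN.move (τ o) hne
    apply hhy
    have := congrArg (fun f : Equiv.Perm V => f o) (hτ h hh)
    simp only [Equiv.Perm.mul_apply, hho] at this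
    exact this.symm
  ext v
  obtain ⟨g, hg, rfl⟩ := hN.tr v
  have := congrArg (fun f : Equiv.Perm V => f o) (hτ g hg)
  simp only [Equiv.Perm.mul_apply, h0] at this
  simpa using this

/-- An automorphism of `N` preserving the point stabiliser is induced by an automorphism of the
graph fixing the point. -/
theorem lift_of_stab (hΓ : Γ.IsSRGWith 100 22 0 6) (hN : Rk3 Γ N o) (β : ↥N ≃* ↥N)
    (hβ : ∀ h : ↥N, h.1 o = o → (β h).1 o = o) :
    ∃ τ ∈ autSub Γ, ∀ g : ↥N, (β g).1 = τ * g.1 * τ⁻¹ := by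
  classical
  -- the stabiliser and its image
  let Hs : Subgroup ↥N := MulAction.stabilizer ↥N o
  have hHs : ∀ h : ↥N, h ∈ Hs ↔ h.1 o = o := fun h => MulAction.mem_stabilizer_iff
  have hmap : Hs.map β.toMonoidHom = Hs := by
    apply Subgroup.eq_of_le_of_card_ge
    · rintro _ ⟨h, hh, rfl⟩
      exact (hHs _).mpr (hβ h ((hHs h).mp hh))
    · rw [Subgroup.card_map_of_injective β.injective]
  have hβ' : ∀ h : ↥N, (β h).1 o = o → h.1 o = o := by
    intro h hh
    have h1 : β h ∈ Hs.map β.toMonoidHom := by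
      rw [hmap]
      exact (hHs _).mpr hh
    obtain ⟨h', hh', e⟩ := h1
    have : h' = h := β.injective e
    rw [← this]
    exact (hHs h').mp hh'
  have hsurj : ∀ h' : ↥N, h'.1 o = o → ∃ h : ↥N, h.1 o = o ∧ β h = h' := by
    intro h' hh'
    have h1 : h' ∈ Hs.map β.toMonoidHom := by
      rw [hmap]
      exact (hHs _).mpr hh'
    obtain ⟨h, hh, e⟩ := h1
    exact ⟨h, (hHs h).mp hh, e⟩
  -- the induced map on vertices
  have hch : ∀ v, ∃ g : ↥N, g.1 o = v := fun v => by
    obtain ⟨g, hg, h⟩ := hN.tr v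
    exact ⟨⟨g, hg⟩, h⟩
  let gv : V → ↥N := fun v => (hch v).choose
  have hgv : ∀ v, (gv v).1 o = v := fun v => (hch v).choose_spec
  let f : V → V := fun v => (β (gv v)).1 o
  have hP : ∀ g : ↥N, f (g.1 o) = (β g).1 o := by
    intro g
    have h1 : ((gv (g.1 o))⁻¹ * g).1 o = o := by
      show ((gv (g.1 o)).1⁻¹ * g.1) o = o
      rw [Equiv.Perm.mul_apply, Equiv.Perm.inv_eq_iff_eq, hgv]
    have h2 := hβ _ h1
    rw [map_mul, map_inv] at h2
    have h3 : ((β (gv (g.1 o)))⁻¹ * β g).1 o = ((β (gv (g.1 o))).1)⁻¹ ((β g).1 o) := rfl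
    rw [h3, Equiv.Perm.inv_eq_iff_eq] at h2
    exact h2.symm
  have hE : ∀ (g : ↥N) (v : V), f (g.1 v) = (β g).1 (f v) := by
    intro g v
    have h1 : g.1 v = (g * gv v).1 o := by
      show g.1 v = (g.1 * (gv v).1) o
      rw [Equiv.Perm.mul_apply, hgv]
    rw [h1, hP, map_mul]
    rfl
  have hinj : Function.Injective f := by
    intro v w hvw
    have h1 : (β ((gv w)⁻¹ * gv v)).1 o = o := by
      rw [map_mul, map_inv]
      show ((β (gv w)).1⁻¹ * (β (gv v)).1) o = o
      rw [Equiv.Perm.mul_apply, Equiv.Perm.inv_eq_iff_eq]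
      exact hvw
    have h2 := hβ' _ h1
    have h3 : ((gv w)⁻¹ * gv v).1 o = ((gv w).1)⁻¹ ((gv v).1 o) := rfl
    rw [h3, Equiv.Perm.inv_eq_iff_eq, hgv, hgv] at h2
    exact h2
  let τ : Equiv.Perm V := Equiv.ofBijective f (Finite.injective_iff_bijective.mp hinj)
  have hτ : ∀ v, τ v = f v := fun v => rfl
  have hτo : τ o = o := by
    have := hP 1
    rw [map_one] at this
    exact this
  have hNaut : ∀ g : ↥N, ∀ x y, Γ.Adj (g.1 x) (g.1 y) ↔ Γ.Adj x y := fun g => hN.le g.2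
  -- neighbours of the point go to neighbours of the point
  have hnb : ∀ p, Γ.Adj o p → Γ.Adj o (τ p) := by
    intro p hp
    by_contra hnot
    have hpo : τ p ≠ o := by
      intro h
      rw [← hτo] at h
      have := τ.injective h
      rw [this] at hp
      exact Γ.irrefl hp
    have hsub : nonF Γ o ⊆ (nbF Γ o).image τ := by
      intro q hq
      rw [nonF, Finset.mem_filter] at hq
      obtain ⟨h', hh', ho', hq'⟩ := hN.non (τ p) q hpo hnot hq.2.1 hq.2.2
      obtain ⟨h, hh, e⟩ := hsurj ⟨h', hh'⟩ ho'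
      rw [Finset.mem_image]
      refine ⟨h.1 p, ?_, ?_⟩
      · rw [mem_nbF]
        have := hNaut h o p
        rw [hh] at this
        exact this.mpr hp
      · rw [hτ, hE, e, ← hτ]
        exact hq'
    have h1 := Finset.card_le_card hsub
    have h2 := Finset.card_image_le (s := nbF Γ o) (f := τ)
    rw [srg_card_nb hΓ] at h2
    rw [srg100_card_non hΓ] at h1
    omega
  have hadj : ∀ v w, Γ.Adj v w → Γ.Adj (τ v) (τ w) := by
    intro v w hvw
    have h1 : v = (gv v).1 o := (hgv v).symm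
    have hp : Γ.Adj o ((gv v)⁻¹.1 w) := by
      have := hNaut (gv v)⁻¹ v w
      have h2 : (gv v)⁻¹.1 v = o := by
        show ((gv v).1)⁻¹ v = o
        rw [Equiv.Perm.inv_eq_iff_eq, hgv]
      rw [h2] at this
      exact this.mpr hvw
    have h3 : w = (gv v).1 ((gv v)⁻¹.1 w) := by
      show w = (gv v).1 (((gv v).1)⁻¹ w)
      simp
    have h4 := hnb _ hp
    have h5 := (hNaut (β (gv v)) o (τ ((gv v)⁻¹.1 w))).mpr h4
    have e1 : τ v = (β (gv v)).1 o := rfl
    have e2 : τ w = (β (gv v)).1 (τ ((gv v)⁻¹.1 w)) := by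
      conv_lhs => rw [h3]
      rw [hτ, hE, ← hτ]
    rw [e1, e2]
    exact h5
  have hτaut : τ ∈ autSub Γ := by
    intro v w
    constructor
    · intro h
      have hsub : (nbF Γ v).image τ ⊆ nbF Γ (τ v) := by
        intro u hu
        rw [Finset.mem_image] at hu
        obtain ⟨z, hz, rfl⟩ := hu
        exact mem_nbF.mpr (hadj v z (mem_nbF.mp hz))
      have hcard : (nbF Γ (τ v)).card ≤ ((nbF Γ v).image τ).card := by
        rw [Finset.card_image_of_injective _ τ.injective, srg_card_nb hΓ, srg_card_nb hΓ]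
      have heq := Finset.eq_of_subset_of_card_le hsub hcard
      have hw : τ w ∈ (nbF Γ v).image τ := by
        rw [heq]
        exact mem_nbF.mpr h
      rw [Finset.mem_image] at hw
      obtain ⟨z, hz, e⟩ := hw
      rw [τ.injective e] at hz
      exact mem_nbF.mp hz
    · exact hadj v w
  refine ⟨τ, hτaut, fun g => ?_⟩
  ext u
  rw [Equiv.Perm.mul_apply, Equiv.Perm.mul_apply, hτ, hE, ← hτ]
  simp

/-- Every automorphism of `N` is induced by conjugation with a graph automorphism, provided the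
subgroups of `N` of the order of a point stabiliser fix a vertex. -/
theorem lift_aut (hΓ : Γ.IsSRGWith 100 22 0 6) (hN : Rk3 Γ N o)
    (hfix : ∀ K : Subgroup (Equiv.Perm V), K ≤ N →
      Nat.card K = Nat.card ↥(MulAction.stabilizer ↥N o) → ∃ y, ∀ k ∈ K, k y = y)
    (α : ↥N ≃* ↥N) : ∃ τ ∈ autSub Γ, ∀ g : ↥N, (α g).1 = τ * g.1 * τ⁻¹ := by
  classical
  let Hs : Subgroup ↥N := MulAction.stabilizer ↥N o
  have hHs : ∀ h : ↥N, h ∈ Hs ↔ h.1 o = o := fun h => MulAction.mem_stabilizer_iff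
  let K : Subgroup (Equiv.Perm V) := (Hs.map α.toMonoidHom).map N.subtype
  have hKN : K ≤ N := by
    rintro _ ⟨k, -, rfl⟩
    exact k.2
  have hKc : Nat.card K = Nat.card ↥Hs := by
    rw [Subgroup.card_map_of_injective (Subgroup.subtype_injective N),
      Subgroup.card_map_of_injective α.injective]
  obtain ⟨y, hy⟩ := hfix K hKN hKc
  obtain ⟨s, hs, hsy⟩ := hN.tr y
  let σ : ↥N := ⟨s, hs⟩
  let β : ↥N ≃* ↥N := α.trans (MulAut.conj σ⁻¹)
  have hβ : ∀ g : ↥N, (β g).1 = s⁻¹ * (α g).1 * s := by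
    intro g
    show (σ⁻¹ * α g * σ⁻¹⁻¹).1 = s⁻¹ * (α g).1 * s
    rw [inv_inv]
    rfl
  have hβo : ∀ h : ↥N, h.1 o = o → (β h).1 o = o := by
    intro h hh
    rw [hβ, Equiv.Perm.mul_apply, Equiv.Perm.mul_apply, hsy, Equiv.Perm.inv_eq_iff_eq, hsy]
    apply hy
    exact ⟨α h, ⟨h, (hHs h).mpr hh, rfl⟩, rfl⟩
  obtain ⟨τ, hτ, hτc⟩ := lift_of_stab hΓ hN β hβo
  refine ⟨s * τ, (autSub Γ).mul_mem (hN.le hs) hτ, fun g => ?_⟩
  have h1 := hτc g
  rw [hβ] at h1
  have h2 : (α g).1 = s * (s⁻¹ * (α g).1 * s) * s⁻¹ := by group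
  rw [h2, h1]
  group

/-- conjugation by a graph automorphism, as an automorphism of `N` -/
def conjAut (hN : Rk3 Γ N o) : ↥(autSub Γ) →* MulAut ↥N where
  toFun τ :=
    { toFun := fun g => ⟨τ.1 * g.1 * τ.1⁻¹, hN.norm τ.1 τ.2 g.1 g.2⟩
      invFun := fun g => ⟨τ.1⁻¹ * g.1 * τ.1, by
        have := hN.norm τ.1⁻¹ ((autSub Γ).inv_mem τ.2) g.1 g.2
        rwa [inv_inv] at this⟩
      left_inv := fun g => Subtype.ext (by
        show τ.1⁻¹ * (τ.1 * g.1 * τ.1⁻¹) * τ.1 = g.1
        group)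
      right_inv := fun g => Subtype.ext (by
        show τ.1 * (τ.1⁻¹ * g.1 * τ.1) * τ.1⁻¹ = g.1
        group)
      map_mul' := fun g h => Subtype.ext (by
        show τ.1 * (g.1 * h.1) * τ.1⁻¹ = (τ.1 * g.1 * τ.1⁻¹) * (τ.1 * h.1 * τ.1⁻¹)
        group) }
  map_one' := by
    apply MulEquiv.ext
    intro g
    apply Subtype.ext
    show (1 : Equiv.Perm V) * g.1 * (1 : Equiv.Perm V)⁻¹ = g.1
    group
  map_mul' := fun σ τ => by
    apply MulEquiv.ext
    intro g
    apply Subtype.ext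
    show (σ.1 * τ.1) * g.1 * (σ.1 * τ.1)⁻¹ = σ.1 * (τ.1 * g.1 * τ.1⁻¹) * σ.1⁻¹
    group

theorem conjAut_apply (hN : Rk3 Γ N o) (τ : ↥(autSub Γ)) (g : ↥N) :
    (conjAut hN τ g).1 = τ.1 * g.1 * τ.1⁻¹ := rfl

theorem conjAut_injective (hN : Rk3 Γ N o) : Function.Injective (conjAut hN) := by
  rw [injective_iff_map_eq_one]
  intro τ hτ
  apply Subtype.ext
  apply cent_trivial hN τ.1
  intro g hg
  have := congrArg (fun φ : MulAut ↥N => (φ ⟨g, hg⟩).1) hτ
  simp only [conjAut_apply] at this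
  have h2 : τ.1 * g * τ.1⁻¹ = g := this
  calc τ.1 * g = τ.1 * g * τ.1⁻¹ * τ.1 := by group
    _ = g * τ.1 := by rw [h2]

/-- the order of the outer automorphism group -/
theorem card_out_mul (hΓ : Γ.IsSRGWith 100 22 0 6) (hN : Rk3 Γ N o)
    (hfix : ∀ K : Subgroup (Equiv.Perm V), K ≤ N →
      Nat.card K = Nat.card ↥(MulAction.stabilizer ↥N o) → ∃ y, ∀ k ∈ K, k y = y) :
    Nat.card (Cfsg.Out ↥N) * Nat.card ↥N = Nat.card ↥(autSub Γ) := by
  have hsurj : Function.Surjective (conjAut hN) := by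
    intro α
    obtain ⟨τ, hτ, hc⟩ := lift_aut hΓ hN hfix α
    refine ⟨⟨τ, hτ⟩, ?_⟩
    ext g
    rw [conjAut_apply, hc]
  have h1 : Nat.card (MulAut ↥N) = Nat.card ↥(autSub Γ) :=
    (Nat.card_congr (Equiv.ofBijective _ ⟨conjAut_injective hN, hsurj⟩)).symm
  have hinj : Function.Injective (MulAut.conj : ↥N →* MulAut ↥N) := by
    rw [injective_iff_map_eq_one]
    intro g hg
    apply Subtype.ext
    apply cent_trivial hN g.1
    intro k hk
    have := congrArg (fun φ : MulAut ↥N => (φ ⟨k, hk⟩).1) hg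
    simp only [MulAut.conj_apply, MulAut.one_apply] at this
    have h2 : g.1 * k * g.1⁻¹ = k := this
    calc g.1 * k = g.1 * k * g.1⁻¹ * g.1 := by group
      _ = k * g.1 := by rw [h2]
  have h2 : Nat.card ↥(Cfsg.Inn ↥N) = Nat.card ↥N :=
    (Nat.card_congr (MonoidHom.ofInjective hinj).toEquiv).symm
  have h3 := Subgroup.card_mul_index (Cfsg.Inn ↥N)
  rw [Subgroup.index_eq_card, h2, h1] at h3
  rw [mul_comm]
  exact h3

end Lift

end Cfsg.Agent.Helper93.HsOut
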