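import Mathlib
import Cfsg.Agent.Helper93.HsOutData
import Cfsg.Agent.Helper93.HsOutLift
import Cfsg.Agent.Helper93.HsRecog
import Cfsg.Agent.Helper93.HsLeech

/-!
# The outer automorphism group of the Higman–Sims group (seat helper93)

The even automorphisms `hsN` of the explicit Higman–Sims graph form a group isomorphic to
`Spor.HS`, and `|Out hsN| = 2`.
-/

set_option autoImplicit false

namespace Cfsg.Agent.Helper93.HsOut

open Cfsg Cfsg.Agent.Helper93 Finset
open scoped Pointwise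

/-! ### Conjugacy of subgroups of prime order -/

/-- In a finite group whose order is divisible by the prime `p` exactly once, two elements of
order `p` are conjugate up to powers. -/
theorem conj_of_prime_order {G : Type*} [Group G] [Finite G] {p m : ℕ} [Fact p.Prime]
    (hcard : Nat.card G = p * m) (hm : ¬ p ∣ m) (a g : G) (ha : orderOf a = p)
    (hg : orderOf g = p) :
    ∃ (τ : G) (k j : ℕ), τ⁻¹ * g * τ = a ^ k ∧ (a ^ k) ^ j = a := by
  have hp : p.Prime := Fact.out
  have hf : (Nat.card G).factorization p = 1 := by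
    rw [hcard, Nat.factorization_mul hp.ne_zero (by rintro rfl; exact hm (dvd_zero p)), Finsupp.add_apply,
      Nat.Prime.factorization_self hp, Nat.factorization_eq_zero_of_not_dvd hm]
  have hca : Nat.card (Subgroup.zpowers a) = p ^ (Nat.card G).factorization p := by
    rw [hf, pow_one, Nat.card_zpowers, ha]
  have hcg : Nat.card (Subgroup.zpowers g) = p ^ (Nat.card G).factorization p := by
    rw [hf, pow_one, Nat.card_zpowers, hg]
  obtain ⟨τ, hτ⟩ := MulAction.exists_smul_eq G (Sylow.ofCard (Subgroup.zpowers a) hca)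
    (Sylow.ofCard (Subgroup.zpowers g) hcg)
  have h1 : g ∈ ((τ • Sylow.ofCard (Subgroup.zpowers a) hca : Sylow p G) : Subgroup G) := by
    rw [hτ]
    exact Subgroup.mem_zpowers g
  have h2 : g ∈ MulAut.conj τ • (Subgroup.zpowers a) := h1
  rw [Subgroup.mem_pointwise_smul_iff_inv_smul_mem] at h2
  have h3 : (MulAut.conj τ)⁻¹ • g = τ⁻¹ * g * τ := by
    rw [← map_inv, MulAut.smul_def, MulAut.conj_apply, inv_inv]
  rw [h3] at h2
  obtain ⟨k, hk⟩ := (Submonoid.mem_powers_iff _ _).mp (mem_powers_iff_mem_zpowers.mpr h2)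
  have hs1 : τ⁻¹ * g * τ ≠ 1 := by
    intro h
    have : g = 1 := by
      have e : g = τ * (τ⁻¹ * g * τ) * τ⁻¹ := by group
      rw [e, h]
      group
    rw [this, orderOf_one] at hg
    exact hp.one_lt.ne hg
  have hsp : (τ⁻¹ * g * τ) ^ p = 1 := by
    rw [← hk, ← pow_mul, mul_comm, pow_mul, ← ha, pow_orderOf_eq_one, one_pow]
  have hso : orderOf (τ⁻¹ * g * τ) = p := orderOf_eq_prime hsp hs1
  have hle : Subgroup.zpowers (τ⁻¹ * g * τ) ≤ Subgroup.zpowers a :=
    Subgroup.zpowers_le.mpr h2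
  have heq := Subgroup.eq_of_le_of_card_ge hle (by rw [Nat.card_zpowers, Nat.card_zpowers, hso, ha])
  have h4 : a ∈ Subgroup.zpowers (τ⁻¹ * g * τ) := by
    rw [heq]
    exact Subgroup.mem_zpowers a
  obtain ⟨j, hj⟩ := (Submonoid.mem_powers_iff _ _).mp (mem_powers_iff_mem_zpowers.mpr h4)
  exact ⟨τ, k, j, hk.symm, by rw [hk]; exact hj⟩

theorem fix_conj_iff {V : Type*} (τ g a : Equiv.Perm V) (k j : ℕ) (h1 : τ⁻¹ * g * τ = a ^ k)
    (h2 : (a ^ k) ^ j = a) (v : V) : g v = v ↔ a (τ⁻¹ v) = τ⁻¹ v := by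
  have hg : g = τ * a ^ k * τ⁻¹ := by
    rw [← h1]
    group
  have h3 : ∀ u, (a ^ k) u = u ↔ a u = u := by
    intro u
    constructor
    · intro h
      have := Equiv.Perm.pow_apply_eq_self_of_apply_eq_self h j
      rwa [h2] at this
    · intro h
      exact Equiv.Perm.pow_apply_eq_self_of_apply_eq_self h k
  rw [hg, Equiv.Perm.mul_apply, Equiv.Perm.mul_apply, ← h3, Equiv.Perm.eq_inv_iff_eq]

/-! ### The explicit automorphisms -/

/-- a permutation from lists of images and inverse images -/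
def mkP (l li : List ℕ) (h1 : ∀ i : Fin 100, lf li (lf l i) = i)
    (h2 : ∀ i : Fin 100, lf l (lf li i) = i) : Equiv.Perm (Fin 100) := ⟨lf l, lf li, h1, h2⟩

theorem mkP_apply (l li : List ℕ) (h1 : ∀ i : Fin 100, lf li (lf l i) = i)
    (h2 : ∀ i : Fin 100, lf l (lf li i) = i) (i : Fin 100) : mkP l li h1 h2 i = lf l i := rfl

theorem mkP_mem (l li : List ℕ) (h1 : ∀ i : Fin 100, lf li (lf l i) = i)
    (h2 : ∀ i : Fin 100, lf l (lf li i) = i)
    (hadj : ∀ i j : Fin 100, hsAdjB (lf l i).val (lf l j).val = hsAdjB i.val j.val) :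
    mkP l li h1 h2 ∈ autSub hsGraph := by
  intro x y
  show hsAdjB (lf l x).val (lf l y).val = true ↔ hsAdjB x.val y.val = true
  rw [hadj]

theorem mkP_pow (l li : List ℕ) (h1 : ∀ i : Fin 100, lf li (lf l i) = i)
    (h2 : ∀ i : Fin 100, lf l (lf li i) = i) (n : ℕ) (h : ∀ i : Fin 100, (lf l)^[n] i = i) :
    mkP l li h1 h2 ^ n = 1 := by
  ext i
  rw [← Equiv.Perm.iterate_eq_pow]
  exact congrArg Fin.val (h i)

theorem sign_of_odd_pow (g : Equiv.Perm (Fin 100)) (n : ℕ) (hn : Odd n) (h : g ^ n = 1) :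
    Equiv.Perm.sign g = 1 := by
  have h1 : (Equiv.Perm.sign g) ^ n = 1 := by rw [← map_pow, h, map_one]
  rcases Int.units_eq_one_or (Equiv.Perm.sign g) with h2 | h2
  · exact h2
  · rw [h2, Odd.neg_one_pow hn] at h1
    exact absurd h1 (by decide)

/-- the automorphism of order 11 -/
def a0P : Equiv.Perm (Fin 100) := mkP a0L a0I a0_inv1 a0_inv2

/-- the automorphism of order 7 -/
def c0P : Equiv.Perm (Fin 100) := mkP c0L c0I c0_inv1 c0_inv2

/-- the automorphism of order 15 -/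
def s0P : Equiv.Perm (Fin 100) := mkP s0L s0I s0_inv1 s0_inv2

theorem a0P_pow : a0P ^ 11 = 1 := mkP_pow _ _ _ _ 11 a0_pow

theorem c0P_pow : c0P ^ 7 = 1 := mkP_pow _ _ _ _ 7 c0_pow

theorem s0P_pow : s0P ^ 15 = 1 := mkP_pow _ _ _ _ 15 s0_pow

theorem a0P_aut : a0P ∈ autSub hsGraph := mkP_mem _ _ _ _ a0_adj

theorem c0P_aut : c0P ∈ autSub hsGraph := mkP_mem _ _ _ _ c0_adj

theorem s0P_aut : s0P ∈ autSub hsGraph := mkP_mem _ _ _ _ s0_adj

theorem a0P_fix (i : Fin 100) : a0P i = i ↔ i = 0 := a0_fix i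

theorem c0P_fix (i : Fin 100) : c0P i = i ↔ (i = 0 ∨ i = 22) := c0_fix i

theorem a0P_ne : a0P ≠ 1 := by
  intro h
  have := (a0P_fix 1).mp (by rw [h]; rfl)
  exact absurd this (by decide)

theorem c0P_ne : c0P ≠ 1 := by
  intro h
  have := (c0P_fix 1).mp (by rw [h]; rfl)
  exact absurd this (by decide)

theorem orderOf_a0P : orderOf a0P = 11 := by
  haveI : Fact (Nat.Prime 11) := ⟨by norm_num⟩
  exact orderOf_eq_prime a0P_pow a0P_ne

theorem orderOf_c0P : orderOf c0P = 7 := by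
  haveI : Fact (Nat.Prime 7) := ⟨by norm_num⟩
  exact orderOf_eq_prime c0P_pow c0P_ne

/-! ### Orders -/

theorem card_autSub : Nat.card ↥(autSub hsGraph) = 88704000 := by
  rw [Nat.card_congr (autSubEquiv hsGraph).toEquiv]
  exact srg100_card_aut hsGraph hsGraph_srg

instance finite_autSub : Finite ↥(autSub hsGraph) := inferInstance

/-- the even automorphisms of the Higman–Sims graph -/
def hsN : Subgroup (Equiv.Perm (Fin 100)) := autSub hsGraph ⊓ alternatingGroup (Fin 100)

theorem mem_hsN {g : Equiv.Perm (Fin 100)} :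
    g ∈ hsN ↔ g ∈ autSub hsGraph ∧ Equiv.Perm.sign g = 1 := by
  rw [hsN, Subgroup.mem_inf, Equiv.Perm.mem_alternatingGroup]

theorem hsN_le : hsN ≤ autSub hsGraph := inf_le_left

theorem hsPerm_aut : hsPerm ∈ autSub hsGraph := by
  intro x y
  show hsAdjB (hsPermFun x).val (hsPermFun y).val = true ↔ hsAdjB x.val y.val = true
  rw [hsPermFun_adj]

theorem card_hsN : Nat.card ↥hsN = 44352000 := by
  let f : ↥(autSub hsGraph) →* ℤˣ := Equiv.Perm.sign.comp (autSub hsGraph).subtype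
  have hker : f.ker = hsN.subgroupOf (autSub hsGraph) := by
    ext g
    rw [MonoidHom.mem_ker, Subgroup.mem_subgroupOf, mem_hsN]
    constructor
    · intro h
      exact ⟨g.2, h⟩
    · intro h
      exact h.2
  have hrange : f.range = ⊤ := by
    rw [eq_top_iff]
    intro u _
    rcases Int.units_eq_one_or u with h | h
    · rw [h]
      exact f.range.one_mem
    · rw [h]
      exact ⟨⟨hsPerm, hsPerm_aut⟩, hsPerm_sign⟩
  have h1 := Subgroup.card_mul_index f.ker
  rw [Subgroup.index_ker, hrange, Nat.card_congr Subgroup.topEquiv.toEquiv, hker,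
    Nat.card_congr (Subgroup.subgroupOfEquivOfLe hsN_le).toEquiv, card_autSub] at h1
  have h2 : Nat.card ℤˣ = 2 := by
    rw [Nat.card_eq_fintype_card]
    rfl
  rw [h2] at h1
  omega

/-! ### Fixed points of elements of orders 11 and 7 -/

theorem fix_eleven (g : Equiv.Perm (Fin 100)) (hg : g ∈ autSub hsGraph) (ho : orderOf g = 11) :
    ∃ x, ∀ v, g v = v ↔ v = x := by
  haveI : Fact (Nat.Prime 11) := ⟨by norm_num⟩
  have hc : Nat.card ↥(autSub hsGraph) = 11 * 8064000 := by rw [card_autSub]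
  obtain ⟨τ, k, j, h1, h2⟩ := conj_of_prime_order hc (by norm_num)
    (⟨a0P, a0P_aut⟩ : ↥(autSub hsGraph)) ⟨g, hg⟩
    (by rw [← Subgroup.orderOf_coe]; exact orderOf_a0P)
    (by rw [← Subgroup.orderOf_coe]; exact ho)
  have h1' : τ.1⁻¹ * g * τ.1 = a0P ^ k := congrArg Subtype.val h1
  have h2' : (a0P ^ k) ^ j = a0P := congrArg Subtype.val h2
  refine ⟨τ.1 0, fun v => ?_⟩
  rw [fix_conj_iff τ.1 g a0P k j h1' h2' v, a0P_fix, Equiv.Perm.inv_eq_iff_eq, eq_comm]

theorem fix_seven (g : Equiv.Perm (Fin 100)) (hg : g ∈ autSub hsGraph) (ho : orderOf g = 7) :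
    (univ.filter (fun v => g v = v)).card = 2 := by
  haveI : Fact (Nat.Prime 7) := ⟨by norm_num⟩
  have hc : Nat.card ↥(autSub hsGraph) = 7 * 12672000 := by rw [card_autSub]
  obtain ⟨τ, k, j, h1, h2⟩ := conj_of_prime_order hc (by norm_num)
    (⟨c0P, c0P_aut⟩ : ↥(autSub hsGraph)) ⟨g, hg⟩
    (by rw [← Subgroup.orderOf_coe]; exact orderOf_c0P)
    (by rw [← Subgroup.orderOf_coe]; exact ho)
  have h1' : τ.1⁻¹ * g * τ.1 = c0P ^ k := congrArg Subtype.val h1
  have h2' : (c0P ^ k) ^ j = c0P := congrArg Subtype.val h2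
  have hset : univ.filter (fun v => g v = v) = {τ.1 0, τ.1 22} := by
    ext v
    rw [Finset.mem_filter, Finset.mem_insert, Finset.mem_singleton,
      fix_conj_iff τ.1 g c0P k j h1' h2' v, c0P_fix, Equiv.Perm.inv_eq_iff_eq,
      Equiv.Perm.inv_eq_iff_eq]
    simp
  rw [hset, Finset.card_pair]
  intro h
  exact absurd (τ.1.injective h) (by decide)

/-! ### Transitivity -/

/-- the generators as permutations -/
def genP (k : ℕ) : Equiv.Perm (Fin 100) := if k = 0 then a0P else if k = 1 then c0P else s0P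

theorem genP_apply (k : ℕ) (x : Fin 100) : genP k x = genF k x := by
  unfold genP genF
  split_ifs <;> rfl

theorem a0P_mem : a0P ∈ hsN := mem_hsN.mpr ⟨a0P_aut, sign_of_odd_pow _ 11 (by decide) a0P_pow⟩

theorem c0P_mem : c0P ∈ hsN := mem_hsN.mpr ⟨c0P_aut, sign_of_odd_pow _ 7 (by decide) c0P_pow⟩

theorem s0P_mem : s0P ∈ hsN := mem_hsN.mpr ⟨s0P_aut, sign_of_odd_pow _ 15 (by decide) s0P_pow⟩

theorem genP_mem (k : ℕ) : genP k ∈ hsN := by
  unfold genP
  split_ifs
  · exact a0P_mem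
  · exact c0P_mem
  · exact s0P_mem

/-- the permutation of a word -/
def wordP (w : List ℕ) : Equiv.Perm (Fin 100) := (w.map genP).prod

theorem wordP_apply (w : List ℕ) (x : Fin 100) : wordP w x = evalW w x := by
  induction w with
  | nil => rfl
  | cons k w ih =>
    show ((genP k) * wordP w) x = genF k (evalW w x)
    rw [Equiv.Perm.mul_apply, ih, genP_apply]

theorem wordP_mem (w : List ℕ) : wordP w ∈ hsN := by
  apply Subgroup.list_prod_mem
  intro g hg
  rw [List.mem_map] at hg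
  obtain ⟨k, -, rfl⟩ := hg
  exact genP_mem k

theorem wordP_zero (w : List ℕ) (hw : ∀ k ∈ w, k < 2) : wordP w 0 = 0 := by
  induction w with
  | nil => rfl
  | cons k w ih =>
    have h1 : wordP (k :: w) = genP k * wordP w := by
      show ((k :: w).map genP).prod = genP k * (w.map genP).prod
      rw [List.map_cons, List.prod_cons]
    rw [h1, Equiv.Perm.mul_apply, ih (fun j hj => hw j (List.mem_cons_of_mem k hj))]
    have hk : k < 2 := hw k List.mem_cons_self
    unfold genP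
    split_ifs with h0 h1'
    · exact (a0P_fix 0).mpr rfl
    · exact (c0P_fix 0).mpr (Or.inl rfl)
    · omega

theorem hs_adj_zero (v : Fin 100) : hsGraph.Adj 0 v ↔ (v.val ≠ 0 ∧ v.val < 23) := adj_zero v

/-- the stabiliser of `0` is transitive on the neighbours and the non-neighbours -/
theorem stab_trans (p q : Fin 100) (hp : p.val ≠ 0) (hq : q.val ≠ 0)
    (hpq : p.val < 23 ↔ q.val < 23) : ∃ h ∈ hsN, h 0 = 0 ∧ h p = q := by
  refine ⟨wordP (wordsH.getD q.val []) * (wordP (wordsH.getD p.val []))⁻¹,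
    hsN.mul_mem (wordP_mem _) (hsN.inv_mem (wordP_mem _)), ?_, ?_⟩
  · rw [Equiv.Perm.mul_apply, Equiv.Perm.inv_eq_iff_eq.mpr (wordP_zero _ (wordsH_lt p)).symm,
      wordP_zero _ (wordsH_lt q)]
  · have h1 := wordsH_ok p hp
    have h2 := wordsH_ok q hq
    rw [← wordP_apply] at h1 h2
    by_cases h : p.val < 23
    · rw [if_pos h] at h1
      rw [if_pos (hpq.mp h)] at h2
      rw [Equiv.Perm.mul_apply, Equiv.Perm.inv_eq_iff_eq.mpr h1.symm, h2]
    · rw [if_neg h] at h1
      rw [if_neg (fun h' => h (hpq.mpr h'))] at h2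
      rw [Equiv.Perm.mul_apply, Equiv.Perm.inv_eq_iff_eq.mpr h1.symm, h2]

theorem hsN_rk3 : Rk3 hsGraph hsN 0 where
  le := hsN_le
  norm := by
    intro τ hτ g hg
    rw [mem_hsN] at hg ⊢
    refine ⟨(autSub hsGraph).mul_mem ((autSub hsGraph).mul_mem hτ hg.1)
      ((autSub hsGraph).inv_mem hτ), ?_⟩
    rw [map_mul, map_mul, map_inv, hg.2, mul_one, mul_inv_cancel]
  tr := by
    intro v
    exact ⟨wordP (wordsN.getD v.val []), wordP_mem _, by rw [wordP_apply]; exact wordsN_ok v⟩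
  nb := by
    intro p q hp hq
    rw [hs_adj_zero] at hp hq
    exact stab_trans p q hp.1 hq.1 ⟨fun _ => hq.2, fun _ => hp.2⟩
  non := by
    intro p q hp hp' hq hq'
    rw [hs_adj_zero] at hp' hq'
    have hp0 : p.val ≠ 0 := fun h => hp (Fin.ext h)
    have hq0 : q.val ≠ 0 := fun h => hq (Fin.ext h)
    exact stab_trans p q hp0 hq0 ⟨fun h => absurd ⟨hp0, h⟩ hp', fun h => absurd ⟨hq0, h⟩ hq'⟩
  move := by
    intro y hy
    have hy0 : y.val ≠ 0 := fun h => hy (Fin.ext h)
    by_cases h : y.val < 23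
    · by_cases h1 : y = 1
      · obtain ⟨g, hg, hg0, hgy⟩ := stab_trans y 2 hy0 (by decide) ⟨fun _ => by decide, fun _ => h⟩
        exact ⟨g, hg, hg0, by rw [hgy, h1]; decide⟩
      · obtain ⟨g, hg, hg0, hgy⟩ := stab_trans y 1 hy0 (by decide) ⟨fun _ => by decide, fun _ => h⟩
        exact ⟨g, hg, hg0, by rw [hgy]; exact fun h' => h1 h'.symm⟩
    · by_cases h1 : y = 23
      · obtain ⟨g, hg, hg0, hgy⟩ := stab_trans y 24 hy0 (by decide)
          ⟨fun h' => absurd h' h, fun h' => absurd h' (by decide)⟩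
        exact ⟨g, hg, hg0, by rw [hgy, h1]; decide⟩
      · obtain ⟨g, hg, hg0, hgy⟩ := stab_trans y 23 hy0 (by decide)
          ⟨fun h' => absurd h' h, fun h' => absurd h' (by decide)⟩
        exact ⟨g, hg, hg0, by rw [hgy]; exact fun h' => h1 h'.symm⟩

theorem card_stab : Nat.card ↥(MulAction.stabilizer ↥hsN (0 : Fin 100)) = 443520 := by
  have h := Subgroup.card_mul_index (MulAction.stabilizer ↥hsN (0 : Fin 100))
  have horb : MulAction.orbit ↥hsN (0 : Fin 100) = Set.univ := by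
    rw [Set.eq_univ_iff_forall]
    intro v
    obtain ⟨g, hg, hgv⟩ := hsN_rk3.tr v
    exact ⟨⟨g, hg⟩, hgv⟩
  rw [MulAction.index_stabilizer, horb, Set.ncard_univ, Nat.card_eq_fintype_card (α := Fin 100),
    Fintype.card_fin, card_hsN] at h
  omega

/-- every subgroup of `hsN` of the order of a point stabiliser fixes a vertex -/
theorem hsN_fix (K : Subgroup (Equiv.Perm (Fin 100))) (hK : K ≤ hsN)
    (hc : Nat.card K = Nat.card ↥(MulAction.stabilizer ↥hsN (0 : Fin 100))) :
    ∃ y, ∀ k ∈ K, k y = y := by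
  rw [card_stab] at hc
  exact exists_fixed_of_card hsGraph_srg K (fun g hg => hsN_le (hK hg)) hc
    (fun g hg ho => fix_eleven g (hsN_le (hK hg)) ho)
    (fun g hg ho => fix_seven g (hsN_le (hK hg)) ho)

theorem card_out_hsN : Nat.card (Cfsg.Out ↥hsN) = 2 := by
  have h := card_out_mul hsGraph_srg hsN_rk3 hsN_fix
  rw [card_hsN, card_autSub] at h
  have h2 : Nat.card (Cfsg.Out ↥hsN) * 44352000 = 2 * 44352000 := h
  exact Nat.eq_of_mul_eq_mul_right (by norm_num) h2

/-! ### Transfer to the Higman–Sims group of the definitions -/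

theorem out_card_iso {G H : Type*} [Group G] [Group H] (e : G ≃* H) :
    Nat.card (Cfsg.Out G) = Nat.card (Cfsg.Out H) := by
  have hmap : (Cfsg.Inn G).map (MulAut.congr e : MulAut G →* MulAut H) = Cfsg.Inn H := by
    ext φ
    constructor
    · rintro ⟨_, ⟨g, rfl⟩, rfl⟩
      refine ⟨e g, ?_⟩
      ext y
      simp [MulAut.congr, MulAut.conj_apply]
    · rintro ⟨h, rfl⟩
      refine ⟨MulAut.conj (e.symm h), ⟨e.symm h, rfl⟩, ?_⟩
      ext y
      simp [MulAut.congr, MulAut.conj_apply]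
  have h1 : (Cfsg.Inn H).index = (Cfsg.Inn G).index := by
    rw [← hmap]
    exact Subgroup.index_map_equiv (Cfsg.Inn G) (MulAut.congr e)
  show Nat.card (MulAut G ⧸ Cfsg.Inn G) = Nat.card (MulAut H ⧸ Cfsg.Inn H)
  rw [← Subgroup.index_eq_card, ← Subgroup.index_eq_card, h1]

theorem hsN_r3 : R3 hsN (0 : Fin 100) {v | hsGraph.Adj 0 v} {v | v ≠ 0 ∧ ¬ hsGraph.Adj 0 v} where
  card := Fintype.card_fin 100
  trans := by
    intro x y
    obtain ⟨g, hg, hgx⟩ := hsN_rk3.tr x
    obtain ⟨g', hg', hgy⟩ := hsN_rk3.tr y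
    refine ⟨g' * g⁻¹, hsN.mul_mem hg' (hsN.inv_mem hg), ?_⟩
    rw [Equiv.Perm.mul_apply, Equiv.Perm.inv_eq_iff_eq.mpr hgx.symm, hgy]
  c1 := by
    have h1 : ({v | hsGraph.Adj 0 v} : Set (Fin 100)) = ↑(nbF hsGraph 0) := by
      ext v
      simp [mem_nbF]
    rw [h1, Set.ncard_coe_finset]
    exact srg_card_nb hsGraph_srg 0
  c2 := by
    have h1 : ({v | v ≠ 0 ∧ ¬ hsGraph.Adj 0 v} : Set (Fin 100)) = ↑(nonF hsGraph 0) := by
      ext v
      simp [nonF]
    rw [h1, Set.ncard_coe_finset]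
    exact srg100_card_non hsGraph_srg 0
  a1 := fun h => hsGraph.irrefl h
  a2 := fun h => h.1 rfl
  disj := by
    rw [Set.disjoint_left]
    intro v h1 h2
    exact h2.2 h1
  inv1 := by
    intro g hg hg0 y hy
    have := (hsN_le hg) 0 y
    rw [hg0] at this
    exact this.mpr hy
  tr1 := by
    intro y hy y' hy'
    exact hsN_rk3.nb y y' hy hy'
  tr2 := by
    intro y hy y' hy'
    exact hsN_rk3.non y y' hy.1 hy.2 hy'.1 hy'.2

/-- the even automorphisms of the Higman–Sims graph form the Higman–Sims group -/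
theorem hsN_iso : Nonempty (↥hsN ≃* ↥Spor.HS) := by
  classical
  haveI := hsOrbit_finite
  haveI : Fintype ↥(MulAction.orbit ↥Cfsg.Agent.Helper92.hsSub Cfsg.Agent.Helper92.hsPt) :=
    Fintype.ofFinite _
  obtain ⟨f⟩ := r3_iso hsN_r3 r3_leech card_hsN card_hsRho_range
  exact ⟨(f.trans (MonoidHom.ofInjective hsRho_injective).symm).trans hsEquiv.symm⟩

/-- The outer automorphism group of the Higman–Sims group has order 2. -/
theorem card_out_HS : Nat.card (Cfsg.Out ↥Spor.HS) = 2 := by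
  obtain ⟨e⟩ := hsN_iso
  rw [← out_card_iso e]
  exact card_out_hsN

end Cfsg.Agent.Helper93.HsOut
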