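import Mathlib

set_option autoImplicit false

namespace Cfsg.Agent.Helper93

open Subgroup Pointwise

universe u

variable {G : Type u} [Group G] [Finite G]

/-- CA (pure). Order of a semidirect product inside `G`. -/
theorem bgp_card_sup {K S M : Subgroup G} (hsup : K ⊔ S = M) (hKS : K ⊓ S = ⊥)
    (hn : K ≤ normalizer (S : Set G)) : Nat.card M = Nat.card K * Nat.card S := by
  subst hsup
  have hcoe : ((K ⊔ S : Subgroup G) : Set G) = (K : Set G) * (S : Set G) :=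
    Subgroup.coe_mul_of_left_le_normalizer_right K S hn
  rw [← Nat.card_prod]
  symm
  apply Nat.card_congr
  refine Equiv.ofBijective (fun p : K × S => (⟨(p.1 : G) * (p.2 : G),
    mul_mem (Subgroup.mem_sup_left p.1.2) (Subgroup.mem_sup_right p.2.2)⟩ : ↥(K ⊔ S))) ⟨?_, ?_⟩
  · rintro ⟨k1, s1⟩ ⟨k2, s2⟩ h
    have h' : (k1 : G) * s1 = k2 * s2 := congrArg Subtype.val h
    have h2 : (k2 : G)⁻¹ * k1 = s2 * (s1 : G)⁻¹ := by
      have : (k1 : G) = k2 * s2 * (s1 : G)⁻¹ := eq_mul_inv_of_mul_eq h'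
      rw [this]; group
    have h3 : (k2 : G)⁻¹ * k1 ∈ K ⊓ S :=
      Subgroup.mem_inf.mpr ⟨K.mul_mem (K.inv_mem k2.2) k1.2,
        by rw [h2]; exact S.mul_mem s2.2 (S.inv_mem s1.2)⟩
    rw [hKS, Subgroup.mem_bot] at h3
    have hk : (k1 : G) = k2 := (inv_mul_eq_one.mp h3).symm
    have hs : (s1 : G) = s2 := by
      rw [hk] at h'; exact mul_left_cancel h'
    exact Prod.ext (Subtype.ext hk) (Subtype.ext hs)
  · rintro ⟨g, hg⟩
    have : g ∈ (K : Set G) * (S : Set G) := by rw [← hcoe]; exact hg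
    obtain ⟨k, hk, s, hs, rfl⟩ := Set.mem_mul.mp this
    exact ⟨(⟨k, hk⟩, ⟨s, hs⟩), rfl⟩

end Cfsg.Agent.Helper93
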