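import Cfsg.Agent.Helper93.BGPPD

set_option autoImplicit false

namespace Cfsg.Agent.Helper93

open Subgroup

universe u

variable {G : Type u} [Group G] [Finite G]

/-- CZ (pure). The three centralizer statements of B&G 14.7(c). -/
theorem bgp_cents {M Mstar K Ks : Subgroup G} (hinter : M ⊓ Mstar = K ⊔ Ks)
    (hKsC : Ks ≤ centralizer (K : Set G)) (hKc : IsCyclic K) (hKsc : IsCyclic Ks)
    (hcop : (Nat.card K).Coprime (Nat.card Ks))
    (hcM : ∀ k ∈ K, k ≠ 1 → M ⊓ centralizer ({k} : Set G) = K ⊔ Ks)
    (huM : ∀ y ∈ Ks, y ≠ 1 → centralizer ({y} : Set G) ≤ M)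
    (huMs : ∀ k ∈ K, k ≠ 1 → centralizer ({k} : Set G) ≤ Mstar) :
    ∀ x ∈ K, x ≠ 1 → ∀ y ∈ Ks, y ≠ 1 →
      M ⊓ centralizer ({x} : Set G) = K ⊔ Ks ∧ Mstar ⊓ centralizer ({y} : Set G) = K ⊔ Ks ∧
        centralizer ({x * y} : Set G) = K ⊔ Ks := by
  intro x hx hx1 y hy hy1
  -- commutation inside `K`, inside `Ks`, and between them
  have cK : ∀ a ∈ K, ∀ b ∈ K, a * b = b * a := by
    intro a ha b hb
    have := @IsCyclic.isMulCommutative ↥K _ hKc
    exact congrArg Subtype.val (this.is_comm.comm ⟨a, ha⟩ ⟨b, hb⟩)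
  have cKs : ∀ a ∈ Ks, ∀ b ∈ Ks, a * b = b * a := by
    intro a ha b hb
    have := @IsCyclic.isMulCommutative ↥Ks _ hKsc
    exact congrArg Subtype.val (this.is_comm.comm ⟨a, ha⟩ ⟨b, hb⟩)
  have cKKs : ∀ a ∈ K, ∀ b ∈ Ks, a * b = b * a := fun a ha b hb =>
    (Subgroup.mem_centralizer_iff.mp (hKsC hb)) a ha
  have hxy : Commute x y := cKKs x hx y hy
  have hle_x : K ⊔ Ks ≤ centralizer ({x} : Set G) := by
    refine sup_le ?_ ?_
    · intro k hk
      rw [Subgroup.mem_centralizer_iff]
      intro h hh
      rw [Set.mem_singleton_iff] at hh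
      subst hh
      exact cK h hx k hk
    · intro s hs
      rw [Subgroup.mem_centralizer_iff]
      intro h hh
      rw [Set.mem_singleton_iff] at hh
      subst hh
      exact cKKs h hx s hs
  have hle_y : K ⊔ Ks ≤ centralizer ({y} : Set G) := by
    refine sup_le ?_ ?_
    · intro k hk
      rw [Subgroup.mem_centralizer_iff]
      intro h hh
      rw [Set.mem_singleton_iff] at hh
      subst hh
      exact (cKKs k hk h hy).symm
    · intro s hs
      rw [Subgroup.mem_centralizer_iff]
      intro h hh
      rw [Set.mem_singleton_iff] at hh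
      subst hh
      exact cKs h hy s hs
  have hKM : K ⊔ Ks ≤ M := by rw [← hinter]; exact inf_le_left
  have hKMs : K ⊔ Ks ≤ Mstar := by rw [← hinter]; exact inf_le_right
  refine ⟨hcM x hx hx1, ?_, ?_⟩
  · apply le_antisymm
    · rw [← hinter]
      exact le_inf (inf_le_right.trans (huM y hy hy1)) inf_le_left
    · exact le_inf hKMs hle_y
  · apply le_antisymm
    · -- `x` and `y` are powers of `x * y`
      have hcop' : (orderOf x).Coprime (orderOf y) :=
        Nat.Coprime.of_dvd (Subgroup.orderOf_dvd_natCard K hx)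
          (Subgroup.orderOf_dvd_natCard Ks hy) hcop
      obtain ⟨n, hn⟩ := bgp_aux_pow_left hxy hcop'
      obtain ⟨m, hm⟩ := bgp_aux_pow_right hxy hcop'
      intro c hc
      rw [Subgroup.mem_centralizer_iff] at hc
      have hc' : x * y * c = c * (x * y) := hc (x * y) rfl
      have hcpow : ∀ j : ℕ, (x * y) ^ j * c = c * (x * y) ^ j := by
        intro j
        exact ((Commute.pow_left (show Commute (x * y) c from hc') j)).eq
      have hcx : c ∈ centralizer ({x} : Set G) := by
        rw [Subgroup.mem_centralizer_iff]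
        intro h hh
        rw [Set.mem_singleton_iff] at hh
        subst hh
        have := hcpow n
        rwa [hn] at this
      have hcy : c ∈ centralizer ({y} : Set G) := by
        rw [Subgroup.mem_centralizer_iff]
        intro h hh
        rw [Set.mem_singleton_iff] at hh
        subst hh
        have := hcpow m
        rwa [hm] at this
      rw [← hinter]
      exact Subgroup.mem_inf.mpr ⟨huM y hy hy1 hcy, huMs x hx hx1 hcx⟩
    · intro c hc
      have h1 := hle_x hc
      have h2 := hle_y hc
      rw [Subgroup.mem_centralizer_iff] at h1 h2 ⊢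
      intro h hh
      rw [Set.mem_singleton_iff] at hh
      subst hh
      have e1 : x * c = c * x := h1 x rfl
      have e2 : y * c = c * y := h2 y rfl
      rw [mul_assoc, e2, ← mul_assoc, e1, mul_assoc]

end Cfsg.Agent.Helper93
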