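import Mathlib

set_option autoImplicit false

namespace Cfsg.Agent.Helper93

open Subgroup

universe u

variable {G : Type u} [Group G] [Finite G]

/-- HI (pure). Two subsets each containing more than half of the elements of `G` meet. -/
theorem bgp_half_inter (A B : Set G) (hA : Nat.card G < 2 * A.ncard)
    (hB : Nat.card G < 2 * B.ncard) : (A ∩ B).Nonempty := by
  by_contra h
  rw [Set.not_nonempty_iff_eq_empty] at h
  have hd : Disjoint A B := Set.disjoint_iff_inter_eq_empty.mpr h
  have h1 : (A ∪ B).ncard = A.ncard + B.ncard :=
    Set.ncard_union_eq hd (Set.toFinite A) (Set.toFinite B)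
  have h2 : (A ∪ B).ncard ≤ Nat.card G := by
    rw [← Set.ncard_univ]
    exact Set.ncard_le_ncard (Set.subset_univ _) (Set.toFinite _)
  omega

end Cfsg.Agent.Helper93
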