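import Mathlib

set_option autoImplicit false

namespace Cfsg.Agent.Helper93

open Subgroup

universe u

variable {G : Type u} [Group G] [Finite G]

/-- auxiliary: with commuting `x`, `r` and a number `n ≡ 1 mod |x|`, `n ≡ 0 mod |r|`,
`(x r)^n = x`. -/
theorem bgp_aux_pow {x r : G} (hxr : Commute x r) {n : ℕ} (h1 : n ≡ 1 [MOD orderOf x])
    (h0 : n ≡ 0 [MOD orderOf r]) : (x * r) ^ n = x := by
  rw [hxr.mul_pow, pow_eq_pow_iff_modEq.mpr h1, pow_eq_pow_iff_modEq.mpr h0, pow_one, pow_zero,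
    mul_one]

/-- auxiliary: for commuting elements of coprime orders, both are powers of the product. -/
theorem bgp_aux_pow_left {x y : G} (hxy : Commute x y)
    (hcop : (orderOf x).Coprime (orderOf y)) : ∃ n : ℕ, (x * y) ^ n = x := by
  obtain ⟨n, h1, h0⟩ := Nat.chineseRemainder hcop 1 0
  exact ⟨n, bgp_aux_pow hxy h1 h0⟩

theorem bgp_aux_pow_right {x y : G} (hxy : Commute x y)
    (hcop : (orderOf x).Coprime (orderOf y)) : ∃ n : ℕ, (x * y) ^ n = y := by
  obtain ⟨n, h1, h0⟩ := Nat.chineseRemainder hcop.symm 1 0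
  refine ⟨n, ?_⟩
  rw [hxy.eq]
  exact bgp_aux_pow hxy.symm h1 h0

/-- PD (pure). Uniqueness of the decomposition into commuting `π`- and `π'`-parts. -/
theorem bgp_pi_parts {π : Set ℕ} {x ρ y κ : G} (hxρ : Commute x ρ) (hyκ : Commute y κ)
    (hx : ∀ q : ℕ, q.Prime → q ∣ orderOf x → q ∈ π)
    (hρ : ∀ q : ℕ, q.Prime → q ∣ orderOf ρ → q ∉ π)
    (hy : ∀ q : ℕ, q.Prime → q ∣ orderOf y → q ∈ π)
    (hκ : ∀ q : ℕ, q.Prime → q ∣ orderOf κ → q ∉ π)
    (h : x * ρ = y * κ) : x = y ∧ ρ = κ := by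
  have hcop : (orderOf x * orderOf y).Coprime (orderOf ρ * orderOf κ) := by
    apply Nat.coprime_of_dvd
    intro q hq h1 h2
    have hin : q ∈ π := by
      rcases (Nat.Prime.dvd_mul hq).mp h1 with h | h
      · exact hx q hq h
      · exact hy q hq h
    rcases (Nat.Prime.dvd_mul hq).mp h2 with h | h
    · exact hρ q hq h hin
    · exact hκ q hq h hin
  obtain ⟨n, h1, h0⟩ := Nat.chineseRemainder hcop 1 0
  have e1 : (x * ρ) ^ n = x :=
    bgp_aux_pow hxρ (h1.of_dvd (Dvd.intro _ rfl)) (h0.of_dvd (Dvd.intro _ rfl))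
  have e2 : (y * κ) ^ n = y :=
    bgp_aux_pow hyκ (h1.of_dvd (Dvd.intro_left _ rfl)) (h0.of_dvd (Dvd.intro_left _ rfl))
  have hxy : x = y := by rw [← e1, ← e2, h]
  refine ⟨hxy, ?_⟩
  rw [hxy] at h
  exact mul_left_cancel h

end Cfsg.Agent.Helper93
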