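import Mathlib

set_option autoImplicit false

namespace Cfsg.Agent.Helper93

open Subgroup

universe u

variable {G : Type u} [Group G] [Finite G]

/-- PW (pure). An element of prime order of `⟨k * y⟩` (`k`, `y` commuting of coprime orders) is a
power of `k` or of `y`. -/
theorem bgp_prime_zpowers {k y w : G} (hky : Commute k y)
    (hcop : (orderOf k).Coprime (orderOf y)) (hw : w ∈ zpowers (k * y))
    (hp : (orderOf w).Prime) : w ∈ zpowers k ∨ w ∈ zpowers y := by
  rw [← mem_powers_iff_mem_zpowers, Submonoid.mem_powers_iff] at hw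
  obtain ⟨m, rfl⟩ := hw
  set p := orderOf ((k * y) ^ m) with hpdef
  have hwp : ((k * y) ^ m) ^ p = 1 := pow_orderOf_eq_one _
  rw [← pow_mul, hky.mul_pow] at hwp
  -- `k ^ (m * p) = (y ^ (m * p))⁻¹` has order dividing both orders
  have hz : k ^ (m * p) = (y ^ (m * p))⁻¹ := eq_inv_of_mul_eq_one_left hwp
  have hd1 : orderOf (k ^ (m * p)) ∣ orderOf k := by
    apply orderOf_dvd_of_pow_eq_one
    rw [← pow_mul, mul_comm, pow_mul, pow_orderOf_eq_one, one_pow]
  have hd2 : orderOf (k ^ (m * p)) ∣ orderOf y := by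
    apply orderOf_dvd_of_pow_eq_one
    rw [hz, inv_pow, ← pow_mul, mul_comm, pow_mul, pow_orderOf_eq_one, one_pow, inv_one]
  have hk1 : k ^ (m * p) = 1 := by
    have := Nat.dvd_gcd hd1 hd2
    rw [hcop.gcd_eq_one] at this
    exact orderOf_eq_one_iff.mp (Nat.dvd_one.mp this)
  have hy1 : y ^ (m * p) = 1 := by
    rw [hk1, one_mul] at hwp
    exact hwp
  have hdk : orderOf k ∣ m * p := orderOf_dvd_of_pow_eq_one hk1
  have hdy : orderOf y ∣ m * p := orderOf_dvd_of_pow_eq_one hy1
  by_cases hpk : p ∣ orderOf k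
  · left
    have hpy : ¬ p ∣ orderOf y := by
      intro h
      have := Nat.dvd_gcd hpk h
      rw [hcop.gcd_eq_one] at this
      exact hp.one_lt.ne' (Nat.dvd_one.mp this)
    have hc : (orderOf y).Coprime p := ((Nat.Prime.coprime_iff_not_dvd hp).mpr hpy).symm
    have hym : y ^ m = 1 := orderOf_dvd_iff_pow_eq_one.mp (hc.dvd_of_dvd_mul_right hdy)
    rw [hky.mul_pow, hym, mul_one]
    exact Subgroup.pow_mem _ (Subgroup.mem_zpowers k) m
  · right
    have hc : (orderOf k).Coprime p := ((Nat.Prime.coprime_iff_not_dvd hp).mpr hpk).symm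
    have hkm : k ^ m = 1 := orderOf_dvd_iff_pow_eq_one.mp (hc.dvd_of_dvd_mul_right hdk)
    rw [hky.mul_pow, hkm, one_mul]
    exact Subgroup.pow_mem _ (Subgroup.mem_zpowers y) m

end Cfsg.Agent.Helper93
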