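import Mathlib
import Cfsg.Prelude.Def_OddOrderLocal

set_option autoImplicit false

namespace Cfsg.Agent.Helper93

open Cfsg Subgroup

universe u

variable {G : Type u} [Group G] [Finite G]

/-- SY. The Sylow subgroups of a Hall `κ(M)`-subgroup are cyclic. -/
theorem bgp_sylow_cyclic {M Ks : Subgroup G} (hKsH : IsPiHallOf (kappa M) Ks M) :
    ∀ (p : ℕ) [Fact p.Prime] (P : Sylow p Ks), IsCyclic P := by
  intro p hpF P
  have hp : p.Prime := hpF.out
  obtain ⟨hle, hpi, -⟩ := hKsH
  by_cases hdiv : p ∣ Nat.card Ks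
  · have hκ := hpi p hp hdiv
    have hPg : IsPGroup p ((P : Subgroup Ks).map (Subgroup.inclusion hle)) :=
      P.isPGroup'.map _
    obtain ⟨Q, hQ⟩ := hPg.exists_le_sylow
    have hQc : IsCyclic ↥(Q : Subgroup M) := (hκ.2.2.2 Q).1
    have hc : IsCyclic ↥((P : Subgroup Ks).map (Subgroup.inclusion hle)) :=
      Subgroup.isCyclic_of_le hQ
    let e := Subgroup.equivMapOfInjective (P : Subgroup Ks) (Subgroup.inclusion hle)
      (Subgroup.inclusion_injective hle)
    exact isCyclic_of_surjective e.symm e.symm.surjective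
  · have h1 : Nat.card P = 1 := by
      rw [Sylow.card_eq_multiplicity, Nat.factorization_eq_zero_of_not_dvd hdiv, pow_zero]
    have : Subsingleton ↥P := (Nat.card_eq_one_iff_unique.mp h1).1
    infer_instance

end Cfsg.Agent.Helper93
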