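import Mathlib

set_option autoImplicit false

namespace Cfsg.Agent.Helper93

open Subgroup

universe u

variable {G : Type u} [Group G] [Finite G]

/-- UB3 (pure). Union bound for three pairwise disjoint sets avoiding `1`. -/
theorem bgp_union3 (A B C : Set G) (hAB : Disjoint A B) (hAC : Disjoint A C)
    (hBC : Disjoint B C) (hA : (1 : G) ∉ A) (hB : (1 : G) ∉ B) (hC : (1 : G) ∉ C) :
    A.ncard + B.ncard + C.ncard + 1 ≤ Nat.card G := by
  have hD : Disjoint (A ∪ B) C := Set.disjoint_union_left.mpr ⟨hAC, hBC⟩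
  have h1 : (A ∪ B ∪ C).ncard = A.ncard + B.ncard + C.ncard := by
    rw [Set.ncard_union_eq hD (Set.toFinite _) (Set.toFinite _),
      Set.ncard_union_eq hAB (Set.toFinite _) (Set.toFinite _)]
  have h2 : (1 : G) ∉ A ∪ B ∪ C := by
    simp only [Set.mem_union, not_or]
    exact ⟨⟨hA, hB⟩, hC⟩
  have h3 : (insert (1 : G) (A ∪ B ∪ C)).ncard = (A ∪ B ∪ C).ncard + 1 :=
    Set.ncard_insert_of_notMem h2 (Set.toFinite _)
  have h4 : (insert (1 : G) (A ∪ B ∪ C)).ncard ≤ Nat.card G := by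
    rw [← Set.ncard_univ]
    exact Set.ncard_le_ncard (Set.subset_univ _) (Set.toFinite _)
  omega

end Cfsg.Agent.Helper93
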