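import Cfsg.Agent.Helper93.BGPCA

set_option autoImplicit false

namespace Cfsg.Agent.Helper93

open Subgroup

universe u

variable {G : Type u} [Group G] [Finite G]

/-- ZH (pure). The size of `Zhat` and of `K ⊔ Ks`. -/
theorem bgp_zhat_card (K Ks : Subgroup G) (hc : Ks ≤ centralizer (K : Set G))
    (hcop : (Nat.card K).Coprime (Nat.card Ks)) :
    Set.ncard ((↑(K ⊔ Ks) : Set G) \ ((K : Set G) ∪ ↑Ks)) + Nat.card K + Nat.card Ks =
        Nat.card K * Nat.card Ks + 1 ∧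
      Nat.card ↥(K ⊔ Ks) = Nat.card K * Nat.card Ks := by
  have hinf : K ⊓ Ks = ⊥ := disjoint_iff.mp (Subgroup.disjoint_of_coprime_natCard hcop)
  have hn : K ≤ normalizer (Ks : Set G) :=
    (Subgroup.le_centralizer_iff.mp hc).trans (Subgroup.centralizer_le_normalizer (Ks : Set G))
  have hcard := bgp_card_sup (K := K) (S := Ks) (M := K ⊔ Ks) rfl hinf hn
  refine ⟨?_, hcard⟩
  have hsub : (K : Set G) ∪ ↑Ks ⊆ ↑(K ⊔ Ks) :=
    Set.union_subset (fun x hx => Subgroup.mem_sup_left hx) (fun x hx => Subgroup.mem_sup_right hx)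
  have h1 : ((↑(K ⊔ Ks) : Set G) \ ((K : Set G) ∪ ↑Ks)).ncard + ((K : Set G) ∪ ↑Ks).ncard =
      (↑(K ⊔ Ks) : Set G).ncard := Set.ncard_sdiff_add_ncard_of_subset hsub (Set.toFinite _)
  have h2 := Set.ncard_union_add_ncard_inter (K : Set G) (Ks : Set G) (Set.toFinite _)
    (Set.toFinite _)
  have h3 : ((K : Set G) ∩ ↑Ks) = {1} := by
    rw [← Subgroup.coe_inf, hinf]
    rfl
  rw [h3, Set.ncard_singleton] at h2
  have e1 : (↑(K ⊔ Ks) : Set G).ncard = Nat.card ↥(K ⊔ Ks) := (Nat.card_coe_set_eq _).symm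
  have e2 : (K : Set G).ncard = Nat.card K := (Nat.card_coe_set_eq _).symm
  have e3 : (Ks : Set G).ncard = Nat.card Ks := (Nat.card_coe_set_eq _).symm
  rw [e1, hcard] at h1
  rw [e2, e3] at h2
  omega

end Cfsg.Agent.Helper93
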