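import Cfsg.Agent.Helper1.C9Defs
import Cfsg.Agent.Helper1.Hall
import Cfsg.Agent.Helper35.HallCoprime
import Cfsg.Agent.Helper47.BG15bTools

/-!
# CALL C9 (helper1, S1376), piece G2 (helper93): `c9_exD`.
-/

set_option autoImplicit false
set_option linter.unusedVariables false

namespace Cfsg.Agent.Helper93

open Cfsg Subgroup

universe u

variable {G : Type u} [Group G] [Finite G]

/-- G2.  `Q` a normal Sylow `q`-subgroup of the solvable group `S`, `A ≤ S` of order prime to `q`:
some complement of `Q` in `S` contains `A`. -/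
theorem c9_exD (hG : IsMinSimpleOddOrder G) {S Q A : Subgroup G} (hStop : S ≠ ⊤) {q : ℕ}
    (hq : q.Prime) (hQS : Q ≤ S) (hQn : S ≤ normalizer (Q : Set G)) (hQq : IsPGroup q Q)
    (hQi : ¬ q ∣ Q.relIndex S) (hAS : A ≤ S) (hA : (Nat.card A).Coprime q) :
    ∃ D : Subgroup G, IsComplIn Q D S ∧ A ≤ D := by
  have := Fact.mk hq
  have : Group.IsSolvable ↥S := hG.2.2.2 S hStop
  obtain ⟨e, he⟩ := IsPGroup.iff_card.mp hQq
  have h1 : Nat.card Q * Q.relIndex S = Nat.card S :=
    Cfsg.Agent.Helper35.card_mul_relIndex_of_le hQS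
  have hmn : Nat.card ↥S = Q.relIndex S * Nat.card Q := by rw [← h1, mul_comm]
  have hcop : (Q.relIndex S).Coprime (Nat.card Q) := by
    rw [he]
    exact Nat.Coprime.pow_right e ((Nat.Prime.coprime_iff_not_dvd hq).mpr hQi).symm
  have hAn : (Nat.card (A.subgroupOf S)).Coprime (Nat.card Q) := by
    rw [Nat.card_congr (Subgroup.subgroupOfEquivOfLe hAS).toEquiv, he]
    exact Nat.Coprime.pow_right e hA
  obtain ⟨H, hH, hle⟩ := Cfsg.Agent.Helper1.hall_le_aux (Nat.card S) S (Q.relIndex S)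
    (Nat.card Q) rfl hmn hcop (A.subgroupOf S) hAn
  refine ⟨H.map S.subtype, ?_, ?_⟩
  · have hDS : H.map S.subtype ≤ S := Subgroup.map_subtype_le H
    have hDc : Nat.card (H.map S.subtype) = Q.relIndex S := by
      rw [Subgroup.card_map_of_injective (Subgroup.subtype_injective S), hH]
    have hinf : Q ⊓ H.map S.subtype = ⊥ :=
      Subgroup.inf_eq_bot_of_coprime (by rw [hDc]; exact hcop.symm)
    exact Cfsg.Agent.Helper47.bg15b_complIn_of_card hQS hDS hinf (by rw [hDc, h1])
  · intro a ha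
    exact ⟨⟨a, hAS ha⟩, hle (Subgroup.mem_subgroupOf.mpr ha), rfl⟩

end Cfsg.Agent.Helper93
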