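import Cfsg.Agent.Helper1.C9Defs
import Cfsg.Agent.Helper22.BG10b
import Cfsg.Agent.Helper21.PRank
import Cfsg.Agent.S1403

/-!
# CALL C9 (helper1, S1376), piece G4 (helper93), core: `c9_Knorm_core`.

In a `k`-group with two distinct subgroups of prime order `k` there is an elementary abelian
subgroup of order `> k`; hence, if `k ∉ τ₂(M)` and `k ∉ σ(M)`, every element of `M ⊓ L` normalizes
`K`.
-/

set_option autoImplicit false
set_option linter.unusedVariables false

namespace Cfsg.Agent.Helper93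

open Cfsg Subgroup

universe u

variable {G : Type u} [Group G] [Finite G]

theorem c9g4_zpowers_eq {p : ℕ} (hp : p.Prime) {X : Subgroup G} (hX : Nat.card X = p)
    {x : G} (hx : x ∈ X) (hx1 : x ≠ 1) : zpowers x = X := by
  apply Subgroup.eq_of_le_of_card_ge (zpowers_le.mpr hx)
  rw [Nat.card_zpowers, hX]
  have h2 : orderOf x ∣ p := by
    have h3 := orderOf_dvd_natCard (⟨x, hx⟩ : ↥X)
    rw [hX, Subgroup.orderOf_mk] at h3
    exact h3
  rcases (Nat.dvd_prime hp).mp h2 with h | h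
  · exact absurd (orderOf_eq_one_iff.mp h) hx1
  · exact h.ge

/-- A subgroup `X` of prime order `k` and a central element `z₀ ∉ X` of order dividing `k` of a
group `P` give an elementary abelian subgroup of `P` of order `> k`. -/
theorem c9g4_two_rank {k : ℕ} (hk : k.Prime) {P X : Subgroup G} (hXP : X ≤ P)
    (hX : Nat.card X = k) {z₀ : G} (hzP : z₀ ∈ P) (hzc : ∀ y ∈ P, z₀ * y = y * z₀)
    (hzk : z₀ ^ k = 1) (hzX : z₀ ∉ X) :
    ∃ A : Subgroup G, A ≤ P ∧ IsMulCommutative A ∧ (∀ a ∈ A, a ^ k = 1) ∧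
      ¬ Nat.card A ≤ k ^ 1 := by
  have hXnt : X ≠ ⊥ := by
    intro h
    rw [h, Subgroup.card_bot] at hX
    exact hk.one_lt.ne hX
  obtain ⟨x, hxX, hx1⟩ := (Subgroup.ne_bot_iff_exists_ne_one (H := X)).mp hXnt |>.imp
    (fun x hx => hx) |> fun ⟨x, hx⟩ => (⟨(x : G), x.2, fun h => hx (Subtype.ext h)⟩ :
      ∃ x : G, x ∈ X ∧ x ≠ 1)
  have hXz : zpowers x = X := c9g4_zpowers_eq hk hX hxX hx1
  have hxk : x ^ k = 1 := by
    have h := pow_card_eq_one' (G := ↥X) (x := ⟨x, hxX⟩)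
    rw [hX] at h
    exact congrArg Subtype.val h
  have hxz : x * z₀ = z₀ * x := (hzc x (hXP hxX)).symm
  obtain ⟨S, hS⟩ : ∃ S : Set G, S = {x, z₀} := ⟨_, rfl⟩
  have hScomm : ∀ a ∈ S, ∀ b ∈ S, a * b = b * a := by
    intro a ha b hb
    rw [hS] at ha hb
    rcases ha with rfl | rfl <;> rcases hb with rfl | rfl
    · rfl
    · exact hxz
    · exact hxz.symm
    · rfl
  have h1 : closure S ≤ centralizer S := by
    rw [closure_le]
    intro a ha
    exact mem_centralizer_iff.mpr (fun b hb => hScomm b hb a ha)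
  have h2 : closure S ≤ centralizer (closure S : Set G) := by
    rw [closure_le]
    intro a ha
    refine mem_centralizer_iff.mpr (fun c hc => ?_)
    exact ((mem_centralizer_iff.mp (h1 hc)) a ha).symm
  have hcomm : ∀ a ∈ closure S, ∀ b ∈ closure S, a * b = b * a := by
    intro a ha b hb
    exact (mem_centralizer_iff.mp (h2 hb)) a ha
  have hexp : ∀ a ∈ closure S, a ^ k = 1 := by
    intro a ha
    refine Subgroup.closure_induction (p := fun a _ => a ^ k = 1) ?_ ?_ ?_ ?_ ha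
    · intro y hy
      rw [hS] at hy
      rcases hy with rfl | rfl
      · exact hxk
      · exact hzk
    · exact one_pow k
    · intro y y' hy hy' e1 e2
      have hc : Commute y y' := hcomm y hy y' hy'
      rw [hc.mul_pow, e1, e2, one_mul]
    · intro y hy e1
      rw [inv_pow, e1, inv_one]
  have hxA : x ∈ closure S := subset_closure (by rw [hS]; exact Set.mem_insert _ _)
  have hzA : z₀ ∈ closure S :=
    subset_closure (by rw [hS]; exact Set.mem_insert_of_mem _ (Set.mem_singleton _))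
  refine ⟨closure S, ?_, ⟨⟨fun a b => Subtype.ext (hcomm a a.2 b b.2)⟩⟩, hexp, ?_⟩
  · rw [closure_le]
    intro a ha
    rw [hS] at ha
    rcases ha with rfl | rfl
    · exact hXP hxX
    · exact hzP
  · intro hle
    have hXA : X ≤ closure S := by
      rw [← hXz]
      exact zpowers_le.mpr hxA
    have heq : X = closure S := Subgroup.eq_of_le_of_card_ge hXA (by rw [hX]; simpa using hle)
    exact hzX (heq ▸ hzA)

/-- G4, core. -/
theorem c9_Knorm_core (hG : IsMinSimpleOddOrder G) {M L K Q : Subgroup G} (hM : IsCoatom M)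
    (hKE : K ≤ M ⊓ L) (hKp : (Nat.card K).Prime) (hKσ : Nat.card K ∉ sigma M)
    (hk : Nat.card K ∉ tau2 M) (hQ : IsPGroup (Nat.card K) Q) (hKQ : K ≤ Q)
    (hLQ : L ≤ normalizer (Q : Set G)) : M ⊓ L ≤ normalizer (K : Set G) := by
  have hU : Cfsg.Agent.Helper22.BGUniq G :=
    fun K hK h1 h2 => Cfsg.Agent.S1403.result hG K hK h1 h2
  haveI := Fact.mk hKp
  have hrk2 : PRankLE (Nat.card K) 2 ↥M :=
    Cfsg.Agent.Helper22.bg10_pRank_of_not_alpha M _ hKp
      (fun hα => hKσ (Cfsg.Agent.Helper22.bg10_alpha_sub_sigma hG hU hM hα))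
  have hrk1 : PRankLE (Nat.card K) 1 ↥M := by
    by_contra h1
    exact hk ⟨hKp, hKσ, hrk2, h1⟩
  have key : ∀ e ∈ M ⊓ L, ∀ g ∈ K, e * g * e⁻¹ ∈ K := by
    intro e he g hg
    by_contra hnot
    have hg1 : g ≠ 1 := by
      rintro rfl
      apply hnot
      rw [mul_one, mul_inv_cancel]
      exact K.one_mem
    have hgM : g ∈ M := (hKE hg).1
    have hg'M : e * g * e⁻¹ ∈ M := M.mul_mem (M.mul_mem he.1 hgM) (M.inv_mem he.1)
    have hg'Q : e * g * e⁻¹ ∈ Q := (Subgroup.mem_normalizer_iff.mp (hLQ he.2) g).mp (hKQ hg)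
    -- the `k`-group `P = Q ⊓ M`
    have hP : IsPGroup (Nat.card K) ↥(Q ⊓ M : Subgroup G) := hQ.to_le inf_le_left
    haveI : Nontrivial ↥(Q ⊓ M : Subgroup G) :=
      ⟨⟨⟨g, hKQ hg, hgM⟩, 1, fun h => hg1 (congrArg Subtype.val h)⟩⟩
    haveI : Nontrivial ↥(Subgroup.center ↥(Q ⊓ M : Subgroup G)) := hP.center_nontrivial
    have hZp : IsPGroup (Nat.card K) ↥(Subgroup.center ↥(Q ⊓ M : Subgroup G)) :=
      hP.to_subgroup _
    obtain ⟨n, hn⟩ := IsPGroup.iff_card.mp hZp
    have hn0 : n ≠ 0 := by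
      rintro rfl
      rw [pow_zero] at hn
      have := Finite.one_lt_card (α := ↥(Subgroup.center ↥(Q ⊓ M : Subgroup G)))
      omega
    obtain ⟨zc, hzc⟩ := exists_prime_orderOf_dvd_card' (G := ↥(Subgroup.center ↥(Q ⊓ M : Subgroup G)))
      (Nat.card K) (by rw [hn]; exact dvd_pow_self _ hn0)
    -- the central element in `G`
    obtain ⟨z₀, hz₀⟩ : ∃ z₀ : G, z₀ = ((zc : ↥(Q ⊓ M : Subgroup G)) : G) := ⟨_, rfl⟩
    have hz₀P : z₀ ∈ (Q ⊓ M : Subgroup G) := by rw [hz₀]; exact (zc : ↥(Q ⊓ M : Subgroup G)).2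
    have hz₀k : z₀ ^ (Nat.card K) = 1 := by
      have h := pow_orderOf_eq_one zc
      rw [hzc] at h
      have h' := congrArg (fun t : ↥(Subgroup.center ↥(Q ⊓ M : Subgroup G)) =>
        ((t : ↥(Q ⊓ M : Subgroup G)) : G)) h
      simpa [hz₀] using h'
    have hz₀1 : z₀ ≠ 1 := by
      intro h
      have h1 : zc = 1 := by
        apply Subtype.ext
        apply Subtype.ext
        rw [← hz₀, h]
        rfl
      rw [h1, orderOf_one] at hzc
      exact hKp.one_lt.ne hzc
    have hz₀c : ∀ y ∈ (Q ⊓ M : Subgroup G), z₀ * y = y * z₀ := by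
      intro y hy
      have h := (Subgroup.mem_center_iff.mp zc.2) ⟨y, hy⟩
      have h' := congrArg (Subtype.val) h
      rw [hz₀]
      exact h'.symm
    -- choose `X`
    obtain ⟨X, hXP, hXc, hzX⟩ : ∃ X : Subgroup G, X ≤ (Q ⊓ M : Subgroup G) ∧
        Nat.card X = Nat.card K ∧ z₀ ∉ X := by
      by_cases hzK : z₀ ∈ K
      · have hKz : zpowers z₀ = K := c9g4_zpowers_eq hKp rfl hzK hz₀1
        have hgo : orderOf g = Nat.card K := by
          rw [← Nat.card_zpowers, c9g4_zpowers_eq hKp rfl hg hg1]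
        have hg'o : orderOf (e * g * e⁻¹) = Nat.card K := by
          rw [← hgo]
          exact (MulAut.conj e).orderOf_eq g
        have hXc : Nat.card (zpowers (e * g * e⁻¹)) = Nat.card K := by
          rw [Nat.card_zpowers, hg'o]
        refine ⟨zpowers (e * g * e⁻¹), zpowers_le.mpr ⟨hg'Q, hg'M⟩, hXc, ?_⟩
        intro hmem
        have h3 : zpowers z₀ = zpowers (e * g * e⁻¹) := c9g4_zpowers_eq hKp hXc hmem hz₀1
        apply hnot
        rw [← hKz, h3]
        exact mem_zpowers _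
      · exact ⟨K, fun y hy => ⟨hKQ hy, (hKE hy).1⟩, rfl, hzK⟩
    obtain ⟨A, hAP, hAc, hAe, hAcard⟩ := c9g4_two_rank hKp hXP hXc hz₀P hz₀c hz₀k hzX
    exact Cfsg.Agent.Helper21.not_pRankLE_of_elemAb (hAP.trans inf_le_right) hAc hAe hAcard hrk1
  intro e he
  rw [Subgroup.mem_normalizer_iff]
  intro g
  constructor
  · exact key e he g
  · intro hg'
    have h := key e⁻¹ ((M ⊓ L).inv_mem he) (e * g * e⁻¹) hg'
    have h2 : e⁻¹ * (e * g * e⁻¹) * e⁻¹⁻¹ = g := by group
    rw [h2] at h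
    exact h

end Cfsg.Agent.Helper93
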