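import Mathlib
import Cfsg.Prelude.Def_GeometricClasses
import Cfsg.Agent.Helper90.IMDefs
import Cfsg.Agent.Helper76.IMORB

set_option autoImplicit false

namespace Cfsg.Agent.Helper93

open Module Polynomial Cfsg.Agent.Helper90.IM

section
variable {F : Type*} [Field F] {V : Type*} [AddCommGroup V] [Module F V] [FiniteDimensional F V]

theorem lines_le (T : V →ₗ[F] V) (r : ℕ) (hr : r.Prime) (hrF : (r : F) ≠ 0) (hT : T ^ r = 1)
    {t : ℕ} (D : Fin t → Submodule F V) (σ : Equiv.Perm (Fin t)) (hD : IsDec T 1 D σ)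
    (hfix : ∀ j, σ j = j → D j ≤ LinearMap.ker (T - 1)) :
    t ≤ r * finrank F (LinearMap.ker (T - 1)) := by
  obtain ⟨hrank, hind, hsup, hmap⟩ := hD
  -- choose nonzero spanning vectors
  have hex : ∀ j, ∃ e : V, e ∈ D j ∧ e ≠ 0 ∧ ∀ x ∈ D j, ∃ c : F, c • e = x := by
    intro j
    obtain ⟨v, hv, hsp⟩ := finrank_eq_one_iff'.mp (hrank j)
    refine ⟨(v : V), v.2, ?_, ?_⟩
    · intro h
      exact hv (Subtype.ext h)
    · intro x hx
      obtain ⟨c, hc⟩ := hsp ⟨x, hx⟩
      exact ⟨c, by simpa using congrArg Subtype.val hc⟩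
  choose e he_mem he_ne he_span using hex
  have hli : LinearIndependent F e := hind.linearIndependent D he_mem he_ne
  have hspan : ⊤ ≤ Submodule.span F (Set.range e) := by
    rw [← hsup]
    refine iSup_le fun j => ?_
    intro x hx
    obtain ⟨c, rfl⟩ := he_span j x hx
    exact Submodule.smul_mem _ _ (Submodule.subset_span ⟨j, rfl⟩)
  set b : Basis (Fin t) F V := Basis.mk hli hspan with hb
  have hbe : ∀ j, b j = e j := fun j => by rw [hb, Basis.mk_apply]
  -- (B) coordinates vanish off the summand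
  have hB : ∀ j k x, x ∈ D j → j ≠ k → b.repr x k = 0 := by
    intro j k x hx hjk
    obtain ⟨c, rfl⟩ := he_span j x hx
    rw [← hbe j]
    simp [hjk]
  -- (A) powers of T permute the summands
  have hA : ∀ (i : ℕ) j, (D j).map (T ^ i) = D ((σ ^ i) j) := by
    intro i
    induction i with
    | zero => intro j; simp [Module.End.one_eq_id]
    | succ i ih =>
      intro j
      rw [pow_succ', Module.End.mul_eq_comp, Submodule.map_comp, ih, hmap, pow_succ', Equiv.Perm.mul_apply]
  have hAe : ∀ (i : ℕ) j, (T ^ i) (e j) ∈ D ((σ ^ i) j) := by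
    intro i j
    rw [← hA i j]
    exact Submodule.mem_map_of_mem (he_mem j)
  -- D is injective
  have hDinj : Function.Injective D := by
    intro j k hjk
    by_contra hne
    have h1 : b.repr (e j) j = 0 := hB k j (e j) (hjk ▸ he_mem j) (fun h => hne h.symm)
    rw [← hbe j] at h1
    simp at h1
  have hσ : σ ^ r = 1 := by
    ext j
    have h1 := hA r j
    rw [hT] at h1
    have h2 : D j = D ((σ ^ r) j) := by
      rw [← h1]; simp [Module.End.one_eq_id]
    have h3 := hDinj h2
    rw [← h3]; simp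
  obtain ⟨R, hR1, hR2, hR3⟩ := Cfsg.Agent.Helper76.perm_prime_reps σ r hr hσ
  -- the fixed vectors
  set w : Fin t → V := fun ρ => ∑ i ∈ Finset.range r, (T ^ i) (e ρ) with hw
  have hTr : ∀ x, (T ^ r) x = x := fun x => by rw [hT]; rfl
  have hwker : ∀ ρ, w ρ ∈ LinearMap.ker (T - 1) := by
    intro ρ
    rw [LinearMap.mem_ker, LinearMap.sub_apply, sub_eq_zero, hw]
    simp only [map_sum]
    have h1 : ∀ i, T ((T ^ i) (e ρ)) = (T ^ (i + 1)) (e ρ) := fun i => by
      rw [pow_succ', Module.End.mul_apply]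
    simp only [h1]
    have h2 := Finset.sum_range_succ (fun i => (T ^ i) (e ρ)) r
    have h3 := Finset.sum_range_succ' (fun i => (T ^ i) (e ρ)) r
    simp only [hTr, pow_zero] at h2 h3
    rw [h2] at h3
    simpa [Module.End.one_apply] using h3.symm
  -- coordinates of w
  have hcoord_ne : ∀ ρ ∈ R, ∀ ρ0 ∈ R, ρ ≠ ρ0 → b.repr (w ρ) ρ0 = 0 := by
    intro ρ hρ ρ0 hρ0 hne
    rw [hw]
    simp only [map_sum, Finsupp.coe_finsetSum, Finset.sum_apply]
    refine Finset.sum_eq_zero fun i _ => ?_
    refine hB _ ρ0 _ (hAe i ρ) ?_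
    intro h
    exact hne (hR2 ρ hρ ρ0 hρ0 i h)
  have hcoord_eq : ∀ ρ0, b.repr (w ρ0) ρ0 ≠ 0 := by
    intro ρ0
    by_cases hfx : σ ρ0 = ρ0
    · have h1 : T (e ρ0) = e ρ0 := by
        have := hfix ρ0 hfx (he_mem ρ0)
        rw [LinearMap.mem_ker, LinearMap.sub_apply, sub_eq_zero] at this
        simpa [Module.End.one_apply] using this
      have h2 : ∀ i : ℕ, (T ^ i) (e ρ0) = e ρ0 := by
        intro i
        induction i with
        | zero => simp [Module.End.one_apply]
        | succ i ih => rw [pow_succ, Module.End.mul_apply, h1, ih]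
      have h3 : w ρ0 = (r : F) • b ρ0 := by
        rw [hw]; simp only [h2, Finset.sum_const, Finset.card_range, hbe]
        rw [Nat.cast_smul_eq_nsmul]
      rw [h3]
      simpa using hrF
    · have h1 : ∀ i ∈ Finset.range r, i ≠ 0 → b.repr ((T ^ i) (e ρ0)) ρ0 = 0 := by
        intro i hi hi0
        refine hB _ ρ0 _ (hAe i ρ0) ?_
        intro h
        apply hfx
        -- σ^i ρ0 = ρ0, σ^r ρ0 = ρ0, gcd(i, r) = 1
        have hi' : i < r := Finset.mem_range.mp hi
        have hcop : Nat.Coprime i r := (Nat.coprime_of_lt_prime hi0 hi' hr).symm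
        obtain ⟨m, -, hm⟩ := Nat.exists_mul_mod_eq_one_of_coprime hcop hr.one_lt
        have h5 : σ ^ (i * m) = σ := by
          rw [pow_eq_pow_mod (i * m) hσ, hm, pow_one]
        have h6 : (σ ^ (i * m)) ρ0 = ρ0 := by
          rw [pow_mul]
          exact Equiv.Perm.pow_apply_eq_self_of_apply_eq_self h m
        rw [h5] at h6
        exact h6
      rw [hw]
      simp only [map_sum, Finsupp.coe_finsetSum, Finset.sum_apply]
      rw [Finset.sum_eq_single_of_mem 0 (Finset.mem_range.mpr hr.pos) (fun i hi hi0 => h1 i hi hi0)]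
      rw [pow_zero, Module.End.one_apply, ← hbe ρ0]
      simp
  -- linear independence
  have hliw : LinearIndependent F (fun ρ : R => (⟨w ρ, hwker ρ⟩ : LinearMap.ker (T - 1))) := by
    apply LinearIndependent.of_comp (LinearMap.ker (T - 1)).subtype
    rw [Fintype.linearIndependent_iff]
    intro g hg ρ0
    have h1 := congrArg (fun x => b.repr x ρ0) hg
    simp only [Function.comp_apply, Submodule.subtype_apply, map_sum, map_smul, map_zero,
      Finsupp.coe_finsetSum, Finset.sum_apply, Finsupp.coe_smul, Pi.smul_apply, smul_eq_mul,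
      Finsupp.coe_zero, Pi.zero_apply] at h1
    rw [Finset.sum_eq_single_of_mem ρ0 (Finset.mem_univ _)
      (fun ρ _ hne => by
        rw [hcoord_ne ρ ρ.2 ρ0 ρ0.2 (fun h => hne (Subtype.ext h)), mul_zero])] at h1
    exact (mul_eq_zero.mp h1).resolve_right (hcoord_eq ρ0)
  have hcard := hliw.fintype_card_le_finrank
  rw [Fintype.card_coe] at hcard
  have ht : t ≤ r * R.card := by simpa using hR3
  exact ht.trans (Nat.mul_le_mul_left r hcard)

end

end Cfsg.Agent.Helper93
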