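import Mathlib

set_option autoImplicit false

/-! helper93: CALL S3206 (helper6), piece ABEL (`jr_cover_sylow_abelian`). -/

namespace Cfsg.Agent.Helper93

open scoped commutatorElement

/-- a `ZMod 2`-valued alternating biadditive form on a group `T` vanishing on a subgroup `Z`
with `|T| = 8 |Z|` has a radical element outside `Z`. -/
theorem jr_radical {T : Type*} [Group T] [Finite T] (Z : Subgroup T)
    (h8 : Nat.card T = 8 * Nat.card Z)
    (χ : T → T → ZMod 2) (hr : ∀ a b c, χ a (b * c) = χ a b + χ a c)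
    (hs : ∀ a b, χ a b = χ b a) (ha : ∀ a, χ a a = 0) (hz : ∀ a, ∀ z ∈ Z, χ a z = 0) :
    ∃ a, a ∉ Z ∧ ∀ b, χ a b = 0 := by
  by_contra hcon
  push Not at hcon
  have hZpos : 0 < Nat.card Z := Nat.card_pos
  have h1 : ∀ a, χ a 1 = 0 := fun a => hz a 1 Z.one_mem
  have hpow : ∀ a b (n : ℕ), χ a (b ^ n) = n * χ a b := by
    intro a b n
    induction n with
    | zero => simp [h1]
    | succ n ih => rw [pow_succ, hr, ih]; push_cast; ring
  have hval : ∀ i : ZMod 2, ((i.val : ℕ) : ZMod 2) = i := fun i => ZMod.natCast_zmod_val i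
  have hne1 : ∀ i : ZMod 2, i ≠ 0 → i = 1 := by decide
  have htwo : ∀ i : ZMod 2, i + i = 0 := by decide
  obtain ⟨s1, hs1⟩ : ∃ s1 : T, s1 ∉ Z := by
    by_contra hall
    push Not at hall
    have : Z = ⊤ := by rw [eq_top_iff]; intro x _; exact hall x
    rw [this, Subgroup.card_top] at h8
    have := Nat.card_pos (α := T)
    omega
  obtain ⟨s3, hs3⟩ := hcon s1 hs1
  have hs13 : χ s1 s3 = 1 := hne1 _ hs3
  have hs31 : χ s3 s1 = 1 := by rw [hs, hs13]
  obtain ⟨red, hred⟩ : ∃ red : T → T,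
      red = fun b => s1 ^ (χ s3 b).val * s3 ^ (χ s1 b).val * b := ⟨_, rfl⟩
  have hred1 : ∀ b, χ s1 (red b) = 0 := by
    intro b
    simp only [hred, hr, hpow, hval, ha, hs13, mul_zero, zero_add, mul_one]
    exact htwo _
  have hred3 : ∀ b, χ s3 (red b) = 0 := by
    intro b
    simp only [hred, hr, hpow, hval, ha, hs31, mul_zero, add_zero, mul_one]
    exact htwo _
  -- Step A
  obtain ⟨a, haZ, ha1, ha3⟩ : ∃ a, a ∉ Z ∧ χ s1 a = 0 ∧ χ s3 a = 0 := by
    by_contra hA
    push Not at hA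
    have hredZ : ∀ b, red b ∈ Z := by
      intro b
      by_contra hb
      exact hA (red b) hb (hred1 b) (hred3 b)
    have hinj : Function.Injective
        (fun b : T => (χ s3 b, χ s1 b, (⟨red b, hredZ b⟩ : Z))) := by
      intro b b' hbb
      simp only [Prod.mk.injEq, Subtype.mk.injEq] at hbb
      obtain ⟨e1, e2, e3⟩ := hbb
      simp only [hred, e1, e2] at e3
      exact mul_left_cancel e3
    have hle := Nat.card_le_card_of_injective _ hinj
    rw [Nat.card_prod, Nat.card_prod, Nat.card_zmod] at hle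
    omega
  obtain ⟨q0, hq0⟩ := hcon a haZ
  have haq0 : χ a q0 = 1 := hne1 _ hq0
  have ha1' : χ a s1 = 0 := by rw [hs, ha1]
  have ha3' : χ a s3 = 0 := by rw [hs, ha3]
  obtain ⟨q, hq⟩ : ∃ q : T, q = red q0 := ⟨_, rfl⟩
  have hq1 : χ s1 q = 0 := by rw [hq]; exact hred1 q0
  have hq3 : χ s3 q = 0 := by rw [hq]; exact hred3 q0
  have haq : χ a q = 1 := by
    rw [hq, hred]
    simp only [hr, hpow, ha1', ha3', mul_zero, zero_add, haq0]
  have hqa : χ q a = 1 := by rw [hs, haq]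
  have hq1' : χ q s1 = 0 := by rw [hs, hq1]
  have hq3' : χ q s3 = 0 := by rw [hs, hq3]
  -- Step B
  have hinj : Function.Injective (fun x : ZMod 2 × ZMod 2 × ZMod 2 × ZMod 2 × Z =>
      s1 ^ x.1.val * s3 ^ x.2.1.val * a ^ x.2.2.1.val * q ^ x.2.2.2.1.val *
        (x.2.2.2.2 : T)) := by
    rintro ⟨i, j, k, l, z⟩ ⟨i', j', k', l', z'⟩ hxy
    simp only at hxy
    have e3 := congrArg (χ s3) hxy
    have e1 := congrArg (χ s1) hxy
    have eq := congrArg (χ q) hxy
    have ea := congrArg (χ a) hxy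
    simp only [hr, hpow, hval, ha, hs13, hs31, ha1, ha3, ha1', ha3', hq1, hq3, hq1', hq3', haq,
      hqa, hz _ _ z.2, hz _ _ z'.2, mul_zero, mul_one, add_zero, zero_add] at e3 e1 eq ea
    subst e3 e1 eq ea
    have hzz : (z : T) = z' := mul_left_cancel hxy
    rw [Subtype.ext hzz]
  have hle := Nat.card_le_card_of_injective _ hinj
  simp only [Nat.card_prod, Nat.card_zmod] at hle
  omega

/-- ABEL (the preimage of the Sylow 2-subgroup in a central extension is abelian). -/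
theorem jr_cover_sylow_abelian {L : Type*} [Group L] [Finite L] (Z T X : Subgroup L)
    (hZ : Z ≤ Subgroup.center L) (hZT : Z ≤ T) (hX : X ≤ Subgroup.normalizer (T : Set L))
    (h8 : Nat.card T = 8 * Nat.card Z) (hexp : ∀ a ∈ T, a * a ∈ Z)
    (htr : ∀ a ∈ T, a ∉ Z → ∀ b ∈ T, b ∉ Z → ∃ x ∈ X, ∃ z ∈ Z, x * a * x⁻¹ = b * z) :
    ∀ a ∈ T, ∀ b ∈ T, a * b = b * a := by
  classical
  by_contra hcon
  push Not at hcon
  obtain ⟨a0, ha0, b0, hb0, hab0⟩ := hcon
  have hcen : ∀ z ∈ Z, ∀ g : L, g * z = z * g :=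
    fun z hz g => Subgroup.mem_center_iff.mp (hZ hz) g
  -- commutators of elements of `T` lie in `Z`
  have hF1 : ∀ a ∈ T, ∀ b ∈ T, ⁅a, b⁆ ∈ Z := by
    intro a ha b hb
    have h1 := hexp (a * b) (T.mul_mem ha hb)
    have h2 : (a * a)⁻¹ ∈ Z := Z.inv_mem (hexp a ha)
    have h3 : (b * b)⁻¹ ∈ Z := Z.inv_mem (hexp b hb)
    have e : ⁅a, b⁆ = (a * b) * (a * a)⁻¹ * (a * b) * (b * b)⁻¹ := by
      rw [commutatorElement_def]; group
    rw [e, hcen _ h2 (a * b), mul_assoc ((a * a)⁻¹)]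
    exact Z.mul_mem (Z.mul_mem h2 h1) h3
  have hF2 : ∀ a b c : L, ⁅a, c⁆ ∈ Z → ⁅a, b * c⁆ = ⁅a, b⁆ * ⁅a, c⁆ := by
    intro a b c hc
    have h : ⁅a, b * c⁆ = a * b * a⁻¹ * (⁅a, c⁆ * b⁻¹) := by
      simp only [commutatorElement_def]; group
    rw [h, ← hcen _ hc b⁻¹]
    simp only [commutatorElement_def, mul_assoc]
  have hF3 : ∀ a ∈ T, ∀ b ∈ T, ⁅a, b⁆ * ⁅a, b⁆ = 1 := by
    intro a ha b hb
    rw [← hF2 a b b (hF1 a ha b hb), commutatorElement_eq_one_iff_mul_comm]
    exact hcen _ (hexp b hb) a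
  obtain ⟨z0, hz0def⟩ : ∃ z0 : L, z0 = ⁅a0, b0⁆ := ⟨_, rfl⟩
  have hz0Z : z0 ∈ Z := hz0def ▸ hF1 a0 ha0 b0 hb0
  have hz0sq : z0 * z0 = 1 := hz0def ▸ hF3 a0 ha0 b0 hb0
  have hz0ne : z0 ≠ 1 := by
    rw [hz0def]
    intro h
    exact hab0 (commutatorElement_eq_one_iff_mul_comm.mp h)
  -- a maximal subgroup of `Z` avoiding `z0`
  obtain ⟨H, -, hHmax⟩ := Finite.exists_le_maximal
    (p := fun H : Subgroup L => H ≤ Z ∧ z0 ∉ H) (a := ⊥)
    ⟨bot_le, fun h => hz0ne (Subgroup.mem_bot.mp h)⟩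
  obtain ⟨⟨hHZ, hz0H⟩, hHmax'⟩ := hHmax
  have hI : ∀ w ∈ Z, w * w = 1 → w ∉ H → w * z0 ∈ H := by
    intro w hwZ hww hwH
    by_contra hzw
    let H' : Subgroup L :=
      { carrier := {x | x ∈ H ∨ w * x ∈ H}
        mul_mem' := by
          rintro x y (hx | hx) (hy | hy)
          · exact Or.inl (H.mul_mem hx hy)
          · right
            have : w * (x * y) = x * (w * y) := by
              rw [← mul_assoc, ← hcen w hwZ x, mul_assoc]
            rw [this]; exact H.mul_mem hx hy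
          · right
            rw [← mul_assoc]; exact H.mul_mem hx hy
          · left
            have : x * y = (w * x) * (w * y) := by
              have h1 : w * x * (w * y) = w * w * (x * y) := by
                rw [mul_assoc w x, ← mul_assoc x w, hcen w hwZ x]
                simp only [mul_assoc]
              rw [h1, hww, one_mul]
            rw [this]; exact H.mul_mem hx hy
        one_mem' := Or.inl H.one_mem
        inv_mem' := by
          rintro x (hx | hx)
          · exact Or.inl (H.inv_mem hx)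
          · right
            have hwinv : w⁻¹ = w := inv_eq_of_mul_eq_one_left hww
            have : w * x⁻¹ = (w * x)⁻¹ := by
              rw [mul_inv_rev, hwinv, hcen w hwZ x⁻¹]
            rw [this]; exact H.inv_mem hx }
    have hmemH' : ∀ x, x ∈ H' ↔ x ∈ H ∨ w * x ∈ H := fun x => Iff.rfl
    have hp : H' ≤ Z ∧ z0 ∉ H' := by
      refine ⟨?_, ?_⟩
      · intro x hx
        rcases (hmemH' x).mp hx with h | h
        · exact hHZ h
        · have : x = w⁻¹ * (w * x) := by group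
          rw [this]; exact Z.mul_mem (Z.inv_mem hwZ) (hHZ h)
      · intro h
        rcases (hmemH' z0).mp h with h | h
        · exact hz0H h
        · exact hzw h
    have hle : H ≤ H' := fun x hx => (hmemH' x).mpr (Or.inl hx)
    have hge := hHmax' hp hle
    have hwH' : w ∈ H' := (hmemH' w).mpr (Or.inr (by rw [hww]; exact H.one_mem))
    exact hwH (hge hwH')
  -- the `ZMod 2`-valued map
  obtain ⟨μ, hμdef⟩ : ∃ μ : L → ZMod 2, μ = fun w => if w ∈ H then 0 else 1 := ⟨_, rfl⟩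
  have hμ0 : ∀ w, μ w = 0 ↔ w ∈ H := by
    intro w
    rw [hμdef]
    by_cases h : w ∈ H <;> simp [h]
  have hμmul : ∀ w ∈ Z, w * w = 1 → ∀ w' ∈ Z, w' * w' = 1 → μ (w * w') = μ w + μ w' := by
    intro w hw hww w' hw' hww'
    rw [hμdef]
    by_cases h : w ∈ H <;> by_cases h' : w' ∈ H
    · simp [h, h', H.mul_mem h h']
    · have : w * w' ∉ H := fun hh => h' (by
        have : w' = w⁻¹ * (w * w') := by group
        rw [this]; exact H.mul_mem (H.inv_mem h) hh)
      simp [h, h', this]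
    · have : w * w' ∉ H := fun hh => h (by
        have : w = (w * w') * w'⁻¹ := by group
        rw [this]; exact H.mul_mem hh (H.inv_mem h'))
      simp [h, h', this]
    · have h1 := hI w hw hww h
      have h2 := hI w' hw' hww' h'
      have : w * w' ∈ H := by
        have e : w * w' = (w * z0) * (w' * z0) := by
          have e1 : w * z0 * (w' * z0) = w * w' * (z0 * z0) := by
            rw [mul_assoc w z0, ← mul_assoc z0 w', hcen w' hw' z0]
            simp only [mul_assoc]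
          rw [e1, hz0sq, mul_one]
        rw [e]; exact H.mul_mem h1 h2
      simp only [this, h, h', if_true, if_false]
      decide
  obtain ⟨χ, hχdef⟩ : ∃ χ : ↥T → ↥T → ZMod 2, χ = fun (a b : ↥T) => μ ⁅(a : L), (b : L)⁆ := ⟨_, rfl⟩
  have hcard : Nat.card ↥T = 8 * Nat.card ↥(Z.subgroupOf T) := by
    rw [h8, Nat.card_congr (Subgroup.subgroupOfEquivOfLe hZT).toEquiv]
  obtain ⟨a, haZ, hrad⟩ := jr_radical (Z.subgroupOf T) hcard χ
    (by
      intro a b c
      rw [hχdef]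
      simp only [Subgroup.coe_mul]
      rw [hF2 _ _ _ (hF1 _ a.2 _ c.2)]
      exact hμmul _ (hF1 _ a.2 _ b.2) (hF3 _ a.2 _ b.2) _ (hF1 _ a.2 _ c.2) (hF3 _ a.2 _ c.2))
    (by
      intro a b
      rw [hχdef]
      simp only
      rw [← commutatorElement_inv (b : L) (a : L)]
      have h1 := hμ0 ⁅(b : L), (a : L)⁆⁻¹
      have h2 := hμ0 ⁅(b : L), (a : L)⁆
      rw [Subgroup.inv_mem_iff] at h1
      have hdec : ∀ i j : ZMod 2, (i = 0 ↔ j = 0) → i = j := by decide
      exact hdec _ _ (h1.trans h2.symm))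
    (by
      intro a
      rw [hχdef]
      simp only [commutatorElement_self]
      exact (hμ0 1).mpr H.one_mem)
    (by
      intro a z hz
      rw [hχdef]
      simp only
      have : ⁅(a : L), (z : L)⁆ = 1 := by
        rw [commutatorElement_eq_one_iff_mul_comm]
        exact hcen _ (Subgroup.mem_subgroupOf.mp hz) _
      rw [this]
      exact (hμ0 1).mpr H.one_mem)
  have haZ' : (a : L) ∉ Z := fun h => haZ (Subgroup.mem_subgroupOf.mpr h)
  have ha0Z : a0 ∉ Z := by
    intro h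
    apply hab0
    exact (hcen a0 h b0).symm
  obtain ⟨x, hx, z, hz, hxz⟩ := htr (a : L) a.2 haZ' a0 ha0 ha0Z
  have hxN := hX hx
  rw [Subgroup.mem_normalizer_iff] at hxN
  have hb1 : x⁻¹ * b0 * x ∈ T := by
    rw [hxN (x⁻¹ * b0 * x)]
    have : x * (x⁻¹ * b0 * x) * x⁻¹ = b0 := by group
    rw [this]; exact hb0
  have hradb := hrad ⟨x⁻¹ * b0 * x, hb1⟩
  rw [hχdef] at hradb
  simp only at hradb
  rw [hμ0] at hradb
  have hwZ : ⁅(a : L), x⁻¹ * b0 * x⁆ ∈ Z := hF1 _ a.2 _ hb1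
  have e1 : x * ⁅(a : L), x⁻¹ * b0 * x⁆ * x⁻¹ = ⁅x * (a : L) * x⁻¹, b0⁆ := by
    simp only [commutatorElement_def]; group
  have e2 : x * ⁅(a : L), x⁻¹ * b0 * x⁆ * x⁻¹ = ⁅(a : L), x⁻¹ * b0 * x⁆ := by
    rw [hcen _ hwZ x]; group
  have e3 : ⁅a0 * z, b0⁆ = z0 := by
    have h : ⁅a0 * z, b0⁆ = a0 * (z * b0 * z⁻¹) * a0⁻¹ * b0⁻¹ := by
      simp only [commutatorElement_def]; group
    have h' : z * b0 * z⁻¹ = b0 := by
      rw [← hcen z hz b0]; group
    rw [h, h', hz0def, commutatorElement_def]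
  rw [← e2, e1, hxz, e3] at hradb
  exact hz0H hradb

end Cfsg.Agent.Helper93
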