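import Mathlib

set_option autoImplicit false

/-!
# CALL LM (helper21, row S4067), piece ETO (double, helper93)

`p` odd, `G' ≤ Z(G)` of order `p`, `x ∉ Z(G)` with `x ^ p = 1`: the transvection
`g ↦ g * x ^ k * w ^ E(k)` (where `⁅x⁻¹, g⁻¹⁆ = w ^ k`, `E(k) ≡ k (k - 1) / 2` mod `p`) is an
automorphism moving every element outside `C_G(x)` to a non-conjugate element.
-/

namespace Cfsg.Agent.Helper93.LM

theorem lm_pow_eq_of_modEq {G : Type*} [Group G] {v : G} {p a b : ℕ} (hv : v ^ p = 1)
    (h : a ≡ b [MOD p]) : v ^ a = v ^ b :=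
  pow_eq_pow_iff_modEq.mpr (h.of_dvd (orderOf_dvd_of_pow_eq_one hv))

/-- ETO: `p` odd, a non-central element of order `p` gives a transvection automorphism. -/
theorem lm_eto {G : Type*} [Group G] [Finite G] (hZ : commutator G ≤ Subgroup.center G)
    (hc : Nat.card (commutator G) = (Nat.card G).minFac) (hodd : (Nat.card G).minFac ≠ 2)
    (x : G) (hxZ : x ∉ Subgroup.center G) (hxp : x ^ (Nat.card G).minFac = 1) :
    ∃ σ : MulAut G, ∃ M : Subgroup G, M.index = (Nat.card G).minFac ∧ Subgroup.center G ≤ M ∧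
      ∀ g : G, g ∉ M → ¬ IsConj g (σ g) := by
  classical
  have hG1 : Nat.card G ≠ 1 := by
    intro h1
    have hs : Subsingleton G := (Nat.card_eq_one_iff_unique.mp h1).1
    exact hxZ (by rw [Subsingleton.elim x 1]; exact Subgroup.one_mem _)
  have hp : (Nat.card G).minFac.Prime := Nat.minFac_prime hG1
  obtain ⟨p, hpdef⟩ : ∃ p, p = (Nat.card G).minFac := ⟨_, rfl⟩
  rw [← hpdef] at hc hodd hxp hp ⊢
  have hcen : ∀ z ∈ Subgroup.center G, ∀ u : G, u * z = z * u :=
    fun z hz u => Subgroup.mem_center_iff.mp hz u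
  -- the commutator map
  obtain ⟨d, hd⟩ : ∃ d : G → G, ∀ g, d g = x⁻¹ * g⁻¹ * x * g := ⟨_, fun _ => rfl⟩
  have hdG : ∀ g, d g ∈ commutator G := by
    intro g
    have := Subgroup.commutator_mem_commutator (Subgroup.mem_top x⁻¹) (Subgroup.mem_top g⁻¹)
    rw [commutatorElement_def, inv_inv, inv_inv] at this
    rw [hd]; exact this
  have hdZ : ∀ g, d g ∈ Subgroup.center G := fun g => hZ (hdG g)
  have hx1 : ∀ h, x * h = h * x * d h := by
    intro h; rw [hd]; group
  have hdmul : ∀ g h, d (g * h) = d g * d h := by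
    intro g h
    have e1 : g⁻¹ * x * g = x * d g := by rw [hd]; group
    calc d (g * h) = x⁻¹ * h⁻¹ * (g⁻¹ * x * g) * h := by rw [hd]; group
      _ = x⁻¹ * h⁻¹ * (x * d g) * h := by rw [e1]
      _ = x⁻¹ * h⁻¹ * x * (d g * h) := by group
      _ = x⁻¹ * h⁻¹ * x * (h * d g) := by rw [← hcen (d g) (hdZ g) h]
      _ = d h * d g := by rw [hd h]; group
      _ = d g * d h := hcen (d g) (hdZ g) (d h)
  have hd1 : ∀ u, x * u = u * x → d u = 1 := by
    intro u hu
    rw [hd, mul_assoc, hu]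
    group
  have hxk : ∀ (k : ℕ) (h : G), x ^ k * h = h * x ^ k * d h ^ k := by
    intro k h
    induction k with
    | zero => simp
    | succ k ih =>
      calc x ^ (k + 1) * h = x ^ k * (x * h) := by rw [pow_succ, mul_assoc]
        _ = x ^ k * (h * x * d h) := by rw [hx1 h]
        _ = (x ^ k * h) * x * d h := by simp only [mul_assoc]
        _ = (h * x ^ k * d h ^ k) * x * d h := by rw [ih]
        _ = h * x ^ k * (d h ^ k * x) * d h := by simp only [mul_assoc]
        _ = h * x ^ k * (x * d h ^ k) * d h := by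
            rw [← hcen (d h ^ k) (Subgroup.pow_mem _ (hdZ h) k) x]
        _ = h * x ^ (k + 1) * d h ^ (k + 1) := by rw [pow_succ, pow_succ]; simp only [mul_assoc]
  -- an element not commuting with `x`
  obtain ⟨a, ha⟩ : ∃ a, d a ≠ 1 := by
    by_contra hne
    push_neg at hne
    apply hxZ
    rw [Subgroup.mem_center_iff]
    intro g
    have := hx1 g
    rw [hne g, mul_one] at this
    exact this.symm
  obtain ⟨w, hw⟩ : ∃ w, w = d a := ⟨_, rfl⟩
  have hw1 : w ≠ 1 := by rw [hw]; exact ha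
  have hwG : w ∈ commutator G := by rw [hw]; exact hdG a
  have hwZ : w ∈ Subgroup.center G := hZ hwG
  have hwp : w ^ p = 1 := by
    have h1 : (⟨w, hwG⟩ : commutator G) ^ Nat.card (commutator G) = 1 := pow_card_eq_one'
    rw [hc] at h1
    simpa using congrArg Subtype.val h1
  have hword : orderOf w = p := by
    rcases (Nat.dvd_prime hp).mp (orderOf_dvd_of_pow_eq_one hwp) with h | h
    · exact absurd (orderOf_eq_one_iff.mp h) hw1
    · exact h
  have hzp : Subgroup.zpowers w = commutator G := by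
    apply Subgroup.eq_of_le_of_card_ge
    · exact Subgroup.zpowers_le.mpr hwG
    · rw [Nat.card_zpowers, hword, hc]
  have hk : ∀ g, ∃ n : ℕ, w ^ n = d g := by
    intro g
    have h1 : d g ∈ Subgroup.zpowers w := by rw [hzp]; exact hdG g
    rw [← mem_powers_iff_mem_zpowers] at h1
    exact (Submonoid.mem_powers_iff _ _).mp h1
  choose k hk using hk
  -- `p` is odd
  obtain ⟨t, h2t⟩ : ∃ t : ℕ, 2 * t = p + 1 := by
    rcases hp.eq_two_or_odd with h2 | h2
    · exact absurd h2 hodd
    · exact ⟨(p + 1) / 2, by omega⟩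
  obtain ⟨E, hE⟩ : ∃ E : ℕ → ℕ, ∀ n, E n = n * (n + (p - 1)) * t := ⟨_, fun _ => rfl⟩
  have hE1 : ∀ m n, E (m + n) = E m + E n + (p + 1) * (m * n) := by
    intro m n
    rw [hE, hE, hE, ← h2t]
    ring
  have hE2 : ∀ m n, m ≡ n [MOD p] → E m ≡ E n [MOD p] := by
    intro m n hmn
    rw [hE, hE]
    exact Nat.ModEq.mul_right _ (Nat.ModEq.mul hmn (Nat.ModEq.add_right _ hmn))
  have hE3 : ∀ n, p ∣ n → p ∣ E n := by
    intro n hn
    rw [hE]
    exact Dvd.dvd.mul_right (Dvd.dvd.mul_right hn _) _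
  -- the transvection
  obtain ⟨s, hs⟩ : ∃ s : G → G, ∀ g, s g = g * x ^ k g * w ^ E (k g) := ⟨_, fun _ => rfl⟩
  have hkmul : ∀ g h, k (g * h) ≡ k g + k h [MOD p] := by
    intro g h
    have h1 : w ^ k (g * h) = w ^ (k g + k h) := by
      rw [hk, hdmul, pow_add, hk, hk]
    have h2 := pow_eq_pow_iff_modEq.mp h1
    rwa [hword] at h2
  have hsmul : ∀ g h, s (g * h) = s g * s h := by
    intro g h
    have hzg : w ^ E (k g) ∈ Subgroup.center G := Subgroup.pow_mem _ hwZ _
    have hdk : d h ^ k g ∈ Subgroup.center G := Subgroup.pow_mem _ (hdZ h) _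
    have hexp : k h * k g + (E (k g) + E (k h)) ≡ E (k (g * h)) [MOD p] := by
      have h1 : E (k (g * h)) ≡ E (k g + k h) [MOD p] := hE2 _ _ (hkmul g h)
      rw [hE1] at h1
      have h2 : (p + 1) * (k g * k h) ≡ k h * k g [MOD p] := by
        have e : (p + 1) * (k g * k h) = k h * k g + p * (k g * k h) := by ring
        rw [e]
        exact Nat.add_mul_mod_self_left _ _ _
      have h3 : E (k g) + E (k h) + (p + 1) * (k g * k h) ≡
          k h * k g + (E (k g) + E (k h)) [MOD p] := by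
        rw [add_comm (k h * k g)]
        exact Nat.ModEq.add_left _ h2
      exact (h1.trans h3).symm
    symm
    calc s g * s h = (g * x ^ k g * w ^ E (k g)) * (h * x ^ k h * w ^ E (k h)) := by rw [hs, hs]
      _ = g * x ^ k g * (w ^ E (k g) * (h * x ^ k h)) * w ^ E (k h) := by simp only [mul_assoc]
      _ = g * x ^ k g * ((h * x ^ k h) * w ^ E (k g)) * w ^ E (k h) := by
          rw [← hcen _ hzg (h * x ^ k h)]
      _ = g * (x ^ k g * h) * x ^ k h * (w ^ E (k g) * w ^ E (k h)) := by simp only [mul_assoc]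
      _ = g * (h * x ^ k g * d h ^ k g) * x ^ k h * (w ^ E (k g) * w ^ E (k h)) := by rw [hxk]
      _ = g * h * x ^ k g * (d h ^ k g * x ^ k h) * (w ^ E (k g) * w ^ E (k h)) := by
          simp only [mul_assoc]
      _ = g * h * x ^ k g * (x ^ k h * d h ^ k g) * (w ^ E (k g) * w ^ E (k h)) := by
          rw [← hcen _ hdk (x ^ k h)]
      _ = g * h * x ^ (k g + k h) * (d h ^ k g * (w ^ E (k g) * w ^ E (k h))) := by
          rw [pow_add]; simp only [mul_assoc]
      _ = g * h * x ^ k (g * h) * w ^ E (k (g * h)) := by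
          rw [← hk h, ← pow_mul, ← pow_add, ← pow_add,
            lm_pow_eq_of_modEq hxp (hkmul g h).symm, lm_pow_eq_of_modEq hwp hexp]
      _ = s (g * h) := by rw [hs]
  have hfix : ∀ g, d g = 1 → s g = g := by
    intro g hg
    have h1 : w ^ k g = 1 := by rw [hk, hg]
    have h2 : p ∣ k g := by rw [← hword]; exact orderOf_dvd_of_pow_eq_one h1
    obtain ⟨m, hm⟩ := h2
    obtain ⟨m', hm'⟩ := hE3 _ ⟨m, hm⟩
    rw [hs, hm', hm, pow_mul, pow_mul, hxp, hwp, one_pow, one_pow, mul_one, mul_one]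
  let sHom : G →* G := MonoidHom.mk' s hsmul
  have hsinj : Function.Injective sHom := by
    rw [injective_iff_map_eq_one]
    intro g hg
    have hg' : s g = 1 := hg
    have hd_s : d (s g) = d g := by
      rw [hs, hdmul, hdmul, hd1 (x ^ k g) ((pow_succ' x (k g)).symm.trans (pow_succ x (k g))),
        hd1 (w ^ E (k g)) (hcen _ (Subgroup.pow_mem _ hwZ _) x), mul_one, mul_one]
    have hdg : d g = 1 := by
      rw [← hd_s, hg']
      exact hd1 1 (by simp)
    rw [← hfix g hdg]; exact hg'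
  let dHom : G →* G := MonoidHom.mk' d hdmul
  refine ⟨MulEquiv.ofBijective sHom ⟨hsinj, Finite.injective_iff_surjective.mp hsinj⟩,
    dHom.ker, ?_, ?_, ?_⟩
  · rw [Subgroup.index_ker]
    have hr : dHom.range = commutator G := by
      apply le_antisymm
      · rintro _ ⟨g, rfl⟩
        exact hdG g
      · rw [← hzp]
        exact Subgroup.zpowers_le.mpr ⟨a, hw.symm⟩
    rw [hr, hc]
  · intro z hz
    exact MonoidHom.mem_ker.mpr (hd1 z (hcen z hz x))
  · intro g hgM hconj
    apply hgM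
    rw [MonoidHom.mem_ker]
    show d g = 1
    obtain ⟨u, hu⟩ := isConj_iff.mp hconj
    have hu' : u * g * u⁻¹ = g * x ^ k g * w ^ E (k g) := by rw [← hs]; exact hu
    have hxkZ : x ^ k g ∈ Subgroup.center G := by
      have e0 : g⁻¹ * u * g * u⁻¹ = x ^ k g * w ^ E (k g) := by
        calc g⁻¹ * u * g * u⁻¹ = g⁻¹ * (u * g * u⁻¹) := by simp only [mul_assoc]
          _ = g⁻¹ * (g * x ^ k g * w ^ E (k g)) := by rw [hu']
          _ = x ^ k g * w ^ E (k g) := by simp only [mul_assoc, inv_mul_cancel_left]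
      have e : x ^ k g = (g⁻¹ * u * g * u⁻¹) * (w ^ E (k g))⁻¹ := by
        rw [e0, mul_assoc, mul_inv_cancel, mul_one]
      rw [e]
      refine Subgroup.mul_mem _ (hZ ?_) (Subgroup.inv_mem _ (Subgroup.pow_mem _ hwZ _))
      have := Subgroup.commutator_mem_commutator (Subgroup.mem_top g⁻¹) (Subgroup.mem_top u)
      rw [commutatorElement_def, inv_inv] at this
      exact this
    have h1 := hxk (k g) a
    rw [hcen _ hxkZ a] at h1
    have h2 : d a ^ k g = 1 := mul_left_cancel (h1.symm.trans (mul_one _).symm)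
    rw [← hw] at h2
    rw [← hk g, h2]

end Cfsg.Agent.Helper93.LM
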