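/-
helper93: CALL S0420 stage 2 (helper48), piece SCT (`m11u_star_count`).
-/
import Mathlib
import Cfsg.Agent.Helper48.M11UGeo
import Cfsg.Agent.Helper93.M11UAux

set_option autoImplicit false
open scoped Pointwise

namespace Cfsg.Agent.Helper93

open Cfsg.Agent.Helper48.M11U

universe u
variable {G : Type u} [Group G] [Finite G]

/-- double counting of the incidences between points and the members of a family of sets -/
theorem m11x_double_count {X : Type*} [Finite X] (𝒮 : Set (Set X)) (a b : ℕ)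
    (h1 : ∀ C ∈ 𝒮, C.ncard = a) (h2 : ∀ x : X, Nat.card {C : 𝒮 // x ∈ C.1} = b) :
    a * Nat.card 𝒮 = b * Nat.card X := by
  classical
  have : Fintype 𝒮 := Fintype.ofFinite _
  have : Fintype X := Fintype.ofFinite _
  let e : (Σ C : 𝒮, ↥(C.1)) ≃ (Σ x : X, {C : 𝒮 // x ∈ C.1}) :=
    { toFun := fun p => ⟨p.2.1, ⟨p.1, p.2.2⟩⟩
      invFun := fun q => ⟨q.2.1, ⟨q.1, q.2.2⟩⟩
      left_inv := fun p => rfl
      right_inv := fun q => rfl }
  have hA : Nat.card (Σ C : 𝒮, ↥(C.1)) = a * Nat.card 𝒮 := by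
    rw [Nat.card_sigma]
    have h3 : ∀ C : 𝒮, Nat.card ↥(C.1) = a := fun C => by
      rw [Nat.card_coe_set_eq]
      exact h1 C.1 C.2
    simp only [h3, Finset.sum_const, Finset.card_univ, smul_eq_mul]
    rw [Nat.card_eq_fintype_card, mul_comm]
  have hB : Nat.card (Σ x : X, {C : 𝒮 // x ∈ C.1}) = b * Nat.card X := by
    rw [Nat.card_sigma]
    simp only [h2, Finset.sum_const, Finset.card_univ, smul_eq_mul]
    rw [Nat.card_eq_fintype_card, mul_comm]
  rw [← hA, ← hB]
  exact Nat.card_congr e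

theorem m11u_star_count (h : M11Gr G)
    (hcard : ∀ R S : Sylow 3 G, Adj R S → (star R S).ncard = 10)
    (htwo : ∀ (z : G) (R S T : Sylow 3 G), orderOf z = 2 → Inv z R → Inv z S → Inv z T →
      R ≠ S → R ≠ T → S ≠ T →
      star R S ≠ star R T ∧ ∀ P P' : Sylow 3 G, Adj P P' → R ∈ star P P' →
        star P P' = star R S ∨ star P P' = star R T) :
    Nat.card {C : Set (Sylow 3 G) // ∃ R S : Sylow 3 G, Adj R S ∧ C = star R S} = 11 := by
  classical
  have hl1 := h.geo.l1
  have key := m11x_double_count (X := Sylow 3 G)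
    {C : Set (Sylow 3 G) | ∃ R S : Sylow 3 G, Adj R S ∧ C = star R S} 10 2
    (by
      rintro C ⟨R, S, hadj, rfl⟩
      exact hcard R S hadj)
    (by
      intro R
      obtain ⟨z, hz, hR⟩ := hl1.exinv R
      obtain ⟨S, hS, hSR, -⟩ := m11x_tri_exists hl1 z hz R R hR hR
      obtain ⟨T, hT, hTR, hTS⟩ := m11x_tri_exists hl1 z hz R S hR hS
      obtain ⟨hne, hall⟩ := htwo z R S T hz hR hS hT (Ne.symm hSR) (Ne.symm hTR) (Ne.symm hTS)
      rw [Nat.card_eq_two_iff]
      refine ⟨⟨⟨star R S, R, S, ⟨Ne.symm hSR, z, hz, hR, hS⟩, rfl⟩, Or.inl rfl⟩,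
        ⟨⟨star R T, R, T, ⟨Ne.symm hTR, z, hz, hR, hT⟩, rfl⟩, Or.inl rfl⟩, ?_, ?_⟩
      · intro e0
        apply hne
        have e1 := congrArg Subtype.val e0
        exact congrArg Subtype.val e1
      · apply Set.eq_univ_of_forall
        rintro ⟨⟨C, P, P', hadj, rfl⟩, hRmem⟩
        rcases hall P P' hadj hRmem with h1 | h1
        · left
          exact Subtype.ext (Subtype.ext h1)
        · right
          exact Subtype.ext (Subtype.ext h1))
  rw [hl1.raw.num3] at key
  have key' : 10 * Nat.card {C : Set (Sylow 3 G) // ∃ R S : Sylow 3 G, Adj R S ∧ C = star R S}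
      = 2 * 55 := key
  omega

end Cfsg.Agent.Helper93
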