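/-
helper93: CALL S0420 stage 2 (helper48), piece SHP (`m11u_act_sharp`).
-/
import Mathlib
import Cfsg.Agent.Helper48.M11UGeo
import Cfsg.Agent.Helper48.M11UDefs

set_option autoImplicit false
open scoped Pointwise

namespace Cfsg.Agent.Helper93

open Cfsg.Agent.Helper48.M11U

universe u
variable {G : Type u} [Group G] [Finite G]

/-- the orbit map of a 4-tuple with trivial stabilizer is onto when `|G| = 11 * 10 * 9 * 8` -/
theorem m11x_orbit_surj (hG : Nat.card G = 7920) {Ω : Type u} [Fintype Ω] [MulAction G Ω]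
    (hΩ : Fintype.card Ω = 11) (x₀ : Fin 4 ↪ Ω)
    (hx₀ : ∀ g : G, (∀ i, g • x₀ i = x₀ i) → g = 1) (y : Fin 4 ↪ Ω) :
    ∃ g : G, ∀ i, g • x₀ i = y i := by
  classical
  have hinj : Function.Injective
      (fun g : G => x₀.trans (MulAction.toPerm g : Equiv.Perm Ω).toEmbedding) := by
    intro g g' hgg
    have h1 : ∀ i, g • x₀ i = g' • x₀ i := fun i => by
      have h2 := congrArg (fun f : Fin 4 ↪ Ω => f i) hgg
      exact h2
    have h3 : g'⁻¹ * g = 1 := by
      apply hx₀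
      intro i
      rw [mul_smul, h1 i, inv_smul_smul]
    calc g = g' * (g'⁻¹ * g) := by group
      _ = g' := by rw [h3, mul_one]
  have hcard : Nat.card (Fin 4 ↪ Ω) ≤ Nat.card G := by
    rw [hG, Nat.card_eq_fintype_card, Fintype.card_embedding_eq, hΩ, Fintype.card_fin]
    decide
  obtain ⟨g, hg⟩ := (hinj.bijective_of_nat_card_le hcard).2 y
  refine ⟨g, fun i => ?_⟩
  have h2 := congrArg (fun f : Fin 4 ↪ Ω => f i) hg
  exact h2

theorem m11u_act_sharp (hG : Nat.card G = 7920) {Ω : Type u} [Fintype Ω] [MulAction G Ω]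
    (hΩ : Fintype.card Ω = 11) (x₀ : Fin 4 ↪ Ω)
    (hx₀ : ∀ g : G, (∀ i, g • x₀ i = x₀ i) → g = 1) :
    ∃ H : Subgroup (Equiv.Perm (Fin 11)), Sharp4 H ∧ Nonempty (G ≃* H) := by
  classical
  obtain ⟨e⟩ : Nonempty (Ω ≃ Fin 11) := ⟨Fintype.equivFinOfCardEq hΩ⟩
  obtain ⟨φ, hφ⟩ : ∃ φ : G →* Equiv.Perm (Fin 11), ∀ g k, φ g k = e (g • e.symm k) :=
    ⟨(e.permCongrHom).toMonoidHom.comp (MulAction.toPermHom G Ω), fun g k => rfl⟩
  have hsurj := m11x_orbit_surj hG hΩ x₀ hx₀
  -- an element fixing a 4-tuple of distinct points is trivial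
  have hfix : ∀ (g : G) (y : Fin 4 ↪ Ω), (∀ i, g • y i = y i) → g = 1 := by
    intro g y hy
    obtain ⟨g1, hg1⟩ := hsurj y
    have h1 : g1⁻¹ * g * g1 = 1 := by
      apply hx₀
      intro i
      rw [mul_smul, mul_smul, hg1 i, hy i, ← hg1 i, inv_smul_smul]
    calc g = g1 * (g1⁻¹ * g * g1) * g1⁻¹ := by group
      _ = 1 := by rw [h1]; group
  have hφinj : Function.Injective φ := by
    intro g g' hgg
    have h1 : g'⁻¹ * g = 1 := by
      apply hx₀
      intro i
      have h2 := hφ g (e (x₀ i))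
      rw [hgg, hφ g' (e (x₀ i)), e.symm_apply_apply] at h2
      have h3 := e.injective h2
      rw [mul_smul, ← h3, inv_smul_smul]
    calc g = g' * (g'⁻¹ * g) := by group
      _ = g' := by rw [h1, mul_one]
  refine ⟨φ.range, ⟨?_, ?_⟩, ⟨MonoidHom.ofInjective hφinj⟩⟩
  · intro x y
    obtain ⟨g1, hg1⟩ := hsurj (x.trans e.symm.toEmbedding)
    obtain ⟨g2, hg2⟩ := hsurj (y.trans e.symm.toEmbedding)
    refine ⟨φ (g2 * g1⁻¹), ⟨_, rfl⟩, fun i => ?_⟩
    have h1 : g1 • x₀ i = e.symm (x i) := hg1 i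
    have h2 : g2 • x₀ i = e.symm (y i) := hg2 i
    rw [hφ, ← h1, mul_smul, inv_smul_smul, h2, e.apply_symm_apply]
  · rintro _ ⟨g, rfl⟩ x hx
    have hg : g = 1 := by
      apply hfix g (x.trans e.symm.toEmbedding)
      intro i
      have h1 := hx i
      rw [hφ] at h1
      have h2 : g • e.symm (x i) = e.symm (x i) := by
        apply e.injective
        rw [h1, e.apply_symm_apply]
      exact h2
    rw [hg, map_one]

end Cfsg.Agent.Helper93
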