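import Mathlib
import Cfsg.Prelude.Def_Transfer
import Cfsg.Prelude.Def_Solvable
import Cfsg.Agent.Helper63.N15Defs

/-!
CALL S4415 part B, piece p3e: `F₀ = [E, R]` is irreducible for `R ⊔ B`.
-/

set_option autoImplicit false

namespace Cfsg.Agent.Helper93.N15

open Cfsg.Agent.Helper63.N15

variable {S : Type*} [Group S] [Finite S] {E : Type*} [AddCommGroup E] [Module (ZMod 3) E]
  [Finite E]

theorem p3e_rho_mul (ρ : Representation (ZMod 3) S E) (g h : S) (v : E) :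
    ρ (g * h) v = ρ g (ρ h v) := by
  rw [map_mul]; rfl

theorem p3e_rho_one (ρ : Representation (ZMod 3) S E) (v : E) : ρ 1 v = v := by
  rw [map_one]; rfl

theorem p3e_rho_inv_cancel (ρ : Representation (ZMod 3) S E) (g : S) (v : E) :
    ρ g⁻¹ (ρ g v) = v := by
  rw [← p3e_rho_mul, inv_mul_cancel, p3e_rho_one]

theorem p3e_rho_cancel_inv (ρ : Representation (ZMod 3) S E) (g : S) (v : E) :
    ρ g (ρ g⁻¹ v) = v := by
  rw [← p3e_rho_mul, mul_inv_cancel, p3e_rho_one]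

theorem p3e_three (v : E) : v + v + v = 0 := by
  have h : (3 : ZMod 3) • v = 0 := by
    have h0 : (3 : ZMod 3) = 0 := by decide
    rw [h0, zero_smul]
  have h' : (3 : ZMod 3) • v = v + v + v := by
    rw [show (3 : ZMod 3) = 1 + 1 + 1 by norm_num, add_smul, add_smul, one_smul]
  rw [← h']; exact h

/-- a subgroup containing `b` and stable under conjugation by `R` contains `R = [R, B]` -/
theorem p3e_aux (R B : Subgroup S) (b : S) (hb : Subgroup.zpowers b = B) (hcomm : ⁅R, B⁆ = R)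
    (T : Subgroup S) (hbT : b ∈ T) (hconj : ∀ x ∈ R, ∀ g ∈ T, x * g * x⁻¹ ∈ T) : R ≤ T := by
  have hBT : B ≤ T := by rw [← hb, Subgroup.zpowers_le]; exact hbT
  rw [← hcomm, Subgroup.commutator_le]
  intro r hr x hx
  rw [commutatorElement_def]
  exact T.mul_mem (hconj r hr x (hBT hx)) (T.inv_mem (hBT hx))

theorem p3e_conj_sub (ρ : Representation (ZMod 3) S E) (x g : S) (v : E) :
    ρ (x * g * x⁻¹) v - v = ρ x (ρ g (ρ x⁻¹ v) - ρ x⁻¹ v) := by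
  rw [p3e_rho_mul, p3e_rho_mul, map_sub, p3e_rho_cancel_inv]

/-- the three weight projections -/
theorem p3e_proj (ρ : Representation (ZMod 3) S E) (q₁ q₂ : S) (u a₁ a₂ a₃ : E)
    (hu1 : ρ q₁ u = u) (hu2 : ρ q₂ u = u) (e11 : ρ q₁ a₁ = a₁) (e12 : ρ q₁ a₂ = -a₂)
    (e13 : ρ q₁ a₃ = -a₃) (e21 : ρ q₂ a₁ = -a₁) (e22 : ρ q₂ a₂ = a₂) (e23 : ρ q₂ a₃ = -a₃) :
    (u + a₁ + a₂ + a₃) + ρ q₁ (u + a₁ + a₂ + a₃) - ρ q₂ (u + a₁ + a₂ + a₃) -
        ρ q₁ (ρ q₂ (u + a₁ + a₂ + a₃)) = a₁ ∧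
      (u + a₁ + a₂ + a₃) - ρ q₁ (u + a₁ + a₂ + a₃) + ρ q₂ (u + a₁ + a₂ + a₃) -
        ρ q₁ (ρ q₂ (u + a₁ + a₂ + a₃)) = a₂ ∧
      (u + a₁ + a₂ + a₃) - ρ q₁ (u + a₁ + a₂ + a₃) - ρ q₂ (u + a₁ + a₂ + a₃) +
        ρ q₁ (ρ q₂ (u + a₁ + a₂ + a₃)) = a₃ := by
  have hA : ρ q₁ (u + a₁ + a₂ + a₃) = u + a₁ - a₂ - a₃ := by
    rw [map_add, map_add, map_add, hu1, e11, e12, e13]; abel
  have hB : ρ q₂ (u + a₁ + a₂ + a₃) = u - a₁ + a₂ - a₃ := by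
    rw [map_add, map_add, map_add, hu2, e21, e22, e23]; abel
  have hC : ρ q₁ (ρ q₂ (u + a₁ + a₂ + a₃)) = u - a₁ - a₂ + a₃ := by
    rw [hB, map_sub, map_add, map_sub, hu1, e11, e12, e13]; abel
  rw [hC, hA, hB]
  refine ⟨?_, ?_, ?_⟩
  · have e : u + a₁ + a₂ + a₃ + (u + a₁ - a₂ - a₃) - (u - a₁ + a₂ - a₃) - (u - a₁ - a₂ + a₃) =
        a₁ + (a₁ + a₁ + a₁) := by abel
    rw [e, p3e_three, add_zero]
  · have e : u + a₁ + a₂ + a₃ - (u + a₁ - a₂ - a₃) + (u - a₁ + a₂ - a₃) - (u - a₁ - a₂ + a₃) =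
        a₂ + (a₂ + a₂ + a₂) := by abel
    rw [e, p3e_three, add_zero]
  · have e : u + a₁ + a₂ + a₃ - (u + a₁ - a₂ - a₃) - (u - a₁ + a₂ - a₃) + (u - a₁ - a₂ + a₃) =
        a₃ + (a₃ + a₃ + a₃) := by abel
    rw [e, p3e_three, add_zero]

theorem p3e (ρ : Representation (ZMod 3) S E) (R B : Subgroup S) (b q₁ q₂ q₃ : S)
    (v₁ v₂ v₃ : E) (hb : Subgroup.zpowers b = B) (hnorm : ∀ x ∈ B, ∀ r ∈ R, x * r * x⁻¹ ∈ R)
    (hcomm : ⁅R, B⁆ = R) (hq1 : q₁ ∈ R) (hq2 : q₂ ∈ R) (h11 : q₁ * q₁ = 1) (h22 : q₂ * q₂ = 1)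
    (h12 : q₁ * q₂ = q₃) (h21 : q₂ * q₁ = q₃) (hbv1 : ρ b v₁ = v₂) (hbv2 : ρ b v₂ = v₃)
    (hbv3 : ρ b v₃ = v₁) (s11 : ρ q₁ v₁ = v₁) (s12 : ρ q₁ v₂ = -v₂) (s13 : ρ q₁ v₃ = -v₃)
    (s21 : ρ q₂ v₁ = -v₁) (s22 : ρ q₂ v₂ = v₂) (s23 : ρ q₂ v₃ = -v₃)
    (hdec : ∀ v : E, ∃ u : E, ∃ c₁ c₂ c₃ : ZMod 3, v = u + c₁ • v₁ + c₂ • v₂ + c₃ • v₃ ∧
      ρ q₁ u = u ∧ ρ q₂ u = u ∧ ρ q₃ u = u ∧ ρ b u = u)
    (F₀ F₁ : Submodule (ZMod 3) E) (h01 : F₀ ⊓ F₁ = ⊥)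
    (hF1 : ∀ v : E, v ∈ F₁ ↔ ∀ r ∈ R, ρ r v = v)
    (hmin : ∀ N : Submodule (ZMod 3) E, (∀ r ∈ R, ∀ v : E, ρ r v - v ∈ N) → F₀ ≤ N) :
    ∀ N : Submodule (ZMod 3) E, N ≤ F₀ → (∀ g ∈ R ⊔ B, ∀ v ∈ N, ρ g v ∈ N) →
      N = ⊥ ∨ N = F₀ := by
  intro N hNF hN
  haveI : Fact (Nat.Prime 3) := ⟨by norm_num⟩
  have hRG : R ≤ R ⊔ B := le_sup_left
  have hbB : b ∈ B := hb ▸ Subgroup.mem_zpowers b
  have hbG : b ∈ R ⊔ B := (le_sup_right : B ≤ R ⊔ B) hbB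
  by_cases hv1 : v₁ ∈ N
  · right
    have hv2 : v₂ ∈ N := hbv1 ▸ hN b hbG v₁ hv1
    have hv3 : v₃ ∈ N := hbv2 ▸ hN b hbG v₂ hv2
    have hb1 : ∀ v : E, ρ b v - v ∈ N := by
      intro v
      obtain ⟨u, c₁, c₂, c₃, rfl, -, -, -, hub⟩ := hdec v
      rw [map_add, map_add, map_add, map_smul, map_smul, map_smul, hub, hbv1, hbv2, hbv3]
      have e : u + c₁ • v₂ + c₂ • v₃ + c₃ • v₁ - (u + c₁ • v₁ + c₂ • v₂ + c₃ • v₃) =
          (c₁ • v₂ + c₂ • v₃ + c₃ • v₁) - (c₁ • v₁ + c₂ • v₂ + c₃ • v₃) := by abel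
      rw [e]
      exact N.sub_mem (N.add_mem (N.add_mem (N.smul_mem _ hv2) (N.smul_mem _ hv3))
        (N.smul_mem _ hv1)) (N.add_mem (N.add_mem (N.smul_mem _ hv1) (N.smul_mem _ hv2))
        (N.smul_mem _ hv3))
    let T : Subgroup S :=
      { carrier := {g | ∀ v : E, ρ g v - v ∈ N ∧ ρ g⁻¹ v - v ∈ N}
        one_mem' := fun v => by
          rw [inv_one, p3e_rho_one, sub_self]; exact ⟨N.zero_mem, N.zero_mem⟩
        mul_mem' := fun {g h} hg hh v => by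
          refine ⟨?_, ?_⟩
          · have e : ρ (g * h) v - v = (ρ g (ρ h v) - ρ h v) + (ρ h v - v) := by
              rw [p3e_rho_mul]; abel
            rw [e]; exact N.add_mem (hg _).1 (hh v).1
          · have e : ρ (g * h)⁻¹ v - v = (ρ h⁻¹ (ρ g⁻¹ v) - ρ g⁻¹ v) + (ρ g⁻¹ v - v) := by
              rw [mul_inv_rev, p3e_rho_mul]; abel
            rw [e]; exact N.add_mem (hh _).2 (hg v).2
        inv_mem' := fun {g} hg v => ⟨(hg v).2, by rw [inv_inv]; exact (hg v).1⟩ }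
    have hbT : b ∈ T := by
      intro v
      refine ⟨hb1 v, ?_⟩
      have h := hb1 (ρ b⁻¹ v)
      rw [p3e_rho_cancel_inv] at h
      have e : ρ b⁻¹ v - v = -(v - ρ b⁻¹ v) := by abel
      rw [e]; exact N.neg_mem h
    have hconj : ∀ x ∈ R, ∀ g ∈ T, x * g * x⁻¹ ∈ T := by
      intro x hx g hg v
      refine ⟨?_, ?_⟩
      · rw [p3e_conj_sub]
        exact hN x (hRG hx) _ (hg _).1
      · have e : (x * g * x⁻¹)⁻¹ = x * g⁻¹ * x⁻¹ := by group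
        rw [e, p3e_conj_sub]
        exact hN x (hRG hx) _ (hg _).2
    have hRT := p3e_aux R B b hb hcomm T hbT hconj
    exact le_antisymm hNF (hmin N (fun r hr v => (hRT hr v).1))
  · left
    have hbfix : ∀ x ∈ N, ρ b x = x := by
      intro x hx
      obtain ⟨u, c₁, c₂, c₃, rfl, hu1, hu2, -, hub⟩ := hdec x
      have e11 : ρ q₁ (c₁ • v₁) = c₁ • v₁ := by rw [map_smul, s11]
      have e12 : ρ q₁ (c₂ • v₂) = -(c₂ • v₂) := by rw [map_smul, s12, smul_neg]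
      have e13 : ρ q₁ (c₃ • v₃) = -(c₃ • v₃) := by rw [map_smul, s13, smul_neg]
      have e21 : ρ q₂ (c₁ • v₁) = -(c₁ • v₁) := by rw [map_smul, s21, smul_neg]
      have e22 : ρ q₂ (c₂ • v₂) = c₂ • v₂ := by rw [map_smul, s22]
      have e23 : ρ q₂ (c₃ • v₃) = -(c₃ • v₃) := by rw [map_smul, s23, smul_neg]
      obtain ⟨p1, p2, p3⟩ := p3e_proj ρ q₁ q₂ u (c₁ • v₁) (c₂ • v₂) (c₃ • v₃) hu1 hu2 e11 e12 e13
        e21 e22 e23
      have hA := hN q₁ (hRG hq1) _ hx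
      have hB := hN q₂ (hRG hq2) _ hx
      have hC := hN q₁ (hRG hq1) _ hB
      have m1 : c₁ • v₁ ∈ N := by
        rw [← p1]; exact N.sub_mem (N.sub_mem (N.add_mem hx hA) hB) hC
      have m2 : c₂ • v₂ ∈ N := by
        rw [← p2]; exact N.sub_mem (N.add_mem (N.sub_mem hx hA) hB) hC
      have m3 : c₃ • v₃ ∈ N := by
        rw [← p3]; exact N.add_mem (N.sub_mem (N.sub_mem hx hA) hB) hC
      have z1 : c₁ = 0 := by
        by_contra hc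
        apply hv1
        have := N.smul_mem c₁⁻¹ m1
        rwa [inv_smul_smul₀ hc] at this
      have z2 : c₂ = 0 := by
        by_contra hc
        apply hv1
        have h2 : v₂ ∈ N := by
          have := N.smul_mem c₂⁻¹ m2
          rwa [inv_smul_smul₀ hc] at this
        have h3 : v₃ ∈ N := hbv2 ▸ hN b hbG v₂ h2
        exact hbv3 ▸ hN b hbG v₃ h3
      have z3 : c₃ = 0 := by
        by_contra hc
        apply hv1
        have h3 : v₃ ∈ N := by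
          have := N.smul_mem c₃⁻¹ m3
          rwa [inv_smul_smul₀ hc] at this
        exact hbv3 ▸ hN b hbG v₃ h3
      rw [z1, z2, z3, zero_smul, zero_smul, zero_smul, add_zero, add_zero, add_zero]
      exact hub
    let T : Subgroup S :=
      { carrier := {g | ∀ v ∈ N, ρ g v = v}
        one_mem' := fun v _ => p3e_rho_one ρ v
        mul_mem' := fun {g h} hg hh v hv => by rw [p3e_rho_mul, hh v hv, hg v hv]
        inv_mem' := fun {g} hg v hv => by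
          have h := hg v hv
          calc ρ g⁻¹ v = ρ g⁻¹ (ρ g v) := by rw [h]
            _ = v := p3e_rho_inv_cancel ρ g v }
    have hbT : b ∈ T := hbfix
    have hconj : ∀ x ∈ R, ∀ g ∈ T, x * g * x⁻¹ ∈ T := by
      intro x hx g hg v hv
      show ρ (x * g * x⁻¹) v = v
      rw [p3e_rho_mul, p3e_rho_mul, hg _ (hN x⁻¹ (hRG (R.inv_mem hx)) v hv), p3e_rho_cancel_inv]
    have hRT := p3e_aux R B b hb hcomm T hbT hconj
    rw [Submodule.eq_bot_iff]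
    intro v hv
    have h1 : v ∈ F₁ := (hF1 v).2 (fun r hr => hRT hr v hv)
    have h2 : v ∈ F₀ ⊓ F₁ := ⟨hNF hv, h1⟩
    rw [h01] at h2
    exact (Submodule.mem_bot _).1 h2

end Cfsg.Agent.Helper93.N15
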