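import Cfsg.Prelude.Def_Spor_Ru

set_option autoImplicit false

namespace Cfsg.Agent.Helper93.RuL

open Cfsg Cfsg.Spor

/-- The bilinear pairing `∑ x_p t_p` on coordinate vectors. -/
def bet (x t : RuVec) : GaussianInt := ∑ p : RuIdx, x p * t p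

theorem bet_add_left (x y t : RuVec) : bet (x + y) t = bet x t + bet y t := by
  simp only [bet, Pi.add_apply, add_mul, Finset.sum_add_distrib]

theorem bet_neg_left (x t : RuVec) : bet (-x) t = - bet x t := by
  simp only [bet, Pi.neg_apply, neg_mul, Finset.sum_neg_distrib]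

theorem bet_zero_left (t : RuVec) : bet 0 t = 0 := by
  simp only [bet, Pi.zero_apply, zero_mul, Finset.sum_const_zero]

theorem bet_mul_left (c : GaussianInt) (x t : RuVec) : bet (fun p => c * x p) t = c * bet x t := by
  simp only [bet, Finset.mul_sum, mul_assoc]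

theorem bet_smul_left (c : GaussianInt) (x t : RuVec) : bet (c • x) t = c * bet x t := by
  simp only [bet, Pi.smul_apply, smul_eq_mul, Finset.mul_sum, mul_assoc]

theorem bet_mul_right (c : GaussianInt) (x t : RuVec) : bet x (fun p => c * t p) = c * bet x t := by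
  simp only [bet, Finset.mul_sum]
  exact Finset.sum_congr rfl (fun p _ => by ring)

theorem bet_comb (x : RuVec) {n : ℕ} (A : Fin n → GaussianInt) (S : Fin n → RuVec) (w : RuVec) :
    bet x (fun p => ∑ l, A l * S l p + 4 * w p) = ∑ l, A l * bet x (S l) + 4 * bet x w := by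
  simp only [bet, mul_add, Finset.sum_add_distrib, Finset.mul_sum]
  congr 1
  · rw [Finset.sum_comm]
    exact Finset.sum_congr rfl (fun l _ => Finset.sum_congr rfl (fun p _ => by ring))
  · exact Finset.sum_congr rfl (fun p _ => by ring)

/-- Nineteen test vectors: a basis modulo 4 of the conjugate lattice. -/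
def TT : Fin 19 → RuVec := ![
  ruOfArray ![![⟨1, 0⟩, ⟨0, 0⟩, ⟨0, 0⟩, ⟨1, 0⟩], ![⟨0, 0⟩, ⟨0, 0⟩, ⟨0, -1⟩, ⟨1, 0⟩], ![⟨0, 0⟩, ⟨0, 0⟩, ⟨0, -1⟩, ⟨2, -1⟩], ![⟨0, 0⟩, ⟨0, -1⟩, ⟨0, 0⟩, ⟨-1, 2⟩], ![⟨0, 0⟩, ⟨1, 0⟩, ⟨1, 0⟩, ⟨2, 0⟩], ![⟨0, 0⟩, ⟨1, 0⟩, ⟨0, 2⟩, ⟨-1, 2⟩], ![⟨1, 0⟩, ⟨0, -1⟩, ⟨1, 0⟩, ⟨2, -1⟩]],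
  ruOfArray ![![⟨0, 0⟩, ⟨0, 0⟩, ⟨1, 0⟩, ⟨2, -1⟩], ![⟨0, 0⟩, ⟨0, 0⟩, ⟨1, 0⟩, ⟨-1, 2⟩], ![⟨0, 0⟩, ⟨0, -1⟩, ⟨1, -1⟩, ⟨2, 1⟩], ![⟨0, 0⟩, ⟨0, -1⟩, ⟨0, -1⟩, ⟨2, 0⟩], ![⟨0, 0⟩, ⟨0, -1⟩, ⟨1, -1⟩, ⟨-1, 0⟩], ![⟨0, 0⟩, ⟨0, 0⟩, ⟨0, 0⟩, ⟨-1, 1⟩], ![⟨0, 0⟩, ⟨0, -1⟩, ⟨2, -1⟩, ⟨1, -1⟩]],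
  ruOfArray ![![⟨0, 0⟩, ⟨1, 0⟩, ⟨0, 0⟩, ⟨-1, 0⟩], ![⟨0, 0⟩, ⟨0, 0⟩, ⟨1, -1⟩, ⟨2, 0⟩], ![⟨0, 0⟩, ⟨0, -1⟩, ⟨1, 0⟩, ⟨0, 0⟩], ![⟨0, 0⟩, ⟨1, -1⟩, ⟨1, 0⟩, ⟨-1, 0⟩], ![⟨0, 0⟩, ⟨1, -1⟩, ⟨0, -1⟩, ⟨1, 2⟩], ![⟨0, 0⟩, ⟨1, 0⟩, ⟨1, -1⟩, ⟨-1, 2⟩], ![⟨0, 0⟩, ⟨0, -1⟩, ⟨0, -1⟩, ⟨0, 0⟩]],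
  ruOfArray ![![⟨0, 0⟩, ⟨0, 0⟩, ⟨0, 0⟩, ⟨-1, -1⟩], ![⟨1, 0⟩, ⟨0, 0⟩, ⟨0, 0⟩, ⟨-1, 0⟩], ![⟨0, 0⟩, ⟨1, -1⟩, ⟨1, 0⟩, ⟨-1, 0⟩], ![⟨0, 0⟩, ⟨1, -1⟩, ⟨0, -1⟩, ⟨-1, 0⟩], ![⟨0, 0⟩, ⟨0, -1⟩, ⟨1, -1⟩, ⟨0, 1⟩], ![⟨0, 0⟩, ⟨0, -1⟩, ⟨2, 1⟩, ⟨0, 2⟩], ![⟨1, 0⟩, ⟨0, 0⟩, ⟨2, 1⟩, ⟨0, 0⟩]],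
  ruOfArray ![![⟨0, 0⟩, ⟨0, 0⟩, ⟨0, 0⟩, ⟨-1, -1⟩], ![⟨0, 0⟩, ⟨1, 0⟩, ⟨1, 0⟩, ⟨-1, 1⟩], ![⟨0, 0⟩, ⟨0, 0⟩, ⟨0, -1⟩, ⟨1, 0⟩], ![⟨0, 0⟩, ⟨0, 0⟩, ⟨0, -1⟩, ⟨2, 1⟩], ![⟨0, 0⟩, ⟨1, 0⟩, ⟨1, -1⟩, ⟨1, 2⟩], ![⟨0, 0⟩, ⟨1, 0⟩, ⟨1, 0⟩, ⟨0, 2⟩], ![⟨0, 0⟩, ⟨-1, 0⟩, ⟨-1, -1⟩, ⟨0, 1⟩]],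
  ruOfArray ![![⟨0, 0⟩, ⟨0, 0⟩, ⟨0, 0⟩, ⟨0, 0⟩], ![⟨0, 0⟩, ⟨0, 0⟩, ⟨0, 0⟩, ⟨2, 2⟩], ![⟨0, 0⟩, ⟨1, -1⟩, ⟨0, 0⟩, ⟨1, 1⟩], ![⟨0, 0⟩, ⟨0, 0⟩, ⟨0, 0⟩, ⟨2, 0⟩], ![⟨1, 0⟩, ⟨1, 0⟩, ⟨0, -1⟩, ⟨1, 2⟩], ![⟨0, 0⟩, ⟨0, 0⟩, ⟨1, -1⟩, ⟨1, -1⟩], ![⟨1, 0⟩, ⟨0, -1⟩, ⟨-1, 2⟩, ⟨1, 2⟩]],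
  ruOfArray ![![⟨0, 0⟩, ⟨0, 0⟩, ⟨0, 0⟩, ⟨2, 0⟩], ![⟨0, 0⟩, ⟨0, 0⟩, ⟨1, -1⟩, ⟨-1, -1⟩], ![⟨0, 0⟩, ⟨1, -1⟩, ⟨0, 0⟩, ⟨-1, 1⟩], ![⟨1, 0⟩, ⟨1, 0⟩, ⟨1, 0⟩, ⟨0, 1⟩], ![⟨0, 0⟩, ⟨1, -1⟩, ⟨0, 0⟩, ⟨1, -1⟩], ![⟨0, 0⟩, ⟨1, -1⟩, ⟨1, 1⟩, ⟨0, 2⟩], ![⟨1, 0⟩, ⟨0, 1⟩, ⟨1, 2⟩, ⟨1, 2⟩]],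
  ruOfArray ![![⟨0, 0⟩, ⟨0, 0⟩, ⟨0, 0⟩, ⟨2, 0⟩], ![⟨0, 0⟩, ⟨0, 0⟩, ⟨0, 0⟩, ⟨0, 0⟩], ![⟨1, 0⟩, ⟨1, 0⟩, ⟨1, 0⟩, ⟨2, -1⟩], ![⟨0, 0⟩, ⟨0, 0⟩, ⟨0, 0⟩, ⟨0, 0⟩], ![⟨0, 0⟩, ⟨1, -1⟩, ⟨0, 0⟩, ⟨-1, 1⟩], ![⟨0, 0⟩, ⟨1, -1⟩, ⟨-1, 1⟩, ⟨2, 0⟩], ![⟨1, 0⟩, ⟨1, 0⟩, ⟨0, -1⟩, ⟨1, 2⟩]],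
  ruOfArray ![![⟨0, 0⟩, ⟨0, 0⟩, ⟨0, 0⟩, ⟨0, 0⟩], ![⟨0, 0⟩, ⟨0, 0⟩, ⟨0, 0⟩, ⟨0, 2⟩], ![⟨0, 0⟩, ⟨1, -1⟩, ⟨1, -1⟩, ⟨0, 0⟩], ![⟨0, 0⟩, ⟨0, 0⟩, ⟨0, 0⟩, ⟨2, 2⟩], ![⟨0, 0⟩, ⟨0, 0⟩, ⟨1, -1⟩, ⟨1, 1⟩], ![⟨1, 0⟩, ⟨0, -1⟩, ⟨-1, 2⟩, ⟨-1, 0⟩], ![⟨1, 0⟩, ⟨-1, 2⟩, ⟨1, 0⟩, ⟨2, -1⟩]],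
  ruOfArray ![![⟨0, 0⟩, ⟨0, 0⟩, ⟨0, 0⟩, ⟨2, 0⟩], ![⟨0, 0⟩, ⟨0, 0⟩, ⟨0, 0⟩, ⟨0, 2⟩], ![⟨0, 0⟩, ⟨0, 0⟩, ⟨0, 0⟩, ⟨2, 0⟩], ![⟨0, 0⟩, ⟨0, 0⟩, ⟨0, 0⟩, ⟨0, 2⟩], ![⟨0, 0⟩, ⟨0, 0⟩, ⟨0, 0⟩, ⟨2, 0⟩], ![⟨0, 0⟩, ⟨0, 0⟩, ⟨2, 0⟩, ⟨2, 2⟩], ![⟨1, -1⟩, ⟨-1, -1⟩, ⟨-1, 1⟩, ⟨-1, -1⟩]],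
  ruOfArray ![![⟨0, 0⟩, ⟨0, 0⟩, ⟨0, 0⟩, ⟨0, 0⟩], ![⟨0, 0⟩, ⟨0, 0⟩, ⟨0, 0⟩, ⟨2, 2⟩], ![⟨0, 0⟩, ⟨0, 0⟩, ⟨0, 2⟩, ⟨0, 2⟩], ![⟨0, 0⟩, ⟨0, 0⟩, ⟨0, 0⟩, ⟨2, 2⟩], ![⟨0, 0⟩, ⟨0, 0⟩, ⟨0, 0⟩, ⟨2, 2⟩], ![⟨0, 0⟩, ⟨0, 0⟩, ⟨0, 0⟩, ⟨2, 2⟩], ![⟨0, 0⟩, ⟨2, 0⟩, ⟨2, 2⟩, ⟨2, 0⟩]],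
  ruOfArray ![![⟨0, 0⟩, ⟨0, 0⟩, ⟨0, 0⟩, ⟨0, 0⟩], ![⟨0, 0⟩, ⟨0, 0⟩, ⟨0, 2⟩, ⟨0, 2⟩], ![⟨0, 0⟩, ⟨0, 0⟩, ⟨0, 0⟩, ⟨0, 0⟩], ![⟨0, 0⟩, ⟨0, 0⟩, ⟨0, 0⟩, ⟨0, 0⟩], ![⟨0, 0⟩, ⟨0, 0⟩, ⟨0, 0⟩, ⟨0, 0⟩], ![⟨0, 0⟩, ⟨0, 0⟩, ⟨0, 0⟩, ⟨2, 2⟩], ![⟨0, 0⟩, ⟨2, 0⟩, ⟨2, 0⟩, ⟨2, 2⟩]],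
  ruOfArray ![![⟨0, 0⟩, ⟨0, 0⟩, ⟨0, 0⟩, ⟨0, 0⟩], ![⟨0, 0⟩, ⟨0, 0⟩, ⟨0, 0⟩, ⟨0, 0⟩], ![⟨0, 0⟩, ⟨0, 0⟩, ⟨0, 0⟩, ⟨0, 0⟩], ![⟨0, 0⟩, ⟨0, 2⟩, ⟨0, 0⟩, ⟨0, 2⟩], ![⟨0, 0⟩, ⟨0, 0⟩, ⟨0, 0⟩, ⟨2, 2⟩], ![⟨0, 0⟩, ⟨0, 0⟩, ⟨2, 2⟩, ⟨2, 2⟩], ![⟨0, 0⟩, ⟨0, 0⟩, ⟨0, 2⟩, ⟨2, 0⟩]],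
  ruOfArray ![![⟨0, 0⟩, ⟨0, 0⟩, ⟨0, 0⟩, ⟨0, 0⟩], ![⟨0, 0⟩, ⟨0, 0⟩, ⟨0, 0⟩, ⟨0, 0⟩], ![⟨0, 0⟩, ⟨0, 0⟩, ⟨0, 0⟩, ⟨2, 2⟩], ![⟨0, 0⟩, ⟨0, 0⟩, ⟨0, 0⟩, ⟨2, 2⟩], ![⟨0, 0⟩, ⟨0, 2⟩, ⟨0, 0⟩, ⟨0, 2⟩], ![⟨0, 0⟩, ⟨0, 0⟩, ⟨0, 2⟩, ⟨0, 2⟩], ![⟨0, 0⟩, ⟨2, 0⟩, ⟨0, 2⟩, ⟨0, 0⟩]],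
  ruOfArray ![![⟨0, 0⟩, ⟨0, 0⟩, ⟨0, 0⟩, ⟨0, 0⟩], ![⟨0, 0⟩, ⟨0, 0⟩, ⟨0, 0⟩, ⟨0, 0⟩], ![⟨0, 0⟩, ⟨0, 2⟩, ⟨0, 0⟩, ⟨0, 2⟩], ![⟨0, 0⟩, ⟨0, 0⟩, ⟨0, 0⟩, ⟨2, 2⟩], ![⟨0, 0⟩, ⟨0, 0⟩, ⟨0, 0⟩, ⟨0, 0⟩], ![⟨0, 0⟩, ⟨0, 0⟩, ⟨2, 0⟩, ⟨0, 2⟩], ![⟨0, 0⟩, ⟨2, 2⟩, ⟨0, 0⟩, ⟨2, 2⟩]],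
  ruOfArray ![![⟨0, 0⟩, ⟨0, 0⟩, ⟨0, 0⟩, ⟨0, 0⟩], ![⟨0, 0⟩, ⟨0, 0⟩, ⟨0, 0⟩, ⟨2, 2⟩], ![⟨0, 0⟩, ⟨0, 0⟩, ⟨0, 0⟩, ⟨0, 0⟩], ![⟨0, 0⟩, ⟨0, 0⟩, ⟨0, 0⟩, ⟨0, 0⟩], ![⟨0, 0⟩, ⟨0, 0⟩, ⟨0, 0⟩, ⟨0, 0⟩], ![⟨0, 0⟩, ⟨0, 2⟩, ⟨2, 2⟩, ⟨0, 2⟩], ![⟨0, 0⟩, ⟨0, 2⟩, ⟨0, 2⟩, ⟨0, 0⟩]],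
  ruOfArray ![![⟨0, 0⟩, ⟨0, 0⟩, ⟨0, 0⟩, ⟨0, 0⟩], ![⟨0, 0⟩, ⟨0, 0⟩, ⟨0, 0⟩, ⟨0, 0⟩], ![⟨0, 0⟩, ⟨0, 0⟩, ⟨0, 0⟩, ⟨2, 2⟩], ![⟨0, 0⟩, ⟨0, 0⟩, ⟨0, 2⟩, ⟨2, 0⟩], ![⟨0, 0⟩, ⟨0, 0⟩, ⟨0, 0⟩, ⟨2, 2⟩], ![⟨0, 0⟩, ⟨0, 0⟩, ⟨0, 2⟩, ⟨0, 2⟩], ![⟨0, 0⟩, ⟨0, 0⟩, ⟨0, 2⟩, ⟨2, 0⟩]],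
  ruOfArray ![![⟨0, 0⟩, ⟨0, 0⟩, ⟨0, 0⟩, ⟨0, 0⟩], ![⟨0, 0⟩, ⟨0, 0⟩, ⟨0, 0⟩, ⟨0, 0⟩], ![⟨0, 0⟩, ⟨0, 0⟩, ⟨0, 0⟩, ⟨2, 2⟩], ![⟨0, 0⟩, ⟨0, 0⟩, ⟨0, 0⟩, ⟨0, 0⟩], ![⟨0, 0⟩, ⟨0, 0⟩, ⟨0, 2⟩, ⟨2, 0⟩], ![⟨0, 0⟩, ⟨0, 0⟩, ⟨0, 2⟩, ⟨0, 2⟩], ![⟨0, 0⟩, ⟨2, 0⟩, ⟨2, 2⟩, ⟨2, 0⟩]],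
  ruOfArray ![![⟨0, 0⟩, ⟨0, 0⟩, ⟨0, 0⟩, ⟨2, 2⟩], ![⟨0, 0⟩, ⟨0, 0⟩, ⟨0, 0⟩, ⟨2, 2⟩], ![⟨0, 0⟩, ⟨0, 0⟩, ⟨0, 0⟩, ⟨2, 2⟩], ![⟨0, 0⟩, ⟨0, 0⟩, ⟨0, 0⟩, ⟨2, 2⟩], ![⟨0, 0⟩, ⟨0, 0⟩, ⟨0, 0⟩, ⟨2, 2⟩], ![⟨0, 0⟩, ⟨0, 0⟩, ⟨0, 0⟩, ⟨2, 2⟩], ![⟨0, 0⟩, ⟨0, 0⟩, ⟨0, 0⟩, ⟨2, 2⟩]]]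

/-- The dual of the test vectors modulo 4. -/
def KK : AddSubgroup RuVec where
  carrier := {x | ∀ l : Fin 19, (4 : GaussianInt) ∣ bet x (TT l)}
  add_mem' := by
    intro a b ha hb l
    rw [bet_add_left]
    exact dvd_add (ha l) (hb l)
  zero_mem' := by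
    intro l
    rw [bet_zero_left]
    exact dvd_zero _
  neg_mem' := by
    intro a ha l
    rw [bet_neg_left]
    exact (dvd_neg).2 (ha l)

theorem mem_KK {x : RuVec} : x ∈ KK ↔ ∀ l : Fin 19, (4 : GaussianInt) ∣ bet x (TT l) := Iff.rfl

theorem KK_dvd {x : RuVec} (hx : x ∈ KK) (τ : RuVec) (A : Fin 19 → GaussianInt) (w : RuVec)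
    (h : ∀ p, τ p = ∑ l, A l * TT l p + 4 * w p) : (4 : GaussianInt) ∣ bet x τ := by
  have h' : τ = fun p => ∑ l, A l * TT l p + 4 * w p := funext h
  rw [h', bet_comb]
  exact dvd_add (Finset.dvd_sum (fun l _ => Dvd.dvd.mul_left (hx l) _)) (dvd_mul_right _ _)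

theorem four_dvd_iff (z : GaussianInt) : (4 : GaussianInt) ∣ z ↔ (4 : ℤ) ∣ z.re ∧ (4 : ℤ) ∣ z.im := by
  have h := Zsqrtd.intCast_dvd (d := -1) 4 z
  have h4 : ((4 : ℤ) : GaussianInt) = 4 := by norm_num
  rw [h4] at h
  exact h

theorem ruRj_0 (x : RuVec) (n : Fin 7) : ruRj x (n, 0) = gI * x (n, 1) := rfl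
theorem ruRj_1 (x : RuVec) (n : Fin 7) : ruRj x (n, 1) = gI * x (n, 0) := rfl
theorem ruRj_2 (x : RuVec) (n : Fin 7) : ruRj x (n, 2) = x (n, 3) := rfl
theorem ruRj_3 (x : RuVec) (n : Fin 7) : ruRj x (n, 3) = -x (n, 2) := rfl
theorem ruRk_0 (x : RuVec) (n : Fin 7) : ruRk x (n, 0) = gI * x (n, 2) := rfl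
theorem ruRk_1 (x : RuVec) (n : Fin 7) : ruRk x (n, 1) = -x (n, 3) := rfl
theorem ruRk_2 (x : RuVec) (n : Fin 7) : ruRk x (n, 2) = gI * x (n, 0) := rfl
theorem ruRk_3 (x : RuVec) (n : Fin 7) : ruRk x (n, 3) = x (n, 1) := rfl

/-- Transpose of `ruRj` with respect to `bet`. -/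
def rjT (t : RuVec) : RuVec := fun p =>
  match p.2 with
  | 0 => gI * t (p.1, 1)
  | 1 => gI * t (p.1, 0)
  | 2 => -t (p.1, 3)
  | 3 => t (p.1, 2)

/-- Transpose of `ruRk` with respect to `bet`. -/
def rkT (t : RuVec) : RuVec := fun p =>
  match p.2 with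
  | 0 => gI * t (p.1, 2)
  | 1 => t (p.1, 3)
  | 2 => gI * t (p.1, 0)
  | 3 => -t (p.1, 1)

/-- Transpose of `ruShift` with respect to `bet`. -/
def shT (t : RuVec) : RuVec := fun p => t (p.1 - 1, p.2)

theorem rjT_0 (x : RuVec) (n : Fin 7) : rjT x (n, 0) = gI * x (n, 1) := rfl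
theorem rjT_1 (x : RuVec) (n : Fin 7) : rjT x (n, 1) = gI * x (n, 0) := rfl
theorem rjT_2 (x : RuVec) (n : Fin 7) : rjT x (n, 2) = -x (n, 3) := rfl
theorem rjT_3 (x : RuVec) (n : Fin 7) : rjT x (n, 3) = x (n, 2) := rfl
theorem rkT_0 (x : RuVec) (n : Fin 7) : rkT x (n, 0) = gI * x (n, 2) := rfl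
theorem rkT_1 (x : RuVec) (n : Fin 7) : rkT x (n, 1) = x (n, 3) := rfl
theorem rkT_2 (x : RuVec) (n : Fin 7) : rkT x (n, 2) = gI * x (n, 0) := rfl
theorem rkT_3 (x : RuVec) (n : Fin 7) : rkT x (n, 3) = -x (n, 1) := rfl

theorem bet_rj (x t : RuVec) : bet (ruRj x) t = bet x (rjT t) := by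
  simp only [bet, Fintype.sum_prod_type, Fin.sum_univ_four]
  refine Finset.sum_congr rfl (fun n _ => ?_)
  simp only [ruRj_0, ruRj_1, ruRj_2, ruRj_3, rjT_0, rjT_1, rjT_2, rjT_3]
  ring

theorem bet_rk (x t : RuVec) : bet (ruRk x) t = bet x (rkT t) := by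
  simp only [bet, Fintype.sum_prod_type, Fin.sum_univ_four]
  refine Finset.sum_congr rfl (fun n _ => ?_)
  simp only [ruRk_0, ruRk_1, ruRk_2, ruRk_3, rkT_0, rkT_1, rkT_2, rkT_3]
  ring

theorem bet_sign (x t : RuVec) : bet (ruSign x) t = bet x (ruSign t) := by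
  simp only [bet]
  refine Finset.sum_congr rfl (fun p _ => ?_)
  simp only [ruSign]
  split_ifs <;> ring

theorem bet_shift (x t : RuVec) : bet (ruShift x) t = bet x (shT t) := by
  simp only [bet, ruShift, shT]
  refine Fintype.sum_equiv ((Equiv.addRight (1 : Fin 7)).prodCongr (Equiv.refl (Fin 4))) _ _ (fun p => ?_)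
  simp only [Equiv.prodCongr_apply, Equiv.coe_addRight, Equiv.coe_refl, Prod.map_fst, Prod.map_snd, id_eq,
    add_sub_cancel_right]
  rfl

theorem bet_gI (x t : RuVec) : bet (gI • x) t = gI * bet x t := bet_smul_left gI x t

def cARj : Fin 19 → Fin 19 → GaussianInt := ![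
  ![⟨0, 0⟩, ⟨-1, 0⟩, ⟨0, 1⟩, ⟨0, 0⟩, ⟨0, 0⟩, ⟨0, 1⟩, ⟨1, 0⟩, ⟨0, 0⟩, ⟨0, 1⟩, ⟨1, -1⟩, ⟨1, 1⟩, ⟨0, 1⟩, ⟨1, 1⟩, ⟨1, 1⟩, ⟨1, 0⟩, ⟨0, 1⟩, ⟨0, 0⟩, ⟨1, 0⟩, ⟨0, 1⟩],
  ![⟨0, 0⟩, ⟨2, 1⟩, ⟨0, 0⟩, ⟨0, 0⟩, ⟨0, 0⟩, ⟨1, 0⟩, ⟨1, 0⟩, ⟨1, 0⟩, ⟨0, 0⟩, ⟨1, 1⟩, ⟨0, 1⟩, ⟨1, 1⟩, ⟨1, 1⟩, ⟨0, 0⟩, ⟨0, 0⟩, ⟨1, 1⟩, ⟨1, 0⟩, ⟨1, 1⟩, ⟨0, 1⟩],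
  ![⟨0, 1⟩, ⟨1, 0⟩, ⟨0, 0⟩, ⟨0, 0⟩, ⟨0, 0⟩, ⟨1, 1⟩, ⟨1, 1⟩, ⟨1, 0⟩, ⟨0, 1⟩, ⟨1, 1⟩, ⟨0, 0⟩, ⟨0, 1⟩, ⟨0, 1⟩, ⟨0, 0⟩, ⟨0, 1⟩, ⟨0, 0⟩, ⟨0, 0⟩, ⟨1, 0⟩, ⟨0, 0⟩],
  ![⟨0, 0⟩, ⟨1, 1⟩, ⟨0, 0⟩, ⟨0, 0⟩, ⟨0, 1⟩, ⟨1, 0⟩, ⟨1, 1⟩, ⟨1, 1⟩, ⟨1, 0⟩, ⟨1, -1⟩, ⟨0, 0⟩, ⟨1, 1⟩, ⟨0, 1⟩, ⟨0, 1⟩, ⟨1, 1⟩, ⟨0, 0⟩, ⟨0, 1⟩, ⟨0, 0⟩, ⟨0, 1⟩],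
  ![⟨0, 0⟩, ⟨1, 1⟩, ⟨0, 0⟩, ⟨0, 1⟩, ⟨0, 0⟩, ⟨0, 1⟩, ⟨0, 0⟩, ⟨0, 0⟩, ⟨0, 1⟩, ⟨0, 0⟩, ⟨1, 0⟩, ⟨1, 0⟩, ⟨0, 1⟩, ⟨0, 1⟩, ⟨1, 0⟩, ⟨0, 1⟩, ⟨0, 0⟩, ⟨0, 1⟩, ⟨0, 0⟩],
  ![⟨0, 0⟩, ⟨0, 0⟩, ⟨0, 0⟩, ⟨0, 0⟩, ⟨0, 0⟩, ⟨0, 1⟩, ⟨0, 0⟩, ⟨1, 1⟩, ⟨0, 0⟩, ⟨1, -1⟩, ⟨1, 1⟩, ⟨1, 1⟩, ⟨0, 0⟩, ⟨0, 1⟩, ⟨1, 1⟩, ⟨0, 1⟩, ⟨0, 1⟩, ⟨1, 1⟩, ⟨0, 0⟩],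
  ![⟨0, 0⟩, ⟨2, 0⟩, ⟨0, 0⟩, ⟨0, 0⟩, ⟨0, 0⟩, ⟨1, 1⟩, ⟨0, 1⟩, ⟨1, 1⟩, ⟨1, 1⟩, ⟨0, 0⟩, ⟨0, 0⟩, ⟨0, 1⟩, ⟨1, 0⟩, ⟨0, 0⟩, ⟨0, 1⟩, ⟨0, 0⟩, ⟨0, 0⟩, ⟨0, 1⟩, ⟨0, 1⟩],
  ![⟨0, 0⟩, ⟨2, 0⟩, ⟨0, 0⟩, ⟨0, 0⟩, ⟨0, 0⟩, ⟨1, 1⟩, ⟨0, 0⟩, ⟨0, 1⟩, ⟨1, 1⟩, ⟨0, 2⟩, ⟨1, 1⟩, ⟨0, 1⟩, ⟨1, 0⟩, ⟨0, 1⟩, ⟨1, 0⟩, ⟨0, 1⟩, ⟨1, 0⟩, ⟨1, 0⟩, ⟨0, 0⟩],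
  ![⟨0, 0⟩, ⟨0, 0⟩, ⟨0, 0⟩, ⟨0, 0⟩, ⟨0, 0⟩, ⟨0, 0⟩, ⟨0, 0⟩, ⟨1, 1⟩, ⟨1, 0⟩, ⟨1, -1⟩, ⟨0, 1⟩, ⟨1, 0⟩, ⟨0, 0⟩, ⟨0, 1⟩, ⟨0, 1⟩, ⟨1, 1⟩, ⟨1, 1⟩, ⟨0, 1⟩, ⟨0, 0⟩],
  ![⟨0, 0⟩, ⟨2, 0⟩, ⟨0, 0⟩, ⟨0, 0⟩, ⟨0, 0⟩, ⟨0, 0⟩, ⟨0, 0⟩, ⟨0, 0⟩, ⟨0, 0⟩, ⟨1, 0⟩, ⟨1, 0⟩, ⟨1, 1⟩, ⟨1, 0⟩, ⟨1, 0⟩, ⟨1, 0⟩, ⟨0, 0⟩, ⟨0, 0⟩, ⟨1, 0⟩, ⟨0, 1⟩],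
  ![⟨0, 0⟩, ⟨0, 0⟩, ⟨0, 0⟩, ⟨0, 0⟩, ⟨0, 0⟩, ⟨0, 0⟩, ⟨0, 0⟩, ⟨0, 0⟩, ⟨0, 0⟩, ⟨1, -1⟩, ⟨1, 0⟩, ⟨1, 1⟩, ⟨0, 0⟩, ⟨0, 0⟩, ⟨0, 0⟩, ⟨0, 0⟩, ⟨1, 1⟩, ⟨1, 1⟩, ⟨0, 1⟩],
  ![⟨0, 0⟩, ⟨0, 0⟩, ⟨0, 0⟩, ⟨0, 0⟩, ⟨0, 0⟩, ⟨0, 0⟩, ⟨0, 0⟩, ⟨0, 0⟩, ⟨0, 0⟩, ⟨1, -1⟩, ⟨0, 0⟩, ⟨1, 0⟩, ⟨0, 0⟩, ⟨0, 0⟩, ⟨0, 0⟩, ⟨0, 0⟩, ⟨0, 0⟩, ⟨0, 0⟩, ⟨0, 1⟩],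
  ![⟨0, 0⟩, ⟨0, 0⟩, ⟨0, 0⟩, ⟨0, 0⟩, ⟨0, 0⟩, ⟨0, 0⟩, ⟨2, 0⟩, ⟨0, 0⟩, ⟨0, 0⟩, ⟨1, 1⟩, ⟨0, 0⟩, ⟨1, 1⟩, ⟨0, 1⟩, ⟨1, 1⟩, ⟨1, 1⟩, ⟨1, 1⟩, ⟨1, 1⟩, ⟨1, 1⟩, ⟨0, 1⟩],
  ![⟨0, 0⟩, ⟨0, 0⟩, ⟨0, 0⟩, ⟨0, 0⟩, ⟨0, 0⟩, ⟨2, 0⟩, ⟨0, 0⟩, ⟨0, 0⟩, ⟨0, 0⟩, ⟨0, 2⟩, ⟨1, 1⟩, ⟨0, 0⟩, ⟨0, 0⟩, ⟨0, 1⟩, ⟨1, 1⟩, ⟨0, 0⟩, ⟨1, 1⟩, ⟨0, 0⟩, ⟨0, 0⟩],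
  ![⟨0, 0⟩, ⟨0, 0⟩, ⟨0, 0⟩, ⟨0, 0⟩, ⟨0, 0⟩, ⟨0, 0⟩, ⟨0, 0⟩, ⟨2, 0⟩, ⟨0, 0⟩, ⟨1, -1⟩, ⟨1, 1⟩, ⟨0, 0⟩, ⟨0, 0⟩, ⟨1, 1⟩, ⟨0, 1⟩, ⟨1, 1⟩, ⟨1, 1⟩, ⟨0, 0⟩, ⟨0, 1⟩],
  ![⟨0, 0⟩, ⟨0, 0⟩, ⟨0, 0⟩, ⟨0, 0⟩, ⟨0, 0⟩, ⟨0, 0⟩, ⟨0, 0⟩, ⟨0, 0⟩, ⟨2, 0⟩, ⟨0, 0⟩, ⟨1, 1⟩, ⟨1, 1⟩, ⟨0, 0⟩, ⟨0, 0⟩, ⟨1, 1⟩, ⟨1, 0⟩, ⟨0, 0⟩, ⟨1, 1⟩, ⟨0, 0⟩],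
  ![⟨0, 0⟩, ⟨0, 0⟩, ⟨0, 0⟩, ⟨0, 0⟩, ⟨0, 0⟩, ⟨0, 0⟩, ⟨0, 0⟩, ⟨0, 0⟩, ⟨0, 0⟩, ⟨0, 0⟩, ⟨1, 1⟩, ⟨0, 0⟩, ⟨0, 0⟩, ⟨0, 0⟩, ⟨0, 0⟩, ⟨0, 0⟩, ⟨0, 1⟩, ⟨1, 1⟩, ⟨0, 0⟩],
  ![⟨0, 0⟩, ⟨0, 0⟩, ⟨0, 0⟩, ⟨0, 0⟩, ⟨0, 0⟩, ⟨0, 0⟩, ⟨0, 0⟩, ⟨0, 0⟩, ⟨0, 0⟩, ⟨1, -1⟩, ⟨1, 1⟩, ⟨0, 0⟩, ⟨0, 0⟩, ⟨0, 0⟩, ⟨0, 0⟩, ⟨0, 0⟩, ⟨0, 0⟩, ⟨0, 1⟩, ⟨0, 1⟩],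
  ![⟨0, 0⟩, ⟨2, 2⟩, ⟨0, 0⟩, ⟨0, 0⟩, ⟨0, 0⟩, ⟨0, 0⟩, ⟨0, 0⟩, ⟨0, 0⟩, ⟨0, 0⟩, ⟨0, 0⟩, ⟨1, 1⟩, ⟨0, 0⟩, ⟨1, 1⟩, ⟨1, 1⟩, ⟨1, 1⟩, ⟨0, 0⟩, ⟨0, 0⟩, ⟨1, 1⟩, ⟨0, 1⟩]]
def cWRj : Fin 19 → RuVec := ![
  ruOfArray ![![⟨0, 0⟩, ⟨0, 0⟩, ⟨0, 0⟩, ⟨0, 0⟩], ![⟨0, 0⟩, ⟨0, 0⟩, ⟨0, 0⟩, ⟨2, -3⟩], ![⟨0, 0⟩, ⟨-1, -1⟩, ⟨0, -1⟩, ⟨1, -3⟩], ![⟨0, 0⟩, ⟨0, -1⟩, ⟨0, -1⟩, ⟨1, -5⟩], ![⟨0, 0⟩, ⟨0, -1⟩, ⟨-1, -1⟩, ⟨1, -3⟩], ![⟨0, 0⟩, ⟨0, 0⟩, ⟨0, -3⟩, ⟨1, -4⟩], ![⟨0, 0⟩, ⟨-1, -2⟩, ⟨1, -4⟩, ⟨0, -4⟩]],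
  ruOfArray ![![⟨0, 0⟩, ⟨0, 0⟩, ⟨-1, 0⟩, ⟨-2, -1⟩], ![⟨0, 0⟩, ⟨0, 0⟩, ⟨0, -1⟩, ⟨3, -4⟩], ![⟨0, 0⟩, ⟨-1, 1⟩, ⟨-1, 0⟩, ⟨-1, -4⟩], ![⟨0, 0⟩, ⟨0, 0⟩, ⟨-1, 0⟩, ⟨0, -3⟩], ![⟨0, 0⟩, ⟨-1, 1⟩, ⟨0, 0⟩, ⟨0, -4⟩], ![⟨0, 0⟩, ⟨0, 0⟩, ⟨0, -4⟩, ⟨2, -6⟩], ![⟨-1, 0⟩, ⟨-1, -1⟩, ⟨0, -4⟩, ⟨-2, -4⟩]],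
  ruOfArray ![![⟨0, 0⟩, ⟨0, 0⟩, ⟨0, 0⟩, ⟨-2, -1⟩], ![⟨0, 0⟩, ⟨0, 0⟩, ⟨-1, 0⟩, ⟨2, -2⟩], ![⟨0, 0⟩, ⟨-1, 0⟩, ⟨-1, 0⟩, ⟨-1, -2⟩], ![⟨0, 0⟩, ⟨0, 0⟩, ⟨0, 0⟩, ⟨2, -2⟩], ![⟨0, 0⟩, ⟨-1, 0⟩, ⟨-1, -1⟩, ⟨0, -3⟩], ![⟨0, 0⟩, ⟨-1, 0⟩, ⟨1, -3⟩, ⟨2, -3⟩], ![⟨-1, -1⟩, ⟨0, 0⟩, ⟨1, -2⟩, ⟨0, -4⟩]],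
  ruOfArray ![![⟨0, 0⟩, ⟨0, 0⟩, ⟨0, 0⟩, ⟨-2, -1⟩], ![⟨0, 0⟩, ⟨0, 0⟩, ⟨0, -1⟩, ⟨1, -2⟩], ![⟨0, 0⟩, ⟨-1, 0⟩, ⟨-1, 0⟩, ⟨1, -3⟩], ![⟨0, 0⟩, ⟨0, 0⟩, ⟨0, 0⟩, ⟨0, -5⟩], ![⟨0, 0⟩, ⟨-1, 0⟩, ⟨-1, 0⟩, ⟨2, -2⟩], ![⟨0, 0⟩, ⟨-1, 0⟩, ⟨1, -2⟩, ⟨3, -3⟩], ![⟨-1, 0⟩, ⟨0, -2⟩, ⟨0, -2⟩, ⟨1, -5⟩]],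
  ruOfArray ![![⟨0, 0⟩, ⟨0, 0⟩, ⟨0, 0⟩, ⟨-1, 0⟩], ![⟨0, 0⟩, ⟨0, 0⟩, ⟨0, -1⟩, ⟨2, -2⟩], ![⟨0, 0⟩, ⟨-1, -1⟩, ⟨-1, -1⟩, ⟨1, -3⟩], ![⟨0, 0⟩, ⟨0, 0⟩, ⟨-1, 0⟩, ⟨0, -3⟩], ![⟨0, 0⟩, ⟨0, 0⟩, ⟨-1, -1⟩, ⟨2, -2⟩], ![⟨0, 0⟩, ⟨0, 0⟩, ⟨2, -2⟩, ⟨2, -2⟩], ![⟨0, -1⟩, ⟨-1, -1⟩, ⟨1, -2⟩, ⟨-2, -3⟩]],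
  ruOfArray ![![⟨0, 0⟩, ⟨0, 0⟩, ⟨0, 0⟩, ⟨-1, 0⟩], ![⟨0, 0⟩, ⟨0, 0⟩, ⟨0, -1⟩, ⟨1, -3⟩], ![⟨0, 0⟩, ⟨0, -1⟩, ⟨0, -1⟩, ⟨1, -3⟩], ![⟨0, 0⟩, ⟨0, 0⟩, ⟨0, 0⟩, ⟨0, -4⟩], ![⟨0, 0⟩, ⟨0, 0⟩, ⟨0, -1⟩, ⟨1, -2⟩], ![⟨0, 0⟩, ⟨0, 0⟩, ⟨1, -1⟩, ⟨1, -4⟩], ![⟨0, 0⟩, ⟨-1, -3⟩, ⟨1, -3⟩, ⟨0, -4⟩]],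
  ruOfArray ![![⟨0, 0⟩, ⟨0, 0⟩, ⟨-1, 0⟩, ⟨-1, -1⟩], ![⟨0, 0⟩, ⟨0, 0⟩, ⟨0, 0⟩, ⟨2, -3⟩], ![⟨0, 0⟩, ⟨-1, 0⟩, ⟨-1, 0⟩, ⟨0, -2⟩], ![⟨0, 0⟩, ⟨0, 0⟩, ⟨0, 0⟩, ⟨0, -3⟩], ![⟨0, 0⟩, ⟨-1, 0⟩, ⟨-1, 1⟩, ⟨1, -3⟩], ![⟨0, 0⟩, ⟨-1, 0⟩, ⟨1, -2⟩, ⟨2, -2⟩], ![⟨-1, -1⟩, ⟨1, -1⟩, ⟨0, -2⟩, ⟨1, -3⟩]],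
  ruOfArray ![![⟨0, 0⟩, ⟨0, 0⟩, ⟨-1, 0⟩, ⟨-1, -1⟩], ![⟨0, 0⟩, ⟨0, 0⟩, ⟨0, 0⟩, ⟨3, -4⟩], ![⟨0, 0⟩, ⟨-1, 0⟩, ⟨-1, 0⟩, ⟨-1, -5⟩], ![⟨0, 0⟩, ⟨0, 0⟩, ⟨0, 0⟩, ⟨-1, -4⟩], ![⟨0, 0⟩, ⟨0, 0⟩, ⟨-1, 0⟩, ⟨0, -4⟩], ![⟨0, 0⟩, ⟨0, 0⟩, ⟨0, -3⟩, ⟨2, -5⟩], ![⟨-1, -1⟩, ⟨-1, -1⟩, ⟨0, -3⟩, ⟨-3, -2⟩]],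
  ruOfArray ![![⟨0, 0⟩, ⟨0, 0⟩, ⟨0, 0⟩, ⟨-1, 0⟩], ![⟨0, 0⟩, ⟨0, 0⟩, ⟨0, -1⟩, ⟨0, -3⟩], ![⟨0, 0⟩, ⟨0, 0⟩, ⟨0, 0⟩, ⟨1, -2⟩], ![⟨0, 0⟩, ⟨0, 0⟩, ⟨0, -1⟩, ⟨0, -3⟩], ![⟨0, 0⟩, ⟨0, 0⟩, ⟨0, 0⟩, ⟨1, -2⟩], ![⟨0, 0⟩, ⟨0, 0⟩, ⟨2, -2⟩, ⟨1, -2⟩], ![⟨-1, 0⟩, ⟨1, -3⟩, ⟨1, -2⟩, ⟨0, -3⟩]],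
  ruOfArray ![![⟨0, 0⟩, ⟨0, 0⟩, ⟨-1, 0⟩, ⟨-1, 0⟩], ![⟨0, 0⟩, ⟨0, 0⟩, ⟨0, -1⟩, ⟨1, -3⟩], ![⟨0, 0⟩, ⟨0, 0⟩, ⟨-1, 0⟩, ⟨-2, -3⟩], ![⟨0, 0⟩, ⟨0, 0⟩, ⟨0, 0⟩, ⟨-2, -3⟩], ![⟨0, 0⟩, ⟨0, 0⟩, ⟨-1, 0⟩, ⟨-1, -2⟩], ![⟨0, 0⟩, ⟨0, 0⟩, ⟨-2, -2⟩, ⟨0, -5⟩], ![⟨0, 0⟩, ⟨-2, 0⟩, ⟨-2, -2⟩, ⟨-2, -1⟩]],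
  ruOfArray ![![⟨0, 0⟩, ⟨0, 0⟩, ⟨0, 0⟩, ⟨0, 0⟩], ![⟨0, 0⟩, ⟨0, 0⟩, ⟨0, -1⟩, ⟨0, -2⟩], ![⟨0, 0⟩, ⟨0, 0⟩, ⟨0, -1⟩, ⟨0, -2⟩], ![⟨0, 0⟩, ⟨0, 0⟩, ⟨0, -1⟩, ⟨-1, -2⟩], ![⟨0, 0⟩, ⟨0, 0⟩, ⟨0, -1⟩, ⟨-1, -2⟩], ![⟨0, 0⟩, ⟨0, 0⟩, ⟨0, -1⟩, ⟨0, -3⟩], ![⟨0, 1⟩, ⟨-1, -1⟩, ⟨-1, -3⟩, ⟨0, -2⟩]],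
  ruOfArray ![![⟨0, 0⟩, ⟨0, 0⟩, ⟨0, 0⟩, ⟨0, 0⟩], ![⟨0, 0⟩, ⟨0, 0⟩, ⟨0, -1⟩, ⟨0, -1⟩], ![⟨0, 0⟩, ⟨0, 0⟩, ⟨0, 0⟩, ⟨0, 0⟩], ![⟨0, 0⟩, ⟨0, 0⟩, ⟨0, 0⟩, ⟨0, -1⟩], ![⟨0, 0⟩, ⟨0, 0⟩, ⟨0, 0⟩, ⟨0, 0⟩], ![⟨0, 0⟩, ⟨0, 0⟩, ⟨-1, 0⟩, ⟨-1, -1⟩], ![⟨0, 1⟩, ⟨0, 0⟩, ⟨-1, -1⟩, ⟨1, -1⟩]],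
  ruOfArray ![![⟨0, 0⟩, ⟨0, 0⟩, ⟨0, 0⟩, ⟨-1, -1⟩], ![⟨0, 0⟩, ⟨0, 0⟩, ⟨0, 0⟩, ⟨2, -2⟩], ![⟨0, 0⟩, ⟨0, 0⟩, ⟨0, 0⟩, ⟨1, -5⟩], ![⟨-1, 0⟩, ⟨0, 0⟩, ⟨0, -1⟩, ⟨1, -4⟩], ![⟨0, 0⟩, ⟨0, 0⟩, ⟨0, -1⟩, ⟨0, -3⟩], ![⟨0, 0⟩, ⟨0, 0⟩, ⟨0, -5⟩, ⟨4, -6⟩], ![⟨-1, 0⟩, ⟨-1, -3⟩, ⟨1, -4⟩, ⟨-1, -4⟩]],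
  ruOfArray ![![⟨0, 0⟩, ⟨0, 0⟩, ⟨0, 0⟩, ⟨0, -1⟩], ![⟨0, 0⟩, ⟨0, 0⟩, ⟨0, 0⟩, ⟨0, -2⟩], ![⟨0, 0⟩, ⟨0, 0⟩, ⟨0, -1⟩, ⟨1, -4⟩], ![⟨0, 0⟩, ⟨0, 0⟩, ⟨0, -1⟩, ⟨0, -3⟩], ![⟨-1, 0⟩, ⟨0, 0⟩, ⟨0, 0⟩, ⟨0, -4⟩], ![⟨0, 0⟩, ⟨0, 0⟩, ⟨0, -2⟩, ⟨2, -2⟩], ![⟨-1, 0⟩, ⟨-1, -1⟩, ⟨2, -2⟩, ⟨-2, -2⟩]],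
  ruOfArray ![![⟨0, 0⟩, ⟨0, 0⟩, ⟨0, 0⟩, ⟨-1, 0⟩], ![⟨0, 0⟩, ⟨0, 0⟩, ⟨0, 0⟩, ⟨0, -3⟩], ![⟨-1, 0⟩, ⟨0, 0⟩, ⟨0, -1⟩, ⟨0, -2⟩], ![⟨0, 0⟩, ⟨0, 0⟩, ⟨0, -1⟩, ⟨0, -4⟩], ![⟨0, 0⟩, ⟨0, 0⟩, ⟨0, 0⟩, ⟨1, -3⟩], ![⟨0, 0⟩, ⟨0, 0⟩, ⟨1, -3⟩, ⟨1, -3⟩], ![⟨-1, 1⟩, ⟨0, -2⟩, ⟨1, -3⟩, ⟨0, -3⟩]],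
  ruOfArray ![![⟨0, 0⟩, ⟨0, 0⟩, ⟨0, 0⟩, ⟨0, 0⟩], ![⟨0, 0⟩, ⟨0, 0⟩, ⟨0, -1⟩, ⟨0, -3⟩], ![⟨0, 0⟩, ⟨0, 0⟩, ⟨0, 0⟩, ⟨1, -2⟩], ![⟨0, 0⟩, ⟨0, 0⟩, ⟨0, 0⟩, ⟨-1, -3⟩], ![⟨0, 0⟩, ⟨0, 0⟩, ⟨0, 0⟩, ⟨-1, -2⟩], ![⟨-1, 0⟩, ⟨0, 0⟩, ⟨0, -3⟩, ⟨2, -3⟩], ![⟨-1, 0⟩, ⟨-1, -4⟩, ⟨-1, -3⟩, ⟨-2, -2⟩]],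
  ruOfArray ![![⟨0, 0⟩, ⟨0, 0⟩, ⟨0, 0⟩, ⟨0, 0⟩], ![⟨0, 0⟩, ⟨0, 0⟩, ⟨0, 0⟩, ⟨0, -1⟩], ![⟨0, 0⟩, ⟨0, 0⟩, ⟨0, -1⟩, ⟨1, -2⟩], ![⟨0, 0⟩, ⟨0, 0⟩, ⟨0, 0⟩, ⟨0, -1⟩], ![⟨0, 0⟩, ⟨0, 0⟩, ⟨0, -1⟩, ⟨0, -2⟩], ![⟨0, 0⟩, ⟨0, 0⟩, ⟨1, -1⟩, ⟨1, -1⟩], ![⟨0, 0⟩, ⟨-1, -1⟩, ⟨0, -2⟩, ⟨-1, -1⟩]],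
  ruOfArray ![![⟨0, 0⟩, ⟨0, 0⟩, ⟨0, 0⟩, ⟨0, 0⟩], ![⟨0, 0⟩, ⟨0, 0⟩, ⟨0, 0⟩, ⟨0, -2⟩], ![⟨0, 0⟩, ⟨0, 0⟩, ⟨0, -1⟩, ⟨1, -1⟩], ![⟨0, 0⟩, ⟨0, 0⟩, ⟨0, 0⟩, ⟨0, -2⟩], ![⟨0, 0⟩, ⟨0, 0⟩, ⟨0, 0⟩, ⟨0, -1⟩], ![⟨0, 0⟩, ⟨0, 0⟩, ⟨0, 0⟩, ⟨0, -1⟩], ![⟨0, 1⟩, ⟨0, -1⟩, ⟨0, -2⟩, ⟨1, -1⟩]],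
  ruOfArray ![![⟨0, 0⟩, ⟨0, 0⟩, ⟨-1, -1⟩, ⟨-1, -1⟩], ![⟨0, 0⟩, ⟨0, 0⟩, ⟨-1, -1⟩, ⟨2, -2⟩], ![⟨0, 0⟩, ⟨0, 0⟩, ⟨-1, -1⟩, ⟨1, -5⟩], ![⟨0, 0⟩, ⟨0, 0⟩, ⟨-1, 0⟩, ⟨0, -5⟩], ![⟨0, 0⟩, ⟨0, 0⟩, ⟨-1, -1⟩, ⟨1, -3⟩], ![⟨0, 0⟩, ⟨0, 0⟩, ⟨0, -3⟩, ⟨3, -4⟩], ![⟨0, 0⟩, ⟨-2, -2⟩, ⟨-1, -4⟩, ⟨-2, -3⟩]]]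
def cARk : Fin 19 → Fin 19 → GaussianInt := ![
  ![⟨0, 0⟩, ⟨0, 1⟩, ⟨1, 0⟩, ⟨1, 0⟩, ⟨1, 0⟩, ⟨0, 1⟩, ⟨0, 0⟩, ⟨1, 0⟩, ⟨2, 0⟩, ⟨0, 0⟩, ⟨1, 1⟩, ⟨0, 1⟩, ⟨0, 0⟩, ⟨1, 1⟩, ⟨1, 0⟩, ⟨1, 0⟩, ⟨1, 1⟩, ⟨0, 1⟩, ⟨0, 0⟩],
  ![⟨0, 1⟩, ⟨0, 0⟩, ⟨2, -1⟩, ⟨0, 1⟩, ⟨-1, 2⟩, ⟨1, 1⟩, ⟨1, 0⟩, ⟨1, 1⟩, ⟨0, 0⟩, ⟨0, 2⟩, ⟨1, 1⟩, ⟨1, 1⟩, ⟨1, 1⟩, ⟨0, 1⟩, ⟨1, 1⟩, ⟨0, 1⟩, ⟨0, 1⟩, ⟨1, 1⟩, ⟨0, 1⟩],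
  ![⟨0, 0⟩, ⟨0, 0⟩, ⟨-1, 0⟩, ⟨1, 1⟩, ⟨2, 0⟩, ⟨1, 0⟩, ⟨0, 1⟩, ⟨0, 1⟩, ⟨1, 1⟩, ⟨1, 1⟩, ⟨0, 1⟩, ⟨1, 1⟩, ⟨1, 1⟩, ⟨0, 0⟩, ⟨1, 1⟩, ⟨1, 1⟩, ⟨1, 0⟩, ⟨1, 1⟩, ⟨0, 1⟩],
  ![⟨0, 0⟩, ⟨0, 0⟩, ⟨-1, -1⟩, ⟨0, 0⟩, ⟨-1, 0⟩, ⟨1, 1⟩, ⟨1, 0⟩, ⟨0, 1⟩, ⟨-1, 2⟩, ⟨0, 2⟩, ⟨0, 0⟩, ⟨1, 1⟩, ⟨0, 0⟩, ⟨0, 0⟩, ⟨0, 0⟩, ⟨1, 1⟩, ⟨0, 0⟩, ⟨0, 0⟩, ⟨0, 0⟩],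
  ![⟨0, 0⟩, ⟨0, 0⟩, ⟨-1, -1⟩, ⟨0, 1⟩, ⟨-1, 1⟩, ⟨1, 1⟩, ⟨1, 0⟩, ⟨1, 0⟩, ⟨0, 1⟩, ⟨1, 1⟩, ⟨1, 1⟩, ⟨0, 1⟩, ⟨0, 1⟩, ⟨1, 0⟩, ⟨1, 0⟩, ⟨0, 1⟩, ⟨0, 1⟩, ⟨0, 1⟩, ⟨0, 1⟩],
  ![⟨0, 0⟩, ⟨0, 0⟩, ⟨0, 0⟩, ⟨0, 0⟩, ⟨2, 2⟩, ⟨1, 0⟩, ⟨0, 0⟩, ⟨0, 0⟩, ⟨1, 1⟩, ⟨1, -1⟩, ⟨1, 0⟩, ⟨1, 1⟩, ⟨0, 1⟩, ⟨0, 1⟩, ⟨1, 1⟩, ⟨1, 1⟩, ⟨1, 1⟩, ⟨1, 1⟩, ⟨0, 1⟩],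
  ![⟨0, 0⟩, ⟨0, 0⟩, ⟨2, 0⟩, ⟨1, 1⟩, ⟨-1, -1⟩, ⟨0, 0⟩, ⟨0, 1⟩, ⟨0, 0⟩, ⟨-1, 1⟩, ⟨0, 2⟩, ⟨0, 1⟩, ⟨1, 1⟩, ⟨1, 0⟩, ⟨1, 1⟩, ⟨0, 0⟩, ⟨1, 0⟩, ⟨0, 1⟩, ⟨0, 0⟩, ⟨0, 1⟩],
  ![⟨0, 0⟩, ⟨0, 0⟩, ⟨2, 0⟩, ⟨0, 0⟩, ⟨0, 0⟩, ⟨0, 0⟩, ⟨0, 0⟩, ⟨0, 1⟩, ⟨-1, -1⟩, ⟨1, 1⟩, ⟨0, 0⟩, ⟨1, 1⟩, ⟨1, 1⟩, ⟨1, 0⟩, ⟨0, 0⟩, ⟨1, 0⟩, ⟨0, 1⟩, ⟨1, 1⟩, ⟨0, 0⟩],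
  ![⟨0, 0⟩, ⟨0, 0⟩, ⟨0, 0⟩, ⟨0, 0⟩, ⟨0, 2⟩, ⟨1, 1⟩, ⟨0, 0⟩, ⟨1, 1⟩, ⟨2, -1⟩, ⟨0, 0⟩, ⟨1, 0⟩, ⟨1, 0⟩, ⟨1, 1⟩, ⟨1, 1⟩, ⟨1, 0⟩, ⟨0, 1⟩, ⟨0, 1⟩, ⟨1, 0⟩, ⟨0, 0⟩],
  ![⟨0, 0⟩, ⟨0, 0⟩, ⟨2, 0⟩, ⟨0, 0⟩, ⟨0, 2⟩, ⟨0, 0⟩, ⟨0, 0⟩, ⟨0, 0⟩, ⟨0, 2⟩, ⟨1, 2⟩, ⟨1, 1⟩, ⟨0, 1⟩, ⟨0, 1⟩, ⟨0, 0⟩, ⟨0, 0⟩, ⟨0, 1⟩, ⟨0, 0⟩, ⟨1, 0⟩, ⟨0, 1⟩],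
  ![⟨0, 0⟩, ⟨0, 0⟩, ⟨0, 0⟩, ⟨0, 0⟩, ⟨2, 2⟩, ⟨0, 0⟩, ⟨0, 0⟩, ⟨2, 0⟩, ⟨0, 0⟩, ⟨1, -1⟩, ⟨1, 0⟩, ⟨1, 1⟩, ⟨1, 1⟩, ⟨1, 1⟩, ⟨1, 1⟩, ⟨1, 1⟩, ⟨1, 1⟩, ⟨0, 0⟩, ⟨0, 1⟩],
  ![⟨0, 0⟩, ⟨0, 0⟩, ⟨0, 0⟩, ⟨2, 0⟩, ⟨0, 2⟩, ⟨0, 0⟩, ⟨0, 0⟩, ⟨0, 0⟩, ⟨0, 0⟩, ⟨0, 2⟩, ⟨0, 0⟩, ⟨1, 0⟩, ⟨1, 1⟩, ⟨0, 0⟩, ⟨1, 1⟩, ⟨1, 1⟩, ⟨1, 1⟩, ⟨0, 0⟩, ⟨0, 0⟩],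
  ![⟨0, 0⟩, ⟨0, 0⟩, ⟨0, 0⟩, ⟨0, 0⟩, ⟨0, 0⟩, ⟨0, 0⟩, ⟨0, 0⟩, ⟨0, 0⟩, ⟨2, 2⟩, ⟨1, -1⟩, ⟨0, 0⟩, ⟨0, 0⟩, ⟨1, 0⟩, ⟨1, 1⟩, ⟨0, 0⟩, ⟨0, 0⟩, ⟨0, 0⟩, ⟨0, 0⟩, ⟨0, 1⟩],
  ![⟨0, 0⟩, ⟨0, 0⟩, ⟨0, 0⟩, ⟨0, 0⟩, ⟨0, 0⟩, ⟨0, 0⟩, ⟨0, 0⟩, ⟨0, 0⟩, ⟨2, 0⟩, ⟨0, 0⟩, ⟨1, 1⟩, ⟨0, 0⟩, ⟨1, 1⟩, ⟨1, 0⟩, ⟨0, 0⟩, ⟨0, 0⟩, ⟨0, 0⟩, ⟨1, 1⟩, ⟨0, 0⟩],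
  ![⟨0, 0⟩, ⟨0, 0⟩, ⟨0, 0⟩, ⟨0, 0⟩, ⟨0, 0⟩, ⟨0, 0⟩, ⟨0, 0⟩, ⟨0, 0⟩, ⟨0, 2⟩, ⟨1, -1⟩, ⟨1, 1⟩, ⟨0, 0⟩, ⟨1, 1⟩, ⟨0, 0⟩, ⟨0, 1⟩, ⟨1, 1⟩, ⟨0, 0⟩, ⟨1, 1⟩, ⟨0, 1⟩],
  ![⟨0, 0⟩, ⟨0, 0⟩, ⟨0, 0⟩, ⟨0, 0⟩, ⟨2, 2⟩, ⟨0, 0⟩, ⟨0, 0⟩, ⟨0, 0⟩, ⟨2, 2⟩, ⟨1, -1⟩, ⟨1, 1⟩, ⟨1, 1⟩, ⟨0, 0⟩, ⟨1, 1⟩, ⟨0, 0⟩, ⟨1, 0⟩, ⟨1, 1⟩, ⟨0, 0⟩, ⟨0, 1⟩],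
  ![⟨0, 0⟩, ⟨0, 0⟩, ⟨0, 0⟩, ⟨0, 0⟩, ⟨0, 0⟩, ⟨0, 0⟩, ⟨2, 0⟩, ⟨0, 0⟩, ⟨2, 0⟩, ⟨1, 1⟩, ⟨1, 1⟩, ⟨1, 1⟩, ⟨0, 0⟩, ⟨0, 0⟩, ⟨1, 1⟩, ⟨1, 1⟩, ⟨0, 1⟩, ⟨1, 1⟩, ⟨0, 1⟩],
  ![⟨0, 0⟩, ⟨0, 0⟩, ⟨0, 0⟩, ⟨0, 0⟩, ⟨0, 0⟩, ⟨2, 0⟩, ⟨0, 0⟩, ⟨0, 0⟩, ⟨2, 0⟩, ⟨0, 2⟩, ⟨1, 1⟩, ⟨0, 0⟩, ⟨0, 0⟩, ⟨0, 0⟩, ⟨1, 1⟩, ⟨0, 0⟩, ⟨0, 0⟩, ⟨0, 1⟩, ⟨0, 0⟩],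
  ![⟨0, 0⟩, ⟨0, 0⟩, ⟨2, 2⟩, ⟨0, 0⟩, ⟨2, 2⟩, ⟨0, 0⟩, ⟨0, 0⟩, ⟨0, 0⟩, ⟨0, 0⟩, ⟨0, 0⟩, ⟨0, 0⟩, ⟨1, 1⟩, ⟨1, 1⟩, ⟨0, 0⟩, ⟨0, 0⟩, ⟨1, 1⟩, ⟨0, 0⟩, ⟨1, 1⟩, ⟨0, 1⟩]]
def cWRk : Fin 19 → RuVec := ![
  ruOfArray ![![⟨0, 0⟩, ⟨0, 0⟩, ⟨0, 0⟩, ⟨0, 0⟩], ![⟨0, 0⟩, ⟨0, 0⟩, ⟨0, 0⟩, ⟨1, -3⟩], ![⟨0, 0⟩, ⟨-1, 0⟩, ⟨-1, 0⟩, ⟨1, -4⟩], ![⟨0, 0⟩, ⟨-1, 1⟩, ⟨0, 0⟩, ⟨-2, -5⟩], ![⟨0, 0⟩, ⟨0, 0⟩, ⟨-1, 1⟩, ⟨0, -5⟩], ![⟨-1, 0⟩, ⟨-1, 1⟩, ⟨0, -3⟩, ⟨2, -5⟩], ![⟨-1, 0⟩, ⟨-1, -4⟩, ⟨1, -3⟩, ⟨-2, -3⟩]],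
  ruOfArray ![![⟨0, 0⟩, ⟨0, 0⟩, ⟨0, 0⟩, ⟨-1, -2⟩], ![⟨0, 0⟩, ⟨0, 0⟩, ⟨0, 0⟩, ⟨2, -2⟩], ![⟨0, 0⟩, ⟨0, 0⟩, ⟨-1, -1⟩, ⟨2, -6⟩], ![⟨0, 0⟩, ⟨0, 0⟩, ⟨-1, 0⟩, ⟨4, -5⟩], ![⟨0, 0⟩, ⟨-1, 0⟩, ⟨0, -1⟩, ⟨2, -6⟩], ![⟨0, 0⟩, ⟨-1, 0⟩, ⟨2, -4⟩, ⟨5, -7⟩], ![⟨-1, -1⟩, ⟨-2, -2⟩, ⟨2, -3⟩, ⟨-1, -6⟩]],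
  ruOfArray ![![⟨0, 0⟩, ⟨0, 0⟩, ⟨0, 0⟩, ⟨0, -1⟩], ![⟨0, 0⟩, ⟨0, 0⟩, ⟨0, -1⟩, ⟨3, -4⟩], ![⟨0, 0⟩, ⟨-1, -1⟩, ⟨0, 0⟩, ⟨0, -3⟩], ![⟨0, 0⟩, ⟨0, -1⟩, ⟨0, 0⟩, ⟨0, -4⟩], ![⟨0, 0⟩, ⟨-1, 0⟩, ⟨-1, 0⟩, ⟨-1, -5⟩], ![⟨0, 0⟩, ⟨-1, 0⟩, ⟨0, -5⟩, ⟨3, -7⟩], ![⟨-1, -1⟩, ⟨1, -3⟩, ⟨2, -5⟩, ⟨-1, -5⟩]],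
  ruOfArray ![![⟨0, 0⟩, ⟨0, 0⟩, ⟨0, 0⟩, ⟨-1, -2⟩], ![⟨0, 0⟩, ⟨0, 0⟩, ⟨1, 0⟩, ⟨3, -1⟩], ![⟨0, 0⟩, ⟨-1, -1⟩, ⟨0, -1⟩, ⟨0, -2⟩], ![⟨0, 0⟩, ⟨0, 0⟩, ⟨0, 0⟩, ⟨2, -1⟩], ![⟨0, 0⟩, ⟨0, 0⟩, ⟨0, -1⟩, ⟨1, 0⟩], ![⟨0, 0⟩, ⟨0, 0⟩, ⟨1, -1⟩, ⟨0, -2⟩], ![⟨-1, -1⟩, ⟨0, 0⟩, ⟨1, -2⟩, ⟨0, -3⟩]],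
  ruOfArray ![![⟨0, 0⟩, ⟨0, 0⟩, ⟨0, 0⟩, ⟨-2, -1⟩], ![⟨0, 0⟩, ⟨0, 0⟩, ⟨1, 0⟩, ⟨3, -2⟩], ![⟨0, 0⟩, ⟨-1, -1⟩, ⟨0, -1⟩, ⟨1, -4⟩], ![⟨0, 0⟩, ⟨1, 0⟩, ⟨0, 0⟩, ⟨1, -5⟩], ![⟨0, 0⟩, ⟨0, 0⟩, ⟨0, -1⟩, ⟨2, -4⟩], ![⟨0, 0⟩, ⟨0, 1⟩, ⟨2, -3⟩, ⟨2, -4⟩], ![⟨-1, -1⟩, ⟨-1, -1⟩, ⟨3, -4⟩, ⟨0, -5⟩]],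
  ruOfArray ![![⟨0, 0⟩, ⟨0, 0⟩, ⟨0, 0⟩, ⟨0, 1⟩], ![⟨0, 0⟩, ⟨0, 0⟩, ⟨0, -1⟩, ⟨1, -4⟩], ![⟨0, 0⟩, ⟨0, 0⟩, ⟨-1, 0⟩, ⟨0, -4⟩], ![⟨0, 0⟩, ⟨1, 0⟩, ⟨0, 0⟩, ⟨-1, -6⟩], ![⟨0, 0⟩, ⟨0, 0⟩, ⟨-1, 0⟩, ⟨0, -5⟩], ![⟨0, 0⟩, ⟨0, -1⟩, ⟨1, -3⟩, ⟨3, -5⟩], ![⟨-1, 0⟩, ⟨1, -2⟩, ⟨1, -3⟩, ⟨-1, -5⟩]],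
  ruOfArray ![![⟨0, 0⟩, ⟨0, 0⟩, ⟨0, 0⟩, ⟨1, -2⟩], ![⟨0, 0⟩, ⟨0, 0⟩, ⟨0, 0⟩, ⟨1, -1⟩], ![⟨0, 0⟩, ⟨-1, 0⟩, ⟨0, -1⟩, ⟨2, -2⟩], ![⟨0, 0⟩, ⟨-1, 0⟩, ⟨0, 0⟩, ⟨4, -2⟩], ![⟨0, 0⟩, ⟨0, 0⟩, ⟨0, 0⟩, ⟨1, -4⟩], ![⟨0, 0⟩, ⟨-1, 0⟩, ⟨0, -2⟩, ⟨3, -5⟩], ![⟨-1, -1⟩, ⟨-1, 0⟩, ⟨2, -3⟩, ⟨0, -3⟩]],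
  ruOfArray ![![⟨0, 0⟩, ⟨0, 0⟩, ⟨0, 0⟩, ⟨0, -1⟩], ![⟨0, 0⟩, ⟨0, 0⟩, ⟨0, 0⟩, ⟨-1, -1⟩], ![⟨0, 0⟩, ⟨1, 0⟩, ⟨0, 0⟩, ⟨-1, -3⟩], ![⟨0, 0⟩, ⟨0, 0⟩, ⟨0, 0⟩, ⟨1, -1⟩], ![⟨0, 0⟩, ⟨-1, 0⟩, ⟨1, 0⟩, ⟨-1, -3⟩], ![⟨0, 0⟩, ⟨0, -1⟩, ⟨-1, -2⟩, ⟨1, -6⟩], ![⟨0, 0⟩, ⟨-2, 0⟩, ⟨1, -2⟩, ⟨0, -2⟩]],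
  ruOfArray ![![⟨0, 0⟩, ⟨0, 0⟩, ⟨0, 0⟩, ⟨-1, 0⟩], ![⟨0, 0⟩, ⟨0, 0⟩, ⟨0, -1⟩, ⟨0, -3⟩], ![⟨0, 0⟩, ⟨-1, 0⟩, ⟨-1, 0⟩, ⟨-1, -4⟩], ![⟨0, 0⟩, ⟨1, 0⟩, ⟨0, 0⟩, ⟨-2, -5⟩], ![⟨0, 0⟩, ⟨0, -1⟩, ⟨-1, 0⟩, ⟨1, -4⟩], ![⟨-1, 0⟩, ⟨0, 0⟩, ⟨1, -4⟩, ⟨1, -4⟩], ![⟨-1, 0⟩, ⟨-2, -2⟩, ⟨0, -1⟩, ⟨-2, -3⟩]],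
  ruOfArray ![![⟨0, 0⟩, ⟨0, 0⟩, ⟨0, 0⟩, ⟨0, -1⟩], ![⟨0, 0⟩, ⟨0, 0⟩, ⟨0, 0⟩, ⟨3, -2⟩], ![⟨0, 0⟩, ⟨0, 0⟩, ⟨-1, -1⟩, ⟨0, -3⟩], ![⟨0, 0⟩, ⟨0, 1⟩, ⟨-1, 0⟩, ⟨4, -4⟩], ![⟨0, 0⟩, ⟨0, 0⟩, ⟨-1, -1⟩, ⟨1, -5⟩], ![⟨0, 0⟩, ⟨0, 0⟩, ⟨1, -2⟩, ⟨4, -5⟩], ![⟨-1, -1⟩, ⟨0, 1⟩, ⟨1, -1⟩, ⟨0, -2⟩]],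
  ruOfArray ![![⟨0, 0⟩, ⟨0, 0⟩, ⟨0, 0⟩, ⟨-1, 1⟩], ![⟨0, 0⟩, ⟨0, 0⟩, ⟨0, -1⟩, ⟨1, -3⟩], ![⟨-1, 0⟩, ⟨0, 0⟩, ⟨-1, 0⟩, ⟨-1, -3⟩], ![⟨0, 0⟩, ⟨1, 0⟩, ⟨0, 0⟩, ⟨-1, -6⟩], ![⟨0, 0⟩, ⟨0, 0⟩, ⟨-1, 0⟩, ⟨1, -5⟩], ![⟨0, 0⟩, ⟨0, 0⟩, ⟨0, -4⟩, ⟨1, -6⟩], ![⟨-1, 1⟩, ⟨0, -2⟩, ⟨1, -2⟩, ⟨-1, -5⟩]],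
  ruOfArray ![![⟨0, 0⟩, ⟨0, 0⟩, ⟨0, 0⟩, ⟨0, 0⟩], ![⟨-1, 0⟩, ⟨0, 0⟩, ⟨0, -1⟩, ⟨2, -1⟩], ![⟨0, 0⟩, ⟨0, 0⟩, ⟨-1, 0⟩, ⟨1, -3⟩], ![⟨0, 0⟩, ⟨0, 0⟩, ⟨0, 0⟩, ⟨2, -3⟩], ![⟨0, 0⟩, ⟨0, 0⟩, ⟨-1, 0⟩, ⟨1, -4⟩], ![⟨0, 0⟩, ⟨1, 0⟩, ⟨-1, -5⟩, ⟨3, -5⟩], ![⟨-1, 0⟩, ⟨0, 0⟩, ⟨0, -1⟩, ⟨-2, -2⟩]],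
  ruOfArray ![![⟨0, 0⟩, ⟨0, 0⟩, ⟨0, 0⟩, ⟨0, 0⟩], ![⟨0, 0⟩, ⟨0, 0⟩, ⟨0, 0⟩, ⟨1, -2⟩], ![⟨0, 0⟩, ⟨-1, 0⟩, ⟨-1, 0⟩, ⟨0, -1⟩], ![⟨0, 0⟩, ⟨0, 0⟩, ⟨0, 0⟩, ⟨0, -5⟩], ![⟨0, 0⟩, ⟨1, 0⟩, ⟨-1, 0⟩, ⟨0, -2⟩], ![⟨-1, 0⟩, ⟨0, 1⟩, ⟨1, -1⟩, ⟨0, -1⟩], ![⟨-1, 0⟩, ⟨2, -1⟩, ⟨0, -2⟩, ⟨-1, -1⟩]],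
  ruOfArray ![![⟨0, 0⟩, ⟨0, 0⟩, ⟨0, 0⟩, ⟨0, 0⟩], ![⟨0, 0⟩, ⟨0, 0⟩, ⟨0, 0⟩, ⟨0, -2⟩], ![⟨0, 0⟩, ⟨0, 1⟩, ⟨0, 0⟩, ⟨0, -2⟩], ![⟨0, 0⟩, ⟨1, 0⟩, ⟨0, 0⟩, ⟨-1, -3⟩], ![⟨0, 0⟩, ⟨0, 0⟩, ⟨0, 0⟩, ⟨-1, -4⟩], ![⟨-1, 0⟩, ⟨0, 1⟩, ⟨1, -3⟩, ⟨1, -3⟩], ![⟨-1, 0⟩, ⟨-1, -2⟩, ⟨0, -3⟩, ⟨-3, -1⟩]],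
  ruOfArray ![![⟨0, 0⟩, ⟨0, 0⟩, ⟨0, 0⟩, ⟨0, 0⟩], ![⟨0, 0⟩, ⟨0, 0⟩, ⟨0, 0⟩, ⟨1, -3⟩], ![⟨0, 0⟩, ⟨0, 0⟩, ⟨0, -1⟩, ⟨1, -2⟩], ![⟨0, 0⟩, ⟨1, 0⟩, ⟨0, 0⟩, ⟨2, -4⟩], ![⟨0, 0⟩, ⟨0, 0⟩, ⟨0, -1⟩, ⟨0, -3⟩], ![⟨0, 0⟩, ⟨0, 0⟩, ⟨1, -2⟩, ⟨1, -3⟩], ![⟨0, 0⟩, ⟨2, -1⟩, ⟨1, -4⟩, ⟨-1, -4⟩]],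
  ruOfArray ![![⟨0, 0⟩, ⟨0, 0⟩, ⟨0, 0⟩, ⟨0, 1⟩], ![⟨0, 0⟩, ⟨0, 0⟩, ⟨0, -1⟩, ⟨2, -4⟩], ![⟨0, 0⟩, ⟨-1, 0⟩, ⟨-1, 0⟩, ⟨0, -3⟩], ![⟨0, 0⟩, ⟨0, 0⟩, ⟨0, 0⟩, ⟨-1, -7⟩], ![⟨0, 0⟩, ⟨0, -1⟩, ⟨-2, 0⟩, ⟨1, -5⟩], ![⟨-1, 0⟩, ⟨-1, 0⟩, ⟨1, -2⟩, ⟨2, -5⟩], ![⟨-1, 0⟩, ⟨1, -2⟩, ⟨0, -3⟩, ⟨-1, -4⟩]],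
  ruOfArray ![![⟨0, 0⟩, ⟨0, 0⟩, ⟨0, 0⟩, ⟨-1, -1⟩], ![⟨0, 0⟩, ⟨0, 0⟩, ⟨0, 0⟩, ⟨2, -4⟩], ![⟨0, 0⟩, ⟨0, 1⟩, ⟨0, 0⟩, ⟨2, -4⟩], ![⟨-1, 0⟩, ⟨0, 0⟩, ⟨0, 0⟩, ⟨0, -5⟩], ![⟨0, 0⟩, ⟨0, 1⟩, ⟨0, 0⟩, ⟨-1, -3⟩], ![⟨-1, 0⟩, ⟨0, 1⟩, ⟨0, -4⟩, ⟨3, -6⟩], ![⟨-2, 0⟩, ⟨0, -4⟩, ⟨0, -4⟩, ⟨-2, -4⟩]],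
  ruOfArray ![![⟨0, 0⟩, ⟨0, 0⟩, ⟨0, 0⟩, ⟨0, -1⟩], ![⟨0, 0⟩, ⟨0, 0⟩, ⟨0, 0⟩, ⟨0, -3⟩], ![⟨0, 0⟩, ⟨0, 1⟩, ⟨0, 0⟩, ⟨1, -3⟩], ![⟨0, 0⟩, ⟨0, 0⟩, ⟨0, 0⟩, ⟨-1, -3⟩], ![⟨-1, 0⟩, ⟨0, 0⟩, ⟨0, 1⟩, ⟨-1, -4⟩], ![⟨-1, 0⟩, ⟨0, 1⟩, ⟨0, -2⟩, ⟨2, -2⟩], ![⟨-2, 0⟩, ⟨0, -2⟩, ⟨1, -2⟩, ⟨-3, -2⟩]],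
  ruOfArray ![![⟨0, 0⟩, ⟨0, 0⟩, ⟨0, 0⟩, ⟨1, 1⟩], ![⟨0, 0⟩, ⟨0, 0⟩, ⟨-1, -1⟩, ⟨1, -3⟩], ![⟨0, 0⟩, ⟨0, 1⟩, ⟨-1, 0⟩, ⟨0, -2⟩], ![⟨0, 0⟩, ⟨0, 0⟩, ⟨-1, 0⟩, ⟨1, -2⟩], ![⟨0, 0⟩, ⟨-1, 0⟩, ⟨-1, 0⟩, ⟨1, -5⟩], ![⟨0, 0⟩, ⟨0, -1⟩, ⟨-1, -3⟩, ⟨4, -5⟩], ![⟨0, 0⟩, ⟨0, 0⟩, ⟨0, -1⟩, ⟨0, -3⟩]]]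
def cASign : Fin 19 → Fin 19 → GaussianInt := ![
  ![⟨-1, 0⟩, ⟨0, 0⟩, ⟨0, 0⟩, ⟨0, 0⟩, ⟨0, 0⟩, ⟨0, 0⟩, ⟨0, 0⟩, ⟨0, 0⟩, ⟨0, 0⟩, ⟨0, 0⟩, ⟨1, 0⟩, ⟨1, 0⟩, ⟨0, 0⟩, ⟨0, 1⟩, ⟨0, 0⟩, ⟨0, 0⟩, ⟨0, 0⟩, ⟨0, 1⟩, ⟨0, 0⟩],
  ![⟨0, 0⟩, ⟨-1, 0⟩, ⟨0, 0⟩, ⟨0, 0⟩, ⟨0, 0⟩, ⟨0, 0⟩, ⟨0, 0⟩, ⟨0, 0⟩, ⟨0, 0⟩, ⟨0, 0⟩, ⟨1, 1⟩, ⟨0, 1⟩, ⟨0, 0⟩, ⟨1, 0⟩, ⟨1, 0⟩, ⟨0, 0⟩, ⟨0, 0⟩, ⟨1, 1⟩, ⟨0, 0⟩],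
  ![⟨0, 0⟩, ⟨0, 0⟩, ⟨-1, 0⟩, ⟨0, 0⟩, ⟨0, 0⟩, ⟨0, 0⟩, ⟨0, 0⟩, ⟨0, 0⟩, ⟨0, 0⟩, ⟨0, 0⟩, ⟨0, 1⟩, ⟨1, 1⟩, ⟨0, 0⟩, ⟨1, 1⟩, ⟨1, 0⟩, ⟨0, 0⟩, ⟨0, 0⟩, ⟨1, 0⟩, ⟨0, 0⟩],
  ![⟨0, 0⟩, ⟨0, 0⟩, ⟨0, 0⟩, ⟨1, 0⟩, ⟨0, 0⟩, ⟨0, 0⟩, ⟨0, 0⟩, ⟨0, 0⟩, ⟨0, 0⟩, ⟨1, 1⟩, ⟨0, 0⟩, ⟨0, 0⟩, ⟨1, 1⟩, ⟨0, 0⟩, ⟨0, 0⟩, ⟨1, 0⟩, ⟨1, 0⟩, ⟨0, 0⟩, ⟨0, 0⟩],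
  ![⟨0, 0⟩, ⟨0, 0⟩, ⟨0, 0⟩, ⟨0, 0⟩, ⟨1, 0⟩, ⟨0, 0⟩, ⟨0, 0⟩, ⟨0, 0⟩, ⟨0, 0⟩, ⟨0, 0⟩, ⟨0, 0⟩, ⟨0, 0⟩, ⟨0, 0⟩, ⟨0, 0⟩, ⟨0, 0⟩, ⟨0, 1⟩, ⟨1, 0⟩, ⟨0, 0⟩, ⟨0, 1⟩],
  ![⟨0, 0⟩, ⟨0, 0⟩, ⟨0, 0⟩, ⟨0, 0⟩, ⟨0, 0⟩, ⟨1, 0⟩, ⟨0, 0⟩, ⟨0, 0⟩, ⟨0, 0⟩, ⟨1, 1⟩, ⟨0, 0⟩, ⟨0, 0⟩, ⟨0, 0⟩, ⟨0, 0⟩, ⟨0, 0⟩, ⟨0, 0⟩, ⟨0, 0⟩, ⟨0, 0⟩, ⟨0, 1⟩],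
  ![⟨0, 0⟩, ⟨0, 0⟩, ⟨0, 0⟩, ⟨0, 0⟩, ⟨0, 0⟩, ⟨0, 0⟩, ⟨-1, 0⟩, ⟨0, 0⟩, ⟨0, 0⟩, ⟨0, 0⟩, ⟨0, 0⟩, ⟨1, 1⟩, ⟨0, 0⟩, ⟨1, 1⟩, ⟨1, 1⟩, ⟨0, 0⟩, ⟨0, 0⟩, ⟨0, 0⟩, ⟨0, 0⟩],
  ![⟨0, 0⟩, ⟨0, 0⟩, ⟨0, 0⟩, ⟨0, 0⟩, ⟨0, 0⟩, ⟨0, 0⟩, ⟨0, 0⟩, ⟨1, 0⟩, ⟨0, 0⟩, ⟨1, 1⟩, ⟨0, 0⟩, ⟨0, 0⟩, ⟨0, 0⟩, ⟨0, 0⟩, ⟨0, 0⟩, ⟨1, 1⟩, ⟨0, 0⟩, ⟨0, 0⟩, ⟨0, 1⟩],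
  ![⟨0, 0⟩, ⟨0, 0⟩, ⟨0, 0⟩, ⟨0, 0⟩, ⟨0, 0⟩, ⟨0, 0⟩, ⟨0, 0⟩, ⟨0, 0⟩, ⟨-1, 0⟩, ⟨0, 0⟩, ⟨1, 1⟩, ⟨0, 0⟩, ⟨0, 0⟩, ⟨0, 0⟩, ⟨1, 1⟩, ⟨0, 0⟩, ⟨0, 0⟩, ⟨1, 1⟩, ⟨0, 0⟩],
  ![⟨0, 0⟩, ⟨0, 0⟩, ⟨0, 0⟩, ⟨0, 0⟩, ⟨0, 0⟩, ⟨0, 0⟩, ⟨0, 0⟩, ⟨0, 0⟩, ⟨0, 0⟩, ⟨1, 2⟩, ⟨0, 0⟩, ⟨0, 0⟩, ⟨0, 0⟩, ⟨0, 0⟩, ⟨0, 0⟩, ⟨0, 0⟩, ⟨0, 0⟩, ⟨0, 0⟩, ⟨0, 0⟩],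
  ![⟨0, 0⟩, ⟨0, 0⟩, ⟨0, 0⟩, ⟨0, 0⟩, ⟨0, 0⟩, ⟨0, 0⟩, ⟨0, 0⟩, ⟨0, 0⟩, ⟨0, 0⟩, ⟨0, 0⟩, ⟨1, 0⟩, ⟨0, 0⟩, ⟨0, 0⟩, ⟨0, 0⟩, ⟨0, 0⟩, ⟨0, 0⟩, ⟨0, 0⟩, ⟨0, 0⟩, ⟨0, 0⟩],
  ![⟨0, 0⟩, ⟨0, 0⟩, ⟨0, 0⟩, ⟨0, 0⟩, ⟨0, 0⟩, ⟨0, 0⟩, ⟨0, 0⟩, ⟨0, 0⟩, ⟨0, 0⟩, ⟨0, 0⟩, ⟨0, 0⟩, ⟨1, 0⟩, ⟨0, 0⟩, ⟨0, 0⟩, ⟨0, 0⟩, ⟨0, 0⟩, ⟨0, 0⟩, ⟨0, 0⟩, ⟨0, 0⟩],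
  ![⟨0, 0⟩, ⟨0, 0⟩, ⟨0, 0⟩, ⟨0, 0⟩, ⟨0, 0⟩, ⟨0, 0⟩, ⟨0, 0⟩, ⟨0, 0⟩, ⟨0, 0⟩, ⟨0, 0⟩, ⟨0, 0⟩, ⟨0, 0⟩, ⟨1, 0⟩, ⟨0, 0⟩, ⟨0, 0⟩, ⟨0, 0⟩, ⟨0, 0⟩, ⟨0, 0⟩, ⟨0, 0⟩],
  ![⟨0, 0⟩, ⟨0, 0⟩, ⟨0, 0⟩, ⟨0, 0⟩, ⟨0, 0⟩, ⟨0, 0⟩, ⟨0, 0⟩, ⟨0, 0⟩, ⟨0, 0⟩, ⟨0, 0⟩, ⟨0, 0⟩, ⟨0, 0⟩, ⟨0, 0⟩, ⟨1, 0⟩, ⟨0, 0⟩, ⟨0, 0⟩, ⟨0, 0⟩, ⟨0, 0⟩, ⟨0, 0⟩],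
  ![⟨0, 0⟩, ⟨0, 0⟩, ⟨0, 0⟩, ⟨0, 0⟩, ⟨0, 0⟩, ⟨0, 0⟩, ⟨0, 0⟩, ⟨0, 0⟩, ⟨0, 0⟩, ⟨0, 0⟩, ⟨0, 0⟩, ⟨0, 0⟩, ⟨0, 0⟩, ⟨0, 0⟩, ⟨1, 0⟩, ⟨0, 0⟩, ⟨0, 0⟩, ⟨0, 0⟩, ⟨0, 0⟩],
  ![⟨0, 0⟩, ⟨0, 0⟩, ⟨0, 0⟩, ⟨0, 0⟩, ⟨0, 0⟩, ⟨0, 0⟩, ⟨0, 0⟩, ⟨0, 0⟩, ⟨0, 0⟩, ⟨0, 0⟩, ⟨0, 0⟩, ⟨0, 0⟩, ⟨0, 0⟩, ⟨0, 0⟩, ⟨0, 0⟩, ⟨1, 0⟩, ⟨0, 0⟩, ⟨0, 0⟩, ⟨0, 0⟩],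
  ![⟨0, 0⟩, ⟨0, 0⟩, ⟨0, 0⟩, ⟨0, 0⟩, ⟨0, 0⟩, ⟨0, 0⟩, ⟨0, 0⟩, ⟨0, 0⟩, ⟨0, 0⟩, ⟨0, 0⟩, ⟨0, 0⟩, ⟨0, 0⟩, ⟨0, 0⟩, ⟨0, 0⟩, ⟨0, 0⟩, ⟨0, 0⟩, ⟨1, 0⟩, ⟨0, 0⟩, ⟨0, 0⟩],
  ![⟨0, 0⟩, ⟨0, 0⟩, ⟨0, 0⟩, ⟨0, 0⟩, ⟨0, 0⟩, ⟨0, 0⟩, ⟨0, 0⟩, ⟨0, 0⟩, ⟨0, 0⟩, ⟨0, 0⟩, ⟨0, 0⟩, ⟨0, 0⟩, ⟨0, 0⟩, ⟨0, 0⟩, ⟨0, 0⟩, ⟨0, 0⟩, ⟨0, 0⟩, ⟨1, 0⟩, ⟨0, 0⟩],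
  ![⟨0, 0⟩, ⟨0, 0⟩, ⟨0, 0⟩, ⟨0, 0⟩, ⟨0, 0⟩, ⟨0, 0⟩, ⟨0, 0⟩, ⟨0, 0⟩, ⟨0, 0⟩, ⟨0, 0⟩, ⟨0, 0⟩, ⟨0, 0⟩, ⟨0, 0⟩, ⟨0, 0⟩, ⟨0, 0⟩, ⟨0, 0⟩, ⟨0, 0⟩, ⟨0, 0⟩, ⟨0, 1⟩]]
def cWSign : Fin 19 → RuVec := ![
  ruOfArray ![![⟨0, 0⟩, ⟨0, 0⟩, ⟨0, 0⟩, ⟨0, 0⟩], ![⟨0, 0⟩, ⟨0, 0⟩, ⟨0, -1⟩, ⟨0, -1⟩], ![⟨0, 0⟩, ⟨0, 0⟩, ⟨0, -1⟩, ⟨2, -2⟩], ![⟨0, 0⟩, ⟨0, 0⟩, ⟨0, 0⟩, ⟨0, -1⟩], ![⟨0, 0⟩, ⟨1, 0⟩, ⟨1, 0⟩, ⟨1, -1⟩], ![⟨0, 0⟩, ⟨0, 0⟩, ⟨1, 0⟩, ⟨0, -1⟩], ![⟨0, 0⟩, ⟨-1, -1⟩, ⟨0, -1⟩, ⟨-1, -1⟩]],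
  ruOfArray ![![⟨0, 0⟩, ⟨0, 0⟩, ⟨0, 0⟩, ⟨0, 0⟩], ![⟨0, 0⟩, ⟨0, 0⟩, ⟨1, 0⟩, ⟨0, 0⟩], ![⟨0, 0⟩, ⟨0, -1⟩, ⟨1, -1⟩, ⟨1, -2⟩], ![⟨0, 0⟩, ⟨0, 0⟩, ⟨0, 0⟩, ⟨-1, -2⟩], ![⟨0, 0⟩, ⟨0, -1⟩, ⟨1, -1⟩, ⟨-1, -2⟩], ![⟨0, 0⟩, ⟨0, 0⟩, ⟨0, -1⟩, ⟨1, -3⟩], ![⟨0, 0⟩, ⟨-2, -2⟩, ⟨0, -3⟩, ⟨-1, -2⟩]],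
  ruOfArray ![![⟨0, 0⟩, ⟨0, 0⟩, ⟨0, 0⟩, ⟨0, 0⟩], ![⟨0, 0⟩, ⟨0, 0⟩, ⟨1, -1⟩, ⟨2, -1⟩], ![⟨0, 0⟩, ⟨0, -1⟩, ⟨1, 0⟩, ⟨0, -2⟩], ![⟨0, 0⟩, ⟨0, 0⟩, ⟨0, 0⟩, ⟨0, -2⟩], ![⟨0, 0⟩, ⟨1, -1⟩, ⟨0, -1⟩, ⟨1, 0⟩], ![⟨0, 0⟩, ⟨0, 0⟩, ⟨0, -1⟩, ⟨1, -3⟩], ![⟨0, 0⟩, ⟨-2, -2⟩, ⟨0, -2⟩, ⟨-1, -2⟩]],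
  ruOfArray ![![⟨0, 0⟩, ⟨0, 0⟩, ⟨0, 0⟩, ⟨0, 0⟩], ![⟨0, 0⟩, ⟨0, 0⟩, ⟨0, 0⟩, ⟨0, -1⟩], ![⟨0, 0⟩, ⟨0, 0⟩, ⟨0, 0⟩, ⟨-1, -1⟩], ![⟨0, 0⟩, ⟨0, 0⟩, ⟨0, 0⟩, ⟨1, -1⟩], ![⟨0, 0⟩, ⟨0, 0⟩, ⟨0, 0⟩, ⟨-1, -2⟩], ![⟨0, 0⟩, ⟨0, 0⟩, ⟨-2, -3⟩, ⟨0, -4⟩], ![⟨-1, 0⟩, ⟨0, 0⟩, ⟨0, -2⟩, ⟨-1, 0⟩]],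
  ruOfArray ![![⟨0, 0⟩, ⟨0, 0⟩, ⟨0, 0⟩, ⟨1, 0⟩], ![⟨0, 0⟩, ⟨0, 0⟩, ⟨0, 0⟩, ⟨1, -1⟩], ![⟨0, 0⟩, ⟨0, 0⟩, ⟨0, 0⟩, ⟨0, -1⟩], ![⟨0, 0⟩, ⟨0, 0⟩, ⟨0, 0⟩, ⟨-1, -1⟩], ![⟨0, 0⟩, ⟨0, 0⟩, ⟨0, 0⟩, ⟨0, -1⟩], ![⟨0, 0⟩, ⟨0, 0⟩, ⟨0, -1⟩, ⟨1, -2⟩], ![⟨0, 0⟩, ⟨1, 0⟩, ⟨1, 0⟩, ⟨0, -1⟩]],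
  ruOfArray ![![⟨0, 0⟩, ⟨0, 0⟩, ⟨0, 0⟩, ⟨0, -1⟩], ![⟨0, 0⟩, ⟨0, 0⟩, ⟨0, 0⟩, ⟨1, -1⟩], ![⟨0, 0⟩, ⟨0, 0⟩, ⟨0, 0⟩, ⟨0, -1⟩], ![⟨0, 0⟩, ⟨0, 0⟩, ⟨0, 0⟩, ⟨0, -1⟩], ![⟨0, 0⟩, ⟨0, 0⟩, ⟨0, 0⟩, ⟨0, -1⟩], ![⟨0, 0⟩, ⟨0, 0⟩, ⟨-1, 0⟩, ⟨0, -1⟩], ![⟨-1, 0⟩, ⟨0, 1⟩, ⟨1, -1⟩, ⟨0, -1⟩]],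
  ruOfArray ![![⟨0, 0⟩, ⟨0, 0⟩, ⟨0, 0⟩, ⟨0, 0⟩], ![⟨0, 0⟩, ⟨0, 0⟩, ⟨1, -1⟩, ⟨0, -1⟩], ![⟨0, 0⟩, ⟨1, -1⟩, ⟨0, 0⟩, ⟨0, -1⟩], ![⟨0, 0⟩, ⟨0, 0⟩, ⟨0, 0⟩, ⟨0, -2⟩], ![⟨0, 0⟩, ⟨1, -1⟩, ⟨0, 0⟩, ⟨1, -1⟩], ![⟨0, 0⟩, ⟨0, 0⟩, ⟨0, -1⟩, ⟨1, -2⟩], ![⟨0, 0⟩, ⟨-1, -2⟩, ⟨0, -1⟩, ⟨0, -2⟩]],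
  ruOfArray ![![⟨0, 0⟩, ⟨0, 0⟩, ⟨0, 0⟩, ⟨-1, -1⟩], ![⟨0, 0⟩, ⟨0, 0⟩, ⟨0, 0⟩, ⟨1, -2⟩], ![⟨0, 0⟩, ⟨0, 0⟩, ⟨0, 0⟩, ⟨0, -1⟩], ![⟨0, 0⟩, ⟨0, 0⟩, ⟨0, 0⟩, ⟨1, -1⟩], ![⟨0, 0⟩, ⟨0, 0⟩, ⟨0, 0⟩, ⟨0, -1⟩], ![⟨0, 0⟩, ⟨0, 0⟩, ⟨0, -2⟩, ⟨0, -2⟩], ![⟨-1, 0⟩, ⟨0, 0⟩, ⟨1, 0⟩, ⟨0, -1⟩]],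
  ruOfArray ![![⟨0, 0⟩, ⟨0, 0⟩, ⟨0, 0⟩, ⟨0, 0⟩], ![⟨0, 0⟩, ⟨0, 0⟩, ⟨0, 0⟩, ⟨0, 0⟩], ![⟨0, 0⟩, ⟨1, -1⟩, ⟨1, -1⟩, ⟨1, -2⟩], ![⟨0, 0⟩, ⟨0, 0⟩, ⟨0, 0⟩, ⟨0, -2⟩], ![⟨0, 0⟩, ⟨0, 0⟩, ⟨1, -1⟩, ⟨0, -1⟩], ![⟨0, 0⟩, ⟨0, 0⟩, ⟨0, -1⟩, ⟨1, -2⟩], ![⟨0, 0⟩, ⟨-1, -2⟩, ⟨0, -2⟩, ⟨-1, -2⟩]],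
  ruOfArray ![![⟨0, 0⟩, ⟨0, 0⟩, ⟨0, 0⟩, ⟨-1, -1⟩], ![⟨0, 0⟩, ⟨0, 0⟩, ⟨0, 0⟩, ⟨1, 0⟩], ![⟨0, 0⟩, ⟨0, 0⟩, ⟨0, 0⟩, ⟨0, -1⟩], ![⟨0, 0⟩, ⟨0, 0⟩, ⟨0, 0⟩, ⟨1, -1⟩], ![⟨0, 0⟩, ⟨0, 0⟩, ⟨0, 0⟩, ⟨0, -1⟩], ![⟨0, 0⟩, ⟨0, 0⟩, ⟨-1, -1⟩, ⟨0, -2⟩], ![⟨-1, 0⟩, ⟨0, 1⟩, ⟨1, 0⟩, ⟨0, 1⟩]],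
  ruOfArray ![![⟨0, 0⟩, ⟨0, 0⟩, ⟨0, 0⟩, ⟨0, 0⟩], ![⟨0, 0⟩, ⟨0, 0⟩, ⟨0, 0⟩, ⟨0, 0⟩], ![⟨0, 0⟩, ⟨0, 0⟩, ⟨0, 0⟩, ⟨0, 0⟩], ![⟨0, 0⟩, ⟨0, 0⟩, ⟨0, 0⟩, ⟨-1, -1⟩], ![⟨0, 0⟩, ⟨0, 0⟩, ⟨0, 0⟩, ⟨0, 0⟩], ![⟨0, 0⟩, ⟨0, 0⟩, ⟨0, 0⟩, ⟨-1, -1⟩], ![⟨0, 0⟩, ⟨-1, 0⟩, ⟨-1, -1⟩, ⟨-1, 0⟩]],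
  ruOfArray ![![⟨0, 0⟩, ⟨0, 0⟩, ⟨0, 0⟩, ⟨0, 0⟩], ![⟨0, 0⟩, ⟨0, 0⟩, ⟨0, 0⟩, ⟨0, 0⟩], ![⟨0, 0⟩, ⟨0, 0⟩, ⟨0, 0⟩, ⟨0, 0⟩], ![⟨0, 0⟩, ⟨0, 0⟩, ⟨0, 0⟩, ⟨0, 0⟩], ![⟨0, 0⟩, ⟨0, 0⟩, ⟨0, 0⟩, ⟨0, 0⟩], ![⟨0, 0⟩, ⟨0, 0⟩, ⟨0, 0⟩, ⟨-1, -1⟩], ![⟨0, 0⟩, ⟨-1, 0⟩, ⟨-1, 0⟩, ⟨-1, -1⟩]],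
  ruOfArray ![![⟨0, 0⟩, ⟨0, 0⟩, ⟨0, 0⟩, ⟨0, 0⟩], ![⟨0, 0⟩, ⟨0, 0⟩, ⟨0, 0⟩, ⟨0, 0⟩], ![⟨0, 0⟩, ⟨0, 0⟩, ⟨0, 0⟩, ⟨0, 0⟩], ![⟨0, 0⟩, ⟨0, -1⟩, ⟨0, 0⟩, ⟨0, -1⟩], ![⟨0, 0⟩, ⟨0, 0⟩, ⟨0, 0⟩, ⟨0, 0⟩], ![⟨0, 0⟩, ⟨0, 0⟩, ⟨-1, -1⟩, ⟨-1, -1⟩], ![⟨0, 0⟩, ⟨0, 0⟩, ⟨0, -1⟩, ⟨-1, 0⟩]],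
  ruOfArray ![![⟨0, 0⟩, ⟨0, 0⟩, ⟨0, 0⟩, ⟨0, 0⟩], ![⟨0, 0⟩, ⟨0, 0⟩, ⟨0, 0⟩, ⟨0, 0⟩], ![⟨0, 0⟩, ⟨0, 0⟩, ⟨0, 0⟩, ⟨0, 0⟩], ![⟨0, 0⟩, ⟨0, 0⟩, ⟨0, 0⟩, ⟨-1, -1⟩], ![⟨0, 0⟩, ⟨0, 0⟩, ⟨0, 0⟩, ⟨0, 0⟩], ![⟨0, 0⟩, ⟨0, 0⟩, ⟨0, -1⟩, ⟨0, -1⟩], ![⟨0, 0⟩, ⟨-1, 0⟩, ⟨0, -1⟩, ⟨0, 0⟩]],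
  ruOfArray ![![⟨0, 0⟩, ⟨0, 0⟩, ⟨0, 0⟩, ⟨0, 0⟩], ![⟨0, 0⟩, ⟨0, 0⟩, ⟨0, 0⟩, ⟨0, 0⟩], ![⟨0, 0⟩, ⟨0, 0⟩, ⟨0, 0⟩, ⟨0, 0⟩], ![⟨0, 0⟩, ⟨0, 0⟩, ⟨0, 0⟩, ⟨-1, -1⟩], ![⟨0, 0⟩, ⟨0, 0⟩, ⟨0, 0⟩, ⟨0, 0⟩], ![⟨0, 0⟩, ⟨0, 0⟩, ⟨-1, 0⟩, ⟨0, -1⟩], ![⟨0, 0⟩, ⟨-1, -1⟩, ⟨0, 0⟩, ⟨-1, -1⟩]],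
  ruOfArray ![![⟨0, 0⟩, ⟨0, 0⟩, ⟨0, 0⟩, ⟨0, 0⟩], ![⟨0, 0⟩, ⟨0, 0⟩, ⟨0, 0⟩, ⟨0, 0⟩], ![⟨0, 0⟩, ⟨0, 0⟩, ⟨0, 0⟩, ⟨0, 0⟩], ![⟨0, 0⟩, ⟨0, 0⟩, ⟨0, 0⟩, ⟨0, 0⟩], ![⟨0, 0⟩, ⟨0, 0⟩, ⟨0, 0⟩, ⟨0, 0⟩], ![⟨0, 0⟩, ⟨0, -1⟩, ⟨-1, -1⟩, ⟨0, -1⟩], ![⟨0, 0⟩, ⟨0, -1⟩, ⟨0, -1⟩, ⟨0, 0⟩]],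
  ruOfArray ![![⟨0, 0⟩, ⟨0, 0⟩, ⟨0, 0⟩, ⟨0, 0⟩], ![⟨0, 0⟩, ⟨0, 0⟩, ⟨0, 0⟩, ⟨0, 0⟩], ![⟨0, 0⟩, ⟨0, 0⟩, ⟨0, 0⟩, ⟨0, 0⟩], ![⟨0, 0⟩, ⟨0, 0⟩, ⟨0, -1⟩, ⟨-1, 0⟩], ![⟨0, 0⟩, ⟨0, 0⟩, ⟨0, 0⟩, ⟨0, 0⟩], ![⟨0, 0⟩, ⟨0, 0⟩, ⟨0, -1⟩, ⟨0, -1⟩], ![⟨0, 0⟩, ⟨0, 0⟩, ⟨0, -1⟩, ⟨-1, 0⟩]],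
  ruOfArray ![![⟨0, 0⟩, ⟨0, 0⟩, ⟨0, 0⟩, ⟨0, 0⟩], ![⟨0, 0⟩, ⟨0, 0⟩, ⟨0, 0⟩, ⟨0, 0⟩], ![⟨0, 0⟩, ⟨0, 0⟩, ⟨0, 0⟩, ⟨0, 0⟩], ![⟨0, 0⟩, ⟨0, 0⟩, ⟨0, 0⟩, ⟨0, 0⟩], ![⟨0, 0⟩, ⟨0, 0⟩, ⟨0, 0⟩, ⟨0, 0⟩], ![⟨0, 0⟩, ⟨0, 0⟩, ⟨0, -1⟩, ⟨0, -1⟩], ![⟨0, 0⟩, ⟨-1, 0⟩, ⟨-1, -1⟩, ⟨-1, 0⟩]],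
  ruOfArray ![![⟨0, 0⟩, ⟨0, 0⟩, ⟨0, 0⟩, ⟨0, -1⟩], ![⟨0, 0⟩, ⟨0, 0⟩, ⟨0, 0⟩, ⟨1, 0⟩], ![⟨0, 0⟩, ⟨0, 0⟩, ⟨0, 0⟩, ⟨1, 0⟩], ![⟨0, 0⟩, ⟨0, 0⟩, ⟨0, 0⟩, ⟨0, -1⟩], ![⟨0, 0⟩, ⟨0, 0⟩, ⟨0, 0⟩, ⟨1, 0⟩], ![⟨0, 0⟩, ⟨0, 0⟩, ⟨0, 0⟩, ⟨0, -1⟩], ![⟨0, 0⟩, ⟨0, 0⟩, ⟨0, 0⟩, ⟨0, -1⟩]]]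
def cAShift : Fin 19 → Fin 19 → GaussianInt := ![
  ![⟨1, 0⟩, ⟨1, 0⟩, ⟨0, -1⟩, ⟨1, 0⟩, ⟨0, 0⟩, ⟨0, 0⟩, ⟨0, 0⟩, ⟨0, 0⟩, ⟨0, 0⟩, ⟨1, 1⟩, ⟨1, 1⟩, ⟨1, 0⟩, ⟨0, 0⟩, ⟨1, 0⟩, ⟨1, 0⟩, ⟨1, 0⟩, ⟨1, 0⟩, ⟨1, 1⟩, ⟨0, 1⟩],
  ![⟨0, 0⟩, ⟨2, -1⟩, ⟨0, -1⟩, ⟨0, 0⟩, ⟨0, 0⟩, ⟨0, 0⟩, ⟨0, 0⟩, ⟨0, 0⟩, ⟨0, 0⟩, ⟨0, 0⟩, ⟨0, 0⟩, ⟨1, 0⟩, ⟨1, 1⟩, ⟨1, 1⟩, ⟨1, 1⟩, ⟨0, 0⟩, ⟨1, 1⟩, ⟨1, 0⟩, ⟨0, 1⟩],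
  ![⟨0, 0⟩, ⟨0, -1⟩, ⟨0, -1⟩, ⟨0, 0⟩, ⟨1, 0⟩, ⟨0, 0⟩, ⟨0, 0⟩, ⟨0, 0⟩, ⟨0, 0⟩, ⟨0, 0⟩, ⟨1, 1⟩, ⟨1, 0⟩, ⟨0, 1⟩, ⟨0, 1⟩, ⟨0, 1⟩, ⟨0, 0⟩, ⟨1, 1⟩, ⟨1, 1⟩, ⟨0, 1⟩],
  ![⟨1, 0⟩, ⟨2, 1⟩, ⟨0, 0⟩, ⟨0, 0⟩, ⟨0, 0⟩, ⟨0, 0⟩, ⟨0, 0⟩, ⟨1, 0⟩, ⟨0, 0⟩, ⟨1, 1⟩, ⟨1, 0⟩, ⟨0, 1⟩, ⟨1, 0⟩, ⟨1, 1⟩, ⟨1, 1⟩, ⟨0, 1⟩, ⟨1, 0⟩, ⟨0, 0⟩, ⟨0, 1⟩],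
  ![⟨0, 0⟩, ⟨-1, -1⟩, ⟨-1, 0⟩, ⟨0, 0⟩, ⟨0, 0⟩, ⟨0, 0⟩, ⟨0, 0⟩, ⟨0, 0⟩, ⟨0, 0⟩, ⟨0, 0⟩, ⟨0, 0⟩, ⟨0, 1⟩, ⟨1, 1⟩, ⟨1, 1⟩, ⟨1, 1⟩, ⟨0, 1⟩, ⟨1, 1⟩, ⟨1, 1⟩, ⟨0, 1⟩],
  ![⟨1, 0⟩, ⟨-1, 2⟩, ⟨0, -1⟩, ⟨0, 0⟩, ⟨0, 0⟩, ⟨0, 0⟩, ⟨0, 0⟩, ⟨0, 0⟩, ⟨1, 0⟩, ⟨1, 1⟩, ⟨0, 1⟩, ⟨0, 1⟩, ⟨0, 0⟩, ⟨0, 1⟩, ⟨0, 1⟩, ⟨1, 0⟩, ⟨0, 1⟩, ⟨1, 1⟩, ⟨0, 1⟩],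
  ![⟨1, 0⟩, ⟨1, 2⟩, ⟨0, 1⟩, ⟨0, 0⟩, ⟨0, 0⟩, ⟨1, 0⟩, ⟨0, 0⟩, ⟨0, 0⟩, ⟨0, 0⟩, ⟨1, 1⟩, ⟨1, 1⟩, ⟨1, 1⟩, ⟨0, 1⟩, ⟨0, 0⟩, ⟨1, 0⟩, ⟨1, 0⟩, ⟨0, 1⟩, ⟨0, 0⟩, ⟨0, 1⟩],
  ![⟨1, 0⟩, ⟨0, -1⟩, ⟨1, 0⟩, ⟨0, 0⟩, ⟨0, 0⟩, ⟨0, 0⟩, ⟨1, 0⟩, ⟨0, 0⟩, ⟨0, 0⟩, ⟨1, 1⟩, ⟨1, 0⟩, ⟨0, 1⟩, ⟨1, 0⟩, ⟨1, 1⟩, ⟨1, 0⟩, ⟨0, 1⟩, ⟨0, 0⟩, ⟨1, 0⟩, ⟨0, 1⟩],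
  ![⟨1, 0⟩, ⟨1, 0⟩, ⟨-1, 2⟩, ⟨0, 0⟩, ⟨0, 0⟩, ⟨0, 0⟩, ⟨0, 0⟩, ⟨0, 0⟩, ⟨0, 0⟩, ⟨0, 0⟩, ⟨0, 0⟩, ⟨1, 1⟩, ⟨1, 0⟩, ⟨1, 1⟩, ⟨0, 1⟩, ⟨1, 0⟩, ⟨1, 1⟩, ⟨0, 0⟩, ⟨0, 1⟩],
  ![⟨1, -1⟩, ⟨-1, 1⟩, ⟨-1, -1⟩, ⟨0, 0⟩, ⟨0, 0⟩, ⟨0, 0⟩, ⟨0, 0⟩, ⟨0, 0⟩, ⟨0, 0⟩, ⟨1, 2⟩, ⟨0, 1⟩, ⟨0, 0⟩, ⟨0, 1⟩, ⟨0, 0⟩, ⟨1, 0⟩, ⟨1, 0⟩, ⟨0, 0⟩, ⟨1, 0⟩, ⟨0, 0⟩],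
  ![⟨0, 0⟩, ⟨2, 2⟩, ⟨2, 0⟩, ⟨0, 0⟩, ⟨0, 0⟩, ⟨0, 0⟩, ⟨0, 0⟩, ⟨0, 0⟩, ⟨0, 0⟩, ⟨0, 0⟩, ⟨0, 1⟩, ⟨0, 0⟩, ⟨0, 0⟩, ⟨0, 0⟩, ⟨0, 1⟩, ⟨0, 1⟩, ⟨0, 0⟩, ⟨1, 0⟩, ⟨0, 1⟩],
  ![⟨0, 0⟩, ⟨2, 0⟩, ⟨2, 0⟩, ⟨0, 0⟩, ⟨0, 0⟩, ⟨0, 0⟩, ⟨0, 0⟩, ⟨0, 0⟩, ⟨0, 0⟩, ⟨0, 0⟩, ⟨0, 0⟩, ⟨1, 0⟩, ⟨0, 1⟩, ⟨0, 1⟩, ⟨0, 0⟩, ⟨0, 1⟩, ⟨1, 1⟩, ⟨0, 1⟩, ⟨0, 0⟩],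
  ![⟨0, 0⟩, ⟨0, 2⟩, ⟨0, 0⟩, ⟨0, 0⟩, ⟨0, 0⟩, ⟨0, 0⟩, ⟨0, 0⟩, ⟨0, 0⟩, ⟨0, 0⟩, ⟨0, 0⟩, ⟨1, 1⟩, ⟨1, 0⟩, ⟨0, 1⟩, ⟨1, 1⟩, ⟨0, 1⟩, ⟨0, 0⟩, ⟨0, 1⟩, ⟨1, 1⟩, ⟨0, 0⟩],
  ![⟨0, 0⟩, ⟨0, 2⟩, ⟨2, 0⟩, ⟨0, 0⟩, ⟨0, 0⟩, ⟨0, 0⟩, ⟨0, 0⟩, ⟨0, 0⟩, ⟨0, 0⟩, ⟨0, 0⟩, ⟨1, 0⟩, ⟨0, 1⟩, ⟨1, 0⟩, ⟨1, 0⟩, ⟨1, 1⟩, ⟨1, 1⟩, ⟨0, 0⟩, ⟨0, 1⟩, ⟨0, 0⟩],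
  ![⟨0, 0⟩, ⟨0, 0⟩, ⟨2, 2⟩, ⟨0, 0⟩, ⟨0, 0⟩, ⟨0, 0⟩, ⟨0, 0⟩, ⟨0, 0⟩, ⟨0, 0⟩, ⟨0, 0⟩, ⟨1, 1⟩, ⟨0, 0⟩, ⟨1, 0⟩, ⟨0, 0⟩, ⟨1, 1⟩, ⟨1, 1⟩, ⟨1, 1⟩, ⟨1, 1⟩, ⟨0, 0⟩],
  ![⟨0, 0⟩, ⟨0, 2⟩, ⟨0, 2⟩, ⟨0, 0⟩, ⟨0, 0⟩, ⟨0, 0⟩, ⟨0, 0⟩, ⟨0, 0⟩, ⟨0, 0⟩, ⟨0, 0⟩, ⟨0, 1⟩, ⟨0, 1⟩, ⟨1, 0⟩, ⟨1, 0⟩, ⟨0, 0⟩, ⟨1, 0⟩, ⟨1, 1⟩, ⟨1, 0⟩, ⟨0, 1⟩],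
  ![⟨0, 0⟩, ⟨0, 2⟩, ⟨0, 0⟩, ⟨0, 0⟩, ⟨0, 0⟩, ⟨0, 0⟩, ⟨0, 0⟩, ⟨0, 0⟩, ⟨0, 0⟩, ⟨0, 0⟩, ⟨1, 1⟩, ⟨1, 0⟩, ⟨0, 1⟩, ⟨0, 1⟩, ⟨0, 1⟩, ⟨0, 0⟩, ⟨0, 1⟩, ⟨0, 1⟩, ⟨0, 0⟩],
  ![⟨0, 0⟩, ⟨2, 2⟩, ⟨2, 0⟩, ⟨0, 0⟩, ⟨0, 0⟩, ⟨0, 0⟩, ⟨0, 0⟩, ⟨0, 0⟩, ⟨0, 0⟩, ⟨0, 0⟩, ⟨0, 1⟩, ⟨0, 0⟩, ⟨0, 0⟩, ⟨0, 0⟩, ⟨0, 1⟩, ⟨0, 1⟩, ⟨1, 0⟩, ⟨1, 0⟩, ⟨0, 1⟩],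
  ![⟨0, 0⟩, ⟨0, 0⟩, ⟨0, 0⟩, ⟨0, 0⟩, ⟨0, 0⟩, ⟨0, 0⟩, ⟨0, 0⟩, ⟨0, 0⟩, ⟨0, 0⟩, ⟨0, 0⟩, ⟨0, 0⟩, ⟨0, 0⟩, ⟨0, 0⟩, ⟨0, 0⟩, ⟨0, 0⟩, ⟨0, 0⟩, ⟨0, 0⟩, ⟨0, 0⟩, ⟨0, 1⟩]]
def cWShift : Fin 19 → RuVec := ![
  ruOfArray ![![⟨0, 0⟩, ⟨0, 0⟩, ⟨0, 0⟩, ⟨0, -1⟩], ![⟨0, 0⟩, ⟨0, 0⟩, ⟨0, 0⟩, ⟨1, -3⟩], ![⟨0, 0⟩, ⟨0, 0⟩, ⟨0, 0⟩, ⟨-1, -4⟩], ![⟨0, 0⟩, ⟨0, 1⟩, ⟨0, 0⟩, ⟨0, -4⟩], ![⟨0, 0⟩, ⟨0, 0⟩, ⟨0, 0⟩, ⟨-2, -3⟩], ![⟨0, 0⟩, ⟨0, 0⟩, ⟨-1, -3⟩, ⟨1, -7⟩], ![⟨-1, 0⟩, ⟨-2, -1⟩, ⟨-1, -3⟩, ⟨-3, -1⟩]],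
  ruOfArray ![![⟨0, 0⟩, ⟨0, 0⟩, ⟨0, 0⟩, ⟨0, 0⟩], ![⟨0, 0⟩, ⟨0, 0⟩, ⟨0, 0⟩, ⟨1, -2⟩], ![⟨0, 0⟩, ⟨1, 0⟩, ⟨0, 1⟩, ⟨-1, -3⟩], ![⟨0, 0⟩, ⟨1, 0⟩, ⟨1, 0⟩, ⟨0, -3⟩], ![⟨0, 0⟩, ⟨1, 0⟩, ⟨0, 0⟩, ⟨1, -3⟩], ![⟨0, 0⟩, ⟨0, 0⟩, ⟨1, -3⟩, ⟨1, -5⟩], ![⟨0, 0⟩, ⟨-1, -1⟩, ⟨0, -1⟩, ⟨-2, -2⟩]],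
  ruOfArray ![![⟨0, 0⟩, ⟨0, 0⟩, ⟨0, 0⟩, ⟨1, 0⟩], ![⟨0, 0⟩, ⟨0, 0⟩, ⟨0, 0⟩, ⟨0, -2⟩], ![⟨0, 0⟩, ⟨1, 0⟩, ⟨1, 0⟩, ⟨2, -3⟩], ![⟨0, 0⟩, ⟨1, 0⟩, ⟨1, 0⟩, ⟨1, -3⟩], ![⟨0, 0⟩, ⟨1, 0⟩, ⟨1, 0⟩, ⟨0, -4⟩], ![⟨0, 0⟩, ⟨0, 0⟩, ⟨2, -2⟩, ⟨2, -4⟩], ![⟨0, 0⟩, ⟨0, -2⟩, ⟨2, -2⟩, ⟨-1, -3⟩]],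
  ruOfArray ![![⟨0, 0⟩, ⟨0, 0⟩, ⟨0, 0⟩, ⟨-2, -1⟩], ![⟨0, 0⟩, ⟨0, 0⟩, ⟨0, 0⟩, ⟨2, -3⟩], ![⟨0, 0⟩, ⟨0, 0⟩, ⟨-1, 0⟩, ⟨-2, -4⟩], ![⟨0, 0⟩, ⟨0, 0⟩, ⟨0, 0⟩, ⟨-1, -5⟩], ![⟨0, 0⟩, ⟨0, 0⟩, ⟨-1, 0⟩, ⟨-1, -3⟩], ![⟨0, 0⟩, ⟨0, 0⟩, ⟨0, -4⟩, ⟨2, -5⟩], ![⟨-1, 0⟩, ⟨-1, -1⟩, ⟨0, -2⟩, ⟨-2, -1⟩]],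
  ruOfArray ![![⟨0, 0⟩, ⟨0, 0⟩, ⟨0, 0⟩, ⟨1, 0⟩], ![⟨0, 0⟩, ⟨0, 0⟩, ⟨1, 0⟩, ⟨1, -1⟩], ![⟨0, 0⟩, ⟨1, -1⟩, ⟨1, 0⟩, ⟨1, -3⟩], ![⟨0, 0⟩, ⟨1, -1⟩, ⟨1, -1⟩, ⟨1, -3⟩], ![⟨0, 0⟩, ⟨1, -1⟩, ⟨1, -1⟩, ⟨1, -3⟩], ![⟨0, 0⟩, ⟨1, 0⟩, ⟨2, -4⟩, ⟨3, -3⟩], ![⟨0, 0⟩, ⟨0, -3⟩, ⟨3, -3⟩, ⟨0, -3⟩]],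
  ruOfArray ![![⟨0, 0⟩, ⟨0, 0⟩, ⟨0, 0⟩, ⟨0, -2⟩], ![⟨0, 0⟩, ⟨0, 0⟩, ⟨1, 0⟩, ⟨2, -1⟩], ![⟨0, 0⟩, ⟨0, 0⟩, ⟨0, 0⟩, ⟨3, -3⟩], ![⟨0, 0⟩, ⟨0, 0⟩, ⟨0, 0⟩, ⟨3, -5⟩], ![⟨0, 0⟩, ⟨0, 0⟩, ⟨0, -1⟩, ⟨0, -2⟩], ![⟨0, 0⟩, ⟨0, 0⟩, ⟨1, -3⟩, ⟨4, -3⟩], ![⟨-1, 0⟩, ⟨0, -3⟩, ⟨2, -4⟩, ⟨0, -3⟩]],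
  ruOfArray ![![⟨0, 0⟩, ⟨0, 0⟩, ⟨0, 0⟩, ⟨-1, -1⟩], ![⟨0, 0⟩, ⟨0, 0⟩, ⟨0, -1⟩, ⟨2, -4⟩], ![⟨0, 0⟩, ⟨-1, 0⟩, ⟨0, -1⟩, ⟨0, -4⟩], ![⟨0, 0⟩, ⟨0, 0⟩, ⟨0, 0⟩, ⟨0, -4⟩], ![⟨0, 0⟩, ⟨-1, 0⟩, ⟨-1, 0⟩, ⟨1, -3⟩], ![⟨0, 0⟩, ⟨0, -1⟩, ⟨-1, -2⟩, ⟨3, -5⟩], ![⟨-1, 0⟩, ⟨-2, -1⟩, ⟨0, -3⟩, ⟨-2, -3⟩]],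
  ruOfArray ![![⟨0, 0⟩, ⟨0, 0⟩, ⟨0, 0⟩, ⟨0, 0⟩], ![⟨0, 0⟩, ⟨0, 0⟩, ⟨0, 1⟩, ⟨1, -2⟩], ![⟨0, 0⟩, ⟨0, 0⟩, ⟨0, 0⟩, ⟨-1, -3⟩], ![⟨0, 0⟩, ⟨0, 0⟩, ⟨0, 0⟩, ⟨1, -4⟩], ![⟨0, 0⟩, ⟨0, 0⟩, ⟨0, 0⟩, ⟨-2, -3⟩], ![⟨0, 0⟩, ⟨0, 0⟩, ⟨-1, -3⟩, ⟨1, -6⟩], ![⟨-1, 0⟩, ⟨-1, -1⟩, ⟨0, -2⟩, ⟨-1, -1⟩]],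
  ruOfArray ![![⟨0, 0⟩, ⟨0, 0⟩, ⟨0, 0⟩, ⟨0, 0⟩], ![⟨0, 0⟩, ⟨0, 0⟩, ⟨0, -1⟩, ⟨1, -3⟩], ![⟨0, 0⟩, ⟨0, 0⟩, ⟨0, 0⟩, ⟨0, -2⟩], ![⟨0, 0⟩, ⟨0, -1⟩, ⟨1, -1⟩, ⟨0, -3⟩], ![⟨0, 0⟩, ⟨0, -1⟩, ⟨-1, 0⟩, ⟨2, -2⟩], ![⟨0, 0⟩, ⟨0, -1⟩, ⟨0, -4⟩, ⟨3, -3⟩], ![⟨0, 0⟩, ⟨-1, -2⟩, ⟨-1, -2⟩, ⟨-1, -2⟩]],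
  ruOfArray ![![⟨0, 0⟩, ⟨0, 0⟩, ⟨0, 0⟩, ⟨-1, -2⟩], ![⟨0, 0⟩, ⟨0, 0⟩, ⟨1, 0⟩, ⟨2, 0⟩], ![⟨0, 0⟩, ⟨0, -1⟩, ⟨1, 0⟩, ⟨0, -1⟩], ![⟨0, 0⟩, ⟨1, 0⟩, ⟨0, 0⟩, ⟨2, -3⟩], ![⟨0, 0⟩, ⟨0, 0⟩, ⟨0, -1⟩, ⟨-1, 0⟩], ![⟨0, 0⟩, ⟨0, 0⟩, ⟨-1, -3⟩, ⟨1, -4⟩], ![⟨-1, 0⟩, ⟨-1, -1⟩, ⟨2, -2⟩, ⟨-1, 0⟩]],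
  ruOfArray ![![⟨0, 0⟩, ⟨0, 0⟩, ⟨0, 0⟩, ⟨0, -1⟩], ![⟨0, 0⟩, ⟨0, 0⟩, ⟨-1, 0⟩, ⟨2, -2⟩], ![⟨0, 0⟩, ⟨0, 1⟩, ⟨-1, 0⟩, ⟨1, -2⟩], ![⟨0, 0⟩, ⟨-1, 1⟩, ⟨-1, 1⟩, ⟨1, -2⟩], ![⟨0, 0⟩, ⟨-1, 1⟩, ⟨-1, 0⟩, ⟨1, -1⟩], ![⟨0, 0⟩, ⟨0, 0⟩, ⟨0, -1⟩, ⟨4, -2⟩], ![⟨0, 0⟩, ⟨0, 0⟩, ⟨-1, -1⟩, ⟨0, -1⟩]],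
  ruOfArray ![![⟨0, 0⟩, ⟨0, 0⟩, ⟨0, 0⟩, ⟨0, 1⟩], ![⟨0, 0⟩, ⟨0, 0⟩, ⟨-1, 0⟩, ⟨0, -2⟩], ![⟨0, 0⟩, ⟨0, 1⟩, ⟨-1, 1⟩, ⟨0, -2⟩], ![⟨0, 0⟩, ⟨0, 1⟩, ⟨0, 0⟩, ⟨0, -1⟩], ![⟨0, 0⟩, ⟨0, 1⟩, ⟨0, 1⟩, ⟨1, -3⟩], ![⟨0, 0⟩, ⟨0, 0⟩, ⟨2, -1⟩, ⟨3, -3⟩], ![⟨0, 0⟩, ⟨0, 0⟩, ⟨1, 0⟩, ⟨-1, -1⟩]],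
  ruOfArray ![![⟨0, 0⟩, ⟨0, 0⟩, ⟨0, 0⟩, ⟨0, -1⟩], ![⟨0, 0⟩, ⟨0, 0⟩, ⟨0, -1⟩, ⟨1, -1⟩], ![⟨0, 0⟩, ⟨0, 0⟩, ⟨0, -1⟩, ⟨2, -4⟩], ![⟨0, 0⟩, ⟨0, 0⟩, ⟨0, 0⟩, ⟨1, -4⟩], ![⟨0, 0⟩, ⟨0, 0⟩, ⟨0, -1⟩, ⟨1, -2⟩], ![⟨0, 0⟩, ⟨0, 0⟩, ⟨2, -2⟩, ⟨3, -2⟩], ![⟨0, 0⟩, ⟨-2, -2⟩, ⟨1, -3⟩, ⟨-1, -3⟩]],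
  ruOfArray ![![⟨0, 0⟩, ⟨0, 0⟩, ⟨0, 0⟩, ⟨0, -1⟩], ![⟨0, 0⟩, ⟨0, 0⟩, ⟨0, 0⟩, ⟨0, -1⟩], ![⟨0, 0⟩, ⟨0, 0⟩, ⟨-1, -1⟩, ⟨1, -3⟩], ![⟨0, 0⟩, ⟨-1, 0⟩, ⟨-1, 0⟩, ⟨0, -3⟩], ![⟨0, 0⟩, ⟨-1, 0⟩, ⟨0, 0⟩, ⟨-1, -2⟩], ![⟨0, 0⟩, ⟨0, 0⟩, ⟨-1, -2⟩, ⟨2, -3⟩], ![⟨0, 0⟩, ⟨-1, -2⟩, ⟨0, -3⟩, ⟨-1, -2⟩]],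
  ruOfArray ![![⟨0, 0⟩, ⟨0, 0⟩, ⟨0, 0⟩, ⟨1, 1⟩], ![⟨0, 0⟩, ⟨0, 0⟩, ⟨-1, 0⟩, ⟨-1, -3⟩], ![⟨0, 0⟩, ⟨0, 0⟩, ⟨0, -1⟩, ⟨1, -3⟩], ![⟨0, 0⟩, ⟨-1, 0⟩, ⟨0, -1⟩, ⟨0, -2⟩], ![⟨0, 0⟩, ⟨-1, 0⟩, ⟨0, 0⟩, ⟨0, -4⟩], ![⟨0, 0⟩, ⟨0, -1⟩, ⟨-1, -3⟩, ⟨3, -4⟩], ![⟨0, 0⟩, ⟨-1, -2⟩, ⟨1, -3⟩, ⟨-2, -2⟩]],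
  ruOfArray ![![⟨0, 0⟩, ⟨0, 0⟩, ⟨0, 0⟩, ⟨0, -1⟩], ![⟨0, 0⟩, ⟨0, 0⟩, ⟨0, -1⟩, ⟨2, -2⟩], ![⟨0, 0⟩, ⟨-1, 0⟩, ⟨0, -1⟩, ⟨1, -3⟩], ![⟨0, 0⟩, ⟨-1, -1⟩, ⟨0, -1⟩, ⟨0, -3⟩], ![⟨0, 0⟩, ⟨-1, -1⟩, ⟨-1, -1⟩, ⟨1, -3⟩], ![⟨0, 0⟩, ⟨0, -1⟩, ⟨-1, -3⟩, ⟨3, -3⟩], ![⟨0, 0⟩, ⟨-2, -1⟩, ⟨0, -4⟩, ⟨-1, -2⟩]],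
  ruOfArray ![![⟨0, 0⟩, ⟨0, 0⟩, ⟨0, 0⟩, ⟨0, -1⟩], ![⟨0, 0⟩, ⟨0, 0⟩, ⟨0, -1⟩, ⟨1, -1⟩], ![⟨0, 0⟩, ⟨0, 0⟩, ⟨0, -1⟩, ⟨3, -3⟩], ![⟨0, 0⟩, ⟨0, 0⟩, ⟨0, 0⟩, ⟨2, -3⟩], ![⟨0, 0⟩, ⟨0, 0⟩, ⟨0, 0⟩, ⟨2, -2⟩], ![⟨0, 0⟩, ⟨0, 0⟩, ⟨2, -1⟩, ⟨3, -1⟩], ![⟨0, 0⟩, ⟨-1, -2⟩, ⟨1, -2⟩, ⟨-1, -3⟩]],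
  ruOfArray ![![⟨0, 0⟩, ⟨0, 0⟩, ⟨0, 0⟩, ⟨0, -1⟩], ![⟨0, 0⟩, ⟨0, 0⟩, ⟨-1, 0⟩, ⟨2, -2⟩], ![⟨0, 0⟩, ⟨0, 1⟩, ⟨-1, 0⟩, ⟨0, -3⟩], ![⟨0, 0⟩, ⟨-1, 1⟩, ⟨-1, 0⟩, ⟨1, -2⟩], ![⟨0, 0⟩, ⟨-1, 1⟩, ⟨-1, 0⟩, ⟨0, -2⟩], ![⟨0, 0⟩, ⟨0, 0⟩, ⟨0, -1⟩, ⟨4, -3⟩], ![⟨0, 0⟩, ⟨0, 0⟩, ⟨-1, -1⟩, ⟨-1, -1⟩]],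
  ruOfArray ![![⟨0, 0⟩, ⟨0, 0⟩, ⟨0, 0⟩, ⟨1, 0⟩], ![⟨0, 0⟩, ⟨0, 0⟩, ⟨0, 0⟩, ⟨1, 0⟩], ![⟨0, 0⟩, ⟨0, 0⟩, ⟨0, 0⟩, ⟨1, 0⟩], ![⟨0, 0⟩, ⟨0, 0⟩, ⟨0, 0⟩, ⟨1, 0⟩], ![⟨0, 0⟩, ⟨0, 0⟩, ⟨0, 0⟩, ⟨1, 0⟩], ![⟨0, 0⟩, ⟨0, 0⟩, ⟨0, 0⟩, ⟨1, 0⟩], ![⟨0, 0⟩, ⟨0, 0⟩, ⟨0, 0⟩, ⟨1, 0⟩]]]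

theorem certRj : ∀ (l : Fin 19) (n : Fin 7) (s : Fin 4),
    rjT (TT l) (n, s) = ∑ m, cARj l m * TT m (n, s) + 4 * cWRj l (n, s) := by
  decide +kernel

theorem certRk : ∀ (l : Fin 19) (n : Fin 7) (s : Fin 4),
    rkT (TT l) (n, s) = ∑ m, cARk l m * TT m (n, s) + 4 * cWRk l (n, s) := by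
  decide +kernel

theorem certSign : ∀ (l : Fin 19) (n : Fin 7) (s : Fin 4),
    ruSign (TT l) (n, s) = ∑ m, cASign l m * TT m (n, s) + 4 * cWSign l (n, s) := by
  decide +kernel

theorem certShift : ∀ (l : Fin 19) (n : Fin 7) (s : Fin 4),
    shT (TT l) (n, s) = ∑ m, cAShift l m * TT m (n, s) + 4 * cWShift l (n, s) := by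
  decide +kernel

theorem KK_gI {x : RuVec} (hx : x ∈ KK) : gI • x ∈ KK := by
  intro l
  rw [bet_gI]
  exact Dvd.dvd.mul_left (hx l) _

theorem KK_rj {x : RuVec} (hx : x ∈ KK) : ruRj x ∈ KK := by
  intro l
  rw [bet_rj]
  exact KK_dvd hx _ (cARj l) (cWRj l) (fun p => certRj l p.1 p.2)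

theorem KK_rk {x : RuVec} (hx : x ∈ KK) : ruRk x ∈ KK := by
  intro l
  rw [bet_rk]
  exact KK_dvd hx _ (cARk l) (cWRk l) (fun p => certRk l p.1 p.2)

theorem KK_sign {x : RuVec} (hx : x ∈ KK) : ruSign x ∈ KK := by
  intro l
  rw [bet_sign]
  exact KK_dvd hx _ (cASign l) (cWSign l) (fun p => certSign l p.1 p.2)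

theorem KK_shift {x : RuVec} (hx : x ∈ KK) : ruShift x ∈ KK := by
  intro l
  rw [bet_shift]
  exact KK_dvd hx _ (cAShift l) (cWShift l) (fun p => certShift l p.1 p.2)

theorem table_dvd : ∀ v ∈ ruTable, ∀ l : Fin 19,
    (4 : ℤ) ∣ (bet v (TT l)).re ∧ (4 : ℤ) ∣ (bet v (TT l)).im := by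
  decide +kernel

theorem table_mem_KK : ∀ v ∈ ruTable, v ∈ KK := fun v hv l =>
  (four_dvd_iff _).2 (table_dvd v hv l)

theorem KK_closed : KK ∈ ruClosed :=
  ⟨table_mem_KK, fun _ hv => ⟨KK_gI hv, KK_rj hv, KK_rk hv, KK_sign hv, KK_shift hv⟩⟩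

theorem lattice_le_KK : ruLattice ≤ KK := sInf_le KK_closed

end Cfsg.Agent.Helper93.RuL
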