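import Cfsg.Agent.Helper93.RuBase

set_option autoImplicit false

namespace Cfsg.Agent.Helper93.RuL

open Cfsg Cfsg.Spor

/-- Real part of the Hermitian form. -/
def RR (x y : RuVec) : ℤ := ∑ p : RuIdx, ((x p).re * (y p).re + (x p).im * (y p).im)

theorem ruNorm_eq (x : RuVec) : ruNorm x = RR x x := by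
  simp only [ruNorm, RR]
  refine Finset.sum_congr rfl (fun p _ => ?_)
  rw [Zsqrtd.norm_def]
  ring

theorem RR_add_right (x y z : RuVec) : RR x (y + z) = RR x y + RR x z := by
  simp only [RR, Pi.add_apply, Zsqrtd.re_add, Zsqrtd.im_add, ← Finset.sum_add_distrib]
  exact Finset.sum_congr rfl (fun p _ => by ring)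

theorem RR_neg_right (x y : RuVec) : RR x (-y) = - RR x y := by
  simp only [RR, Pi.neg_apply, Zsqrtd.re_neg, Zsqrtd.im_neg, ← Finset.sum_neg_distrib]
  exact Finset.sum_congr rfl (fun p _ => by ring)

theorem RR_neg_neg (x : RuVec) : RR (-x) (-x) = RR x x := by
  simp only [RR, Pi.neg_apply, Zsqrtd.re_neg, Zsqrtd.im_neg]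
  exact Finset.sum_congr rfl (fun p _ => by ring)

theorem RR_zero_right (x : RuVec) : RR x 0 = 0 := by
  simp only [RR, Pi.zero_apply, Zsqrtd.re_zero, Zsqrtd.im_zero, mul_zero, add_zero, Finset.sum_const_zero]

theorem RR_add_self (x y : RuVec) : RR (x + y) (x + y) = RR x x + RR y y + 2 * RR x y := by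
  simp only [RR, Pi.add_apply, Zsqrtd.re_add, Zsqrtd.im_add, Finset.mul_sum, ← Finset.sum_add_distrib]
  exact Finset.sum_congr rfl (fun p _ => by ring)

/-- The real-part map as an additive homomorphism. -/
def reHom : GaussianInt →+ ℤ where
  toFun := Zsqrtd.re
  map_zero' := rfl
  map_add' := fun _ _ => rfl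

theorem RR_eq_bet (y x : RuVec) : RR y x = (bet y (fun p => star (x p))).re := by
  have h : (bet y (fun p => star (x p))).re = reHom (bet y (fun p => star (x p))) := rfl
  rw [h, bet, map_sum]
  refine Finset.sum_congr rfl (fun p _ => ?_)
  show _ = (y p * star (x p)).re
  rw [Zsqrtd.re_mul, Zsqrtd.re_star, Zsqrtd.im_star]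
  ring

theorem gI_sq : gI * gI = -1 := by decide
theorem gI_four : gI * (gI * (gI * gI)) = 1 := by decide

theorem gI_re (z : GaussianInt) : (gI * z).re = - z.im := by
  rw [Zsqrtd.re_mul]; simp [gI]
theorem gI_im (z : GaussianInt) : (gI * z).im = z.re := by
  rw [Zsqrtd.im_mul]; simp [gI]

theorem RR_gI (y x : RuVec) : RR (gI • y) (gI • x) = RR y x := by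
  simp only [RR, Pi.smul_apply, smul_eq_mul, gI_re, gI_im]
  exact Finset.sum_congr rfl (fun p _ => by ring)

theorem RR_sign (y x : RuVec) : RR (ruSign y) (ruSign x) = RR y x := by
  simp only [RR]
  refine Finset.sum_congr rfl (fun p _ => ?_)
  simp only [ruSign]
  split_ifs
  · simp only [Zsqrtd.re_neg, Zsqrtd.im_neg]; ring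
  · rfl

theorem RR_shift (y x : RuVec) : RR (ruShift y) (ruShift x) = RR y x := by
  simp only [RR, ruShift]
  refine Fintype.sum_equiv ((Equiv.addRight (1 : Fin 7)).prodCongr (Equiv.refl (Fin 4))) _ _ (fun p => ?_)
  rfl

theorem RR_rj (y x : RuVec) : RR (ruRj y) (ruRj x) = RR y x := by
  simp only [RR, Fintype.sum_prod_type, Fin.sum_univ_four]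
  refine Finset.sum_congr rfl (fun n _ => ?_)
  simp only [ruRj_0, ruRj_1, ruRj_2, ruRj_3, gI_re, gI_im, Zsqrtd.re_neg, Zsqrtd.im_neg]
  ring

theorem RR_rk (y x : RuVec) : RR (ruRk y) (ruRk x) = RR y x := by
  simp only [RR, Fintype.sum_prod_type, Fin.sum_univ_four]
  refine Finset.sum_congr rfl (fun n _ => ?_)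
  simp only [ruRk_0, ruRk_1, ruRk_2, ruRk_3, gI_re, gI_im, Zsqrtd.re_neg, Zsqrtd.im_neg]
  ring

theorem pre_gI {y : RuVec} (hy : y ∈ KK) : ∃ y' ∈ KK, gI • y' = y :=
  ⟨gI • gI • gI • y, KK_gI (KK_gI (KK_gI hy)), by
    rw [smul_smul, smul_smul, smul_smul, mul_assoc, mul_assoc, gI_four, one_smul]⟩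

theorem pre_sign {y : RuVec} (hy : y ∈ KK) : ∃ y' ∈ KK, ruSign y' = y :=
  ⟨ruSign y, KK_sign hy, by
    funext p
    simp only [ruSign]
    split_ifs
    · exact neg_neg _
    · rfl⟩

theorem fin7_add : ∀ a : Fin 7, a + 1 + 1 + 1 + 1 + 1 + 1 + 1 = a := by decide

theorem pre_shift {y : RuVec} (hy : y ∈ KK) : ∃ y' ∈ KK, ruShift y' = y :=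
  ⟨ruShift (ruShift (ruShift (ruShift (ruShift (ruShift y))))),
    KK_shift (KK_shift (KK_shift (KK_shift (KK_shift (KK_shift hy))))), by
    funext p
    show y (p.1 + 1 + 1 + 1 + 1 + 1 + 1 + 1, p.2) = y p
    rw [fin7_add]⟩

theorem rj_rj (z : RuVec) : ruRj (ruRj z) = -z := by
  funext p
  obtain ⟨n, s⟩ := p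
  fin_cases s
  · show ruRj (ruRj z) (n, 0) = - z (n, 0)
    rw [ruRj_0, ruRj_1, ← mul_assoc, gI_sq, neg_one_mul]
  · show ruRj (ruRj z) (n, 1) = - z (n, 1)
    rw [ruRj_1, ruRj_0, ← mul_assoc, gI_sq, neg_one_mul]
  · show ruRj (ruRj z) (n, 2) = - z (n, 2)
    rw [ruRj_2, ruRj_3]
  · show ruRj (ruRj z) (n, 3) = - z (n, 3)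
    rw [ruRj_3, ruRj_2]

theorem rk_rk (z : RuVec) : ruRk (ruRk z) = -z := by
  funext p
  obtain ⟨n, s⟩ := p
  fin_cases s
  · show ruRk (ruRk z) (n, 0) = - z (n, 0)
    rw [ruRk_0, ruRk_2, ← mul_assoc, gI_sq, neg_one_mul]
  · show ruRk (ruRk z) (n, 1) = - z (n, 1)
    rw [ruRk_1, ruRk_3]
  · show ruRk (ruRk z) (n, 2) = - z (n, 2)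
    rw [ruRk_2, ruRk_0, ← mul_assoc, gI_sq, neg_one_mul]
  · show ruRk (ruRk z) (n, 3) = - z (n, 3)
    rw [ruRk_3, ruRk_1]

theorem pre_rj {y : RuVec} (hy : y ∈ KK) : ∃ y' ∈ KK, ruRj y' = y :=
  ⟨ruRj (-y), KK_rj (KK.neg_mem hy), by rw [rj_rj, neg_neg]⟩

theorem pre_rk {y : RuVec} (hy : y ∈ KK) : ∃ y' ∈ KK, ruRk y' = y :=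
  ⟨ruRk (-y), KK_rk (KK.neg_mem hy), by rw [rk_rk, neg_neg]⟩

/-- Vectors of the dual whose norm is divisible by 8 and which pair evenly with the dual. -/
def MM : AddSubgroup RuVec where
  carrier := {x | x ∈ KK ∧ (8 : ℤ) ∣ RR x x ∧ ∀ y ∈ KK, (4 : ℤ) ∣ RR y x}
  add_mem' := by
    rintro a b ⟨ha, ha8, had⟩ ⟨hb, hb8, hbd⟩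
    refine ⟨KK.add_mem ha hb, ?_, fun y hy => ?_⟩
    · rw [RR_add_self]
      obtain ⟨k, hk⟩ := hbd a ha
      rw [hk]
      exact dvd_add (dvd_add ha8 hb8) ⟨k, by ring⟩
    · rw [RR_add_right]
      exact dvd_add (had y hy) (hbd y hy)
  zero_mem' := ⟨KK.zero_mem, by rw [RR_zero_right]; exact dvd_zero _,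
    fun y _ => by rw [RR_zero_right]; exact dvd_zero _⟩
  neg_mem' := by
    rintro a ⟨ha, ha8, had⟩
    refine ⟨KK.neg_mem ha, ?_, fun y hy => ?_⟩
    · rw [RR_neg_neg]; exact ha8
    · rw [RR_neg_right]; exact (dvd_neg).2 (had y hy)

theorem MM_map (φ : RuVec → RuVec) (hK : ∀ {x : RuVec}, x ∈ KK → φ x ∈ KK)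
    (hR : ∀ y x : RuVec, RR (φ y) (φ x) = RR y x)
    (hpre : ∀ {y : RuVec}, y ∈ KK → ∃ y' ∈ KK, φ y' = y) {x : RuVec} (hx : x ∈ MM) : φ x ∈ MM := by
  obtain ⟨h1, h2, h3⟩ := hx
  refine ⟨hK h1, ?_, fun y hy => ?_⟩
  · rw [hR]; exact h2
  · obtain ⟨y', hy', rfl⟩ := hpre hy
    rw [hR]; exact h3 y' hy'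

def ctA : Fin 20 → Fin 19 → GaussianInt := ![
  ![⟨0, 0⟩, ⟨0, 0⟩, ⟨0, 0⟩, ⟨0, 0⟩, ⟨0, 0⟩, ⟨0, 0⟩, ⟨0, 0⟩, ⟨0, 0⟩, ⟨0, 0⟩, ⟨0, 0⟩, ⟨0, 0⟩, ⟨0, 0⟩, ⟨0, 0⟩, ⟨0, 0⟩, ⟨0, 0⟩, ⟨0, 0⟩, ⟨0, 0⟩, ⟨0, 0⟩, ⟨0, 0⟩],
  ![⟨0, 1⟩, ⟨1, 0⟩, ⟨1, 0⟩, ⟨0, 0⟩, ⟨0, 0⟩, ⟨0, 0⟩, ⟨1, 0⟩, ⟨0, 0⟩, ⟨1, 0⟩, ⟨0, -1⟩, ⟨1, 0⟩, ⟨1, 0⟩, ⟨1, 1⟩, ⟨1, 1⟩, ⟨0, 1⟩, ⟨0, 1⟩, ⟨0, 1⟩, ⟨1, 1⟩, ⟨0, 1⟩],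
  ![⟨0, 1⟩, ⟨-1, 0⟩, ⟨1, 0⟩, ⟨0, 0⟩, ⟨0, 0⟩, ⟨0, 0⟩, ⟨1, 0⟩, ⟨0, 0⟩, ⟨1, 0⟩, ⟨0, -1⟩, ⟨0, 1⟩, ⟨1, 1⟩, ⟨0, 0⟩, ⟨0, 1⟩, ⟨1, 1⟩, ⟨1, 1⟩, ⟨1, 1⟩, ⟨0, 0⟩, ⟨0, 0⟩],
  ![⟨0, 1⟩, ⟨1, 0⟩, ⟨-1, 0⟩, ⟨0, 0⟩, ⟨0, 0⟩, ⟨0, 0⟩, ⟨1, 0⟩, ⟨0, 0⟩, ⟨1, 0⟩, ⟨0, -1⟩, ⟨1, 1⟩, ⟨0, 1⟩, ⟨0, 0⟩, ⟨0, 0⟩, ⟨1, 1⟩, ⟨1, 0⟩, ⟨1, 0⟩, ⟨0, 1⟩, ⟨0, 1⟩],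
  ![⟨0, 1⟩, ⟨-1, 0⟩, ⟨-1, 0⟩, ⟨0, 0⟩, ⟨0, 0⟩, ⟨0, 0⟩, ⟨1, 0⟩, ⟨0, 0⟩, ⟨1, 0⟩, ⟨0, -1⟩, ⟨0, 0⟩, ⟨0, 0⟩, ⟨1, 1⟩, ⟨1, 0⟩, ⟨0, 1⟩, ⟨0, 0⟩, ⟨0, 0⟩, ⟨1, 0⟩, ⟨0, 0⟩],
  ![⟨1, 0⟩, ⟨1, 0⟩, ⟨1, 0⟩, ⟨1, 0⟩, ⟨0, 0⟩, ⟨1, 0⟩, ⟨0, 0⟩, ⟨1, 0⟩, ⟨0, 0⟩, ⟨0, 0⟩, ⟨1, 0⟩, ⟨1, 1⟩, ⟨0, 1⟩, ⟨0, 0⟩, ⟨0, 0⟩, ⟨1, 0⟩, ⟨1, 1⟩, ⟨0, 0⟩, ⟨0, 1⟩],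
  ![⟨1, 0⟩, ⟨1, 0⟩, ⟨1, 0⟩, ⟨0, 0⟩, ⟨-1, 0⟩, ⟨0, 0⟩, ⟨-1, 0⟩, ⟨0, 0⟩, ⟨-1, 0⟩, ⟨0, 0⟩, ⟨0, 1⟩, ⟨0, 0⟩, ⟨1, 0⟩, ⟨0, 0⟩, ⟨0, 1⟩, ⟨1, 0⟩, ⟨0, 0⟩, ⟨0, 0⟩, ⟨0, 0⟩],
  ![⟨1, 0⟩, ⟨1, 0⟩, ⟨1, 0⟩, ⟨0, 0⟩, ⟨0, -1⟩, ⟨0, 0⟩, ⟨0, -1⟩, ⟨0, 0⟩, ⟨0, -1⟩, ⟨1, 2⟩, ⟨1, 0⟩, ⟨0, 1⟩, ⟨0, 1⟩, ⟨0, 1⟩, ⟨0, 1⟩, ⟨1, 0⟩, ⟨1, 0⟩, ⟨0, 0⟩, ⟨0, 1⟩],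
  ![⟨1, 0⟩, ⟨-1, 0⟩, ⟨1, 0⟩, ⟨0, 0⟩, ⟨1, 0⟩, ⟨0, 1⟩, ⟨-1, 0⟩, ⟨0, 0⟩, ⟨0, 0⟩, ⟨0, 0⟩, ⟨0, 0⟩, ⟨0, 0⟩, ⟨1, 0⟩, ⟨1, 1⟩, ⟨1, 0⟩, ⟨0, 1⟩, ⟨0, 0⟩, ⟨1, 1⟩, ⟨0, 0⟩],
  ![⟨1, 0⟩, ⟨-1, 0⟩, ⟨1, 0⟩, ⟨0, 0⟩, ⟨0, 1⟩, ⟨-1, 0⟩, ⟨0, -1⟩, ⟨0, 0⟩, ⟨0, 0⟩, ⟨1, 2⟩, ⟨0, 1⟩, ⟨1, 0⟩, ⟨1, 0⟩, ⟨0, 0⟩, ⟨0, 1⟩, ⟨0, 0⟩, ⟨0, 1⟩, ⟨1, 0⟩, ⟨0, 1⟩],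
  ![⟨1, 0⟩, ⟨-1, 0⟩, ⟨1, 0⟩, ⟨1, 0⟩, ⟨0, 0⟩, ⟨0, 0⟩, ⟨0, 0⟩, ⟨0, 1⟩, ⟨0, -1⟩, ⟨1, 1⟩, ⟨0, 0⟩, ⟨1, 0⟩, ⟨1, 1⟩, ⟨0, 0⟩, ⟨0, 0⟩, ⟨0, 1⟩, ⟨0, 0⟩, ⟨1, 0⟩, ⟨0, 0⟩],
  ![⟨1, 0⟩, ⟨-1, 0⟩, ⟨1, 0⟩, ⟨0, 1⟩, ⟨0, 0⟩, ⟨0, 0⟩, ⟨0, 0⟩, ⟨1, 0⟩, ⟨1, 0⟩, ⟨1, 0⟩, ⟨0, 1⟩, ⟨1, 0⟩, ⟨0, 1⟩, ⟨1, 0⟩, ⟨0, 1⟩, ⟨1, 0⟩, ⟨1, 1⟩, ⟨0, 1⟩, ⟨0, 0⟩],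
  ![⟨1, 0⟩, ⟨1, 0⟩, ⟨-1, 0⟩, ⟨0, 1⟩, ⟨0, 0⟩, ⟨0, 0⟩, ⟨0, 0⟩, ⟨0, 0⟩, ⟨0, 1⟩, ⟨0, 2⟩, ⟨0, 0⟩, ⟨0, 0⟩, ⟨0, 0⟩, ⟨0, 0⟩, ⟨1, 1⟩, ⟨0, 1⟩, ⟨1, 0⟩, ⟨1, 0⟩, ⟨0, 1⟩],
  ![⟨1, 0⟩, ⟨1, 0⟩, ⟨-1, 0⟩, ⟨-1, 0⟩, ⟨0, 0⟩, ⟨0, 0⟩, ⟨0, 0⟩, ⟨0, 0⟩, ⟨-1, 0⟩, ⟨1, 0⟩, ⟨1, 1⟩, ⟨0, 0⟩, ⟨0, 1⟩, ⟨0, 0⟩, ⟨1, 1⟩, ⟨1, 0⟩, ⟨0, 1⟩, ⟨1, 0⟩, ⟨0, 0⟩],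
  ![⟨1, 0⟩, ⟨1, 0⟩, ⟨-1, 0⟩, ⟨0, 0⟩, ⟨0, -1⟩, ⟨0, 1⟩, ⟨0, -1⟩, ⟨1, 0⟩, ⟨0, 0⟩, ⟨1, 1⟩, ⟨1, 0⟩, ⟨1, 0⟩, ⟨1, 0⟩, ⟨1, 0⟩, ⟨0, 0⟩, ⟨0, 0⟩, ⟨1, 1⟩, ⟨0, 1⟩, ⟨0, 0⟩],
  ![⟨1, 0⟩, ⟨1, 0⟩, ⟨-1, 0⟩, ⟨0, 0⟩, ⟨1, 0⟩, ⟨1, 0⟩, ⟨1, 0⟩, ⟨0, 1⟩, ⟨0, 0⟩, ⟨1, 0⟩, ⟨1, 0⟩, ⟨1, 1⟩, ⟨1, 0⟩, ⟨0, 0⟩, ⟨0, 1⟩, ⟨0, 1⟩, ⟨1, 0⟩, ⟨1, 1⟩, ⟨0, 0⟩],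
  ![⟨1, 0⟩, ⟨-1, 0⟩, ⟨-1, 0⟩, ⟨0, 0⟩, ⟨0, -1⟩, ⟨0, 0⟩, ⟨0, 1⟩, ⟨0, 1⟩, ⟨-1, 0⟩, ⟨1, -1⟩, ⟨1, 0⟩, ⟨0, 1⟩, ⟨1, 0⟩, ⟨0, 1⟩, ⟨0, 0⟩, ⟨1, 1⟩, ⟨1, 1⟩, ⟨1, 1⟩, ⟨0, 0⟩],
  ![⟨1, 0⟩, ⟨-1, 0⟩, ⟨-1, 0⟩, ⟨0, 0⟩, ⟨-1, 0⟩, ⟨0, 0⟩, ⟨-1, 0⟩, ⟨-1, 0⟩, ⟨0, -1⟩, ⟨0, 1⟩, ⟨0, 0⟩, ⟨0, 0⟩, ⟨0, 1⟩, ⟨0, 1⟩, ⟨1, 0⟩, ⟨1, 0⟩, ⟨1, 1⟩, ⟨1, 1⟩, ⟨0, 0⟩],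
  ![⟨1, 0⟩, ⟨-1, 0⟩, ⟨-1, 0⟩, ⟨0, 1⟩, ⟨0, 0⟩, ⟨1, 0⟩, ⟨0, 0⟩, ⟨0, 0⟩, ⟨0, 0⟩, ⟨0, 2⟩, ⟨1, 1⟩, ⟨0, 1⟩, ⟨1, 0⟩, ⟨1, 1⟩, ⟨1, 1⟩, ⟨0, 0⟩, ⟨0, 0⟩, ⟨1, 0⟩, ⟨0, 0⟩],
  ![⟨1, 0⟩, ⟨-1, 0⟩, ⟨-1, 0⟩, ⟨1, 0⟩, ⟨0, 0⟩, ⟨0, 1⟩, ⟨0, 0⟩, ⟨0, 0⟩, ⟨0, 0⟩, ⟨0, -1⟩, ⟨0, 1⟩, ⟨0, 1⟩, ⟨0, 0⟩, ⟨1, 0⟩, ⟨1, 1⟩, ⟨0, 0⟩, ⟨0, 1⟩, ⟨1, 1⟩, ⟨0, 1⟩]]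
def ctW : Fin 20 → RuVec := ![
  ruOfArray ![![⟨1, 0⟩, ⟨0, 0⟩, ⟨0, 0⟩, ⟨0, 0⟩], ![⟨0, 0⟩, ⟨0, 0⟩, ⟨0, 0⟩, ⟨0, 0⟩], ![⟨0, 0⟩, ⟨0, 0⟩, ⟨0, 0⟩, ⟨0, 0⟩], ![⟨0, 0⟩, ⟨0, 0⟩, ⟨0, 0⟩, ⟨0, 0⟩], ![⟨0, 0⟩, ⟨0, 0⟩, ⟨0, 0⟩, ⟨0, 0⟩], ![⟨0, 0⟩, ⟨0, 0⟩, ⟨0, 0⟩, ⟨0, 0⟩], ![⟨0, 0⟩, ⟨0, 0⟩, ⟨0, 0⟩, ⟨0, 0⟩]],
  ruOfArray ![![⟨0, 0⟩, ⟨0, 0⟩, ⟨0, 0⟩, ⟨0, 0⟩], ![⟨0, 0⟩, ⟨0, 0⟩, ⟨-1, 0⟩, ⟨0, -3⟩], ![⟨0, 0⟩, ⟨0, 1⟩, ⟨-1, 0⟩, ⟨1, -4⟩], ![⟨0, 0⟩, ⟨0, 0⟩, ⟨0, 0⟩, ⟨0, -4⟩], ![⟨0, 0⟩, ⟨0, 0⟩, ⟨0, 0⟩, ⟨0, -4⟩], ![⟨0, 0⟩, ⟨0, 0⟩, ⟨2, -3⟩, ⟨3, -4⟩], ![⟨0, 0⟩, ⟨-1, -2⟩, ⟨0, -3⟩, ⟨-2, -4⟩]],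
  ruOfArray ![![⟨0, 0⟩, ⟨0, 0⟩, ⟨0, 0⟩, ⟨0, 0⟩], ![⟨0, 0⟩, ⟨0, 0⟩, ⟨0, 0⟩, ⟨0, -2⟩], ![⟨0, 0⟩, ⟨0, 0⟩, ⟨0, 0⟩, ⟨2, -2⟩], ![⟨0, 0⟩, ⟨-1, 0⟩, ⟨0, -1⟩, ⟨1, -3⟩], ![⟨0, 0⟩, ⟨0, 0⟩, ⟨0, 0⟩, ⟨0, -2⟩], ![⟨0, 0⟩, ⟨0, 0⟩, ⟨1, -2⟩, ⟨3, -3⟩], ![⟨0, 0⟩, ⟨0, -4⟩, ⟨1, -3⟩, ⟨-1, -4⟩]],
  ruOfArray ![![⟨0, 0⟩, ⟨0, 0⟩, ⟨0, 0⟩, ⟨-1, 0⟩], ![⟨0, 0⟩, ⟨0, 0⟩, ⟨0, 0⟩, ⟨1, -3⟩], ![⟨0, 0⟩, ⟨0, 0⟩, ⟨0, 0⟩, ⟨1, -3⟩], ![⟨0, 0⟩, ⟨0, 0⟩, ⟨0, 0⟩, ⟨-1, -3⟩], ![⟨0, 0⟩, ⟨0, 0⟩, ⟨0, 0⟩, ⟨0, -2⟩], ![⟨0, 0⟩, ⟨0, 0⟩, ⟨0, -2⟩, ⟨2, -3⟩], ![⟨0, 0⟩, ⟨0, -4⟩, ⟨-1, -4⟩, ⟨-1, -4⟩]],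
  ruOfArray ![![⟨0, 0⟩, ⟨0, 0⟩, ⟨0, 0⟩, ⟨0, 0⟩], ![⟨0, 0⟩, ⟨0, 0⟩, ⟨0, 0⟩, ⟨0, 0⟩], ![⟨0, 0⟩, ⟨0, 0⟩, ⟨0, 0⟩, ⟨0, -1⟩], ![⟨0, 0⟩, ⟨0, -1⟩, ⟨0, 0⟩, ⟨0, -2⟩], ![⟨0, 0⟩, ⟨0, -1⟩, ⟨0, -1⟩, ⟨-1, -1⟩], ![⟨0, 0⟩, ⟨0, 0⟩, ⟨1, -3⟩, ⟨0, -1⟩], ![⟨0, 0⟩, ⟨0, -2⟩, ⟨0, -3⟩, ⟨-1, -2⟩]],
  ruOfArray ![![⟨0, 0⟩, ⟨0, 0⟩, ⟨0, 0⟩, ⟨0, 0⟩], ![⟨0, 0⟩, ⟨0, 0⟩, ⟨0, 0⟩, ⟨-1, -3⟩], ![⟨0, 0⟩, ⟨-1, 1⟩, ⟨-1, 0⟩, ⟨-1, -2⟩], ![⟨0, 0⟩, ⟨0, 1⟩, ⟨0, 0⟩, ⟨0, -2⟩], ![⟨0, 0⟩, ⟨-1, 1⟩, ⟨-1, 1⟩, ⟨0, -4⟩], ![⟨0, 0⟩, ⟨-1, 0⟩, ⟨0, -2⟩, ⟨1, -5⟩], ![⟨-1, 0⟩, ⟨-1, 0⟩, ⟨-1, -2⟩, ⟨-2, -3⟩]],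
  ruOfArray ![![⟨0, 0⟩, ⟨0, 0⟩, ⟨0, 0⟩, ⟨0, 0⟩], ![⟨0, 0⟩, ⟨0, 0⟩, ⟨0, 0⟩, ⟨-1, -1⟩], ![⟨0, 0⟩, ⟨1, 0⟩, ⟨0, 0⟩, ⟨0, 0⟩], ![⟨0, 0⟩, ⟨0, 0⟩, ⟨0, 0⟩, ⟨2, -1⟩], ![⟨0, 0⟩, ⟨0, 0⟩, ⟨0, 0⟩, ⟨0, -1⟩], ![⟨0, 0⟩, ⟨0, -1⟩, ⟨-1, -1⟩, ⟨1, -2⟩], ![⟨0, 0⟩, ⟨0, 0⟩, ⟨0, -1⟩, ⟨0, 0⟩]],
  ruOfArray ![![⟨0, 0⟩, ⟨0, 0⟩, ⟨0, 0⟩, ⟨0, -1⟩], ![⟨0, 0⟩, ⟨0, 0⟩, ⟨0, 1⟩, ⟨0, -3⟩], ![⟨0, 0⟩, ⟨1, 1⟩, ⟨0, 0⟩, ⟨-1, -3⟩], ![⟨0, 0⟩, ⟨0, 1⟩, ⟨0, 0⟩, ⟨1, -2⟩], ![⟨0, 0⟩, ⟨0, 1⟩, ⟨0, 1⟩, ⟨-1, -3⟩], ![⟨0, 0⟩, ⟨0, 0⟩, ⟨-1, -3⟩, ⟨2, -6⟩], ![⟨-1, 0⟩, ⟨-1, -1⟩, ⟨0, -1⟩, ⟨-1, 0⟩]],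
  ruOfArray ![![⟨0, 0⟩, ⟨0, 0⟩, ⟨0, 0⟩, ⟨1, 0⟩], ![⟨0, 0⟩, ⟨0, 0⟩, ⟨0, 0⟩, ⟨0, -1⟩], ![⟨0, 0⟩, ⟨0, -1⟩, ⟨0, 0⟩, ⟨0, -2⟩], ![⟨0, 0⟩, ⟨0, 0⟩, ⟨0, 0⟩, ⟨0, -3⟩], ![⟨0, 0⟩, ⟨0, -1⟩, ⟨0, 0⟩, ⟨-1, -3⟩], ![⟨0, 0⟩, ⟨0, 0⟩, ⟨0, -2⟩, ⟨1, -3⟩], ![⟨0, 0⟩, ⟨-1, -1⟩, ⟨2, -1⟩, ⟨-1, -1⟩]],
  ruOfArray ![![⟨0, 0⟩, ⟨0, 0⟩, ⟨0, 0⟩, ⟨0, -1⟩], ![⟨0, 0⟩, ⟨0, 0⟩, ⟨0, 0⟩, ⟨2, -1⟩], ![⟨0, 0⟩, ⟨1, 0⟩, ⟨0, 0⟩, ⟨1, -2⟩], ![⟨0, 0⟩, ⟨0, 0⟩, ⟨0, 0⟩, ⟨4, -4⟩], ![⟨0, 0⟩, ⟨0, 0⟩, ⟨0, -1⟩, ⟨0, -3⟩], ![⟨0, 0⟩, ⟨0, 0⟩, ⟨-1, -3⟩, ⟨2, -5⟩], ![⟨-1, 0⟩, ⟨-1, 0⟩, ⟨0, 0⟩, ⟨-1, -1⟩]],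
  ruOfArray ![![⟨0, 0⟩, ⟨0, 0⟩, ⟨0, 0⟩, ⟨0, -1⟩], ![⟨0, 0⟩, ⟨0, 0⟩, ⟨0, 0⟩, ⟨0, -1⟩], ![⟨0, 0⟩, ⟨0, 0⟩, ⟨0, 0⟩, ⟨-1, -1⟩], ![⟨0, 0⟩, ⟨0, 0⟩, ⟨0, 0⟩, ⟨2, -1⟩], ![⟨0, 0⟩, ⟨-1, 0⟩, ⟨0, 0⟩, ⟨-2, -2⟩], ![⟨0, 0⟩, ⟨0, 0⟩, ⟨-1, -3⟩, ⟨0, -5⟩], ![⟨-1, 0⟩, ⟨-1, 0⟩, ⟨0, -1⟩, ⟨-1, 0⟩]],
  ruOfArray ![![⟨0, 0⟩, ⟨0, 0⟩, ⟨0, 0⟩, ⟨-1, 0⟩], ![⟨0, 0⟩, ⟨0, 0⟩, ⟨0, 0⟩, ⟨-1, -2⟩], ![⟨0, 0⟩, ⟨0, 0⟩, ⟨0, 0⟩, ⟨0, -1⟩], ![⟨0, 0⟩, ⟨0, 0⟩, ⟨0, -1⟩, ⟨1, -3⟩], ![⟨0, 0⟩, ⟨-1, 0⟩, ⟨0, 0⟩, ⟨0, -4⟩], ![⟨0, 0⟩, ⟨-1, 0⟩, ⟨1, -4⟩, ⟨2, -4⟩], ![⟨-1, 0⟩, ⟨0, -2⟩, ⟨2, -3⟩, ⟨-1, -3⟩]],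
  ruOfArray ![![⟨0, 0⟩, ⟨0, 0⟩, ⟨0, 0⟩, ⟨-1, -1⟩], ![⟨0, 0⟩, ⟨0, 0⟩, ⟨0, 0⟩, ⟨3, -1⟩], ![⟨0, 0⟩, ⟨0, -1⟩, ⟨0, 0⟩, ⟨-1, -3⟩], ![⟨0, 0⟩, ⟨0, 0⟩, ⟨0, 0⟩, ⟨1, -2⟩], ![⟨0, 0⟩, ⟨0, 0⟩, ⟨-1, -1⟩, ⟨0, -2⟩], ![⟨0, 0⟩, ⟨0, 0⟩, ⟨1, -4⟩, ⟨3, -3⟩], ![⟨-1, -1⟩, ⟨0, 0⟩, ⟨0, -1⟩, ⟨-2, -1⟩]],
  ruOfArray ![![⟨0, 0⟩, ⟨0, 0⟩, ⟨0, 0⟩, ⟨-2, 0⟩], ![⟨0, 0⟩, ⟨0, 0⟩, ⟨0, 0⟩, ⟨0, -2⟩], ![⟨0, 0⟩, ⟨1, -1⟩, ⟨1, 0⟩, ⟨-1, -2⟩], ![⟨0, 0⟩, ⟨1, 0⟩, ⟨1, 0⟩, ⟨0, -3⟩], ![⟨0, 0⟩, ⟨0, 0⟩, ⟨0, -1⟩, ⟨0, -1⟩], ![⟨0, 0⟩, ⟨0, -1⟩, ⟨0, -2⟩, ⟨1, -3⟩], ![⟨0, 0⟩, ⟨-1, -1⟩, ⟨1, -2⟩, ⟨-1, -2⟩]],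
  ruOfArray ![![⟨0, 0⟩, ⟨0, 0⟩, ⟨0, 0⟩, ⟨-2, 0⟩], ![⟨0, 0⟩, ⟨0, 0⟩, ⟨0, 0⟩, ⟨1, -3⟩], ![⟨0, 0⟩, ⟨0, 0⟩, ⟨0, 0⟩, ⟨-2, -3⟩], ![⟨0, 0⟩, ⟨0, 0⟩, ⟨1, 0⟩, ⟨-2, -3⟩], ![⟨0, 0⟩, ⟨0, 0⟩, ⟨0, 0⟩, ⟨-1, -3⟩], ![⟨0, 0⟩, ⟨0, 1⟩, ⟨0, -3⟩, ⟨-2, -4⟩], ![⟨-1, 0⟩, ⟨-2, 0⟩, ⟨0, -2⟩, ⟨-3, -1⟩]],
  ruOfArray ![![⟨0, 0⟩, ⟨0, 0⟩, ⟨0, 0⟩, ⟨-2, 0⟩], ![⟨0, 0⟩, ⟨0, 0⟩, ⟨0, 0⟩, ⟨1, -3⟩], ![⟨0, 0⟩, ⟨0, 0⟩, ⟨0, 0⟩, ⟨-2, -3⟩], ![⟨0, 0⟩, ⟨0, 0⟩, ⟨0, 0⟩, ⟨-2, -3⟩], ![⟨0, 0⟩, ⟨-1, 0⟩, ⟨0, 0⟩, ⟨-3, -2⟩], ![⟨0, 0⟩, ⟨0, 0⟩, ⟨0, -3⟩, ⟨0, -5⟩], ![⟨-1, 0⟩, ⟨0, -1⟩, ⟨-1, -4⟩, ⟨-2, -3⟩]],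
  ruOfArray ![![⟨0, 0⟩, ⟨0, 0⟩, ⟨0, 0⟩, ⟨0, -1⟩], ![⟨0, 0⟩, ⟨0, 0⟩, ⟨1, 0⟩, ⟨-1, -1⟩], ![⟨0, 0⟩, ⟨0, -1⟩, ⟨1, -1⟩, ⟨0, -2⟩], ![⟨0, 0⟩, ⟨0, -1⟩, ⟨1, -1⟩, ⟨0, -2⟩], ![⟨0, 0⟩, ⟨0, -1⟩, ⟨1, -1⟩, ⟨-2, -1⟩], ![⟨0, 0⟩, ⟨0, -1⟩, ⟨1, -2⟩, ⟨0, -3⟩], ![⟨0, 0⟩, ⟨0, -2⟩, ⟨2, -5⟩, ⟨0, -2⟩]],
  ruOfArray ![![⟨0, 0⟩, ⟨0, 0⟩, ⟨0, 0⟩, ⟨1, -1⟩], ![⟨0, 0⟩, ⟨0, 0⟩, ⟨1, 0⟩, ⟨-1, 0⟩], ![⟨0, 0⟩, ⟨1, -1⟩, ⟨1, 0⟩, ⟨1, -3⟩], ![⟨0, 0⟩, ⟨1, 0⟩, ⟨1, -1⟩, ⟨1, -1⟩], ![⟨0, 0⟩, ⟨1, -1⟩, ⟨1, -1⟩, ⟨0, -1⟩], ![⟨0, 0⟩, ⟨1, -1⟩, ⟨1, -3⟩, ⟨3, -2⟩], ![⟨0, 0⟩, ⟨-2, -2⟩, ⟨2, -2⟩, ⟨-1, 0⟩]],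
  ruOfArray ![![⟨0, 0⟩, ⟨0, 0⟩, ⟨0, 0⟩, ⟨0, -1⟩], ![⟨0, 0⟩, ⟨0, 0⟩, ⟨1, 0⟩, ⟨1, -1⟩], ![⟨0, 0⟩, ⟨0, -1⟩, ⟨1, -1⟩, ⟨0, -3⟩], ![⟨0, 0⟩, ⟨0, -1⟩, ⟨0, 0⟩, ⟨1, -4⟩], ![⟨0, 0⟩, ⟨0, -1⟩, ⟨0, -1⟩, ⟨-1, -3⟩], ![⟨0, 0⟩, ⟨0, 0⟩, ⟨0, -4⟩, ⟨2, -4⟩], ![⟨-1, -1⟩, ⟨-2, -2⟩, ⟨1, -4⟩, ⟨-2, -2⟩]],
  ruOfArray ![![⟨0, 0⟩, ⟨0, 0⟩, ⟨0, 0⟩, ⟨1, 0⟩], ![⟨0, 0⟩, ⟨0, 0⟩, ⟨1, 0⟩, ⟨2, -1⟩], ![⟨0, 0⟩, ⟨0, -1⟩, ⟨1, 0⟩, ⟨2, -2⟩], ![⟨0, 0⟩, ⟨0, 0⟩, ⟨1, 0⟩, ⟨1, -4⟩], ![⟨0, 0⟩, ⟨0, -1⟩, ⟨0, -1⟩, ⟨1, -2⟩], ![⟨0, 0⟩, ⟨0, 0⟩, ⟨0, -2⟩, ⟨2, -3⟩], ![⟨0, 0⟩, ⟨-1, -3⟩, ⟨1, -3⟩, ⟨1, -4⟩]]]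

theorem certTable : ∀ (i : Fin 20) (n : Fin 7) (s : Fin 4),
    star ((ruTable.getD i 0) (n, s)) = ∑ m, ctA i m * TT m (n, s) + 4 * ctW i (n, s) := by
  decide +kernel

theorem table_norm : ∀ v ∈ ruTable, (8 : ℤ) ∣ RR v v := by
  decide +kernel

theorem table_mem_MM : ∀ v ∈ ruTable, v ∈ MM := by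
  intro v hv
  refine ⟨table_mem_KK v hv, table_norm v hv, fun y hy => ?_⟩
  obtain ⟨i, hi, rfl⟩ := List.getElem_of_mem hv
  have hlen : ruTable.length = 20 := rfl
  have hi' : i < 20 := hlen ▸ hi
  rw [RR_eq_bet]
  have hc := certTable ⟨i, hi'⟩
  have hget : ruTable.getD i 0 = ruTable[i] := List.getD_eq_getElem _ _ hi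
  simp only [hget] at hc
  exact ((four_dvd_iff _).1 (KK_dvd hy _ (ctA ⟨i, hi'⟩) (ctW ⟨i, hi'⟩) (fun p => hc p.1 p.2))).1

theorem MM_closed : MM ∈ ruClosed :=
  ⟨table_mem_MM, fun _ hv =>
    ⟨MM_map (fun x => gI • x) KK_gI RR_gI pre_gI hv, MM_map ruRj KK_rj RR_rj pre_rj hv,
      MM_map ruRk KK_rk RR_rk pre_rk hv, MM_map ruSign KK_sign RR_sign pre_sign hv,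
      MM_map ruShift KK_shift RR_shift pre_shift hv⟩⟩

theorem lattice_le_MM : ruLattice ≤ MM := sInf_le MM_closed

theorem lattice_even {x : RuVec} (hx : x ∈ ruLattice) : (8 : ℤ) ∣ ruNorm x := by
  rw [ruNorm_eq]
  exact (lattice_le_MM hx).2.1

end Cfsg.Agent.Helper93.RuL
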