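import Cfsg.Agent.Helper93.RuLev0
import Cfsg.Agent.Helper93.RuLev1

set_option autoImplicit false

namespace Cfsg.Agent.Helper93.RuL

open Cfsg Cfsg.Spor

def Hv2 : Fin 10 → RuVec := ![
  ruOfArray ![![⟨1, 0⟩, ⟨0, 0⟩, ⟨0, 0⟩, ⟨1, 0⟩], ![⟨0, 0⟩, ⟨0, 0⟩, ⟨0, -1⟩, ⟨1, 0⟩], ![⟨0, 0⟩, ⟨0, 0⟩, ⟨0, -1⟩, ⟨2, -1⟩], ![⟨0, 0⟩, ⟨0, -1⟩, ⟨0, 0⟩, ⟨-1, 2⟩], ![⟨0, 0⟩, ⟨1, 0⟩, ⟨1, 0⟩, ⟨2, 0⟩], ![⟨0, 0⟩, ⟨1, 0⟩, ⟨0, 2⟩, ⟨-1, 2⟩], ![⟨1, 0⟩, ⟨0, -1⟩, ⟨1, 0⟩, ⟨2, -1⟩]],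
  ruOfArray ![![⟨0, 0⟩, ⟨0, 0⟩, ⟨1, 0⟩, ⟨2, -1⟩], ![⟨0, 0⟩, ⟨0, 0⟩, ⟨1, 0⟩, ⟨-1, 2⟩], ![⟨0, 0⟩, ⟨0, -1⟩, ⟨1, -1⟩, ⟨2, 1⟩], ![⟨0, 0⟩, ⟨0, -1⟩, ⟨0, -1⟩, ⟨2, 0⟩], ![⟨0, 0⟩, ⟨0, -1⟩, ⟨1, -1⟩, ⟨-1, 0⟩], ![⟨0, 0⟩, ⟨0, 0⟩, ⟨0, 0⟩, ⟨-1, 1⟩], ![⟨0, 0⟩, ⟨0, -1⟩, ⟨2, -1⟩, ⟨1, -1⟩]],
  ruOfArray ![![⟨0, 0⟩, ⟨1, 0⟩, ⟨0, 0⟩, ⟨-1, 0⟩], ![⟨0, 0⟩, ⟨0, 0⟩, ⟨1, -1⟩, ⟨2, 0⟩], ![⟨0, 0⟩, ⟨0, -1⟩, ⟨1, 0⟩, ⟨0, 0⟩], ![⟨0, 0⟩, ⟨1, -1⟩, ⟨1, 0⟩, ⟨-1, 0⟩], ![⟨0, 0⟩, ⟨1, -1⟩, ⟨0, -1⟩, ⟨1, 2⟩], ![⟨0, 0⟩, ⟨1, 0⟩, ⟨1, -1⟩, ⟨-1, 2⟩], ![⟨0, 0⟩, ⟨0, -1⟩, ⟨0, -1⟩, ⟨0, 0⟩]],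
  ruOfArray ![![⟨0, 0⟩, ⟨0, 0⟩, ⟨0, 0⟩, ⟨-1, -1⟩], ![⟨1, 0⟩, ⟨0, 0⟩, ⟨0, 0⟩, ⟨-1, 0⟩], ![⟨0, 0⟩, ⟨1, -1⟩, ⟨1, 0⟩, ⟨-1, 0⟩], ![⟨0, 0⟩, ⟨1, -1⟩, ⟨0, -1⟩, ⟨-1, 0⟩], ![⟨0, 0⟩, ⟨0, -1⟩, ⟨1, -1⟩, ⟨0, 1⟩], ![⟨0, 0⟩, ⟨0, -1⟩, ⟨2, 1⟩, ⟨0, 2⟩], ![⟨1, 0⟩, ⟨0, 0⟩, ⟨2, 1⟩, ⟨0, 0⟩]],
  ruOfArray ![![⟨0, 0⟩, ⟨0, 0⟩, ⟨0, 0⟩, ⟨-1, -1⟩], ![⟨0, 0⟩, ⟨1, 0⟩, ⟨1, 0⟩, ⟨-1, 1⟩], ![⟨0, 0⟩, ⟨0, 0⟩, ⟨0, -1⟩, ⟨1, 0⟩], ![⟨0, 0⟩, ⟨0, 0⟩, ⟨0, -1⟩, ⟨2, 1⟩], ![⟨0, 0⟩, ⟨1, 0⟩, ⟨1, -1⟩, ⟨1, 2⟩], ![⟨0, 0⟩, ⟨1, 0⟩, ⟨1, 0⟩, ⟨0, 2⟩], ![⟨0, 0⟩, ⟨-1, 0⟩, ⟨-1, -1⟩, ⟨0, 1⟩]],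
  ruOfArray ![![⟨0, 0⟩, ⟨0, 0⟩, ⟨0, 0⟩, ⟨0, 0⟩], ![⟨0, 0⟩, ⟨0, 0⟩, ⟨0, 0⟩, ⟨2, 2⟩], ![⟨0, 0⟩, ⟨1, -1⟩, ⟨0, 0⟩, ⟨1, 1⟩], ![⟨0, 0⟩, ⟨0, 0⟩, ⟨0, 0⟩, ⟨2, 0⟩], ![⟨1, 0⟩, ⟨1, 0⟩, ⟨0, -1⟩, ⟨1, 2⟩], ![⟨0, 0⟩, ⟨0, 0⟩, ⟨1, -1⟩, ⟨1, -1⟩], ![⟨1, 0⟩, ⟨0, -1⟩, ⟨-1, 2⟩, ⟨1, 2⟩]],
  ruOfArray ![![⟨0, 0⟩, ⟨0, 0⟩, ⟨0, 0⟩, ⟨2, 0⟩], ![⟨0, 0⟩, ⟨0, 0⟩, ⟨1, -1⟩, ⟨-1, -1⟩], ![⟨0, 0⟩, ⟨1, -1⟩, ⟨0, 0⟩, ⟨-1, 1⟩], ![⟨1, 0⟩, ⟨1, 0⟩, ⟨1, 0⟩, ⟨0, 1⟩], ![⟨0, 0⟩, ⟨1, -1⟩, ⟨0, 0⟩, ⟨1, -1⟩], ![⟨0, 0⟩, ⟨1, -1⟩, ⟨1, 1⟩, ⟨0, 2⟩], ![⟨1, 0⟩, ⟨0, 1⟩, ⟨1, 2⟩, ⟨1, 2⟩]],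
  ruOfArray ![![⟨0, 0⟩, ⟨0, 0⟩, ⟨0, 0⟩, ⟨2, 0⟩], ![⟨0, 0⟩, ⟨0, 0⟩, ⟨0, 0⟩, ⟨0, 0⟩], ![⟨1, 0⟩, ⟨1, 0⟩, ⟨1, 0⟩, ⟨2, -1⟩], ![⟨0, 0⟩, ⟨0, 0⟩, ⟨0, 0⟩, ⟨0, 0⟩], ![⟨0, 0⟩, ⟨1, -1⟩, ⟨0, 0⟩, ⟨-1, 1⟩], ![⟨0, 0⟩, ⟨1, -1⟩, ⟨-1, 1⟩, ⟨2, 0⟩], ![⟨1, 0⟩, ⟨1, 0⟩, ⟨0, -1⟩, ⟨1, 2⟩]],
  ruOfArray ![![⟨0, 0⟩, ⟨0, 0⟩, ⟨0, 0⟩, ⟨0, 0⟩], ![⟨0, 0⟩, ⟨0, 0⟩, ⟨0, 0⟩, ⟨0, 2⟩], ![⟨0, 0⟩, ⟨1, -1⟩, ⟨1, -1⟩, ⟨0, 0⟩], ![⟨0, 0⟩, ⟨0, 0⟩, ⟨0, 0⟩, ⟨2, 2⟩], ![⟨0, 0⟩, ⟨0, 0⟩, ⟨1, -1⟩, ⟨1, 1⟩], ![⟨1, 0⟩, ⟨0, -1⟩, ⟨-1, 2⟩, ⟨-1, 0⟩], ![⟨1, 0⟩, ⟨-1, 2⟩, ⟨1, 0⟩, ⟨2, -1⟩]],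
  ruOfArray ![![⟨0, 0⟩, ⟨0, 0⟩, ⟨0, 0⟩, ⟨1, -1⟩], ![⟨0, 0⟩, ⟨0, 0⟩, ⟨0, 0⟩, ⟨1, 1⟩], ![⟨0, 0⟩, ⟨0, 0⟩, ⟨0, 0⟩, ⟨1, -1⟩], ![⟨0, 0⟩, ⟨0, 0⟩, ⟨0, 0⟩, ⟨1, 1⟩], ![⟨0, 0⟩, ⟨0, 0⟩, ⟨0, 0⟩, ⟨1, -1⟩], ![⟨0, 0⟩, ⟨0, 0⟩, ⟨1, -1⟩, ⟨2, 0⟩], ![⟨0, -1⟩, ⟨-1, 0⟩, ⟨0, 1⟩, ⟨-1, 0⟩]]]
def Ac2 : Fin 10 → Fin 19 → GaussianInt := ![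
  ![⟨1, 1⟩, ⟨0, 0⟩, ⟨0, 0⟩, ⟨0, 0⟩, ⟨0, 0⟩, ⟨0, 0⟩, ⟨0, 0⟩, ⟨0, 0⟩, ⟨0, 0⟩, ⟨0, 0⟩, ⟨0, 0⟩, ⟨0, 0⟩, ⟨0, 0⟩, ⟨0, 0⟩, ⟨0, 0⟩, ⟨0, 0⟩, ⟨0, 0⟩, ⟨0, 0⟩, ⟨0, 0⟩],
  ![⟨0, 0⟩, ⟨1, 1⟩, ⟨0, 0⟩, ⟨0, 0⟩, ⟨0, 0⟩, ⟨0, 0⟩, ⟨0, 0⟩, ⟨0, 0⟩, ⟨0, 0⟩, ⟨0, 0⟩, ⟨0, 0⟩, ⟨0, 0⟩, ⟨0, 0⟩, ⟨0, 0⟩, ⟨0, 0⟩, ⟨0, 0⟩, ⟨0, 0⟩, ⟨0, 0⟩, ⟨0, 0⟩],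
  ![⟨0, 0⟩, ⟨0, 0⟩, ⟨1, 1⟩, ⟨0, 0⟩, ⟨0, 0⟩, ⟨0, 0⟩, ⟨0, 0⟩, ⟨0, 0⟩, ⟨0, 0⟩, ⟨0, 0⟩, ⟨0, 0⟩, ⟨0, 0⟩, ⟨0, 0⟩, ⟨0, 0⟩, ⟨0, 0⟩, ⟨0, 0⟩, ⟨0, 0⟩, ⟨0, 0⟩, ⟨0, 0⟩],
  ![⟨0, 0⟩, ⟨0, 0⟩, ⟨0, 0⟩, ⟨1, 1⟩, ⟨0, 0⟩, ⟨0, 0⟩, ⟨0, 0⟩, ⟨0, 0⟩, ⟨0, 0⟩, ⟨0, 0⟩, ⟨0, 0⟩, ⟨0, 0⟩, ⟨0, 0⟩, ⟨0, 0⟩, ⟨0, 0⟩, ⟨0, 0⟩, ⟨0, 0⟩, ⟨0, 0⟩, ⟨0, 0⟩],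
  ![⟨0, 0⟩, ⟨0, 0⟩, ⟨0, 0⟩, ⟨0, 0⟩, ⟨1, 1⟩, ⟨0, 0⟩, ⟨0, 0⟩, ⟨0, 0⟩, ⟨0, 0⟩, ⟨0, 0⟩, ⟨0, 0⟩, ⟨0, 0⟩, ⟨0, 0⟩, ⟨0, 0⟩, ⟨0, 0⟩, ⟨0, 0⟩, ⟨0, 0⟩, ⟨0, 0⟩, ⟨0, 0⟩],
  ![⟨0, 0⟩, ⟨0, 0⟩, ⟨0, 0⟩, ⟨0, 0⟩, ⟨0, 0⟩, ⟨1, 1⟩, ⟨0, 0⟩, ⟨0, 0⟩, ⟨0, 0⟩, ⟨0, 0⟩, ⟨0, 0⟩, ⟨0, 0⟩, ⟨0, 0⟩, ⟨0, 0⟩, ⟨0, 0⟩, ⟨0, 0⟩, ⟨0, 0⟩, ⟨0, 0⟩, ⟨0, 0⟩],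
  ![⟨0, 0⟩, ⟨0, 0⟩, ⟨0, 0⟩, ⟨0, 0⟩, ⟨0, 0⟩, ⟨0, 0⟩, ⟨1, 1⟩, ⟨0, 0⟩, ⟨0, 0⟩, ⟨0, 0⟩, ⟨0, 0⟩, ⟨0, 0⟩, ⟨0, 0⟩, ⟨0, 0⟩, ⟨0, 0⟩, ⟨0, 0⟩, ⟨0, 0⟩, ⟨0, 0⟩, ⟨0, 0⟩],
  ![⟨0, 0⟩, ⟨0, 0⟩, ⟨0, 0⟩, ⟨0, 0⟩, ⟨0, 0⟩, ⟨0, 0⟩, ⟨0, 0⟩, ⟨1, 1⟩, ⟨0, 0⟩, ⟨0, 0⟩, ⟨0, 0⟩, ⟨0, 0⟩, ⟨0, 0⟩, ⟨0, 0⟩, ⟨0, 0⟩, ⟨0, 0⟩, ⟨0, 0⟩, ⟨0, 0⟩, ⟨0, 0⟩],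
  ![⟨0, 0⟩, ⟨0, 0⟩, ⟨0, 0⟩, ⟨0, 0⟩, ⟨0, 0⟩, ⟨0, 0⟩, ⟨0, 0⟩, ⟨0, 0⟩, ⟨1, 1⟩, ⟨0, 0⟩, ⟨0, 0⟩, ⟨0, 0⟩, ⟨0, 0⟩, ⟨0, 0⟩, ⟨0, 0⟩, ⟨0, 0⟩, ⟨0, 0⟩, ⟨0, 0⟩, ⟨0, 0⟩],
  ![⟨0, 0⟩, ⟨0, 0⟩, ⟨0, 0⟩, ⟨0, 0⟩, ⟨0, 0⟩, ⟨0, 0⟩, ⟨0, 0⟩, ⟨0, 0⟩, ⟨0, 0⟩, ⟨1, 0⟩, ⟨0, 0⟩, ⟨0, 0⟩, ⟨0, 0⟩, ⟨0, 0⟩, ⟨0, 0⟩, ⟨0, 0⟩, ⟨0, 0⟩, ⟨0, 0⟩, ⟨0, 0⟩]]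
def Hm2A : Fin 10 → Fin 7 → Fin 4 → ZMod 2 := ![
  ![![1, 0, 0, 1], ![0, 0, 1, 1], ![0, 0, 1, 1], ![0, 1, 0, 1], ![0, 1, 1, 0], ![0, 1, 0, 1], ![1, 1, 1, 1]],
  ![![0, 0, 1, 1], ![0, 0, 1, 1], ![0, 1, 0, 1], ![0, 1, 1, 0], ![0, 1, 0, 1], ![0, 0, 0, 0], ![0, 1, 1, 0]],
  ![![0, 1, 0, 1], ![0, 0, 0, 0], ![0, 1, 1, 0], ![0, 0, 1, 1], ![0, 0, 1, 1], ![0, 1, 0, 1], ![0, 1, 1, 0]],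
  ![![0, 0, 0, 0], ![1, 0, 0, 1], ![0, 0, 1, 1], ![0, 0, 1, 1], ![0, 1, 0, 1], ![0, 1, 1, 0], ![1, 0, 1, 0]],
  ![![0, 0, 0, 0], ![0, 1, 1, 0], ![0, 0, 1, 1], ![0, 0, 1, 1], ![0, 1, 0, 1], ![0, 1, 1, 0], ![0, 1, 0, 1]],
  ![![0, 0, 0, 0], ![0, 0, 0, 0], ![0, 0, 0, 0], ![0, 0, 0, 0], ![1, 1, 1, 1], ![0, 0, 0, 0], ![1, 1, 1, 1]],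
  ![![0, 0, 0, 0], ![0, 0, 0, 0], ![0, 0, 0, 0], ![1, 1, 1, 1], ![0, 0, 0, 0], ![0, 0, 0, 0], ![1, 1, 1, 1]],
  ![![0, 0, 0, 0], ![0, 0, 0, 0], ![1, 1, 1, 1], ![0, 0, 0, 0], ![0, 0, 0, 0], ![0, 0, 0, 0], ![1, 1, 1, 1]],
  ![![0, 0, 0, 0], ![0, 0, 0, 0], ![0, 0, 0, 0], ![0, 0, 0, 0], ![0, 0, 0, 0], ![1, 1, 1, 1], ![1, 1, 1, 1]],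
  ![![0, 0, 0, 0], ![0, 0, 0, 0], ![0, 0, 0, 0], ![0, 0, 0, 0], ![0, 0, 0, 0], ![0, 0, 0, 0], ![1, 1, 1, 1]]]
def Hm2 (j : Fin 10) (p : RuIdx) : ZMod 2 := Hm2A j p.1 p.2

theorem cert2 : ∀ (j : Fin 10) (n : Fin 7) (s : Fin 4),
    ppi ^ (3 - 2) * Hv2 j (n, s) = ∑ l, Ac2 j l * TT l (n, s) + 4 * (0 : RuVec) (n, s) := by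
  decide +kernel

theorem link2 : ∀ (j : Fin 10) (n : Fin 7) (s : Fin 4), epsFun (Hv2 j (n, s)) = Hm2 j (n, s) := by
  decide +kernel

theorem col1_2 : ∀ p : RuIdx, ∃ j, Hm2 j p ≠ 0 := by
  decide +kernel

theorem col2_2 : ∀ p p' : RuIdx, p ≠ p' → ∃ j, Hm2 j p + Hm2 j p' ≠ 0 := by
  decide +kernel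

theorem level2 (y : RuVec) (hy : (fun p => ppi ^ 2 * y p) ∈ KK) (hn : ruNorm y = 2)
    (hodd : ∃ p, eps (y p) ≠ 0) : False := by
  refine low_weight y (by omega) hodd Hm2 (fun j => ?_) col1_2 col2_2
  have h := rel_of_mem 2 (by omega) y hy (Hv2 j) (Ac2 j) 0 (fun p => cert2 j p.1 p.2)
  rw [← h]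
  refine Finset.sum_congr rfl (fun p _ => ?_)
  rw [eps_eq_fun (Hv2 j p)]
  exact congrArg (fun t => eps (y p) * t) (link2 j p.1 p.2).symm

/-- Parities of the test vectors. -/
def Hm3 (l : Fin 19) (p : RuIdx) : ZMod 2 := epsFun (TT l p)

theorem col1_3 : ∀ p : RuIdx, ∃ j, Hm3 j p ≠ 0 := by
  decide +kernel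

theorem col2_3 : ∀ p p' : RuIdx, p ≠ p' → ∃ j, Hm3 j p + Hm3 j p' ≠ 0 := by
  decide +kernel

theorem level3 (y : RuVec) (hy : (fun p => ppi ^ 3 * y p) ∈ KK) (hn : ruNorm y = 1)
    (hodd : ∃ p, eps (y p) ≠ 0) : False := by
  refine low_weight y (by omega) hodd Hm3 (fun j => ?_) col1_3 col2_3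
  have h := rel_of_mem 3 (by omega) y hy (TT j) (fun m => if m = j then 1 else 0) 0 (fun p => by
    simp only [Nat.sub_self, pow_zero, one_mul, ite_mul, zero_mul, Finset.sum_ite_eq',
      Finset.mem_univ, if_true, Pi.zero_apply, mul_zero, add_zero])
  rw [← h]
  refine Finset.sum_congr rfl (fun p _ => ?_)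
  rw [eps_eq_fun (TT j p)]
  rfl

theorem no_norm8 (x : RuVec) (hx : x ∈ KK) (hn : ruNorm x = 8) : False := by
  by_cases h0 : ∃ p, eps (x p) ≠ 0
  · refine level0 x ?_ hn h0
    have h : (fun p => ppi ^ 0 * x p) = x := funext (fun p => by rw [pow_zero, one_mul])
    rw [h]
    exact hx
  have h0' : ∀ p, eps (x p) = 0 := fun p => by_contra (fun h => h0 ⟨p, h⟩)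
  obtain ⟨y, rfl⟩ := exists_ppi x h0'
  have hn1 : ruNorm y = 4 := by
    rw [ruNorm_ppi] at hn
    omega
  by_cases h1 : ∃ p, eps (y p) ≠ 0
  · refine level1 y ?_ hn1 h1
    have h : (fun p => ppi ^ 1 * y p) = fun p => ppi * y p := funext (fun p => by rw [pow_one])
    rw [h]
    exact hx
  have h1' : ∀ p, eps (y p) = 0 := fun p => by_contra (fun h => h1 ⟨p, h⟩)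
  obtain ⟨z, rfl⟩ := exists_ppi y h1'
  have hn2 : ruNorm z = 2 := by
    rw [ruNorm_ppi] at hn1
    omega
  by_cases h2 : ∃ p, eps (z p) ≠ 0
  · refine level2 z ?_ hn2 h2
    have h : (fun p => ppi ^ 2 * z p) = fun p => ppi * (ppi * z p) := funext (fun p => by ring)
    rw [h]
    exact hx
  have h2' : ∀ p, eps (z p) = 0 := fun p => by_contra (fun h => h2 ⟨p, h⟩)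
  obtain ⟨w, rfl⟩ := exists_ppi z h2'
  have hn3 : ruNorm w = 1 := by
    rw [ruNorm_ppi] at hn2
    omega
  by_cases h3 : ∃ p, eps (w p) ≠ 0
  · refine level3 w ?_ hn3 h3
    have h : (fun p => ppi ^ 3 * w p) = fun p => ppi * (ppi * (ppi * w p)) :=
      funext (fun p => by ring)
    rw [h]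
    exact hx
  have h3' : ∀ p, eps (w p) = 0 := fun p => by_contra (fun h => h3 ⟨p, h⟩)
  obtain ⟨w', rfl⟩ := exists_ppi w h3'
  rw [ruNorm_ppi] at hn3
  omega

end Cfsg.Agent.Helper93.RuL
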