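import Cfsg.Agent.Helper93.RuPar

set_option autoImplicit false

namespace Cfsg.Agent.Helper93.RuL

open Cfsg Cfsg.Spor

def Hv0 : Fin 19 → RuVec := ![
  ruOfArray ![![⟨1, 0⟩, ⟨0, 0⟩, ⟨0, 0⟩, ⟨2, -2⟩], ![⟨0, 0⟩, ⟨0, 0⟩, ⟨1, -1⟩, ⟨5, -2⟩], ![⟨0, 0⟩, ⟨0, 0⟩, ⟨1, -1⟩, ⟨6, -5⟩], ![⟨0, 0⟩, ⟨1, -1⟩, ⟨0, 0⟩, ⟨3, 0⟩], ![⟨0, 0⟩, ⟨2, 0⟩, ⟨2, 0⟩, ⟨6, -5⟩], ![⟨0, 0⟩, ⟨2, 0⟩, ⟨5, -1⟩, ⟨7, -2⟩], ![⟨1, -1⟩, ⟨0, -5⟩, ⟨6, -2⟩, ⟨2, -6⟩]],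
  ruOfArray ![![⟨0, 0⟩, ⟨1, 0⟩, ⟨0, 0⟩, ⟨-1, -1⟩], ![⟨0, 0⟩, ⟨0, 0⟩, ⟨1, -1⟩, ⟨4, -3⟩], ![⟨0, 0⟩, ⟨1, -1⟩, ⟨2, 0⟩, ⟨4, -3⟩], ![⟨0, 0⟩, ⟨1, -1⟩, ⟨2, 0⟩, ⟨1, -4⟩], ![⟨0, 0⟩, ⟨1, -1⟩, ⟨1, -1⟩, ⟨3, -2⟩], ![⟨0, 0⟩, ⟨2, 0⟩, ⟨4, -3⟩, ⟨4, 0⟩], ![⟨0, 0⟩, ⟨2, -4⟩, ⟨4, -3⟩, ⟨1, -5⟩]],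
  ruOfArray ![![⟨0, 0⟩, ⟨0, 0⟩, ⟨1, 0⟩, ⟨2, -2⟩], ![⟨0, 0⟩, ⟨0, 0⟩, ⟨2, 0⟩, ⟨0, 1⟩], ![⟨0, 0⟩, ⟨1, -1⟩, ⟨1, -1⟩, ⟨5, -2⟩], ![⟨0, 0⟩, ⟨1, -1⟩, ⟨1, -1⟩, ⟨5, -4⟩], ![⟨0, 0⟩, ⟨1, -1⟩, ⟨1, -1⟩, ⟨2, -3⟩], ![⟨0, 0⟩, ⟨0, 0⟩, ⟨3, -2⟩, ⟨4, -2⟩], ![⟨0, 0⟩, ⟨1, -4⟩, ⟨5, -2⟩, ⟨3, -6⟩]],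
  ruOfArray ![![⟨0, 0⟩, ⟨0, 0⟩, ⟨0, 0⟩, ⟨0, -1⟩], ![⟨0, 0⟩, ⟨0, 0⟩, ⟨0, 0⟩, ⟨0, -1⟩], ![⟨0, 0⟩, ⟨0, 0⟩, ⟨0, 0⟩, ⟨0, -1⟩], ![⟨0, 0⟩, ⟨0, 0⟩, ⟨0, 0⟩, ⟨0, -1⟩], ![⟨0, 0⟩, ⟨0, 0⟩, ⟨0, 0⟩, ⟨0, -1⟩], ![⟨0, 0⟩, ⟨0, 0⟩, ⟨0, 0⟩, ⟨0, -1⟩], ![⟨0, 0⟩, ⟨0, 0⟩, ⟨0, 0⟩, ⟨0, -1⟩]],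
  ruOfArray ![![⟨0, 0⟩, ⟨0, 0⟩, ⟨0, 0⟩, ⟨0, -2⟩], ![⟨1, 0⟩, ⟨0, 0⟩, ⟨0, 0⟩, ⟨2, -1⟩], ![⟨0, 0⟩, ⟨1, -1⟩, ⟨2, 0⟩, ⟨3, -3⟩], ![⟨0, 0⟩, ⟨1, -1⟩, ⟨1, -1⟩, ⟨2, -2⟩], ![⟨0, 0⟩, ⟨1, -1⟩, ⟨1, -1⟩, ⟨4, -2⟩], ![⟨0, 0⟩, ⟨1, -1⟩, ⟨6, -1⟩, ⟨6, 1⟩], ![⟨1, -1⟩, ⟨0, -2⟩, ⟨6, 1⟩, ⟨-1, -2⟩]],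
  ruOfArray ![![⟨0, 0⟩, ⟨0, 0⟩, ⟨0, 0⟩, ⟨-1, -1⟩], ![⟨0, 0⟩, ⟨1, 0⟩, ⟨2, 0⟩, ⟨2, -1⟩], ![⟨0, 0⟩, ⟨0, 0⟩, ⟨1, -1⟩, ⟨4, -2⟩], ![⟨0, 0⟩, ⟨0, 0⟩, ⟨1, -1⟩, ⟨4, -2⟩], ![⟨0, 0⟩, ⟨2, 0⟩, ⟨1, -1⟩, ⟨4, 0⟩], ![⟨0, 0⟩, ⟨2, 0⟩, ⟨4, -1⟩, ⟨5, 0⟩], ![⟨0, 0⟩, ⟨0, -3⟩, ⟨3, -3⟩, ⟨1, -2⟩]],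
  ruOfArray ![![⟨0, 0⟩, ⟨0, 0⟩, ⟨0, 0⟩, ⟨0, 0⟩], ![⟨0, 0⟩, ⟨0, 0⟩, ⟨1, 0⟩, ⟨1, 0⟩], ![⟨0, 0⟩, ⟨0, 0⟩, ⟨0, 0⟩, ⟨0, 0⟩], ![⟨0, 0⟩, ⟨0, 0⟩, ⟨0, 0⟩, ⟨0, 0⟩], ![⟨0, 0⟩, ⟨0, 0⟩, ⟨0, 0⟩, ⟨0, 0⟩], ![⟨0, 0⟩, ⟨0, 0⟩, ⟨0, 0⟩, ⟨1, -1⟩], ![⟨0, 0⟩, ⟨0, -1⟩, ⟨0, -1⟩, ⟨1, -1⟩]],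
  ruOfArray ![![⟨0, 0⟩, ⟨0, 0⟩, ⟨0, 0⟩, ⟨3, -1⟩], ![⟨0, 0⟩, ⟨0, 0⟩, ⟨0, 0⟩, ⟨2, 0⟩], ![⟨1, 0⟩, ⟨2, 0⟩, ⟨2, 0⟩, ⟨5, -2⟩], ![⟨0, 0⟩, ⟨0, 0⟩, ⟨0, 0⟩, ⟨3, -1⟩], ![⟨0, 0⟩, ⟨1, -1⟩, ⟨0, 0⟩, ⟨1, -1⟩], ![⟨0, 0⟩, ⟨1, -1⟩, ⟨0, -1⟩, ⟨6, -1⟩], ![⟨1, -1⟩, ⟨1, -2⟩, ⟨1, -1⟩, ⟨1, 0⟩]],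
  ruOfArray ![![⟨0, 0⟩, ⟨0, 0⟩, ⟨0, 0⟩, ⟨0, 0⟩], ![⟨0, 0⟩, ⟨0, 0⟩, ⟨0, 0⟩, ⟨0, 0⟩], ![⟨0, 0⟩, ⟨1, 0⟩, ⟨0, 0⟩, ⟨1, 0⟩], ![⟨0, 0⟩, ⟨0, 0⟩, ⟨0, 0⟩, ⟨1, -1⟩], ![⟨0, 0⟩, ⟨0, 0⟩, ⟨0, 0⟩, ⟨0, 0⟩], ![⟨0, 0⟩, ⟨0, 0⟩, ⟨0, -1⟩, ⟨1, 0⟩], ![⟨0, 0⟩, ⟨1, -1⟩, ⟨0, 0⟩, ⟨1, -1⟩]],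
  ruOfArray ![![⟨0, 0⟩, ⟨0, 0⟩, ⟨0, 0⟩, ⟨0, 0⟩], ![⟨0, 0⟩, ⟨0, 0⟩, ⟨0, 0⟩, ⟨1, -1⟩], ![⟨0, 0⟩, ⟨0, 0⟩, ⟨1, 0⟩, ⟨1, 0⟩], ![⟨0, 0⟩, ⟨0, 0⟩, ⟨0, 0⟩, ⟨1, -1⟩], ![⟨0, 0⟩, ⟨0, 0⟩, ⟨0, 0⟩, ⟨1, -1⟩], ![⟨0, 0⟩, ⟨0, 0⟩, ⟨0, 0⟩, ⟨1, -1⟩], ![⟨0, 0⟩, ⟨0, -1⟩, ⟨1, -1⟩, ⟨0, -1⟩]],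
  ruOfArray ![![⟨0, 0⟩, ⟨0, 0⟩, ⟨0, 0⟩, ⟨3, -1⟩], ![⟨0, 0⟩, ⟨0, 0⟩, ⟨1, -1⟩, ⟨0, 0⟩], ![⟨0, 0⟩, ⟨1, -1⟩, ⟨0, 0⟩, ⟨1, -1⟩], ![⟨1, 0⟩, ⟨2, 0⟩, ⟨2, 0⟩, ⟨2, 1⟩], ![⟨0, 0⟩, ⟨1, -1⟩, ⟨0, 0⟩, ⟨4, -4⟩], ![⟨0, 0⟩, ⟨1, -1⟩, ⟨4, -1⟩, ⟨4, 1⟩], ![⟨1, -1⟩, ⟨-1, 1⟩, ⟨3, 3⟩, ⟨0, 0⟩]],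
  ruOfArray ![![⟨0, 0⟩, ⟨0, 0⟩, ⟨0, 0⟩, ⟨0, 0⟩], ![⟨0, 0⟩, ⟨0, 0⟩, ⟨0, 0⟩, ⟨0, 0⟩], ![⟨0, 0⟩, ⟨0, 0⟩, ⟨0, 0⟩, ⟨0, 0⟩], ![⟨0, 0⟩, ⟨1, 0⟩, ⟨0, 0⟩, ⟨1, 0⟩], ![⟨0, 0⟩, ⟨0, 0⟩, ⟨0, 0⟩, ⟨1, -1⟩], ![⟨0, 0⟩, ⟨0, 0⟩, ⟨1, -1⟩, ⟨1, -1⟩], ![⟨0, 0⟩, ⟨0, 0⟩, ⟨1, 0⟩, ⟨0, -1⟩]],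
  ruOfArray ![![⟨0, 0⟩, ⟨0, 0⟩, ⟨0, 0⟩, ⟨0, 0⟩], ![⟨0, 0⟩, ⟨0, 0⟩, ⟨0, 0⟩, ⟨0, 0⟩], ![⟨0, 0⟩, ⟨0, 0⟩, ⟨0, 0⟩, ⟨1, -1⟩], ![⟨0, 0⟩, ⟨0, 0⟩, ⟨1, 0⟩, ⟨0, -1⟩], ![⟨0, 0⟩, ⟨0, 0⟩, ⟨0, 0⟩, ⟨1, -1⟩], ![⟨0, 0⟩, ⟨0, 0⟩, ⟨1, 0⟩, ⟨1, 0⟩], ![⟨0, 0⟩, ⟨0, 0⟩, ⟨1, 0⟩, ⟨0, -1⟩]],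
  ruOfArray ![![⟨0, 0⟩, ⟨0, 0⟩, ⟨0, 0⟩, ⟨1, -1⟩], ![⟨0, 0⟩, ⟨0, 0⟩, ⟨0, 0⟩, ⟨3, 3⟩], ![⟨0, 0⟩, ⟨1, -1⟩, ⟨0, 0⟩, ⟨4, -2⟩], ![⟨0, 0⟩, ⟨0, 0⟩, ⟨0, 0⟩, ⟨4, 0⟩], ![⟨1, 0⟩, ⟨2, 0⟩, ⟨1, -1⟩, ⟨3, 0⟩], ![⟨0, 0⟩, ⟨0, 0⟩, ⟨4, -2⟩, ⟨5, -1⟩], ![⟨1, -1⟩, ⟨-1, -3⟩, ⟨1, 2⟩, ⟨0, 1⟩]],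
  ruOfArray ![![⟨0, 0⟩, ⟨0, 0⟩, ⟨0, 0⟩, ⟨0, 0⟩], ![⟨0, 0⟩, ⟨0, 0⟩, ⟨0, 0⟩, ⟨0, 0⟩], ![⟨0, 0⟩, ⟨0, 0⟩, ⟨0, 0⟩, ⟨1, -1⟩], ![⟨0, 0⟩, ⟨0, 0⟩, ⟨0, 0⟩, ⟨1, -1⟩], ![⟨0, 0⟩, ⟨1, 0⟩, ⟨0, 0⟩, ⟨1, 0⟩], ![⟨0, 0⟩, ⟨0, 0⟩, ⟨1, 0⟩, ⟨1, 0⟩], ![⟨0, 0⟩, ⟨0, -1⟩, ⟨1, 0⟩, ⟨0, 0⟩]],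
  ruOfArray ![![⟨0, 0⟩, ⟨0, 0⟩, ⟨0, 0⟩, ⟨0, 0⟩], ![⟨0, 0⟩, ⟨0, 0⟩, ⟨0, 0⟩, ⟨0, 0⟩], ![⟨0, 0⟩, ⟨0, 0⟩, ⟨0, 0⟩, ⟨1, -1⟩], ![⟨0, 0⟩, ⟨0, 0⟩, ⟨0, 0⟩, ⟨0, 0⟩], ![⟨0, 0⟩, ⟨0, 0⟩, ⟨1, 0⟩, ⟨0, -1⟩], ![⟨0, 0⟩, ⟨0, 0⟩, ⟨1, 0⟩, ⟨1, 0⟩], ![⟨0, 0⟩, ⟨0, -1⟩, ⟨1, -1⟩, ⟨0, -1⟩]],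
  ruOfArray ![![⟨0, 0⟩, ⟨0, 0⟩, ⟨0, 0⟩, ⟨1, -1⟩], ![⟨0, 0⟩, ⟨0, 0⟩, ⟨0, 0⟩, ⟨2, 2⟩], ![⟨0, 0⟩, ⟨1, -1⟩, ⟨1, -1⟩, ⟨1, -1⟩], ![⟨0, 0⟩, ⟨0, 0⟩, ⟨0, 0⟩, ⟨3, 3⟩], ![⟨0, 0⟩, ⟨0, 0⟩, ⟨1, -1⟩, ⟨2, 0⟩], ![⟨1, 0⟩, ⟨1, -1⟩, ⟨1, 0⟩, ⟨2, 0⟩], ![⟨1, -1⟩, ⟨-1, 2⟩, ⟨2, 1⟩, ⟨1, -1⟩]],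
  ruOfArray ![![⟨0, 0⟩, ⟨0, 0⟩, ⟨0, 0⟩, ⟨0, 0⟩], ![⟨0, 0⟩, ⟨0, 0⟩, ⟨0, 0⟩, ⟨1, -1⟩], ![⟨0, 0⟩, ⟨0, 0⟩, ⟨0, 0⟩, ⟨0, 0⟩], ![⟨0, 0⟩, ⟨0, 0⟩, ⟨0, 0⟩, ⟨0, 0⟩], ![⟨0, 0⟩, ⟨0, 0⟩, ⟨0, 0⟩, ⟨0, 0⟩], ![⟨0, 0⟩, ⟨1, 0⟩, ⟨1, -1⟩, ⟨1, 0⟩], ![⟨0, 0⟩, ⟨1, 0⟩, ⟨1, 0⟩, ⟨0, 0⟩]],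
  ruOfArray ![![⟨0, 0⟩, ⟨0, 0⟩, ⟨0, 0⟩, ⟨1, -1⟩], ![⟨0, 0⟩, ⟨0, 0⟩, ⟨0, 0⟩, ⟨1, 1⟩], ![⟨0, 0⟩, ⟨0, 0⟩, ⟨0, 0⟩, ⟨1, -1⟩], ![⟨0, 0⟩, ⟨0, 0⟩, ⟨0, 0⟩, ⟨1, 1⟩], ![⟨0, 0⟩, ⟨0, 0⟩, ⟨0, 0⟩, ⟨1, -1⟩], ![⟨0, 0⟩, ⟨0, 0⟩, ⟨1, -1⟩, ⟨2, 0⟩], ![⟨0, -1⟩, ⟨-1, 0⟩, ⟨0, 1⟩, ⟨-1, 0⟩]]]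
def Ac0 : Fin 19 → Fin 19 → GaussianInt := ![
  ![⟨-2, 2⟩, ⟨0, 0⟩, ⟨0, 0⟩, ⟨0, 0⟩, ⟨0, 0⟩, ⟨0, 0⟩, ⟨0, 0⟩, ⟨0, 0⟩, ⟨0, 0⟩, ⟨0, 2⟩, ⟨1, 1⟩, ⟨1, 1⟩, ⟨1, 1⟩, ⟨1, 1⟩, ⟨0, 0⟩, ⟨1, 1⟩, ⟨0, 0⟩, ⟨1, 1⟩, ⟨1, 0⟩],
  ![⟨0, 0⟩, ⟨0, 0⟩, ⟨-2, 2⟩, ⟨0, 0⟩, ⟨0, 0⟩, ⟨0, 0⟩, ⟨0, 0⟩, ⟨0, 0⟩, ⟨0, 0⟩, ⟨0, 0⟩, ⟨1, 1⟩, ⟨0, 0⟩, ⟨0, 0⟩, ⟨0, 0⟩, ⟨1, 1⟩, ⟨1, 1⟩, ⟨1, 1⟩, ⟨1, 1⟩, ⟨1, 0⟩],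
  ![⟨0, 0⟩, ⟨-2, 2⟩, ⟨0, 0⟩, ⟨0, 0⟩, ⟨0, 0⟩, ⟨0, 0⟩, ⟨0, 0⟩, ⟨0, 0⟩, ⟨0, 0⟩, ⟨0, 0⟩, ⟨0, 0⟩, ⟨1, 1⟩, ⟨1, 1⟩, ⟨1, 1⟩, ⟨1, 1⟩, ⟨0, 0⟩, ⟨1, 1⟩, ⟨0, 0⟩, ⟨1, 0⟩],
  ![⟨0, 0⟩, ⟨0, 0⟩, ⟨0, 0⟩, ⟨0, 0⟩, ⟨0, 0⟩, ⟨0, 0⟩, ⟨0, 0⟩, ⟨0, 0⟩, ⟨0, 0⟩, ⟨0, 0⟩, ⟨0, 0⟩, ⟨0, 0⟩, ⟨0, 0⟩, ⟨0, 0⟩, ⟨0, 0⟩, ⟨0, 0⟩, ⟨0, 0⟩, ⟨0, 0⟩, ⟨1, 0⟩],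
  ![⟨0, 0⟩, ⟨0, 0⟩, ⟨0, 0⟩, ⟨-2, 2⟩, ⟨0, 0⟩, ⟨0, 0⟩, ⟨0, 0⟩, ⟨0, 0⟩, ⟨0, 0⟩, ⟨0, 2⟩, ⟨1, 1⟩, ⟨0, 0⟩, ⟨0, 0⟩, ⟨1, 1⟩, ⟨0, 0⟩, ⟨1, 1⟩, ⟨1, 1⟩, ⟨0, 0⟩, ⟨0, 0⟩],
  ![⟨0, 0⟩, ⟨0, 0⟩, ⟨0, 0⟩, ⟨0, 0⟩, ⟨-2, 2⟩, ⟨0, 0⟩, ⟨0, 0⟩, ⟨0, 0⟩, ⟨0, 0⟩, ⟨0, 0⟩, ⟨1, 1⟩, ⟨1, 1⟩, ⟨0, 0⟩, ⟨1, 1⟩, ⟨0, 0⟩, ⟨1, 1⟩, ⟨1, 1⟩, ⟨0, 0⟩, ⟨0, 0⟩],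
  ![⟨0, 0⟩, ⟨0, 0⟩, ⟨0, 0⟩, ⟨0, 0⟩, ⟨0, 0⟩, ⟨0, 0⟩, ⟨0, 0⟩, ⟨0, 0⟩, ⟨0, 0⟩, ⟨0, 0⟩, ⟨0, 0⟩, ⟨1, 1⟩, ⟨0, 0⟩, ⟨0, 0⟩, ⟨0, 0⟩, ⟨0, 0⟩, ⟨0, 0⟩, ⟨0, 0⟩, ⟨0, 0⟩],
  ![⟨0, 0⟩, ⟨0, 0⟩, ⟨0, 0⟩, ⟨0, 0⟩, ⟨0, 0⟩, ⟨0, 0⟩, ⟨0, 0⟩, ⟨-2, 2⟩, ⟨0, 0⟩, ⟨0, 2⟩, ⟨1, 1⟩, ⟨0, 0⟩, ⟨0, 0⟩, ⟨0, 0⟩, ⟨1, 1⟩, ⟨0, 0⟩, ⟨0, 0⟩, ⟨0, 0⟩, ⟨0, 0⟩],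
  ![⟨0, 0⟩, ⟨0, 0⟩, ⟨0, 0⟩, ⟨0, 0⟩, ⟨0, 0⟩, ⟨0, 0⟩, ⟨0, 0⟩, ⟨0, 0⟩, ⟨0, 0⟩, ⟨0, 0⟩, ⟨0, 0⟩, ⟨0, 0⟩, ⟨0, 0⟩, ⟨0, 0⟩, ⟨1, 1⟩, ⟨0, 0⟩, ⟨0, 0⟩, ⟨0, 0⟩, ⟨0, 0⟩],
  ![⟨0, 0⟩, ⟨0, 0⟩, ⟨0, 0⟩, ⟨0, 0⟩, ⟨0, 0⟩, ⟨0, 0⟩, ⟨0, 0⟩, ⟨0, 0⟩, ⟨0, 0⟩, ⟨0, 0⟩, ⟨1, 1⟩, ⟨0, 0⟩, ⟨0, 0⟩, ⟨0, 0⟩, ⟨0, 0⟩, ⟨0, 0⟩, ⟨0, 0⟩, ⟨0, 0⟩, ⟨0, 0⟩],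
  ![⟨0, 0⟩, ⟨0, 0⟩, ⟨0, 0⟩, ⟨0, 0⟩, ⟨0, 0⟩, ⟨0, 0⟩, ⟨-2, 2⟩, ⟨0, 0⟩, ⟨0, 0⟩, ⟨0, 2⟩, ⟨0, 0⟩, ⟨0, 0⟩, ⟨1, 1⟩, ⟨0, 0⟩, ⟨0, 0⟩, ⟨0, 0⟩, ⟨1, 1⟩, ⟨0, 0⟩, ⟨0, 0⟩],
  ![⟨0, 0⟩, ⟨0, 0⟩, ⟨0, 0⟩, ⟨0, 0⟩, ⟨0, 0⟩, ⟨0, 0⟩, ⟨0, 0⟩, ⟨0, 0⟩, ⟨0, 0⟩, ⟨0, 0⟩, ⟨0, 0⟩, ⟨0, 0⟩, ⟨1, 1⟩, ⟨0, 0⟩, ⟨0, 0⟩, ⟨0, 0⟩, ⟨0, 0⟩, ⟨0, 0⟩, ⟨0, 0⟩],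
  ![⟨0, 0⟩, ⟨0, 0⟩, ⟨0, 0⟩, ⟨0, 0⟩, ⟨0, 0⟩, ⟨0, 0⟩, ⟨0, 0⟩, ⟨0, 0⟩, ⟨0, 0⟩, ⟨0, 0⟩, ⟨0, 0⟩, ⟨0, 0⟩, ⟨0, 0⟩, ⟨0, 0⟩, ⟨0, 0⟩, ⟨0, 0⟩, ⟨1, 1⟩, ⟨0, 0⟩, ⟨0, 0⟩],
  ![⟨0, 0⟩, ⟨0, 0⟩, ⟨0, 0⟩, ⟨0, 0⟩, ⟨0, 0⟩, ⟨-2, 2⟩, ⟨0, 0⟩, ⟨0, 0⟩, ⟨0, 0⟩, ⟨0, 2⟩, ⟨0, 0⟩, ⟨0, 0⟩, ⟨0, 0⟩, ⟨1, 1⟩, ⟨0, 0⟩, ⟨0, 0⟩, ⟨0, 0⟩, ⟨1, 1⟩, ⟨0, 0⟩],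
  ![⟨0, 0⟩, ⟨0, 0⟩, ⟨0, 0⟩, ⟨0, 0⟩, ⟨0, 0⟩, ⟨0, 0⟩, ⟨0, 0⟩, ⟨0, 0⟩, ⟨0, 0⟩, ⟨0, 0⟩, ⟨0, 0⟩, ⟨0, 0⟩, ⟨0, 0⟩, ⟨1, 1⟩, ⟨0, 0⟩, ⟨0, 0⟩, ⟨0, 0⟩, ⟨0, 0⟩, ⟨0, 0⟩],
  ![⟨0, 0⟩, ⟨0, 0⟩, ⟨0, 0⟩, ⟨0, 0⟩, ⟨0, 0⟩, ⟨0, 0⟩, ⟨0, 0⟩, ⟨0, 0⟩, ⟨0, 0⟩, ⟨0, 0⟩, ⟨0, 0⟩, ⟨0, 0⟩, ⟨0, 0⟩, ⟨0, 0⟩, ⟨0, 0⟩, ⟨0, 0⟩, ⟨0, 0⟩, ⟨1, 1⟩, ⟨0, 0⟩],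
  ![⟨0, 0⟩, ⟨0, 0⟩, ⟨0, 0⟩, ⟨0, 0⟩, ⟨0, 0⟩, ⟨0, 0⟩, ⟨0, 0⟩, ⟨0, 0⟩, ⟨-2, 2⟩, ⟨0, 2⟩, ⟨0, 0⟩, ⟨0, 0⟩, ⟨0, 0⟩, ⟨0, 0⟩, ⟨0, 0⟩, ⟨1, 1⟩, ⟨0, 0⟩, ⟨0, 0⟩, ⟨0, 0⟩],
  ![⟨0, 0⟩, ⟨0, 0⟩, ⟨0, 0⟩, ⟨0, 0⟩, ⟨0, 0⟩, ⟨0, 0⟩, ⟨0, 0⟩, ⟨0, 0⟩, ⟨0, 0⟩, ⟨0, 0⟩, ⟨0, 0⟩, ⟨0, 0⟩, ⟨0, 0⟩, ⟨0, 0⟩, ⟨0, 0⟩, ⟨1, 1⟩, ⟨0, 0⟩, ⟨0, 0⟩, ⟨0, 0⟩],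
  ![⟨0, 0⟩, ⟨0, 0⟩, ⟨0, 0⟩, ⟨0, 0⟩, ⟨0, 0⟩, ⟨0, 0⟩, ⟨0, 0⟩, ⟨0, 0⟩, ⟨0, 0⟩, ⟨0, 2⟩, ⟨0, 0⟩, ⟨0, 0⟩, ⟨0, 0⟩, ⟨0, 0⟩, ⟨0, 0⟩, ⟨0, 0⟩, ⟨0, 0⟩, ⟨0, 0⟩, ⟨0, 0⟩]]
def Hm0A : Fin 19 → Fin 7 → Fin 4 → ZMod 2 := ![
  ![![1, 0, 0, 0], ![0, 0, 0, 1], ![0, 0, 0, 1], ![0, 0, 0, 1], ![0, 0, 0, 1], ![0, 0, 0, 1], ![0, 1, 0, 0]],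
  ![![0, 1, 0, 0], ![0, 0, 0, 1], ![0, 0, 0, 1], ![0, 0, 0, 1], ![0, 0, 0, 1], ![0, 0, 1, 0], ![0, 0, 1, 0]],
  ![![0, 0, 1, 0], ![0, 0, 0, 1], ![0, 0, 0, 1], ![0, 0, 0, 1], ![0, 0, 0, 1], ![0, 0, 1, 0], ![0, 1, 1, 1]],
  ![![0, 0, 0, 1], ![0, 0, 0, 1], ![0, 0, 0, 1], ![0, 0, 0, 1], ![0, 0, 0, 1], ![0, 0, 0, 1], ![0, 0, 0, 1]],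
  ![![0, 0, 0, 0], ![1, 0, 0, 1], ![0, 0, 0, 0], ![0, 0, 0, 0], ![0, 0, 0, 0], ![0, 0, 1, 1], ![0, 0, 1, 1]],
  ![![0, 0, 0, 0], ![0, 1, 0, 1], ![0, 0, 0, 0], ![0, 0, 0, 0], ![0, 0, 0, 0], ![0, 0, 1, 1], ![0, 1, 0, 1]],
  ![![0, 0, 0, 0], ![0, 0, 1, 1], ![0, 0, 0, 0], ![0, 0, 0, 0], ![0, 0, 0, 0], ![0, 0, 0, 0], ![0, 1, 1, 0]],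
  ![![0, 0, 0, 0], ![0, 0, 0, 0], ![1, 0, 0, 1], ![0, 0, 0, 0], ![0, 0, 0, 0], ![0, 0, 1, 1], ![0, 1, 0, 1]],
  ![![0, 0, 0, 0], ![0, 0, 0, 0], ![0, 1, 0, 1], ![0, 0, 0, 0], ![0, 0, 0, 0], ![0, 0, 1, 1], ![0, 0, 0, 0]],
  ![![0, 0, 0, 0], ![0, 0, 0, 0], ![0, 0, 1, 1], ![0, 0, 0, 0], ![0, 0, 0, 0], ![0, 0, 0, 0], ![0, 1, 0, 1]],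
  ![![0, 0, 0, 0], ![0, 0, 0, 0], ![0, 0, 0, 0], ![1, 0, 0, 1], ![0, 0, 0, 0], ![0, 0, 1, 1], ![0, 0, 0, 0]],
  ![![0, 0, 0, 0], ![0, 0, 0, 0], ![0, 0, 0, 0], ![0, 1, 0, 1], ![0, 0, 0, 0], ![0, 0, 0, 0], ![0, 0, 1, 1]],
  ![![0, 0, 0, 0], ![0, 0, 0, 0], ![0, 0, 0, 0], ![0, 0, 1, 1], ![0, 0, 0, 0], ![0, 0, 1, 1], ![0, 0, 1, 1]],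
  ![![0, 0, 0, 0], ![0, 0, 0, 0], ![0, 0, 0, 0], ![0, 0, 0, 0], ![1, 0, 0, 1], ![0, 0, 0, 0], ![0, 0, 1, 1]],
  ![![0, 0, 0, 0], ![0, 0, 0, 0], ![0, 0, 0, 0], ![0, 0, 0, 0], ![0, 1, 0, 1], ![0, 0, 1, 1], ![0, 1, 1, 0]],
  ![![0, 0, 0, 0], ![0, 0, 0, 0], ![0, 0, 0, 0], ![0, 0, 0, 0], ![0, 0, 1, 1], ![0, 0, 1, 1], ![0, 1, 0, 1]],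
  ![![0, 0, 0, 0], ![0, 0, 0, 0], ![0, 0, 0, 0], ![0, 0, 0, 0], ![0, 0, 0, 0], ![1, 0, 1, 0], ![0, 1, 1, 0]],
  ![![0, 0, 0, 0], ![0, 0, 0, 0], ![0, 0, 0, 0], ![0, 0, 0, 0], ![0, 0, 0, 0], ![0, 1, 0, 1], ![0, 1, 1, 0]],
  ![![0, 0, 0, 0], ![0, 0, 0, 0], ![0, 0, 0, 0], ![0, 0, 0, 0], ![0, 0, 0, 0], ![0, 0, 0, 0], ![1, 1, 1, 1]]]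
def Hm0 (j : Fin 19) (p : RuIdx) : ZMod 2 := Hm0A j p.1 p.2
def Gen0A : Fin 9 → Fin 7 → Fin 4 → ZMod 2 := ![
  ![![1, 1, 1, 1], ![1, 1, 1, 1], ![0, 0, 0, 0], ![0, 0, 0, 0], ![0, 0, 0, 0], ![0, 0, 0, 0], ![0, 0, 0, 0]],
  ![![1, 1, 1, 1], ![0, 0, 0, 0], ![1, 1, 1, 1], ![0, 0, 0, 0], ![0, 0, 0, 0], ![0, 0, 0, 0], ![0, 0, 0, 0]],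
  ![![1, 1, 1, 1], ![0, 0, 0, 0], ![0, 0, 0, 0], ![1, 1, 1, 1], ![0, 0, 0, 0], ![0, 0, 0, 0], ![0, 0, 0, 0]],
  ![![1, 1, 1, 1], ![0, 0, 0, 0], ![0, 0, 0, 0], ![0, 0, 0, 0], ![1, 1, 1, 1], ![0, 0, 0, 0], ![0, 0, 0, 0]],
  ![![0, 1, 1, 0], ![1, 1, 0, 0], ![1, 1, 0, 0], ![1, 0, 1, 0], ![0, 1, 1, 0], ![1, 0, 1, 0], ![0, 0, 0, 0]],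
  ![![1, 0, 0, 1], ![1, 1, 0, 0], ![1, 1, 0, 0], ![1, 0, 1, 0], ![0, 1, 1, 0], ![0, 1, 0, 1], ![0, 0, 0, 0]],
  ![![1, 0, 1, 0], ![0, 1, 1, 0], ![1, 0, 1, 0], ![0, 0, 0, 0], ![0, 1, 1, 0], ![1, 1, 0, 0], ![1, 1, 0, 0]],
  ![![0, 1, 1, 0], ![1, 0, 1, 0], ![0, 0, 0, 0], ![0, 1, 1, 0], ![1, 1, 0, 0], ![1, 1, 0, 0], ![1, 0, 1, 0]],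
  ![![0, 0, 1, 1], ![1, 1, 0, 0], ![1, 0, 1, 0], ![0, 1, 1, 0], ![1, 0, 1, 0], ![0, 0, 0, 0], ![1, 0, 0, 1]]]
def Gen0 (j : Fin 9) (p : RuIdx) : ZMod 2 := Gen0A j p.1 p.2
def fr0 : Fin 9 → RuIdx := ![(1, 3), (2, 3), (3, 3), (4, 3), (5, 2), (5, 3), (6, 1), (6, 2), (6, 3)]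
def pv0 : Fin 19 → RuIdx := ![(0, 0), (0, 1), (0, 2), (0, 3), (1, 0), (1, 1), (1, 2), (2, 0), (2, 1), (2, 2), (3, 0), (3, 1), (3, 2), (4, 0), (4, 1), (4, 2), (5, 0), (5, 1), (6, 0)]

theorem cert0 : ∀ (j : Fin 19) (n : Fin 7) (s : Fin 4),
    ppi ^ (3 - 0) * Hv0 j (n, s) = ∑ l, Ac0 j l * TT l (n, s) + 4 * (0 : RuVec) (n, s) := by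
  decide +kernel

theorem link0 : ∀ (j : Fin 19) (n : Fin 7) (s : Fin 4), epsFun (Hv0 j (n, s)) = Hm0 j (n, s) := by
  decide +kernel

theorem linkp0 (j : Fin 19) (p : RuIdx) : eps (Hv0 j p) = Hm0 j p :=
  (eps_eq_fun _).trans (link0 j p.1 p.2)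

theorem hG0 : ∀ (i : Fin 9) (j : Fin 19), ∑ p, Gen0 i p * Hm0 j p = 0 := by
  decide +kernel

theorem hGf0 : ∀ i i' : Fin 9, Gen0 i (fr0 i') = if i = i' then 1 else 0 := by
  decide +kernel

theorem hq0 : ∀ j : Fin 19, Hm0 j (pv0 j) = 1 := by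
  decide +kernel

theorem hoff0 : ∀ (j : Fin 19) (p : RuIdx), p ≠ pv0 j → (∃ i, fr0 i = p) ∨ Hm0 j p = 0 := by
  decide +kernel

theorem hcov0 : ∀ p : RuIdx, (∃ i, fr0 i = p) ∨ (∃ j, pv0 j = p) := by
  decide +kernel
def pr0 : Fin 21 → Fin 7 × Fin 7 := ![(0, 1), (0, 2), (0, 3), (0, 4), (0, 5), (0, 6), (1, 2), (1, 3), (1, 4), (1, 5), (1, 6), (2, 3), (2, 4), (2, 5), (2, 6), (3, 4), (3, 5), (3, 6), (4, 5), (4, 6), (5, 6)]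
def ind0 (j : Fin 21) (p : RuIdx) : ZMod 2 := if p.1 = (pr0 j).1 ∨ p.1 = (pr0 j).2 then 1 else 0
def p00 (j : Fin 21) : RuIdx := ((pr0 j).1, 0)
def tau0 : Fin 21 → RuVec := ![
  ruOfArray ![![⟨2, 2⟩, ⟨0, 0⟩, ⟨0, 0⟩, ⟨0, 0⟩], ![⟨0, 0⟩, ⟨0, 0⟩, ⟨0, 0⟩, ⟨0, 0⟩], ![⟨0, 0⟩, ⟨2, 2⟩, ⟨0, 2⟩, ⟨0, 2⟩], ![⟨2, 0⟩, ⟨0, 2⟩, ⟨2, 0⟩, ⟨2, 0⟩], ![⟨0, 0⟩, ⟨0, 0⟩, ⟨2, 2⟩, ⟨2, 2⟩], ![⟨0, 0⟩, ⟨0, 0⟩, ⟨0, 0⟩, ⟨0, 0⟩], ![⟨0, 0⟩, ⟨0, 2⟩, ⟨2, 2⟩, ⟨2, 0⟩]],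
  ruOfArray ![![⟨2, 2⟩, ⟨0, 0⟩, ⟨0, 0⟩, ⟨0, 0⟩], ![⟨2, 2⟩, ⟨0, 0⟩, ⟨2, 2⟩, ⟨2, 2⟩], ![⟨0, 0⟩, ⟨0, 0⟩, ⟨0, 0⟩, ⟨0, 0⟩], ![⟨0, 0⟩, ⟨2, 2⟩, ⟨2, 2⟩, ⟨0, 0⟩], ![⟨0, 0⟩, ⟨2, 0⟩, ⟨2, 2⟩, ⟨2, 0⟩], ![⟨0, 0⟩, ⟨0, 0⟩, ⟨2, 0⟩, ⟨0, 2⟩], ![⟨0, 2⟩, ⟨0, 0⟩, ⟨2, 2⟩, ⟨0, 2⟩]],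
  ruOfArray ![![⟨2, 2⟩, ⟨0, 0⟩, ⟨0, 0⟩, ⟨0, 0⟩], ![⟨2, 0⟩, ⟨2, 0⟩, ⟨0, 2⟩, ⟨2, 0⟩], ![⟨0, 0⟩, ⟨2, 2⟩, ⟨2, 0⟩, ⟨2, 0⟩], ![⟨0, 0⟩, ⟨0, 0⟩, ⟨0, 0⟩, ⟨0, 0⟩], ![⟨0, 0⟩, ⟨0, 0⟩, ⟨2, 2⟩, ⟨2, 2⟩], ![⟨0, 0⟩, ⟨0, 0⟩, ⟨0, 0⟩, ⟨0, 0⟩], ![⟨0, 0⟩, ⟨2, 0⟩, ⟨2, 2⟩, ⟨0, 2⟩]],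
  ruOfArray ![![⟨2, 2⟩, ⟨0, 0⟩, ⟨0, 0⟩, ⟨0, 0⟩], ![⟨2, 2⟩, ⟨0, 0⟩, ⟨2, 2⟩, ⟨0, 0⟩], ![⟨0, 0⟩, ⟨2, 2⟩, ⟨0, 2⟩, ⟨0, 2⟩], ![⟨0, 0⟩, ⟨2, 2⟩, ⟨2, 2⟩, ⟨0, 0⟩], ![⟨0, 0⟩, ⟨0, 0⟩, ⟨0, 0⟩, ⟨0, 0⟩], ![⟨2, 0⟩, ⟨0, 2⟩, ⟨2, 0⟩, ⟨2, 0⟩], ![⟨2, 2⟩, ⟨2, 0⟩, ⟨0, 0⟩, ⟨0, 2⟩]],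
  ruOfArray ![![⟨2, 2⟩, ⟨0, 0⟩, ⟨0, 0⟩, ⟨0, 0⟩], ![⟨2, 2⟩, ⟨0, 0⟩, ⟨2, 2⟩, ⟨0, 0⟩], ![⟨0, 0⟩, ⟨0, 0⟩, ⟨2, 0⟩, ⟨0, 2⟩], ![⟨0, 0⟩, ⟨2, 2⟩, ⟨2, 2⟩, ⟨0, 0⟩], ![⟨0, 0⟩, ⟨0, 0⟩, ⟨2, 2⟩, ⟨2, 2⟩], ![⟨0, 0⟩, ⟨0, 0⟩, ⟨0, 0⟩, ⟨0, 0⟩], ![⟨0, 2⟩, ⟨0, 0⟩, ⟨2, 0⟩, ⟨0, 0⟩]],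
  ruOfArray ![![⟨2, 2⟩, ⟨0, 0⟩, ⟨0, 0⟩, ⟨0, 0⟩], ![⟨2, 2⟩, ⟨2, 0⟩, ⟨2, 2⟩, ⟨0, 2⟩], ![⟨0, 0⟩, ⟨0, 0⟩, ⟨0, 2⟩, ⟨2, 0⟩], ![⟨0, 0⟩, ⟨0, 2⟩, ⟨2, 0⟩, ⟨2, 2⟩], ![⟨0, 0⟩, ⟨2, 0⟩, ⟨0, 0⟩, ⟨2, 0⟩], ![⟨0, 0⟩, ⟨2, 0⟩, ⟨2, 0⟩, ⟨2, 2⟩], ![⟨0, 0⟩, ⟨0, 0⟩, ⟨0, 0⟩, ⟨0, 0⟩]],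
  ruOfArray ![![⟨2, 2⟩, ⟨0, 0⟩, ⟨2, 2⟩, ⟨2, 2⟩], ![⟨2, 2⟩, ⟨0, 0⟩, ⟨0, 0⟩, ⟨0, 0⟩], ![⟨0, 0⟩, ⟨0, 0⟩, ⟨0, 0⟩, ⟨0, 0⟩], ![⟨0, 0⟩, ⟨0, 0⟩, ⟨0, 0⟩, ⟨0, 0⟩], ![⟨2, 0⟩, ⟨2, 2⟩, ⟨2, 0⟩, ⟨2, 2⟩], ![⟨0, 0⟩, ⟨0, 0⟩, ⟨0, 2⟩, ⟨2, 0⟩], ![⟨2, 2⟩, ⟨2, 0⟩, ⟨2, 0⟩, ⟨2, 2⟩]],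
  ruOfArray ![![⟨2, 2⟩, ⟨0, 0⟩, ⟨2, 2⟩, ⟨2, 2⟩], ![⟨2, 2⟩, ⟨0, 0⟩, ⟨0, 0⟩, ⟨0, 0⟩], ![⟨0, 0⟩, ⟨2, 2⟩, ⟨0, 0⟩, ⟨2, 2⟩], ![⟨0, 0⟩, ⟨0, 0⟩, ⟨0, 0⟩, ⟨0, 0⟩], ![⟨0, 0⟩, ⟨0, 2⟩, ⟨2, 2⟩, ⟨0, 2⟩], ![⟨0, 0⟩, ⟨0, 0⟩, ⟨2, 0⟩, ⟨0, 2⟩], ![⟨0, 2⟩, ⟨2, 2⟩, ⟨0, 0⟩, ⟨0, 2⟩]],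
  ruOfArray ![![⟨0, 0⟩, ⟨0, 0⟩, ⟨0, 0⟩, ⟨2, 2⟩], ![⟨2, 2⟩, ⟨0, 0⟩, ⟨0, 0⟩, ⟨0, 0⟩], ![⟨2, 0⟩, ⟨2, 0⟩, ⟨0, 2⟩, ⟨0, 2⟩], ![⟨0, 0⟩, ⟨2, 0⟩, ⟨2, 2⟩, ⟨2, 0⟩], ![⟨0, 0⟩, ⟨0, 0⟩, ⟨0, 0⟩, ⟨0, 0⟩], ![⟨0, 0⟩, ⟨0, 0⟩, ⟨0, 0⟩, ⟨2, 2⟩], ![⟨0, 0⟩, ⟨0, 0⟩, ⟨0, 2⟩, ⟨0, 2⟩]],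
  ruOfArray ![![⟨0, 2⟩, ⟨2, 0⟩, ⟨0, 2⟩, ⟨2, 0⟩], ![⟨2, 2⟩, ⟨0, 0⟩, ⟨0, 0⟩, ⟨0, 0⟩], ![⟨0, 0⟩, ⟨0, 2⟩, ⟨0, 0⟩, ⟨0, 2⟩], ![⟨0, 0⟩, ⟨2, 2⟩, ⟨2, 2⟩, ⟨2, 2⟩], ![⟨0, 0⟩, ⟨0, 2⟩, ⟨2, 2⟩, ⟨0, 2⟩], ![⟨0, 0⟩, ⟨0, 0⟩, ⟨0, 0⟩, ⟨0, 0⟩], ![⟨2, 2⟩, ⟨0, 2⟩, ⟨2, 0⟩, ⟨0, 0⟩]],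
  ruOfArray ![![⟨0, 2⟩, ⟨0, 2⟩, ⟨0, 2⟩, ⟨2, 0⟩], ![⟨2, 2⟩, ⟨0, 0⟩, ⟨0, 0⟩, ⟨0, 0⟩], ![⟨0, 0⟩, ⟨2, 2⟩, ⟨2, 0⟩, ⟨2, 0⟩], ![⟨0, 0⟩, ⟨2, 2⟩, ⟨0, 0⟩, ⟨0, 0⟩], ![⟨0, 0⟩, ⟨2, 2⟩, ⟨0, 2⟩, ⟨2, 0⟩], ![⟨2, 0⟩, ⟨2, 0⟩, ⟨0, 0⟩, ⟨0, 0⟩], ![⟨0, 0⟩, ⟨0, 0⟩, ⟨0, 0⟩, ⟨0, 0⟩]],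
  ruOfArray ![![⟨0, 0⟩, ⟨0, 0⟩, ⟨0, 0⟩, ⟨0, 0⟩], ![⟨0, 0⟩, ⟨0, 0⟩, ⟨0, 0⟩, ⟨0, 0⟩], ![⟨2, 2⟩, ⟨0, 0⟩, ⟨0, 0⟩, ⟨0, 0⟩], ![⟨0, 0⟩, ⟨0, 0⟩, ⟨0, 0⟩, ⟨0, 0⟩], ![⟨0, 0⟩, ⟨0, 0⟩, ⟨0, 2⟩, ⟨2, 0⟩], ![⟨2, 0⟩, ⟨0, 2⟩, ⟨0, 0⟩, ⟨0, 0⟩], ![⟨0, 2⟩, ⟨0, 0⟩, ⟨2, 0⟩, ⟨2, 2⟩]],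
  ruOfArray ![![⟨0, 0⟩, ⟨0, 0⟩, ⟨2, 2⟩, ⟨0, 0⟩], ![⟨2, 2⟩, ⟨0, 0⟩, ⟨2, 2⟩, ⟨2, 2⟩], ![⟨2, 2⟩, ⟨0, 0⟩, ⟨0, 0⟩, ⟨0, 0⟩], ![⟨0, 0⟩, ⟨0, 2⟩, ⟨0, 0⟩, ⟨2, 0⟩], ![⟨0, 0⟩, ⟨0, 0⟩, ⟨0, 0⟩, ⟨0, 0⟩], ![⟨0, 0⟩, ⟨2, 2⟩, ⟨2, 2⟩, ⟨2, 2⟩], ![⟨0, 2⟩, ⟨2, 0⟩, ⟨0, 0⟩, ⟨0, 0⟩]],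
  ruOfArray ![![⟨2, 2⟩, ⟨0, 0⟩, ⟨0, 0⟩, ⟨0, 0⟩], ![⟨0, 0⟩, ⟨0, 0⟩, ⟨2, 0⟩, ⟨0, 2⟩], ![⟨2, 2⟩, ⟨0, 0⟩, ⟨0, 0⟩, ⟨0, 0⟩], ![⟨2, 0⟩, ⟨0, 2⟩, ⟨2, 0⟩, ⟨0, 2⟩], ![⟨0, 0⟩, ⟨0, 0⟩, ⟨2, 2⟩, ⟨0, 0⟩], ![⟨0, 0⟩, ⟨0, 0⟩, ⟨0, 0⟩, ⟨0, 0⟩], ![⟨2, 2⟩, ⟨2, 0⟩, ⟨2, 0⟩, ⟨2, 2⟩]],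
  ruOfArray ![![⟨0, 0⟩, ⟨0, 0⟩, ⟨2, 2⟩, ⟨2, 2⟩], ![⟨2, 2⟩, ⟨0, 0⟩, ⟨0, 2⟩, ⟨2, 0⟩], ![⟨2, 2⟩, ⟨0, 0⟩, ⟨0, 0⟩, ⟨0, 0⟩], ![⟨0, 0⟩, ⟨2, 2⟩, ⟨0, 0⟩, ⟨0, 0⟩], ![⟨0, 0⟩, ⟨2, 0⟩, ⟨0, 0⟩, ⟨2, 0⟩], ![⟨0, 0⟩, ⟨2, 2⟩, ⟨0, 2⟩, ⟨0, 2⟩], ![⟨0, 0⟩, ⟨0, 0⟩, ⟨0, 0⟩, ⟨0, 0⟩]],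
  ruOfArray ![![⟨2, 0⟩, ⟨2, 0⟩, ⟨2, 0⟩, ⟨0, 2⟩], ![⟨0, 0⟩, ⟨0, 0⟩, ⟨0, 0⟩, ⟨0, 0⟩], ![⟨0, 0⟩, ⟨2, 0⟩, ⟨0, 0⟩, ⟨2, 0⟩], ![⟨2, 2⟩, ⟨0, 0⟩, ⟨0, 0⟩, ⟨0, 0⟩], ![⟨0, 0⟩, ⟨0, 0⟩, ⟨0, 0⟩, ⟨0, 0⟩], ![⟨0, 0⟩, ⟨0, 0⟩, ⟨2, 0⟩, ⟨0, 2⟩], ![⟨0, 2⟩, ⟨0, 2⟩, ⟨0, 2⟩, ⟨2, 0⟩]],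
  ruOfArray ![![⟨2, 0⟩, ⟨2, 0⟩, ⟨2, 0⟩, ⟨2, 0⟩], ![⟨0, 0⟩, ⟨0, 0⟩, ⟨2, 0⟩, ⟨0, 2⟩], ![⟨0, 0⟩, ⟨0, 0⟩, ⟨0, 0⟩, ⟨2, 2⟩], ![⟨2, 2⟩, ⟨0, 0⟩, ⟨0, 0⟩, ⟨0, 0⟩], ![⟨0, 0⟩, ⟨0, 0⟩, ⟨0, 0⟩, ⟨2, 2⟩], ![⟨0, 0⟩, ⟨0, 0⟩, ⟨0, 0⟩, ⟨0, 0⟩], ![⟨0, 0⟩, ⟨0, 2⟩, ⟨0, 2⟩, ⟨0, 0⟩]],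
  ruOfArray ![![⟨0, 0⟩, ⟨2, 0⟩, ⟨2, 2⟩, ⟨2, 0⟩], ![⟨0, 2⟩, ⟨0, 0⟩, ⟨0, 0⟩, ⟨0, 2⟩], ![⟨0, 0⟩, ⟨2, 0⟩, ⟨0, 2⟩, ⟨0, 0⟩], ![⟨2, 2⟩, ⟨0, 0⟩, ⟨0, 0⟩, ⟨0, 0⟩], ![⟨2, 0⟩, ⟨2, 0⟩, ⟨2, 2⟩, ⟨0, 0⟩], ![⟨0, 0⟩, ⟨0, 0⟩, ⟨0, 0⟩, ⟨0, 0⟩], ![⟨0, 0⟩, ⟨0, 0⟩, ⟨0, 0⟩, ⟨0, 0⟩]],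
  ruOfArray ![![⟨2, 2⟩, ⟨0, 0⟩, ⟨2, 2⟩, ⟨2, 2⟩], ![⟨2, 2⟩, ⟨0, 0⟩, ⟨2, 0⟩, ⟨2, 0⟩], ![⟨0, 0⟩, ⟨2, 2⟩, ⟨0, 0⟩, ⟨0, 0⟩], ![⟨0, 0⟩, ⟨0, 0⟩, ⟨0, 0⟩, ⟨2, 2⟩], ![⟨2, 2⟩, ⟨0, 0⟩, ⟨0, 0⟩, ⟨0, 0⟩], ![⟨0, 0⟩, ⟨0, 0⟩, ⟨0, 0⟩, ⟨0, 0⟩], ![⟨2, 0⟩, ⟨0, 0⟩, ⟨0, 0⟩, ⟨0, 2⟩]],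
  ruOfArray ![![⟨0, 0⟩, ⟨2, 2⟩, ⟨0, 2⟩, ⟨0, 2⟩], ![⟨2, 0⟩, ⟨0, 0⟩, ⟨2, 2⟩, ⟨0, 2⟩], ![⟨0, 0⟩, ⟨2, 0⟩, ⟨0, 0⟩, ⟨0, 2⟩], ![⟨0, 0⟩, ⟨0, 2⟩, ⟨0, 0⟩, ⟨0, 2⟩], ![⟨2, 2⟩, ⟨0, 0⟩, ⟨0, 0⟩, ⟨0, 0⟩], ![⟨0, 0⟩, ⟨2, 0⟩, ⟨2, 0⟩, ⟨0, 0⟩], ![⟨0, 0⟩, ⟨0, 0⟩, ⟨0, 0⟩, ⟨0, 0⟩]],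
  ruOfArray ![![⟨2, 0⟩, ⟨0, 2⟩, ⟨2, 2⟩, ⟨2, 2⟩], ![⟨0, 0⟩, ⟨0, 0⟩, ⟨0, 2⟩, ⟨0, 2⟩], ![⟨0, 0⟩, ⟨0, 2⟩, ⟨2, 0⟩, ⟨2, 2⟩], ![⟨0, 0⟩, ⟨2, 2⟩, ⟨2, 0⟩, ⟨0, 2⟩], ![⟨0, 0⟩, ⟨2, 0⟩, ⟨0, 0⟩, ⟨0, 2⟩], ![⟨2, 2⟩, ⟨0, 0⟩, ⟨0, 0⟩, ⟨0, 0⟩], ![⟨0, 0⟩, ⟨0, 0⟩, ⟨0, 0⟩, ⟨0, 0⟩]]]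
def Atau0 : Fin 21 → Fin 19 → GaussianInt := ![
  ![⟨2, 2⟩, ⟨0, 0⟩, ⟨0, 0⟩, ⟨0, 0⟩, ⟨0, 0⟩, ⟨0, 0⟩, ⟨2, 0⟩, ⟨0, 0⟩, ⟨0, 0⟩, ⟨1, -1⟩, ⟨0, -1⟩, ⟨0, 0⟩, ⟨0, 0⟩, ⟨0, 0⟩, ⟨0, 0⟩, ⟨0, 0⟩, ⟨0, 0⟩, ⟨0, 0⟩, ⟨0, 0⟩],
  ![⟨2, 2⟩, ⟨0, 0⟩, ⟨0, 0⟩, ⟨2, 2⟩, ⟨0, 0⟩, ⟨0, 0⟩, ⟨0, 0⟩, ⟨0, 0⟩, ⟨0, 0⟩, ⟨1, -1⟩, ⟨0, 0⟩, ⟨0, 0⟩, ⟨0, 0⟩, ⟨0, -1⟩, ⟨0, 0⟩, ⟨0, 0⟩, ⟨0, 0⟩, ⟨0, 0⟩, ⟨0, 0⟩],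
  ![⟨2, 2⟩, ⟨0, 0⟩, ⟨0, 0⟩, ⟨2, 0⟩, ⟨2, 0⟩, ⟨0, 0⟩, ⟨0, 0⟩, ⟨0, 0⟩, ⟨0, 0⟩, ⟨1, -1⟩, ⟨0, -1⟩, ⟨0, 0⟩, ⟨0, 0⟩, ⟨0, 0⟩, ⟨0, 0⟩, ⟨0, 0⟩, ⟨0, 0⟩, ⟨0, 0⟩, ⟨0, 0⟩],
  ![⟨2, 2⟩, ⟨0, 0⟩, ⟨0, 0⟩, ⟨2, 2⟩, ⟨0, 0⟩, ⟨0, 0⟩, ⟨0, 0⟩, ⟨0, 0⟩, ⟨2, 0⟩, ⟨1, -1⟩, ⟨0, -1⟩, ⟨0, 0⟩, ⟨0, 0⟩, ⟨0, 0⟩, ⟨0, 0⟩, ⟨0, 0⟩, ⟨0, 0⟩, ⟨0, 0⟩, ⟨0, 0⟩],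
  ![⟨2, 2⟩, ⟨0, 0⟩, ⟨0, 0⟩, ⟨2, 2⟩, ⟨0, 0⟩, ⟨0, 0⟩, ⟨0, 0⟩, ⟨0, 0⟩, ⟨0, 0⟩, ⟨1, -1⟩, ⟨0, -1⟩, ⟨0, 0⟩, ⟨0, 0⟩, ⟨0, 0⟩, ⟨0, 0⟩, ⟨0, 0⟩, ⟨0, 0⟩, ⟨0, 0⟩, ⟨0, 0⟩],
  ![⟨2, 2⟩, ⟨0, 0⟩, ⟨0, 0⟩, ⟨2, 2⟩, ⟨2, 0⟩, ⟨0, 0⟩, ⟨0, 0⟩, ⟨0, 0⟩, ⟨0, 0⟩, ⟨0, 0⟩, ⟨0, 0⟩, ⟨0, -1⟩, ⟨0, -1⟩, ⟨0, 0⟩, ⟨0, 0⟩, ⟨0, 0⟩, ⟨0, 0⟩, ⟨0, 0⟩, ⟨0, 0⟩],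
  ![⟨2, 2⟩, ⟨2, 2⟩, ⟨0, 0⟩, ⟨2, 2⟩, ⟨0, 0⟩, ⟨2, 0⟩, ⟨0, 0⟩, ⟨0, 0⟩, ⟨0, 0⟩, ⟨1, -1⟩, ⟨0, 0⟩, ⟨0, 0⟩, ⟨0, 0⟩, ⟨0, -1⟩, ⟨0, 0⟩, ⟨0, 0⟩, ⟨0, 0⟩, ⟨0, 0⟩, ⟨0, 0⟩],
  ![⟨2, 2⟩, ⟨2, 2⟩, ⟨0, 0⟩, ⟨2, 2⟩, ⟨0, 0⟩, ⟨0, 0⟩, ⟨0, 0⟩, ⟨0, 0⟩, ⟨0, 0⟩, ⟨1, -1⟩, ⟨0, 0⟩, ⟨0, 0⟩, ⟨0, 0⟩, ⟨0, -1⟩, ⟨0, 0⟩, ⟨0, 0⟩, ⟨0, 0⟩, ⟨0, 0⟩, ⟨0, 0⟩],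
  ![⟨0, 0⟩, ⟨0, 0⟩, ⟨0, 0⟩, ⟨2, 2⟩, ⟨0, 0⟩, ⟨0, 0⟩, ⟨0, 0⟩, ⟨2, 0⟩, ⟨0, 0⟩, ⟨1, -1⟩, ⟨0, 0⟩, ⟨0, 0⟩, ⟨0, -1⟩, ⟨0, 0⟩, ⟨0, 0⟩, ⟨0, 0⟩, ⟨0, 0⟩, ⟨0, 0⟩, ⟨0, 0⟩],
  ![⟨0, 2⟩, ⟨0, 2⟩, ⟨2, 0⟩, ⟨2, 2⟩, ⟨0, 0⟩, ⟨0, 0⟩, ⟨0, 0⟩, ⟨0, 0⟩, ⟨0, 0⟩, ⟨1, -1⟩, ⟨0, 0⟩, ⟨0, 0⟩, ⟨0, 0⟩, ⟨0, -1⟩, ⟨0, -1⟩, ⟨0, 0⟩, ⟨0, 0⟩, ⟨0, 0⟩, ⟨0, 0⟩],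
  ![⟨0, 2⟩, ⟨0, 2⟩, ⟨0, 2⟩, ⟨2, 2⟩, ⟨0, 0⟩, ⟨0, 0⟩, ⟨0, 0⟩, ⟨0, 0⟩, ⟨2, 0⟩, ⟨0, 0⟩, ⟨0, -1⟩, ⟨0, 0⟩, ⟨0, 0⟩, ⟨0, 0⟩, ⟨0, 0⟩, ⟨0, 0⟩, ⟨0, 0⟩, ⟨0, -1⟩, ⟨0, 0⟩],
  ![⟨0, 0⟩, ⟨0, 0⟩, ⟨0, 0⟩, ⟨0, 0⟩, ⟨0, 0⟩, ⟨0, 0⟩, ⟨0, 0⟩, ⟨2, 2⟩, ⟨2, 0⟩, ⟨0, 0⟩, ⟨0, 0⟩, ⟨0, 0⟩, ⟨0, 0⟩, ⟨0, 0⟩, ⟨0, 0⟩, ⟨0, 0⟩, ⟨0, 0⟩, ⟨0, -1⟩, ⟨0, 0⟩],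
  ![⟨0, 0⟩, ⟨2, 2⟩, ⟨0, 0⟩, ⟨2, 2⟩, ⟨0, 0⟩, ⟨0, 0⟩, ⟨0, 0⟩, ⟨2, 2⟩, ⟨0, 0⟩, ⟨1, -1⟩, ⟨0, 0⟩, ⟨0, 0⟩, ⟨0, -1⟩, ⟨0, 0⟩, ⟨0, 0⟩, ⟨0, 0⟩, ⟨0, 0⟩, ⟨0, 0⟩, ⟨0, 0⟩],
  ![⟨2, 2⟩, ⟨0, 0⟩, ⟨0, 0⟩, ⟨0, 0⟩, ⟨0, 0⟩, ⟨0, 0⟩, ⟨2, 0⟩, ⟨2, 2⟩, ⟨0, 0⟩, ⟨1, -1⟩, ⟨0, 0⟩, ⟨0, -1⟩, ⟨0, 0⟩, ⟨0, 0⟩, ⟨0, 0⟩, ⟨0, 0⟩, ⟨0, 0⟩, ⟨0, 0⟩, ⟨0, 0⟩],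
  ![⟨0, 0⟩, ⟨2, 2⟩, ⟨0, 0⟩, ⟨2, 2⟩, ⟨0, 0⟩, ⟨0, 0⟩, ⟨0, 0⟩, ⟨2, 2⟩, ⟨0, 0⟩, ⟨0, 0⟩, ⟨0, 0⟩, ⟨0, -1⟩, ⟨0, 0⟩, ⟨0, -1⟩, ⟨0, 0⟩, ⟨0, 0⟩, ⟨0, 0⟩, ⟨0, 0⟩, ⟨0, 0⟩],
  ![⟨2, 0⟩, ⟨2, 0⟩, ⟨2, 0⟩, ⟨0, 0⟩, ⟨0, 0⟩, ⟨0, 0⟩, ⟨2, 2⟩, ⟨0, 0⟩, ⟨0, 0⟩, ⟨0, 0⟩, ⟨0, 0⟩, ⟨0, 0⟩, ⟨0, 0⟩, ⟨0, 0⟩, ⟨0, -1⟩, ⟨0, 0⟩, ⟨0, 0⟩, ⟨0, 0⟩, ⟨0, 0⟩],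
  ![⟨2, 0⟩, ⟨2, 0⟩, ⟨2, 0⟩, ⟨0, 0⟩, ⟨0, 0⟩, ⟨0, 0⟩, ⟨2, 2⟩, ⟨0, 0⟩, ⟨0, 0⟩, ⟨1, -1⟩, ⟨0, 0⟩, ⟨0, -1⟩, ⟨0, 0⟩, ⟨0, 0⟩, ⟨0, 0⟩, ⟨0, 0⟩, ⟨0, 0⟩, ⟨0, 0⟩, ⟨0, 0⟩],
  ![⟨0, 0⟩, ⟨2, 2⟩, ⟨2, 0⟩, ⟨0, 2⟩, ⟨0, 0⟩, ⟨2, 0⟩, ⟨2, 2⟩, ⟨0, 0⟩, ⟨0, 0⟩, ⟨0, 0⟩, ⟨0, -1⟩, ⟨0, 0⟩, ⟨0, 0⟩, ⟨0, -1⟩, ⟨0, 0⟩, ⟨0, 0⟩, ⟨0, 0⟩, ⟨0, 0⟩, ⟨0, 0⟩],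
  ![⟨2, 2⟩, ⟨2, 2⟩, ⟨0, 0⟩, ⟨2, 2⟩, ⟨0, 0⟩, ⟨2, 2⟩, ⟨0, 0⟩, ⟨0, 0⟩, ⟨0, 0⟩, ⟨1, -1⟩, ⟨0, 0⟩, ⟨0, -1⟩, ⟨0, 0⟩, ⟨0, 0⟩, ⟨0, 0⟩, ⟨0, 0⟩, ⟨0, 0⟩, ⟨0, 0⟩, ⟨0, 0⟩],
  ![⟨0, 0⟩, ⟨0, 2⟩, ⟨2, 2⟩, ⟨2, 0⟩, ⟨0, 0⟩, ⟨2, 2⟩, ⟨0, 0⟩, ⟨0, 0⟩, ⟨0, 0⟩, ⟨1, -1⟩, ⟨0, -1⟩, ⟨0, -1⟩, ⟨0, 0⟩, ⟨0, 0⟩, ⟨0, 0⟩, ⟨0, 0⟩, ⟨0, 0⟩, ⟨0, 0⟩, ⟨0, 0⟩],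
  ![⟨2, 0⟩, ⟨2, 2⟩, ⟨0, 2⟩, ⟨0, 0⟩, ⟨0, 0⟩, ⟨0, 0⟩, ⟨0, 0⟩, ⟨0, 0⟩, ⟨2, 2⟩, ⟨1, -1⟩, ⟨0, -1⟩, ⟨0, 0⟩, ⟨0, -1⟩, ⟨0, 0⟩, ⟨0, 0⟩, ⟨0, 0⟩, ⟨0, 0⟩, ⟨0, 0⟩, ⟨0, 0⟩]]
def Wtau0 : Fin 21 → RuVec := ![
  ruOfArray ![![⟨0, 0⟩, ⟨0, 0⟩, ⟨0, 0⟩, ⟨-2, 0⟩], ![⟨0, 0⟩, ⟨0, 0⟩, ⟨-1, 1⟩, ⟨-1, 0⟩], ![⟨0, 0⟩, ⟨0, 1⟩, ⟨-1, 1⟩, ⟨-2, 0⟩], ![⟨0, 0⟩, ⟨-1, 1⟩, ⟨0, 0⟩, ⟨1, -1⟩], ![⟨0, 0⟩, ⟨-1, 0⟩, ⟨0, 0⟩, ⟨-2, 1⟩], ![⟨0, 0⟩, ⟨-1, 0⟩, ⟨0, -1⟩, ⟨0, -1⟩], ![⟨-1, 0⟩, ⟨0, 1⟩, ⟨-1, -1⟩, ⟨-1, -1⟩]],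
  ruOfArray ![![⟨0, 0⟩, ⟨0, 0⟩, ⟨0, 0⟩, ⟨-1, 1⟩], ![⟨0, 0⟩, ⟨0, 0⟩, ⟨0, 1⟩, ⟨0, 0⟩], ![⟨0, 0⟩, ⟨-1, 0⟩, ⟨-1, 0⟩, ⟨-2, 1⟩], ![⟨0, 0⟩, ⟨-1, 1⟩, ⟨0, 1⟩, ⟨1, 0⟩], ![⟨0, 0⟩, ⟨-1, 0⟩, ⟨-1, 0⟩, ⟨-1, -1⟩], ![⟨0, 0⟩, ⟨-1, 0⟩, ⟨0, -2⟩, ⟨1, -1⟩], ![⟨-1, 0⟩, ⟨0, 1⟩, ⟨-1, -2⟩, ⟨-1, 0⟩]],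
  ruOfArray ![![⟨0, 0⟩, ⟨0, 0⟩, ⟨0, 0⟩, ⟨0, 1⟩], ![⟨0, 0⟩, ⟨0, 0⟩, ⟨-1, 1⟩, ⟨0, -1⟩], ![⟨0, 0⟩, ⟨0, 1⟩, ⟨-1, 1⟩, ⟨-2, 0⟩], ![⟨0, 0⟩, ⟨-1, 1⟩, ⟨0, 1⟩, ⟨0, -1⟩], ![⟨0, 0⟩, ⟨-1, 0⟩, ⟨-1, 1⟩, ⟨-2, -1⟩], ![⟨0, 0⟩, ⟨-1, 0⟩, ⟨-1, -1⟩, ⟨0, -2⟩], ![⟨-1, 0⟩, ⟨1, 1⟩, ⟨-1, 0⟩, ⟨-1, 0⟩]],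
  ruOfArray ![![⟨0, 0⟩, ⟨0, 0⟩, ⟨0, 0⟩, ⟨-1, 1⟩], ![⟨0, 0⟩, ⟨0, 0⟩, ⟨0, 1⟩, ⟨-1, -1⟩], ![⟨0, 0⟩, ⟨-1, 1⟩, ⟨-2, 1⟩, ⟨-2, 1⟩], ![⟨0, 0⟩, ⟨-1, 1⟩, ⟨0, 1⟩, ⟨0, -1⟩], ![⟨0, 0⟩, ⟨-1, 0⟩, ⟨-2, 0⟩, ⟨-2, -1⟩], ![⟨0, 0⟩, ⟨-1, 1⟩, ⟨1, -3⟩, ⟨2, -1⟩], ![⟨-1, 0⟩, ⟨1, 0⟩, ⟨-2, -2⟩, ⟨-2, 1⟩]],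
  ruOfArray ![![⟨0, 0⟩, ⟨0, 0⟩, ⟨0, 0⟩, ⟨-1, 1⟩], ![⟨0, 0⟩, ⟨0, 0⟩, ⟨0, 1⟩, ⟨-1, 0⟩], ![⟨0, 0⟩, ⟨-1, 0⟩, ⟨-1, 0⟩, ⟨-2, 1⟩], ![⟨0, 0⟩, ⟨-1, 1⟩, ⟨0, 1⟩, ⟨1, 0⟩], ![⟨0, 0⟩, ⟨-1, 0⟩, ⟨-1, 0⟩, ⟨-1, 0⟩], ![⟨0, 0⟩, ⟨-1, 0⟩, ⟨0, -2⟩, ⟨1, -1⟩], ![⟨-1, 0⟩, ⟨0, 1⟩, ⟨-1, -2⟩, ⟨-1, 0⟩]],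
  ruOfArray ![![⟨0, 0⟩, ⟨0, 0⟩, ⟨0, 0⟩, ⟨0, 1⟩], ![⟨0, 0⟩, ⟨0, 0⟩, ⟨-1, 1⟩, ⟨0, 0⟩], ![⟨0, 0⟩, ⟨-1, 0⟩, ⟨-1, 1⟩, ⟨-1, 0⟩], ![⟨0, 0⟩, ⟨-2, 1⟩, ⟨0, 1⟩, ⟨1, 0⟩], ![⟨0, 0⟩, ⟨-1, 0⟩, ⟨-2, 0⟩, ⟨-1, -2⟩], ![⟨0, 0⟩, ⟨-1, 0⟩, ⟨0, -2⟩, ⟨2, -1⟩], ![⟨-1, -1⟩, ⟨0, 1⟩, ⟨-1, -1⟩, ⟨-2, 0⟩]],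
  ruOfArray ![![⟨0, 0⟩, ⟨0, 0⟩, ⟨0, 0⟩, ⟨-2, 1⟩], ![⟨0, 0⟩, ⟨0, 0⟩, ⟨-1, 0⟩, ⟨0, -2⟩], ![⟨0, 0⟩, ⟨-2, 1⟩, ⟨-2, 0⟩, ⟨-3, -1⟩], ![⟨0, 0⟩, ⟨-2, 1⟩, ⟨-1, 1⟩, ⟨-1, -1⟩], ![⟨0, 0⟩, ⟨-2, 1⟩, ⟨-2, 0⟩, ⟨-1, -1⟩], ![⟨0, 0⟩, ⟨-1, 0⟩, ⟨-1, -1⟩, ⟨2, -1⟩], ![⟨-1, 0⟩, ⟨0, 2⟩, ⟨-2, -4⟩, ⟨-2, -1⟩]],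
  ruOfArray ![![⟨0, 0⟩, ⟨0, 0⟩, ⟨0, 0⟩, ⟨-2, 1⟩], ![⟨0, 0⟩, ⟨0, 0⟩, ⟨-1, 0⟩, ⟨1, -1⟩], ![⟨0, 0⟩, ⟨-1, 1⟩, ⟨-2, 0⟩, ⟨-2, 0⟩], ![⟨0, 0⟩, ⟨-2, 1⟩, ⟨-1, 1⟩, ⟨0, -1⟩], ![⟨0, 0⟩, ⟨-2, 1⟩, ⟨-2, 0⟩, ⟨-1, 0⟩], ![⟨0, 0⟩, ⟨-1, 0⟩, ⟨0, -2⟩, ⟨2, -1⟩], ![⟨-1, 0⟩, ⟨0, 2⟩, ⟨-3, -3⟩, ⟨-2, 0⟩]],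
  ruOfArray ![![⟨0, 0⟩, ⟨0, 0⟩, ⟨0, 0⟩, ⟨-1, 2⟩], ![⟨0, 0⟩, ⟨0, 0⟩, ⟨0, 0⟩, ⟨0, 0⟩], ![⟨0, 0⟩, ⟨-1, 0⟩, ⟨-1, 0⟩, ⟨-1, 2⟩], ![⟨0, 0⟩, ⟨-1, 0⟩, ⟨0, 1⟩, ⟨0, 0⟩], ![⟨0, 0⟩, ⟨-1, 1⟩, ⟨-1, 0⟩, ⟨0, 0⟩], ![⟨0, 0⟩, ⟨-1, 1⟩, ⟨-1, -1⟩, ⟨-1, 0⟩], ![⟨-1, 0⟩, ⟨0, 0⟩, ⟨-1, -1⟩, ⟨0, 0⟩]],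
  ruOfArray ![![⟨0, 0⟩, ⟨0, 0⟩, ⟨0, 0⟩, ⟨0, 0⟩], ![⟨0, 0⟩, ⟨0, 0⟩, ⟨-1, 0⟩, ⟨0, 0⟩], ![⟨0, 0⟩, ⟨-2, 1⟩, ⟨-2, -1⟩, ⟨-1, 0⟩], ![⟨0, 0⟩, ⟨-2, 1⟩, ⟨-1, 1⟩, ⟨1, 1⟩], ![⟨0, 0⟩, ⟨-2, 1⟩, ⟨-1, 0⟩, ⟨-1, -1⟩], ![⟨0, 0⟩, ⟨-1, 0⟩, ⟨-1, 0⟩, ⟨1, -1⟩], ![⟨0, 0⟩, ⟨-1, 2⟩, ⟨-1, -3⟩, ⟨-1, -1⟩]],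
  ruOfArray ![![⟨0, 0⟩, ⟨0, 0⟩, ⟨0, 0⟩, ⟨0, 0⟩], ![⟨0, 0⟩, ⟨0, 0⟩, ⟨-1, -1⟩, ⟨1, -1⟩], ![⟨0, 0⟩, ⟨-2, 1⟩, ⟨-2, -1⟩, ⟨0, -1⟩], ![⟨0, 0⟩, ⟨-2, 0⟩, ⟨-1, 0⟩, ⟨0, 0⟩], ![⟨0, 0⟩, ⟨-1, 0⟩, ⟨-3, 0⟩, ⟨1, -1⟩], ![⟨0, 0⟩, ⟨0, 0⟩, ⟨0, -3⟩, ⟨3, 1⟩], ![⟨-1, -1⟩, ⟨-1, 0⟩, ⟨-3, -2⟩, ⟨-2, 0⟩]],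
  ruOfArray ![![⟨0, 0⟩, ⟨0, 0⟩, ⟨0, 0⟩, ⟨-1, -1⟩], ![⟨0, 0⟩, ⟨0, 0⟩, ⟨0, 0⟩, ⟨0, -1⟩], ![⟨0, 0⟩, ⟨-1, 0⟩, ⟨-1, 0⟩, ⟨-2, 0⟩], ![⟨0, 0⟩, ⟨0, 0⟩, ⟨0, 0⟩, ⟨-1, -1⟩], ![⟨0, 0⟩, ⟨-1, 0⟩, ⟨-1, 1⟩, ⟨1, 0⟩], ![⟨0, 0⟩, ⟨-1, 1⟩, ⟨1, -1⟩, ⟨-1, -1⟩], ![⟨-1, 0⟩, ⟨0, -1⟩, ⟨-1, 1⟩, ⟨0, 0⟩]],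
  ruOfArray ![![⟨0, 0⟩, ⟨0, 0⟩, ⟨0, 0⟩, ⟨-3, 0⟩], ![⟨0, 0⟩, ⟨0, 0⟩, ⟨0, 0⟩, ⟨2, 0⟩], ![⟨0, 0⟩, ⟨-2, 0⟩, ⟨-2, -1⟩, ⟨-2, -1⟩], ![⟨0, 0⟩, ⟨-2, 1⟩, ⟨-1, 1⟩, ⟨-1, -1⟩], ![⟨0, 0⟩, ⟨-2, 1⟩, ⟨-2, 0⟩, ⟨1, 1⟩], ![⟨0, 0⟩, ⟨-1, 1⟩, ⟨0, 0⟩, ⟨0, -1⟩], ![⟨-1, 0⟩, ⟨0, 0⟩, ⟨-3, -2⟩, ⟨0, -1⟩]],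
  ruOfArray ![![⟨0, 0⟩, ⟨0, 0⟩, ⟨0, 0⟩, ⟨-3, -1⟩], ![⟨0, 0⟩, ⟨0, 0⟩, ⟨-1, 1⟩, ⟨-1, 0⟩], ![⟨0, 0⟩, ⟨-1, 0⟩, ⟨-1, 0⟩, ⟨-3, -1⟩], ![⟨0, 0⟩, ⟨-1, 1⟩, ⟨0, 0⟩, ⟨1, -1⟩], ![⟨0, 0⟩, ⟨-2, 0⟩, ⟨0, 0⟩, ⟨-1, 0⟩], ![⟨0, 0⟩, ⟨-2, 0⟩, ⟨1, -1⟩, ⟨-1, -2⟩], ![⟨-1, 0⟩, ⟨0, 0⟩, ⟨-1, -1⟩, ⟨-1, -2⟩]],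
  ruOfArray ![![⟨0, 0⟩, ⟨0, 0⟩, ⟨0, 0⟩, ⟨-2, 0⟩], ![⟨0, 0⟩, ⟨0, 0⟩, ⟨-1, 0⟩, ⟨2, 0⟩], ![⟨0, 0⟩, ⟨-2, 0⟩, ⟨-2, -1⟩, ⟨-2, -1⟩], ![⟨0, 0⟩, ⟨-1, 1⟩, ⟨-1, 1⟩, ⟨-1, 0⟩], ![⟨0, 0⟩, ⟨-2, 1⟩, ⟨-2, 0⟩, ⟨2, 0⟩], ![⟨0, 0⟩, ⟨-1, 1⟩, ⟨0, -1⟩, ⟨0, -1⟩], ![⟨-1, -1⟩, ⟨-1, 1⟩, ⟨-3, -1⟩, ⟨-1, -1⟩]],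
  ruOfArray ![![⟨0, 0⟩, ⟨0, 0⟩, ⟨0, 0⟩, ⟨-2, 0⟩], ![⟨0, 0⟩, ⟨0, 0⟩, ⟨-2, 1⟩, ⟨-1, 0⟩], ![⟨0, 0⟩, ⟨-1, 1⟩, ⟨-1, 1⟩, ⟨-1, 0⟩], ![⟨0, 0⟩, ⟨-1, 1⟩, ⟨-1, 0⟩, ⟨0, -1⟩], ![⟨0, 0⟩, ⟨-2, 1⟩, ⟨-1, 1⟩, ⟨-2, -1⟩], ![⟨0, 0⟩, ⟨-2, 0⟩, ⟨0, -1⟩, ⟨2, -3⟩], ![⟨-1, 0⟩, ⟨0, 2⟩, ⟨-1, 0⟩, ⟨-1, 0⟩]],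
  ruOfArray ![![⟨0, 0⟩, ⟨0, 0⟩, ⟨0, 0⟩, ⟨-2, 0⟩], ![⟨0, 0⟩, ⟨0, 0⟩, ⟨-2, 1⟩, ⟨-2, 0⟩], ![⟨0, 0⟩, ⟨-1, 1⟩, ⟨-1, 1⟩, ⟨-1, 1⟩], ![⟨0, 0⟩, ⟨-1, 1⟩, ⟨-1, 0⟩, ⟨0, -2⟩], ![⟨0, 0⟩, ⟨-2, 1⟩, ⟨-1, 1⟩, ⟨-2, 0⟩], ![⟨0, 0⟩, ⟨-2, 0⟩, ⟨-1, -1⟩, ⟨1, -3⟩], ![⟨-1, 0⟩, ⟨1, 2⟩, ⟨-1, 0⟩, ⟨-1, 0⟩]],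
  ruOfArray ![![⟨0, 0⟩, ⟨0, 0⟩, ⟨0, 0⟩, ⟨-2, -1⟩], ![⟨0, 0⟩, ⟨0, 0⟩, ⟨-2, 0⟩, ⟨-1, 1⟩], ![⟨0, 0⟩, ⟨-2, 1⟩, ⟨-2, 0⟩, ⟨-1, -1⟩], ![⟨0, 0⟩, ⟨-2, 0⟩, ⟨-2, 0⟩, ⟨-2, 0⟩], ![⟨0, 0⟩, ⟨-3, 1⟩, ⟨-1, 1⟩, ⟨-2, -1⟩], ![⟨0, 0⟩, ⟨-2, 0⟩, ⟨-1, -1⟩, ⟨2, -1⟩], ![⟨-1, -1⟩, ⟨0, 2⟩, ⟨-1, -3⟩, ⟨-1, -2⟩]],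
  ruOfArray ![![⟨0, 0⟩, ⟨0, 0⟩, ⟨0, 0⟩, ⟨-2, 1⟩], ![⟨0, 0⟩, ⟨0, 0⟩, ⟨-1, 0⟩, ⟨1, -3⟩], ![⟨0, 0⟩, ⟨-2, 1⟩, ⟨-2, 0⟩, ⟨-2, -2⟩], ![⟨0, 0⟩, ⟨-2, 1⟩, ⟨-1, 1⟩, ⟨0, -2⟩], ![⟨0, 0⟩, ⟨-2, 0⟩, ⟨-3, 0⟩, ⟨0, -2⟩], ![⟨0, 0⟩, ⟨-1, 0⟩, ⟨-1, -2⟩, ⟨1, -1⟩], ![⟨-1, -1⟩, ⟨-1, 2⟩, ⟨-1, -3⟩, ⟨-2, -1⟩]],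
  ruOfArray ![![⟨0, 0⟩, ⟨0, 0⟩, ⟨0, 0⟩, ⟨0, 1⟩], ![⟨0, 0⟩, ⟨0, 0⟩, ⟨-1, 0⟩, ⟨-1, -2⟩], ![⟨0, 0⟩, ⟨-2, 1⟩, ⟨-2, -1⟩, ⟨0, -1⟩], ![⟨0, 0⟩, ⟨-2, 1⟩, ⟨-1, 0⟩, ⟨-1, -1⟩], ![⟨0, 0⟩, ⟨-2, 0⟩, ⟨-2, 1⟩, ⟨0, -2⟩], ![⟨0, 0⟩, ⟨0, 0⟩, ⟨-3, 0⟩, ⟨-1, 0⟩], ![⟨-1, 0⟩, ⟨-1, 2⟩, ⟨-1, -1⟩, ⟨0, -1⟩]],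
  ruOfArray ![![⟨0, 0⟩, ⟨0, 0⟩, ⟨0, 0⟩, ⟨-2, 1⟩], ![⟨0, 0⟩, ⟨0, 0⟩, ⟨-1, 0⟩, ⟨1, -2⟩], ![⟨0, 0⟩, ⟨-2, 1⟩, ⟨-2, 0⟩, ⟨-2, 0⟩], ![⟨0, 0⟩, ⟨-1, 1⟩, ⟨0, 0⟩, ⟨-2, -3⟩], ![⟨0, 0⟩, ⟨-1, 0⟩, ⟨-3, 0⟩, ⟨-1, 1⟩], ![⟨0, 0⟩, ⟨-1, 0⟩, ⟨0, -1⟩, ⟨1, 1⟩], ![⟨-1, 0⟩, ⟨1, 1⟩, ⟨-4, -1⟩, ⟨-3, 1⟩]]]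

theorem chk0 : allV 9 (fun a => decide (GoodP 8 Gen0 ind0 a)) = true := by
  decide +kernel

theorem wtind0 : ∀ j : Fin 21, wt (ind0 j) = 8 := by
  decide +kernel

theorem certtau0 : ∀ (j : Fin 21) (n : Fin 7) (s : Fin 4),
    tau0 j (n, s) = ∑ l, Atau0 j l * TT l (n, s) + 4 * Wtau0 j (n, s) := by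
  decide +kernel

theorem exc0 : ∀ (j : Fin 21) (p : RuIdx), p ≠ p00 j → ind0 j p = 0 ∨ tau0 j p = 0 := by
  decide +kernel

theorem hp00 : ∀ j : Fin 21, ind0 j (p00 j) = 1 := by
  decide +kernel

theorem hno0 : ∀ j : Fin 21, ¬ (16 : ℤ) ∣ 2 ^ 0 * (tau0 j (p00 j)).norm := by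
  decide +kernel

theorem level0 (y : RuVec) (hy : (fun p => ppi ^ 0 * y p) ∈ KK) (hn : ruNorm y = 8)
    (hodd : ∃ p, eps (y p) ≠ 0) : False :=
  level_exc 0 (by omega) 8 y hy hn hodd Hv0 Ac0 (fun j p => cert0 j p.1 p.2) Hm0 linkp0
    fr0 pv0 Gen0 hG0 hGf0 hq0 hoff0 hcov0 ind0 chk0 wtind0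
    tau0 Atau0 Wtau0 (fun j p => certtau0 j p.1 p.2) p00 exc0 hp00 hno0

end Cfsg.Agent.Helper93.RuL
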