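import Cfsg.Agent.Helper93.RuBase

set_option autoImplicit false

namespace Cfsg.Agent.Helper93.RuL

open Cfsg Cfsg.Spor

/-- The Gaussian prime `1 + i`. -/
def ppi : GaussianInt := ⟨1, 1⟩

/-- Reduction modulo `1 + i`. -/
def eps : GaussianInt →+* ZMod 2 := Zsqrtd.lift ⟨1, by decide⟩

theorem eps_apply (z : GaussianInt) : eps z = ((z.re + z.im : ℤ) : ZMod 2) := by
  show (z.re : ZMod 2) + (z.im : ZMod 2) * 1 = _
  rw [mul_one, Int.cast_add]

/-- Computable parity of a Gaussian integer. -/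
def epsFun (z : GaussianInt) : ZMod 2 := if (z.re + z.im) % 2 = 0 then 0 else 1

theorem eps_eq_fun (z : GaussianInt) : eps z = epsFun z := by
  rw [eps_apply, epsFun]
  split_ifs with h
  · exact (ZMod.intCast_zmod_eq_zero_iff_dvd _ 2).2 (Int.dvd_of_emod_eq_zero h)
  · have h2 : z.re + z.im = 2 * ((z.re + z.im) / 2) + 1 := by omega
    rw [h2]
    push_cast
    have h3 : (2 : ZMod 2) = 0 := by decide
    rw [h3, zero_mul, zero_add]

theorem zmod2_cases : ∀ c : ZMod 2, c = 0 ∨ c = 1 := by decide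

theorem val0 : (0 : ZMod 2).val = 0 := rfl
theorem val1 : (1 : ZMod 2).val = 1 := rfl

theorem eps_ppi : eps ppi = 0 := by rw [eps_eq_fun]; decide

theorem eps_zero_dvd {z : GaussianInt} (h : eps z = 0) : ∃ w, z = ppi * w := by
  rw [eps_apply] at h
  have h2 : ((2 : ℕ) : ℤ) ∣ z.re + z.im := (ZMod.intCast_zmod_eq_zero_iff_dvd _ 2).1 h
  obtain ⟨k, hk⟩ := h2
  push_cast at hk
  refine ⟨⟨k, k - z.re⟩, ?_⟩
  apply Zsqrtd.ext
  · show z.re = 1 * k + (-1) * 1 * (k - z.re)
    ring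
  · show z.im = 1 * (k - z.re) + 1 * k
    omega

theorem eps_ne_zero_norm {z : GaussianInt} (h : eps z ≠ 0) : 1 ≤ z.norm := by
  have hz : z ≠ 0 := fun h0 => h (by rw [h0, map_zero])
  have h1 : z.norm ≠ 0 := fun h0 => hz (GaussianInt.norm_eq_zero.1 h0)
  have h2 := GaussianInt.norm_nonneg z
  omega

theorem val_le_norm (z : GaussianInt) : ((eps z).val : ℤ) ≤ z.norm := by
  rcases zmod2_cases (eps z) with h | h
  · rw [h, val0]
    exact_mod_cast GaussianInt.norm_nonneg z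
  · have h1 := eps_ne_zero_norm (z := z) (by rw [h]; decide)
    rw [h, val1]
    exact_mod_cast h1

/-- Hamming weight of a parity vector. -/
def wt (c : RuIdx → ZMod 2) : ℕ := ∑ p : RuIdx, (c p).val

theorem wt_le_norm (y : RuVec) : (wt (fun p => eps (y p)) : ℤ) ≤ ruNorm y := by
  simp only [wt, ruNorm, Nat.cast_sum]
  exact Finset.sum_le_sum (fun p _ => val_le_norm (y p))

theorem norm_eq_of_wt_eq (y : RuVec) (h : ruNorm y = (wt (fun p => eps (y p)) : ℤ)) (p : RuIdx) :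
    (y p).norm = ((eps (y p)).val : ℤ) := by
  have h0 : ∑ q : RuIdx, ((y q).norm - ((eps (y q)).val : ℤ)) = 0 := by
    rw [Finset.sum_sub_distrib]
    simp only [wt, ruNorm, Nat.cast_sum] at h
    rw [h]
    exact sub_self _
  have h1 := (Finset.sum_eq_zero_iff_of_nonneg
    (fun q _ => sub_nonneg.2 (val_le_norm (y q)))).1 h0 p (Finset.mem_univ _)
  exact sub_eq_zero.1 h1

theorem norm_ppi : ppi.norm = 2 := by decide

theorem norm_ppi_pow (k : ℕ) : (ppi ^ k).norm = 2 ^ k := by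
  induction k with
  | zero => rw [pow_zero, pow_zero]; exact Zsqrtd.norm_one
  | succ k ih => rw [pow_succ, Zsqrtd.norm_mul, ih, norm_ppi, pow_succ]

theorem ruNorm_ppi (y : RuVec) : ruNorm (fun p => ppi * y p) = 2 * ruNorm y := by
  simp only [ruNorm, Zsqrtd.norm_mul, norm_ppi, Finset.mul_sum]

theorem four_dvd_norm {z : GaussianInt} (h : (4 : GaussianInt) ∣ z) : (16 : ℤ) ∣ z.norm := by
  obtain ⟨w, rfl⟩ := h
  rw [Zsqrtd.norm_mul]
  have h4 : (4 : GaussianInt).norm = 16 := by decide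
  rw [h4]
  exact dvd_mul_right _ _

theorem four_eq : (4 : GaussianInt) = ppi ^ 3 * (-ppi) := by decide

theorem ppi3_ne : ppi ^ 3 ≠ 0 := by decide

theorem ppi_dvd_of_four {b : GaussianInt} (h : (4 : GaussianInt) ∣ ppi ^ 3 * b) : ppi ∣ b := by
  obtain ⟨c, hc⟩ := h
  rw [four_eq, mul_assoc] at hc
  have h1 := mul_left_cancel₀ ppi3_ne hc
  exact ⟨-c, by rw [h1]; ring⟩

theorem eps_of_ppi_dvd {b : GaussianInt} (h : ppi ∣ b) : eps b = 0 := by
  obtain ⟨c, rfl⟩ := h
  rw [map_mul, eps_ppi, zero_mul]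

/-- A vector `ppi^k • y` of the dual is orthogonal modulo `1 + i` to every `τ` with
`ppi^(3-k) • τ` in the span of the test vectors. -/
theorem rel_of_mem (k : ℕ) (hk : k ≤ 3) (y : RuVec) (hy : (fun p => ppi ^ k * y p) ∈ KK)
    (τ : RuVec) (A : Fin 19 → GaussianInt) (w : RuVec)
    (h : ∀ p, ppi ^ (3 - k) * τ p = ∑ l, A l * TT l p + 4 * w p) :
    ∑ p, eps (y p) * eps (τ p) = 0 := by
  have h4 := KK_dvd hy (fun p => ppi ^ (3 - k) * τ p) A w h
  rw [bet_mul_left, bet_mul_right, ← mul_assoc, ← pow_add] at h4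
  have hk3 : k + (3 - k) = 3 := by omega
  rw [hk3] at h4
  have h0 := eps_of_ppi_dvd (ppi_dvd_of_four h4)
  rw [bet, map_sum] at h0
  simpa only [map_mul] using h0

theorem kill (k : ℕ) (y : RuVec) (hy : (fun p => ppi ^ k * y p) ∈ KK) (τ : RuVec)
    (A : Fin 19 → GaussianInt) (w : RuVec) (hτ : ∀ p, τ p = ∑ l, A l * TT l p + 4 * w p)
    (p0 : RuIdx) (hsupp : ∀ p, p ≠ p0 → y p = 0 ∨ τ p = 0) (h1 : (y p0).norm = 1)
    (hno : ¬ (16 : ℤ) ∣ 2 ^ k * (τ p0).norm) : False := by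
  have h4 := KK_dvd hy τ A w hτ
  rw [bet_mul_left] at h4
  have hb : bet y τ = y p0 * τ p0 := by
    unfold bet
    refine Finset.sum_eq_single p0 (fun p _ hp => ?_) (fun h => absurd (Finset.mem_univ _) h)
    rcases hsupp p hp with h | h
    · rw [h, zero_mul]
    · rw [h, mul_zero]
  rw [hb] at h4
  have h16 := four_dvd_norm h4
  rw [Zsqrtd.norm_mul, Zsqrtd.norm_mul, h1, one_mul, norm_ppi_pow] at h16
  exact hno h16

/-- A parity vector satisfying reduced check relations is generated by its free coordinates. -/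
theorem param {r nf : ℕ} (c : RuIdx → ZMod 2) (Hm : Fin r → RuIdx → ZMod 2) (f : Fin nf → RuIdx)
    (q : Fin r → RuIdx) (Gen : Fin nf → RuIdx → ZMod 2)
    (hrel : ∀ j, ∑ p, c p * Hm j p = 0)
    (hG : ∀ i j, ∑ p, Gen i p * Hm j p = 0)
    (hGf : ∀ i i', Gen i (f i') = if i = i' then 1 else 0)
    (hq : ∀ j, Hm j (q j) = 1)
    (hoff : ∀ j p, p ≠ q j → (∃ i, f i = p) ∨ Hm j p = 0)
    (hcov : ∀ p, (∃ i, f i = p) ∨ (∃ j, q j = p)) :
    c = fun p => ∑ i, c (f i) * Gen i p := by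
  have hfree : ∀ i', c (f i') - ∑ i, c (f i) * Gen i (f i') = 0 := by
    intro i'
    rw [Finset.sum_eq_single i']
    · rw [hGf, if_pos rfl, mul_one, sub_self]
    · intro b _ hb
      rw [hGf, if_neg hb, mul_zero]
    · intro h
      exact absurd (Finset.mem_univ _) h
  have hrel' : ∀ j, ∑ p, (c p - ∑ i, c (f i) * Gen i p) * Hm j p = 0 := by
    intro j
    simp only [sub_mul, Finset.sum_sub_distrib, hrel j, Finset.sum_mul]
    rw [Finset.sum_comm]
    simp only [mul_assoc, ← Finset.mul_sum, hG, mul_zero, Finset.sum_const_zero, sub_zero]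
  have hpiv : ∀ j, c (q j) - ∑ i, c (f i) * Gen i (q j) = 0 := by
    intro j
    have h := hrel' j
    rw [Finset.sum_eq_single (q j)] at h
    · rw [hq j, mul_one] at h
      exact h
    · intro p _ hp
      rcases hoff j p hp with ⟨i, rfl⟩ | h0
      · rw [hfree, zero_mul]
      · rw [h0, mul_zero]
    · intro h
      exact absurd (Finset.mem_univ _) h
  funext p
  rcases hcov p with ⟨i, rfl⟩ | ⟨j, rfl⟩
  · exact sub_eq_zero.1 (hfree i)
  · exact sub_eq_zero.1 (hpiv j)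

/-- Exhaustive check over all `ZMod 2`-valued assignments of `k` variables. -/
def allV : (k : ℕ) → ((Fin k → ZMod 2) → Bool) → Bool
  | 0, P => P (fun i => i.elim0)
  | k + 1, P => allV k (fun a => P (Fin.cons 0 a)) && allV k (fun a => P (Fin.cons 1 a))

theorem allV_sound : ∀ (k : ℕ) (P : (Fin k → ZMod 2) → Bool), allV k P = true → ∀ a, P a = true
  | 0, P, h, a => by
      have ha : a = fun i => i.elim0 := funext (fun i => i.elim0)
      rw [ha]
      exact h
  | k + 1, P, h, a => by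
      simp only [allV, Bool.and_eq_true] at h
      have ha : Fin.cons (a 0) (Fin.tail a) = a := Fin.cons_self_tail a
      rcases zmod2_cases (a 0) with h0 | h1
      · rw [← ha, h0]
        exact allV_sound k _ h.1 _
      · rw [← ha, h1]
        exact allV_sound k _ h.2 _

/-- The finite statement checked for the codes of levels 0 and 1. -/
def GoodP {nf ne : ℕ} (N : ℕ) (Gen : Fin nf → RuIdx → ZMod 2) (ind : Fin ne → RuIdx → ZMod 2)
    (a : Fin nf → ZMod 2) : Prop :=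
  (∀ p, (∑ i, a i * Gen i p) = 0) ∨ N + 1 ≤ wt (fun p => ∑ i, a i * Gen i p) ∨
    ∃ j, ∀ p, (∑ i, a i * Gen i p) = ind j p

instance {nf ne : ℕ} (N : ℕ) (Gen : Fin nf → RuIdx → ZMod 2) (ind : Fin ne → RuIdx → ZMod 2)
    (a : Fin nf → ZMod 2) : Decidable (GoodP N Gen ind a) := by
  unfold GoodP
  infer_instance

theorem level_exc (k : ℕ) (hk : k ≤ 3) (N : ℕ) (y : RuVec)
    (hy : (fun p => ppi ^ k * y p) ∈ KK) (hn : ruNorm y = N) (hodd : ∃ p, eps (y p) ≠ 0)
    {r nf ne : ℕ}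
    (Hv : Fin r → RuVec) (Ac : Fin r → Fin 19 → GaussianInt)
    (hcert : ∀ j p, ppi ^ (3 - k) * Hv j p = ∑ l, Ac j l * TT l p + 4 * (0 : RuVec) p)
    (Hm : Fin r → RuIdx → ZMod 2) (hlink : ∀ j p, eps (Hv j p) = Hm j p)
    (f : Fin nf → RuIdx) (q : Fin r → RuIdx) (Gen : Fin nf → RuIdx → ZMod 2)
    (hG : ∀ i j, ∑ p, Gen i p * Hm j p = 0)
    (hGf : ∀ i i', Gen i (f i') = if i = i' then 1 else 0)
    (hq : ∀ j, Hm j (q j) = 1)
    (hoff : ∀ j p, p ≠ q j → (∃ i, f i = p) ∨ Hm j p = 0)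
    (hcov : ∀ p, (∃ i, f i = p) ∨ (∃ j, q j = p))
    (ind : Fin ne → RuIdx → ZMod 2)
    (hchk : allV nf (fun a => decide (GoodP N Gen ind a)) = true)
    (hwt : ∀ j, wt (ind j) = N)
    (τ : Fin ne → RuVec) (Aτ : Fin ne → Fin 19 → GaussianInt) (Wτ : Fin ne → RuVec)
    (hτ : ∀ j p, τ j p = ∑ l, Aτ j l * TT l p + 4 * Wτ j p)
    (p0 : Fin ne → RuIdx)
    (hexc : ∀ j p, p ≠ p0 j → ind j p = 0 ∨ τ j p = 0)
    (hp0 : ∀ j, ind j (p0 j) = 1)
    (hno : ∀ j, ¬ (16 : ℤ) ∣ 2 ^ k * (τ j (p0 j)).norm) : False := by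
  obtain ⟨c, hc⟩ : ∃ c : RuIdx → ZMod 2, ∀ p, c p = eps (y p) :=
    ⟨fun p => eps (y p), fun _ => rfl⟩
  have hce : c = fun p => eps (y p) := funext hc
  have hrel : ∀ j, ∑ p, c p * Hm j p = 0 := by
    intro j
    have h := rel_of_mem k hk y hy (Hv j) (Ac j) 0 (hcert j)
    rw [← h]
    exact Finset.sum_congr rfl (fun p _ => by rw [hc, hlink])
  have hpar := param c Hm f q Gen hrel hG hGf hq hoff hcov
  have hgood := allV_sound nf _ hchk (fun i => c (f i))
  rw [decide_eq_true_eq] at hgood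
  have hcp : ∀ p, (∑ i, c (f i) * Gen i p) = c p := fun p => (congrFun hpar p).symm
  unfold GoodP at hgood
  simp only [hcp] at hgood
  have hwle : (wt c : ℤ) ≤ ruNorm y := by
    have h := wt_le_norm y
    rw [hce]
    exact h
  rcases hgood with h | h | ⟨j, h⟩
  · obtain ⟨p, hp⟩ := hodd
    exact hp (by rw [← hc]; exact h p)
  · rw [hn] at hwle
    have h1 : wt c ≤ N := by exact_mod_cast hwle
    have h2 : N + 1 ≤ wt c := h
    omega
  · have hcj : c = ind j := funext h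
    have hw : ruNorm y = (wt (fun p => eps (y p)) : ℤ) := by rw [hn, ← hce, hcj, hwt]
    have hnorm := norm_eq_of_wt_eq y hw
    refine kill k y hy (τ j) (Aτ j) (Wτ j) (hτ j) (p0 j) (fun p hp => ?_) ?_ (hno j)
    · rcases hexc j p hp with h0 | h0
      · left
        have h1 := hnorm p
        rw [← hc, h p, h0, val0] at h1
        exact GaussianInt.norm_eq_zero.1 (by exact_mod_cast h1)
      · exact Or.inr h0
    · have h1 := hnorm (p0 j)
      rw [← hc, h (p0 j), hp0 j, val1] at h1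
      exact_mod_cast h1

/-- A nonzero parity vector of weight at most two cannot satisfy check relations whose
columns are nonzero and pairwise distinct. -/
theorem low_weight (y : RuVec) (hn : ruNorm y ≤ 2) (hodd : ∃ p, eps (y p) ≠ 0) {r : ℕ}
    (Hm : Fin r → RuIdx → ZMod 2) (hrel : ∀ j, ∑ p, eps (y p) * Hm j p = 0)
    (hcol1 : ∀ p, ∃ j, Hm j p ≠ 0) (hcol2 : ∀ p p', p ≠ p' → ∃ j, Hm j p + Hm j p' ≠ 0) :
    False := by
  classical
  obtain ⟨O, hO⟩ : ∃ O : Finset RuIdx, O = Finset.univ.filter (fun p => eps (y p) ≠ 0) := ⟨_, rfl⟩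
  have hwt : wt (fun p => eps (y p)) = O.card := by
    rw [hO, Finset.card_filter]
    refine Finset.sum_congr rfl (fun p _ => ?_)
    show (eps (y p)).val = if eps (y p) ≠ 0 then 1 else 0
    rcases zmod2_cases (eps (y p)) with h | h
    · rw [h, if_neg (not_not.2 rfl)]; rfl
    · rw [h, if_pos (by decide)]; rfl
  have hle : O.card ≤ 2 := by
    have h := wt_le_norm y
    rw [hwt] at h
    have h2 : (O.card : ℤ) ≤ 2 := h.trans hn
    exact_mod_cast h2
  have hpos : 0 < O.card := by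
    obtain ⟨p, hp⟩ := hodd
    exact Finset.card_pos.2 ⟨p, by rw [hO]; exact Finset.mem_filter.2 ⟨Finset.mem_univ _, hp⟩⟩
  have hsum : ∀ j, ∑ p ∈ O, Hm j p = 0 := by
    intro j
    rw [← hrel j, hO, Finset.sum_filter]
    refine Finset.sum_congr rfl (fun p _ => ?_)
    rcases zmod2_cases (eps (y p)) with h | h
    · rw [h, if_neg (not_not.2 rfl), zero_mul]
    · rw [h, if_pos (by decide), one_mul]
  have h12 : O.card = 1 ∨ O.card = 2 := by omega
  rcases h12 with h | h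
  · obtain ⟨a, ha⟩ := Finset.card_eq_one.1 h
    obtain ⟨j, hj⟩ := hcol1 a
    have h1 := hsum j
    rw [ha, Finset.sum_singleton] at h1
    exact hj h1
  · obtain ⟨a, b, hab, hO2⟩ := Finset.card_eq_two.1 h
    obtain ⟨j, hj⟩ := hcol2 a b hab
    have h1 := hsum j
    rw [hO2, Finset.sum_pair hab] at h1
    exact hj h1

theorem exists_ppi (x : RuVec) (h : ∀ p, eps (x p) = 0) : ∃ y : RuVec, x = fun p => ppi * y p := by
  choose y hy using fun p => eps_zero_dvd (h p)
  exact ⟨y, funext hy⟩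

end Cfsg.Agent.Helper93.RuL
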