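/-
helper93: block-calculus lemmas shared by my pieces of CALL S43 (helper94): SB, PSHa, PSHb, LV, QK, QSC.
-/
import Mathlib
import Cfsg.Agent.Helper94.S43Defs

set_option autoImplicit false

namespace Cfsg.Agent.Helper93.S43Aux

open Matrix Cfsg.Agent.Helper71.T4 Cfsg.Agent.Helper94.S43
open Cfsg.Agent.Helper71.SO (bl)
open scoped Kronecker

variable {F : Type*} [Field F]

theorem fin4 : ∀ i : Fin 4, i = 0 ∨ i = 1 ∨ i = 2 ∨ i = 3 := by decide

theorem bk_mul_EK (g : Matrix (Fin 4 × Fin 3) (Fin 4 × Fin 3) F) (a b : Fin 4)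
    (C : Matrix (Fin 3) (Fin 3) F) (i x : Fin 4) :
    bk (g * EK a b C) i x = if x = b then bk g i a * C else 0 := by
  rw [bk_mul]
  simp only [bk_EK]
  by_cases hx : x = b
  · subst hx
    rw [if_pos rfl, Finset.sum_eq_single a]
    · simp
    · intro y _ hy
      simp [hy]
    · intro h
      exact absurd (Finset.mem_univ a) h
  · rw [if_neg hx]
    apply Finset.sum_eq_zero
    intro y _
    simp [hx]

theorem bk_EK_mul (h : Matrix (Fin 4 × Fin 3) (Fin 4 × Fin 3) F) (a b : Fin 4)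
    (C : Matrix (Fin 3) (Fin 3) F) (x j : Fin 4) :
    bk (EK a b C * h) x j = if x = a then C * bk h b j else 0 := by
  rw [bk_mul]
  simp only [bk_EK]
  by_cases hx : x = a
  · subst hx
    rw [if_pos rfl, Finset.sum_eq_single b]
    · simp
    · intro y _ hy
      simp [hy]
    · intro h'
      exact absurd (Finset.mem_univ b) h'
  · rw [if_neg hx]
    apply Finset.sum_eq_zero
    intro y _
    simp [hx]

theorem bk_mul_EK_mul (g h : Matrix (Fin 4 × Fin 3) (Fin 4 × Fin 3) F) (a b : Fin 4)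
    (C : Matrix (Fin 3) (Fin 3) F) (i j : Fin 4) :
    bk (g * EK a b C * h) i j = bk g i a * C * bk h b j := by
  rw [bk_mul]
  simp only [bk_mul_EK]
  rw [Finset.sum_eq_single b]
  · simp
  · intro y _ hy
    simp [hy]
  · intro h'
    exact absurd (Finset.mem_univ b) h'

/-- the blocks of `gᵀ * Om4 S * g` -/
theorem bk_sp (S : Matrix (Fin 3) (Fin 3) F) (g : Matrix (Fin 4 × Fin 3) (Fin 4 × Fin 3) F)
    (i j : Fin 4) :
    bk (gᵀ * Om4 S * g) i j = (bk g 0 i)ᵀ * S * bk g 3 j + (bk g 1 i)ᵀ * S * bk g 2 j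
      - (bk g 2 i)ᵀ * S * bk g 1 j - (bk g 3 i)ᵀ * S * bk g 0 j := by
  simp only [bk_mul, bk_transpose, Om4, bk_kron, Fin.sum_univ_four]
  simp [J4]
  abel

theorem bk_Om4 (S : Matrix (Fin 3) (Fin 3) F) (i j : Fin 4) : bk (Om4 S) i j = J4 F i j • S := by
  unfold Om4
  rw [bk_kron]

end Cfsg.Agent.Helper93.S43Aux
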