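/-
helper93: CALL S43 (helper94), piece PSHa (`psh_inv`, `psh_qmat`, `psh_det`).
-/
import Mathlib
import Cfsg.Agent.Helper94.S43Defs
import Cfsg.Agent.Helper93.S43Aux

set_option autoImplicit false

namespace Cfsg.Agent.Helper93.S43PSHa

open Matrix Cfsg.Agent.Helper71.T4 Cfsg.Agent.Helper94.S43 Cfsg.Agent.Helper93.S43Aux
open Cfsg.Agent.Helper71.SO (bl)
open scoped Kronecker

variable {F : Type*} [Field F]

theorem psh_inv (ρ ρ' : Matrix (Fin 4 × Fin 3) (Fin 4 × Fin 3) F) (h : PSh ρ)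
    (h1 : ρ * ρ' = 1) (h2 : ρ' * ρ = 1) : PSh ρ' := by
  obtain ⟨h00, h33, h10, h20, h30, h31, h32⟩ := h
  have hc : ∀ i, bk ρ' i 0 = if i = 0 then 1 else 0 := by
    intro i
    have h3 := congrArg (fun m => bk m i 0) h2
    simp only [bk_mul, Fin.sum_univ_four, h00, h10, h20, h30, mul_one, mul_zero, add_zero,
      bk_one] at h3
    exact h3
  have hr : ∀ j, bk ρ' 3 j = if (3 : Fin 4) = j then 1 else 0 := by
    intro j
    have h3 := congrArg (fun m => bk m 3 j) h1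
    simp only [bk_mul, Fin.sum_univ_four, h30, h31, h32, h33, one_mul, zero_mul, zero_add,
      bk_one] at h3
    exact h3
  refine ⟨?_, ?_, ?_, ?_, ?_, ?_, ?_⟩
  · rw [hc]; simp
  · rw [hr]; simp
  · rw [hc]; simp
  · rw [hc]; simp
  · rw [hc]; simp
  · rw [hr]; simp
  · rw [hr]; simp

theorem psh_qmat (ρ : Matrix (Fin 4 × Fin 3) (Fin 4 × Fin 3) F) (h : PSh ρ)
    (h11 : bk ρ 1 1 = 1) (h12 : bk ρ 1 2 = 0) (h21 : bk ρ 2 1 = 0) (h22 : bk ρ 2 2 = 1) :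
    ρ = qmat (bk ρ 0 1) (bk ρ 0 2) (bk ρ 0 3) (bk ρ 1 3) (bk ρ 2 3) := by
  obtain ⟨h00, h33, h10, h20, h30, h31, h32⟩ := h
  apply bk_ext
  intro i j
  unfold qmat
  simp only [bk_add, bk_one, bk_EK]
  rcases fin4 i with rfl | rfl | rfl | rfl <;> rcases fin4 j with rfl | rfl | rfl | rfl <;>
    simp [h00, h33, h10, h20, h30, h31, h32, h11, h12, h21, h22]

theorem psh_det (S : Matrix (Fin 3) (Fin 3) F) (hdet : S.det ≠ 0)
    (ρ : Matrix (Fin 4 × Fin 3) (Fin 4 × Fin 3) F) (hsp : IsSp4 S ρ) (h : PSh ρ)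
    (θ : Matrix (Fin 2) (Fin 2) F) (h11 : bk ρ 1 1 = θ 0 0 • 1) (h12 : bk ρ 1 2 = θ 0 1 • 1)
    (h21 : bk ρ 2 1 = θ 1 0 • 1) (h22 : bk ρ 2 2 = θ 1 1 • 1) : θ.det = 1 := by
  obtain ⟨h00, h33, h10, h20, h30, h31, h32⟩ := h
  have hb := congrArg (fun m => bk m 1 2) hsp
  simp only [bk_sp, bk_Om4] at hb
  rw [h31, h32, h11, h12, h21, h22] at hb
  have hJ : J4 F 1 2 = 1 := by simp [J4]
  rw [hJ] at hb
  simp only [Matrix.mul_zero, Matrix.transpose_zero, Matrix.zero_mul, zero_add, sub_zero,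
    Matrix.transpose_smul, Matrix.transpose_one, Matrix.smul_mul, Matrix.mul_smul, Matrix.one_mul,
    Matrix.mul_one, one_smul, smul_smul] at hb
  have hS : S ≠ 0 := by
    rintro rfl
    exact hdet Matrix.det_zero
  have h5 : (θ 0 0 * θ 1 1 - θ 0 1 * θ 1 0 - 1) • S = 0 := by
    rw [sub_smul, sub_smul, one_smul, mul_comm (θ 0 0) (θ 1 1), hb, sub_self]
  rcases smul_eq_zero.mp h5 with h6 | h6
  · rw [Matrix.det_fin_two]
    linear_combination h6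
  · exact absurd h6 hS

end Cfsg.Agent.Helper93.S43PSHa
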