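/-
helper93: CALL S43 (helper94), piece PSHb (`psh_conj1`, `psh_conj2`).
-/
import Mathlib
import Cfsg.Agent.Helper94.S43Defs
import Cfsg.Agent.Helper93.S43Aux
import Cfsg.Agent.Helper93.S43PSHa

set_option autoImplicit false

namespace Cfsg.Agent.Helper93.S43PSHb

open Matrix Cfsg.Agent.Helper71.T4 Cfsg.Agent.Helper94.S43 Cfsg.Agent.Helper93.S43Aux
open Cfsg.Agent.Helper71.SO (bl)
open scoped Kronecker

variable {F : Type*} [Field F]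

theorem psh_conj1 (ρ ρ' : Matrix (Fin 4 × Fin 3) (Fin 4 × Fin 3) F) (h : PSh ρ)
    (h1 : ρ * ρ' = 1) (h2 : ρ' * ρ = 1) :
    ρ * qmat 0 1 0 1 0 * ρ'
      = qmat (bk ρ' 2 1) (bk ρ' 2 2) (bk ρ' 2 3 + bk ρ 0 1) (bk ρ 1 1) (bk ρ 2 1) := by
  have hP' := Cfsg.Agent.Helper93.S43PSHa.psh_inv ρ ρ' h h1 h2
  obtain ⟨h00, h33, h10, h20, h30, h31, h32⟩ := h
  obtain ⟨h00', h33', h10', h20', h30', h31', h32'⟩ := hP'
  have e : ρ * qmat 0 1 0 1 0 * ρ' = 1 + ρ * EK 0 2 1 * ρ' + ρ * EK 1 3 1 * ρ' := by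
    unfold qmat
    simp only [EK_zero, add_zero, Matrix.mul_add, Matrix.add_mul, Matrix.mul_one, h1]
  rw [e]
  apply bk_ext
  intro i j
  unfold qmat
  simp only [bk_add, bk_one, bk_EK, bk_mul_EK_mul, Matrix.mul_one]
  rcases fin4 i with rfl | rfl | rfl | rfl <;> rcases fin4 j with rfl | rfl | rfl | rfl <;>
    simp [h00, h33, h10, h20, h30, h31, h32, h00', h33', h10', h20', h30', h31', h32']

theorem psh_conj2 (ρ ρ' : Matrix (Fin 4 × Fin 3) (Fin 4 × Fin 3) F) (h : PSh ρ)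
    (h1 : ρ * ρ' = 1) (h2 : ρ' * ρ = 1) :
    ρ * qmat 1 0 0 0 (-1) * ρ'
      = qmat (bk ρ' 1 1) (bk ρ' 1 2) (bk ρ' 1 3 - bk ρ 0 2) (-(bk ρ 1 2)) (-(bk ρ 2 2)) := by
  have hP' := Cfsg.Agent.Helper93.S43PSHa.psh_inv ρ ρ' h h1 h2
  obtain ⟨h00, h33, h10, h20, h30, h31, h32⟩ := h
  obtain ⟨h00', h33', h10', h20', h30', h31', h32'⟩ := hP'
  have e : ρ * qmat 1 0 0 0 (-1) * ρ' = 1 + ρ * EK 0 1 1 * ρ' + ρ * EK 2 3 (-1) * ρ' := by
    unfold qmat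
    simp only [EK_zero, add_zero, Matrix.mul_add, Matrix.add_mul, Matrix.mul_one, h1]
  rw [e]
  apply bk_ext
  intro i j
  unfold qmat
  simp only [bk_add, bk_one, bk_EK, bk_mul_EK_mul, Matrix.mul_one, Matrix.mul_neg, Matrix.neg_mul]
  rcases fin4 i with rfl | rfl | rfl | rfl <;> rcases fin4 j with rfl | rfl | rfl | rfl <;>
    simp [h00, h33, h10, h20, h30, h31, h32, h00', h33', h10', h20', h30', h31', h32',
      sub_eq_add_neg]

end Cfsg.Agent.Helper93.S43PSHb
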