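/-
helper93: CALL S43 (helper94), piece SB (`stab_blocks`).
-/
import Mathlib
import Cfsg.Agent.Helper94.S43Defs
import Cfsg.Agent.Helper93.S43Aux

set_option autoImplicit false

namespace Cfsg.Agent.Helper93.S43SB

open Matrix Cfsg.Agent.Helper71.T4 Cfsg.Agent.Helper94.S43 Cfsg.Agent.Helper93.S43Aux
open Cfsg.Agent.Helper71.SO (bl)
open scoped Kronecker

variable {F : Type*} [Field F]

theorem stab_blocks (S : Matrix (Fin 3) (Fin 3) F) (hdet : S.det ≠ 0)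
    (k : Matrix (Fin 4 × Fin 3) (Fin 4 × Fin 3) F) (hsp : IsSp4 S k)
    (hku : ∀ w : Fin 3 → F, ∃ w' : Fin 3 → F,
      k *ᵥ pt (Pi.single 0 1) w = pt (Pi.single 0 1) w') :
    bk k 1 0 = 0 ∧ bk k 2 0 = 0 ∧ bk k 3 0 = 0 ∧ bk k 3 1 = 0 ∧ bk k 3 2 = 0 ∧
      (bk k 0 0)ᵀ * S * bk k 3 3 = S := by
  classical
  have hcol : ∀ i : Fin 4, i ≠ 0 → bk k i 0 = 0 := by
    intro i hi
    ext l m
    obtain ⟨w', hw'⟩ := hku (Pi.single m 1)
    have h1 := congrFun hw' (i, l)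
    have hL : (k *ᵥ pt (Pi.single 0 1) (Pi.single m 1)) (i, l) = k (i, l) (0, m) := by
      simp [Matrix.mulVec, dotProduct, pt, Fintype.sum_prod_type, Pi.single_apply]
    have hR : pt (Pi.single (0 : Fin 4) (1 : F)) w' (i, l) = 0 := by
      simp [pt, Pi.single_apply, hi]
    rw [hL, hR] at h1
    exact h1
  have h10 := hcol 1 (by decide)
  have h20 := hcol 2 (by decide)
  have h30 := hcol 3 (by decide)
  have hrow : ∀ j : Fin 4, (bk k 0 0)ᵀ * S * bk k 3 j = J4 F 0 j • S := by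
    intro j
    have hb := congrArg (fun m => bk m 0 j) hsp
    simp only [bk_sp, bk_Om4] at hb
    rw [h10, h20, h30] at hb
    simpa using hb
  have h33 : (bk k 0 0)ᵀ * S * bk k 3 3 = S := by
    have h3 := hrow 3
    have hJ : J4 F 0 3 = 1 := by simp [J4]
    rw [hJ, one_smul] at h3
    exact h3
  have hinv : ((bk k 0 0)ᵀ * S).det ≠ 0 := by
    intro h0
    apply hdet
    rw [← h33, Matrix.det_mul, h0, zero_mul]
  have hcancel : ∀ B : Matrix (Fin 3) (Fin 3) F, (bk k 0 0)ᵀ * S * B = 0 → B = 0 := by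
    intro B hB
    have hu : IsUnit ((bk k 0 0)ᵀ * S).det := isUnit_iff_ne_zero.mpr hinv
    calc B = ((bk k 0 0)ᵀ * S)⁻¹ * ((bk k 0 0)ᵀ * S) * B := by
          rw [Matrix.nonsing_inv_mul _ hu, Matrix.one_mul]
      _ = ((bk k 0 0)ᵀ * S)⁻¹ * ((bk k 0 0)ᵀ * S * B) := by rw [Matrix.mul_assoc]
      _ = 0 := by rw [hB, Matrix.mul_zero]
  refine ⟨h10, h20, h30, hcancel _ ?_, hcancel _ ?_, h33⟩
  · have h3 := hrow 1
    have hJ : J4 F 0 1 = 0 := by simp [J4]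
    rw [hJ, zero_smul] at h3
    exact h3
  · have h3 := hrow 2
    have hJ : J4 F 0 2 = 0 := by simp [J4]
    rw [hJ, zero_smul] at h3
    exact h3

end Cfsg.Agent.Helper93.S43SB
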