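import Mathlib
import Cfsg.Prelude.Def_GeometricClasses
import Cfsg.Prelude.Def_Classical
import Cfsg.Agent.Helper43.QuadFin

set_option autoImplicit false

/-!
# Sub-CALL S90T2 (helper98), piece ANISO: an anisotropic subspace of a quadratic space over a
finite field has dimension at most two (Chevalley-Warning, via `Cfsg.Agent.Helper43.exists_singular`).
-/

namespace Cfsg.Agent.Helper93.S90T2

open Module Matrix Cfsg Cfsg.Geo
open scoped MatrixGroups

section core

variable {ι : Type} [Fintype ι] [DecidableEq ι] {F : Type*} [Field F] [Fintype F]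

/-- ANISO: an anisotropic subspace of a quadratic space over a finite field has dimension `≤ 2`. -/
theorem t2bm_aniso (Q : (ι → F) → F) (hQ : IsNondegenerateQuadraticForm Q)
    (Z : Submodule F (ι → F)) (hZ : ∀ z ∈ Z, Q z = 0 → z = 0) : finrank F Z ≤ 2 := by
  by_contra h
  have h3 : 3 ≤ finrank F Z := by omega
  let Q' : QuadraticForm F (ι → F) :=
    QuadraticMap.ofPolar Q (fun a x => by rw [hQ.smul, smul_eq_mul, pow_two])
      (fun x x' y => hQ.polar_bilinear.add_left x x' y)
      (fun a x y => by rw [hQ.polar_bilinear.smul_left, smul_eq_mul])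
  obtain ⟨v, hv0, hv⟩ := Cfsg.Agent.Helper43.exists_singular (Q'.comp Z.subtype) h3
  exact hv0 (Subtype.ext (hZ v v.2 hv))

end core

end Cfsg.Agent.Helper93.S90T2
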