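import Mathlib
import Cfsg.Prelude.Def_GeometricClasses
import Cfsg.Prelude.Def_Classical
import Cfsg.Agent.Helper98.ELPDefs
import Cfsg.Agent.Helper98.S90T2Defs

set_option autoImplicit false

/-!
# Sub-CALL S90T2 (helper98), pieces EMBAPP and EMBISO: the block embedding `emb` acts by `g` on the
hyperbolic part and trivially on the anisotropic plane, so it maps isometries of `qp` to isometries
of `qm`.
-/

namespace Cfsg.Agent.Helper93.S90T2

open Module Matrix Cfsg Cfsg.Geo Cfsg.Agent.Helper98.ELP Cfsg.Agent.Helper98.S90T2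
open scoped MatrixGroups

section elt

variable {n : Type} [Fintype n] [DecidableEq n] {F : Type*} [Field F]

/-- EMBAPP: `Matrix.fromBlocks_mulVec`. -/
theorem embM_mulVec_inl (g : Matrix (n ⊕ n) (n ⊕ n) F) (v : (n ⊕ n) ⊕ Fin 2 → F) (i : n ⊕ n) :
    (embM g *ᵥ v) (.inl i) = (g *ᵥ (fun j => v (.inl j))) i := by
  unfold embM
  conv_lhs => rw [← Sum.elim_comp_inl_inr v]
  rw [Matrix.fromBlocks_mulVec]
  simp [Function.comp_def]

theorem embM_mulVec_inr (g : Matrix (n ⊕ n) (n ⊕ n) F) (v : (n ⊕ n) ⊕ Fin 2 → F) (k : Fin 2) :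
    (embM g *ᵥ v) (.inr k) = v (.inr k) := by
  unfold embM
  conv_lhs => rw [← Sum.elim_comp_inl_inr v]
  rw [Matrix.fromBlocks_mulVec]
  simp [Function.comp_def]

/-- EMBISO: `emb g` is an isometry of `qm` when `g` is an isometry of `qp`. -/
theorem emb_mem_iso (a b : F) (g : GL (n ⊕ n) F) (hg : g ∈ Cfsg.isometryGroup F (qp n F)) :
    emb g ∈ Cfsg.isometryGroup F (qm n F a b) := by
  intro v _
  have h := hg (fun j => v (.inl j)) (fun j => v (.inl j))
  show qm n F a b (embM (g : Matrix (n ⊕ n) (n ⊕ n) F) *ᵥ v) = qm n F a b v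
  unfold qm
  simp only [embM_mulVec_inl, embM_mulVec_inr]
  have h' : (∑ x, ((g : Matrix (n ⊕ n) (n ⊕ n) F) *ᵥ fun j => v (Sum.inl j)) (Sum.inl x) *
      ((g : Matrix (n ⊕ n) (n ⊕ n) F) *ᵥ fun j => v (Sum.inl j)) (Sum.inr x)) =
      ∑ i, v (Sum.inl (Sum.inl i)) * v (Sum.inl (Sum.inr i)) := h
  rw [h']

end elt

end Cfsg.Agent.Helper93.S90T2
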