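import Mathlib

set_option autoImplicit false

/-!
# Sub-CALL S90T2 (helper98), piece RN: rank-nullity for an endomorphism restricted to a subspace.
-/

namespace Cfsg.Agent.Helper93.S90T2

open Module

section pure

variable {F : Type*} [Field F] {V : Type*} [AddCommGroup V] [Module F V] [FiniteDimensional F V]

/-- RN: rank-nullity for `N` restricted to `W`. -/
theorem t2_rank_nullity (N : V →ₗ[F] V) (W : Submodule F V) :
    finrank F ↥(W ⊓ LinearMap.ker N) + finrank F ↥(W.map N) = finrank F W := by
  have h := LinearMap.finrank_range_add_finrank_ker (N.comp W.subtype)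
  have h1 : LinearMap.range (N.comp W.subtype) = W.map N := by
    rw [LinearMap.range_comp, Submodule.range_subtype]
  have h2 : finrank F ↥(LinearMap.ker (N.comp W.subtype)) = finrank F ↥(W ⊓ LinearMap.ker N) := by
    rw [LinearMap.ker_comp, ← Submodule.finrank_map_subtype_eq W, Submodule.map_comap_subtype]
  rw [h1, h2] at h
  omega

end pure

end Cfsg.Agent.Helper93.S90T2
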