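import Mathlib
import Cfsg.Agent.Helper71.SQMain
import Cfsg.Agent.Helper71.SGDefs
import Cfsg.Agent.Helper99.SGSIM

/-!
# CALL S5666 (helper71), piece KF2 (double by helper93): `sp_fix_hyp`.
-/

set_option autoImplicit false
set_option linter.unusedVariables false

namespace Cfsg.Agent.Helper93.SGKF2

open Matrix Cfsg.Agent.Helper71.T4 Cfsg.Agent.Helper71.SO Cfsg.Agent.Helper71.SQ
open Cfsg.Agent.Helper71.SG
open Cfsg.Agent.Helper11.SORT Cfsg.Agent.Helper11.SOTR Cfsg.Agent.Helper53.SQET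
open scoped Kronecker

variable {F : Type*} [Field F] {m n : ℕ}

/-- `A ⊗ 1` symplectic for `J ⊗ S` forces `Aᵀ J A = J`. -/
theorem kf2_isom (hm : 0 < m) (hn : 0 < n) (J : Matrix (Fin m) (Fin m) F) (hdetJ : J.det ≠ 0)
    (S : Matrix (Fin n) (Fin n) F) (hdetS : S.det ≠ 0) (A : Matrix (Fin m) (Fin m) F)
    (hsp : IsSpG J S (A ⊗ₖ (1 : Matrix (Fin n) (Fin n) F))) : Aᵀ * J * A = J := by
  obtain ⟨ν, μ, hνμ, hA, hB⟩ := Cfsg.Agent.Helper99.SGSIM.kron_simil hm hn J hdetJ S hdetS A 1 hsp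
  rw [Matrix.transpose_one, Matrix.one_mul, Matrix.mul_one] at hB
  have hS0 : S ≠ 0 := by
    intro h0
    have : Nonempty (Fin n) := ⟨⟨0, hn⟩⟩
    exact hdetS (by rw [h0]; exact Matrix.det_zero)
  have hμ : μ = 1 := by
    by_contra hne
    apply hS0
    have h1 : (1 - μ) • S = 0 := by
      rw [sub_smul, one_smul, ← hB, sub_self]
    rcases smul_eq_zero.mp h1 with h | h
    · exact absurd (sub_eq_zero.mp h).symm hne
    · exact h
  rw [hμ, mul_one] at hνμ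
  rw [hA, hνμ, one_smul]

/-! ## Piece KF2 -/
theorem sp_fix_hyp (hn : 0 < n) (h2 : (2 : F) ≠ 0) (J : Matrix (Fin m) (Fin m) F)
    (hJ : Jᵀ = -J) (hdetJ : J.det ≠ 0) (S : Matrix (Fin n) (Fin n) F) (hdetS : S.det ≠ 0)
    (b : Fin m → F) (hb : b ≠ 0) (A : Matrix (Fin m) (Fin m) F)
    (hsp : IsSpG J S (A ⊗ₖ (1 : Matrix (Fin n) (Fin n) F)))
    (hfix : ∀ d : Fin m → F, bl J d b = 0 → A *ᵥ d = d) :
    ∃ c : F, A = Tac J b c := by
  have hm : 0 < m := by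
    rcases Nat.eq_zero_or_pos m with h | h
    · subst h
      exact absurd (Subsingleton.elim b 0) hb
    · exact h
  have hAJ : Aᵀ * J * A = J := kf2_isom hm hn J hdetJ S hdetS A hsp
  have hiso : ∀ x y, bl J (A *ᵥ x) (A *ᵥ y) = bl J x y := by
    intro x y
    rw [← bl_conj, hAJ]
  obtain ⟨x₀, hx₀⟩ := exists_bl_ne J hdetJ b hb
  have hx₀' : bl J x₀ b ≠ 0 := by
    rw [et_bl_skew J hJ]
    exact neg_ne_zero.mpr hx₀
  obtain ⟨b', hb'⟩ : ∃ b', bl J b' b = 1 :=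
    ⟨(bl J x₀ b)⁻¹ • x₀, by rw [bl_smul_left, inv_mul_cancel₀ hx₀']⟩
  obtain ⟨φ, hφ⟩ : ∃ φ : F, bl J (A *ᵥ b' - b') b' = φ := ⟨_, rfl⟩
  have hy : ∀ d, bl J d b = 0 → bl J (A *ᵥ b' - b') d = 0 := by
    intro d hd
    rw [bl_sub_left]
    have h := hiso b' d
    rw [hfix d hd] at h
    rw [h, sub_self]
  have hperp : ∀ z, bl J (z - bl J z b • b') b = 0 := by
    intro z
    rw [bl_sub_left, bl_smul_left, hb', mul_one, sub_self]
  have hyz : ∀ z, bl J (A *ᵥ b' - b' + φ • b) z = 0 := by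
    intro z
    have h := hy _ (hperp z)
    rw [bl_sub_right, bl_smul_right, hφ] at h
    rw [bl_add_left, bl_smul_left, et_bl_skew J hJ b z]
    linear_combination h
  have hy0 : A *ᵥ b' - b' + φ • b = 0 := by
    by_contra hne
    obtain ⟨z, hz⟩ := exists_bl_ne J hdetJ _ hne
    exact hz (hyz z)
  have hAb : A *ᵥ b' - b' = -(φ • b) := eq_neg_of_add_eq_zero_left hy0
  refine ⟨-φ, ?_⟩
  apply mv_ext
  intro x
  rw [tac_mulVec]
  have h := hfix _ (hperp x)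
  rw [Matrix.mulVec_sub, Matrix.mulVec_smul] at h
  have h' : A *ᵥ x = x + bl J x b • (A *ᵥ b' - b') := by
    rw [smul_sub]
    rw [sub_eq_iff_eq_add] at h
    rw [h]
    abel
  rw [h', hAb, smul_neg, smul_smul, neg_mul, neg_smul, mul_comm]

end Cfsg.Agent.Helper93.SGKF2
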