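import Mathlib
import Cfsg.Agent.Helper71.SQMain
import Cfsg.Agent.Helper71.SGDefs

/-!
# CALL S5666 (helper71), piece SUR (double by helper93): `fix_surj`.
-/

set_option autoImplicit false
set_option linter.unusedVariables false

namespace Cfsg.Agent.Helper93.SGSUR

open Matrix Cfsg.Agent.Helper71.T4 Cfsg.Agent.Helper71.SO Cfsg.Agent.Helper71.SQ
open Cfsg.Agent.Helper71.SG
open scoped Kronecker

variable {F : Type*} [Field F] {m n : ℕ}

/-- the action of `t_a(c) = Tac J a c ⊗ 1` -/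
theorem sur_tacK (J : Matrix (Fin m) (Fin m) F) (a : Fin m → F) (c : F)
    (v : Fin m × Fin n → F) :
    (Tac J a c ⊗ₖ (1 : Matrix (Fin n) (Fin n) F)) *ᵥ v =
      v + c • pt a (fun l => bl J (fun i => v (i, l)) a) := by
  funext ⟨i, l⟩
  rw [Cfsg.Agent.Helper4.SQFX.kron_one_mulVec_apply, Cfsg.Agent.Helper53.SQET.tac_mulVec]
  simp only [Pi.add_apply, Pi.smul_apply, pt, smul_eq_mul]
  ring

/-- the map `f_a`, as a linear map -/
noncomputable def surF (J : Matrix (Fin m) (Fin m) F) (a : Fin m → F) :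
    (Fin m × Fin n → F) →ₗ[F] (Fin n → F) where
  toFun v := fun l => bl J (fun i => v (i, l)) a
  map_add' v v' := by
    funext l
    exact Cfsg.Agent.Helper11.SORT.bl_add_left J (fun i => v (i, l)) (fun i => v' (i, l)) a
  map_smul' c v := by
    funext l
    exact Cfsg.Agent.Helper11.SORT.bl_smul_left J c (fun i => v (i, l)) a

/-- `z ↦ pt d z` as a linear map -/
noncomputable def surP (d : Fin m → F) : (Fin n → F) →ₗ[F] (Fin m × Fin n → F) where
  toFun z := pt d z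
  map_add' z z' := Cfsg.Agent.Helper96.T5.pt_add_right d z z'
  map_smul' c z := Cfsg.Agent.Helper96.T5.pt_smul_right c d z

/-! ## Piece SUR -/
theorem fix_surj (h2 : (2 : F) ≠ 0) (J : Matrix (Fin m) (Fin m) F) (hJ : Jᵀ = -J)
    (a : Fin m → F) (ha : a ≠ 0) (g : Matrix (Fin m × Fin n) (Fin m × Fin n) F)
    (d : Fin m → F)
    (h5 : ∀ z : Fin n → F,
      (Tac J a 1 ⊗ₖ (1 : Matrix (Fin n) (Fin n) F)) *ᵥ (g *ᵥ pt d z) = g *ᵥ pt d z → z = 0)
    (v : Fin m × Fin n → F) :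
    ∃ z' : Fin n → F, (Tac J a 1 ⊗ₖ (1 : Matrix (Fin n) (Fin n) F)) *ᵥ (g *ᵥ (v + pt d z'))
      = g *ᵥ (v + pt d z') := by
  obtain ⟨L, hLapp⟩ : ∃ L : (Fin n → F) →ₗ[F] (Fin n → F),
      ∀ z, L z = surF J a (g *ᵥ pt d z) :=
    ⟨(surF J a) ∘ₗ g.mulVecLin ∘ₗ (surP d), fun z => rfl⟩
  have hfix : ∀ x : Fin m × Fin n → F, surF J a x = 0 →
      (Tac J a 1 ⊗ₖ (1 : Matrix (Fin n) (Fin n) F)) *ᵥ x = x := by
    intro x hx
    rw [sur_tacK]
    have h0 : (fun l => bl J (fun i => x (i, l)) a) = 0 := hx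
    rw [h0, Cfsg.Agent.Helper96.T5.pt_zero_right, smul_zero, add_zero]
  have hinj : Function.Injective L := by
    rw [← LinearMap.ker_eq_bot, LinearMap.ker_eq_bot']
    intro z hz
    exact h5 z (hfix _ (by rw [← hLapp]; exact hz))
  have hsurj : Function.Surjective L := LinearMap.injective_iff_surjective.mp hinj
  obtain ⟨z', hz'⟩ := hsurj (-(surF J a (g *ᵥ v)))
  refine ⟨z', hfix _ ?_⟩
  rw [Matrix.mulVec_add, map_add, ← hLapp, hz', add_neg_cancel]

end Cfsg.Agent.Helper93.SGSUR
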