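import Mathlib
import Cfsg.Agent.Helper44.SPUDefs

set_option autoImplicit false
open Classical

namespace Cfsg.Agent.Helper93.SPUPCOUNT

open Matrix Cfsg.Agent.Helper44.SPU

variable {F : Type*} [Field F] [Fintype F] {m : ℕ}

/-- PCOUNT: counting `p`-elements through a surjection with `p`-group kernel. -/
theorem spu_pcount {G H : Type*} [Group G] [Group H] [Finite G] (π : G →* H)
    (hπ : Function.Surjective π) (p : ℕ) [Fact p.Prime] (e : ℕ) (hker : Nat.card π.ker = p ^ e) :
    Nat.card {g : G // ∃ j : ℕ, orderOf g = p ^ j} =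
      Nat.card π.ker * Nat.card {h : H // ∃ j : ℕ, orderOf h = p ^ j} := by
  have hp : p.Prime := Fact.out
  have key : ∀ g : G, (∃ j : ℕ, orderOf g = p ^ j) ↔ (∃ j : ℕ, orderOf (π g) = p ^ j) := by
    intro g
    constructor
    · rintro ⟨j, hj⟩
      have h1 : orderOf (π g) ∣ p ^ j := hj ▸ orderOf_map_dvd π g
      obtain ⟨i, _, hi⟩ := (Nat.dvd_prime_pow hp).1 h1
      exact ⟨i, hi⟩
    · rintro ⟨j, hj⟩
      have h1 : (π g) ^ (p ^ j) = 1 := hj ▸ pow_orderOf_eq_one (π g)
      have h2 : g ^ (p ^ j) ∈ π.ker := by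
        rw [MonoidHom.mem_ker, map_pow]; exact h1
      have h3 : (⟨g ^ (p ^ j), h2⟩ : π.ker) ^ (p ^ e) = 1 := by
        rw [← hker]; exact pow_card_eq_one'
      have h4 : g ^ (p ^ (j + e)) = 1 := by
        have h := congrArg Subtype.val h3
        simp only [Subgroup.coe_pow, Subgroup.coe_one] at h
        rw [pow_add, pow_mul]; exact h
      have h5 : orderOf g ∣ p ^ (j + e) := orderOf_dvd_of_pow_eq_one h4
      obtain ⟨i, _, hi⟩ := (Nat.dvd_prime_pow hp).1 h5
      exact ⟨i, hi⟩
  choose s hs using hπ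
  have hpi : ∀ (x : π.ker) (h : H), π (x.1 * s h) = h := by
    intro x h
    rw [map_mul, hs, MonoidHom.mem_ker.1 x.2, one_mul]
  let E : {g : G // ∃ j : ℕ, orderOf g = p ^ j} ≃
      π.ker × {h : H // ∃ j : ℕ, orderOf h = p ^ j} :=
    { toFun := fun g => (⟨g.1 * (s (π g.1))⁻¹, by
          rw [MonoidHom.mem_ker, map_mul, map_inv, hs, mul_inv_cancel]⟩,
        ⟨π g.1, (key g.1).1 g.2⟩)
      invFun := fun x => ⟨x.1.1 * s x.2.1, (key _).2 (by rw [hpi]; exact x.2.2)⟩
      left_inv := fun g => by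
        apply Subtype.ext
        simp
      right_inv := fun x => by
        apply Prod.ext
        · apply Subtype.ext
          simp [hpi]
        · apply Subtype.ext
          simp [hpi] }
  rw [Nat.card_congr E, Nat.card_prod]

end Cfsg.Agent.Helper93.SPUPCOUNT
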