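import Cfsg.Agent.Helper93.STU3Rows
import Cfsg.Prelude.Def_ChevF4

/-!
# CALL S2103 (helper64), piece CF43: `Cert3 chevF4 2 2`

The witnesses of `Dec` (for the pairs `(r, r)` and for the 144 commuting pairs which no coroot
separates modulo 2) were found by a search outside the repository and are re-checked here by kernel
evaluation.
-/

set_option autoImplicit false
set_option maxRecDepth 1000000

namespace Cfsg.Agent.Helper93.STU3CF4two

open Cfsg Cfsg.Lie Cfsg.Agent.Helper36 Cfsg.Agent.Helper64.UC Cfsg.Agent.Helper64.UC3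
open Cfsg.Agent.Helper93.STU3

/-- The witness `(a, b, C)` for `q` in a sparse row of entries `(q, a, b, C)`. -/
def lookW (row : List (ℕ × ℕ × ℕ × ℤ)) (q : ℕ) : ℕ × ℕ × ℤ :=
  match row.find? (fun e => e.1 == q) with
  | some e => e.2
  | none => (0, 0, 0)

/-- Every commuting pair `(p, q)` is separated, or decomposed with the witness of the table. -/
def zeroRowW (D : ChevalleyDatum) (m N : ℤ) (Wz : List (List (ℕ × ℕ × ℕ × ℤ))) (p : ℕ) : Bool :=
  (List.range D.nroots).all fun q => !decide (Is0 D p q) || sepB D m p q ||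
    decB D N p q (lookW (Wz.getD p []) q)

theorem zeroRowW_spec {D : ChevalleyDatum} {m N : ℤ} {Wz : List (List (ℕ × ℕ × ℕ × ℤ))} {p : ℕ}
    (h : zeroRowW D m N Wz p = true) {q : ℕ} (hq : q < D.nroots) (h0 : Is0 D p q) :
    Sep D m p q ∨ Dec D N p q := by
  unfold zeroRowW at h
  rw [List.all_eq_true] at h
  have h3 := h q (List.mem_range.mpr hq)
  simp only [Bool.or_eq_true, Bool.not_eq_true', decide_eq_false_iff_not] at h3
  rcases h3 with (h3 | h3) | h3
  · exact absurd h0 h3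
  · exact Or.inl (sepB_spec h3)
  · exact Or.inr (decB_spec h3)

/-- The certificate from the row checks, with a table of decompositions. -/
theorem cert3_of_rowsW {D : ChevalleyDatum} {m N : ℤ} {W : List (ℕ × ℕ × ℤ)}
    {Wz : List (List (ℕ × ℕ × ℕ × ℤ))}
    (h1 : ∀ r < D.nroots, fullRow3 D m r = true)
    (h2 : ∀ r < D.nroots, selfRow3 D N W r = true)
    (h3 : ∀ p < D.nroots, zeroRowW D m N Wz p = true)
    (h4 : ∀ r < D.nroots, sepRow3 D m r = true) : Cert3 D m N where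
  full := fun r hr => fullRow3_spec (h1 r hr)
  self := fun r hr => decB_spec (h2 r hr)
  zero := fun p hp _ hq h0 => zeroRowW_spec (h3 p hp) hq h0
  sep := fun r hr _ hs hsr hsn hc => sepRow3_spec (h4 r hr) hs hsr hsn hc

/-- For each root `r` a pair `(a, b)` of roots commuting with `r` with `[x_b, x_a] = x_r(C ..)`. -/
def selfW : List (ℕ × ℕ × ℤ) :=
  [(1, 23, 1), (0, 24, 1), (0, 26, 1), (7, 14, 1), (0, 31, -1), (0, 32, 1), (1, 32, 1),
   (3, 33, 1), (3, 34, 1), (3, 35, -1), (3, 36, 1), (3, 37, -1), (3, 38, 1),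
   (3, 39, -1), (3, 40, -1), (0, 42, -1), (0, 43, 1), (1, 43, 1), (7, 37, -1),
   (7, 38, 1), (7, 39, -1), (0, 45, -1), (1, 45, -1), (0, 46, -1), (1, 47, -1),
   (2, 46, -1), (2, 47, -1), (8, 40, -1), (9, 40, 1), (10, 40, -1), (4, 46, 1),
   (4, 47, 1), (5, 47, -1), (7, 44, -1), (8, 44, -1), (9, 44, 1), (10, 44, -1),
   (11, 44, 1), (12, 44, -1), (13, 44, 1), (14, 44, 1), (15, 46, 1), (15, 47, 1),
   (16, 47, -1), (33, 40, 1), (21, 47, 1), (23, 47, 1), (24, 46, 1)]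

/-- Row `p`: the entries `(q, a, b, C)` with `x_q = [x_b, x_a]^(± 1 or ± 2)`, `a`, `b` commuting
with `p`, for the commuting pairs `(p, q)` not separated modulo 2. -/
def zeroW : List (List (ℕ × ℕ × ℕ × ℤ)) :=
  [[(6, 10, 14, 2), (17, 10, 33, -2), (22, 12, 34, -2), (25, 13, 35, -2), (30, 14, 37, -2), (41, 33, 37, 2)],
   [(5, 9, 14, 2), (16, 9, 33, -2), (21, 11, 34, -2), (26, 13, 36, -2), (31, 14, 38, -2), (42, 33, 38, 2)],
   [(4, 8, 14, 2), (15, 8, 33, -2), (23, 11, 35, -2), (24, 12, 36, -2), (32, 14, 39, -2), (43, 33, 39, 2)],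
   [],
   [(2, 7, 13, 2), (15, 7, 34, -2), (23, 9, 37, -2), (24, 10, 38, -2), (32, 13, 40, -2), (45, 34, 40, 2)],
   [(1, 7, 12, 2), (16, 7, 35, 2), (21, 8, 37, 2), (26, 10, 39, 2), (31, 12, 40, 2), (46, 35, 40, 2)],
   [(0, 7, 11, 2), (17, 7, 36, -2), (22, 8, 38, -2), (25, 9, 39, -2), (30, 11, 40, -2), (47, 36, 40, 2)],
   [],
   [],
   [],
   [],
   [],
   [],
   [],
   [],
   [(2, 3, 20, 2), (4, 3, 27, 2), (23, 9, 37, -2), (24, 10, 38, -2), (43, 20, 44, 2), (45, 27, 44, 2)],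
   [(1, 3, 19, 2), (5, 3, 28, -2), (21, 8, 37, 2), (26, 10, 39, 2), (42, 19, 44, -2), (46, 28, 44, 2)],
   [(0, 3, 18, 2), (6, 3, 29, 2), (22, 8, 38, -2), (25, 9, 39, -2), (41, 18, 44, 2), (47, 29, 44, 2)],
   [],
   [],
   [],
   [(1, 3, 19, 2), (5, 3, 28, -2), (16, 7, 35, 2), (31, 12, 40, 2), (42, 19, 44, -2), (46, 28, 44, 2)],
   [(0, 3, 18, 2), (6, 3, 29, 2), (17, 7, 36, -2), (30, 11, 40, -2), (41, 18, 44, 2), (47, 29, 44, 2)],
   [(2, 3, 20, 2), (4, 3, 27, 2), (15, 7, 34, -2), (32, 13, 40, -2), (43, 20, 44, 2), (45, 27, 44, 2)],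
   [(2, 3, 20, 2), (4, 3, 27, 2), (15, 7, 34, -2), (32, 13, 40, -2), (43, 20, 44, 2), (45, 27, 44, 2)],
   [(0, 3, 18, 2), (6, 3, 29, 2), (17, 7, 36, -2), (30, 11, 40, -2), (41, 18, 44, 2), (47, 29, 44, 2)],
   [(1, 3, 19, 2), (5, 3, 28, -2), (16, 7, 35, 2), (31, 12, 40, 2), (42, 19, 44, -2), (46, 28, 44, 2)],
   [],
   [],
   [],
   [(0, 3, 18, 2), (6, 3, 29, 2), (22, 8, 38, -2), (25, 9, 39, -2), (41, 18, 44, 2), (47, 29, 44, 2)],
   [(1, 3, 19, 2), (5, 3, 28, -2), (21, 8, 37, 2), (26, 10, 39, 2), (42, 19, 44, -2), (46, 28, 44, 2)],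
   [(2, 3, 20, 2), (4, 3, 27, 2), (23, 9, 37, -2), (24, 10, 38, -2), (43, 20, 44, 2), (45, 27, 44, 2)],
   [],
   [],
   [],
   [],
   [],
   [],
   [],
   [],
   [(0, 7, 11, 2), (17, 7, 36, -2), (22, 8, 38, -2), (25, 9, 39, -2), (30, 11, 40, -2), (47, 36, 40, 2)],
   [(1, 7, 12, 2), (16, 7, 35, 2), (21, 8, 37, 2), (26, 10, 39, 2), (31, 12, 40, 2), (46, 35, 40, 2)],
   [(2, 7, 13, 2), (15, 7, 34, -2), (23, 9, 37, -2), (24, 10, 38, -2), (32, 13, 40, -2), (45, 34, 40, 2)],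
   [],
   [(4, 8, 14, 2), (15, 8, 33, -2), (23, 11, 35, -2), (24, 12, 36, -2), (32, 14, 39, -2), (43, 33, 39, 2)],
   [(5, 9, 14, 2), (16, 9, 33, -2), (21, 11, 34, -2), (26, 13, 36, -2), (31, 14, 38, -2), (42, 33, 38, 2)],
   [(6, 10, 14, 2), (17, 10, 33, -2), (22, 12, 34, -2), (25, 13, 35, -2), (30, 14, 37, -2), (41, 33, 37, 2)]]

theorem full2 : rowsOK (fullRow3 chevF4 2) 0 48 = true := by decide +kernel

theorem self2 : rowsOK (selfRow3 chevF4 2 selfW) 0 48 = true := by decide +kernel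

theorem zero2_0 : rowsOK (zeroRowW chevF4 2 2 zeroW) 0 12 = true := by decide +kernel
theorem zero2_12 : rowsOK (zeroRowW chevF4 2 2 zeroW) 12 12 = true := by decide +kernel
theorem zero2_24 : rowsOK (zeroRowW chevF4 2 2 zeroW) 24 12 = true := by decide +kernel
theorem zero2_36 : rowsOK (zeroRowW chevF4 2 2 zeroW) 36 12 = true := by decide +kernel

theorem sep2_0 : rowsOK (sepRow3 chevF4 2) 0 12 = true := by decide +kernel
theorem sep2_12 : rowsOK (sepRow3 chevF4 2) 12 12 = true := by decide +kernel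
theorem sep2_24 : rowsOK (sepRow3 chevF4 2) 24 12 = true := by decide +kernel
theorem sep2_36 : rowsOK (sepRow3 chevF4 2) 36 12 = true := by decide +kernel

theorem rows_of_chunks2 {f : ℕ → Bool} (h0 : rowsOK f 0 12 = true) (h12 : rowsOK f 12 12 = true)
    (h24 : rowsOK f 24 12 = true) (h36 : rowsOK f 36 12 = true) :
    ∀ r < chevF4.nroots, f r = true := by
  intro r hr
  change r < 48 at hr
  by_cases c0 : r < 12
  · exact rowsOK_spec h0 r (by omega) (by omega)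
  by_cases c12 : r < 24
  · exact rowsOK_spec h12 r (by omega) (by omega)
  by_cases c24 : r < 36
  · exact rowsOK_spec h24 r (by omega) (by omega)
  exact rowsOK_spec h36 r (by omega) (by omega)

theorem rows_of_all2 {f : ℕ → Bool} (h : rowsOK f 0 48 = true) :
    ∀ r < chevF4.nroots, f r = true := by
  intro r hr
  change r < 48 at hr
  exact rowsOK_spec h r (by omega) (by omega)

/-- PIECE CF43: the table certificate of type `F₄` for a unit of order 2 (`N = 2`). -/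
theorem cert3_F4_two : Cfsg.Agent.Helper64.UC3.Cert3 Cfsg.Lie.chevF4 2 2 :=
  cert3_of_rowsW (W := selfW) (Wz := zeroW) (rows_of_all2 full2) (rows_of_all2 self2)
    (rows_of_chunks2 zero2_0 zero2_12 zero2_24 zero2_36)
    (rows_of_chunks2 sep2_0 sep2_12 sep2_24 sep2_36)

end Cfsg.Agent.Helper93.STU3CF4two
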