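import Cfsg.Agent.Helper40.SUDefs

set_option autoImplicit false

namespace Cfsg.Agent.Helper93.SU

open Cfsg Cfsg.Lie Cfsg.Agent.Helper36 Cfsg.Agent.Helper40.DZ Cfsg.Agent.Helper40.SU

variable {D : ChevalleyDatum} {F : Type*} [Field F] {η : ℕ → ℕ → ℤ}

/-- GH1 -/
theorem chev_conj_h (R : BRel D F η) {i r : ℕ} (hi : i < D.rank) (hr : r < D.nroots) :
    (∀ c : F, c ≠ 0 →
      R.n i * hGL R.xadd r c * (R.n i)⁻¹ = hGL R.xadd (D.reflectRoot i r) c) ∨
    (∀ c : F, c ≠ 0 → R.n i * hGL R.xadd r c * (R.n i)⁻¹ =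
      hGL R.xadd (D.reflectRoot i r) (-c) * (hGL R.xadd (D.reflectRoot i r) (-1))⁻¹) := by
  have e : ∀ a x y : GL D.Idx F, a * (x * y) * a⁻¹ = (a * x * a⁻¹) * (a * y * a⁻¹) := by
    intros; group
  have hw := R.wf.refl_lt i hi r hr
  rcases R.sgn i hi r hr with h | h
  · left
    intro c _
    rw [hGL_eq, e, R.conj_n hi hr, R.conj_n hi hr, h]
    simp only [Int.cast_one, one_mul]
    rw [← hGL_eq]
  · right
    intro c _
    rw [hGL_eq, e, R.conj_n hi hr, R.conj_n hi hr, h]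
    simp only [Int.cast_neg, Int.cast_one, neg_mul, one_mul, neg_neg]
    rw [hGL_eq, hGL_eq, mul_inv_rev, R.nGL_inv hw (neg_ne_zero.mpr one_ne_zero), neg_neg,
      mul_assoc, ← mul_assoc (nGL R.xadd (D.reflectRoot i r) (-1)),
      ← R.nGL_inv hw (one_ne_zero), inv_mul_cancel, one_mul]

end Cfsg.Agent.Helper93.SU
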