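import Cfsg.Agent.Helper40.SUDefs

set_option autoImplicit false

namespace Cfsg.Agent.Helper93.SU

open Cfsg Cfsg.Lie Cfsg.Agent.Helper36 Cfsg.Agent.Helper40.DZ Cfsg.Agent.Helper40.SU

variable {D : ChevalleyDatum} {F : Type*} [Field F] {η : ℕ → ℕ → ℤ}

/-- VAN -/
theorem chev_van [Fintype F] (p : ℕ) [Fact p.Prime] [CharP F p]
    (hD : D ∈ [chevG2, chevB2, chevD4, chevF4, chevE6, chevE7, chevE8]) {m : ℕ}
    (ρ : Representation ℂ ↥(D.group F) (Fin m → ℂ)) (hρ : ρ.IsIrreducible)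
    (hdeg : p ^ (Nat.card ↥(D.group F)).factorization p ∣ m) :
    ∀ u ∈ (D.posUnipotent F).subgroupOf (D.group F), u ≠ 1 → ρ.character u = 0 := by
  classical
  intro u hu hu1
  have hp : p.Prime := Fact.out
  obtain ⟨S, hS⟩ := Cfsg.Agent.S2326.result (F := F) p D hD
  have huS : u ∈ (S : Subgroup ↥(D.group F)) := by rw [hS]; exact hu
  have hG0 : Nat.card ↥(D.group F) ≠ 0 := Nat.card_pos.ne'
  have hord : p ∣ orderOf u := by
    obtain ⟨k, hk⟩ := S.isPGroup' ⟨u, huS⟩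
    have h1 : u ^ p ^ k = 1 := by
      have := congrArg Subtype.val hk
      simpa using this
    have h2 : orderOf u ∣ p ^ k := orderOf_dvd_of_pow_eq_one h1
    obtain ⟨j, -, hj⟩ := (Nat.dvd_prime_pow hp).mp h2
    rcases Nat.eq_zero_or_pos j with h0 | h0
    · rw [h0, pow_zero, orderOf_eq_one_iff] at hj
      exact absurd hj hu1
    · rw [hj]; exact dvd_pow_self p h0.ne'
  have : ρ.IsIrreducible := hρ
  exact Cfsg.Agent.S0165.result ρ p _ hp (Nat.ordProj_dvd _ _)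
    (Nat.pow_succ_factorization_not_dvd hG0 hp)
    (by rw [Module.finrank_fin_fun]; exact hdeg) u hord

end Cfsg.Agent.Helper93.SU
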