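-- helper93 library: piece N2 of helper71's CALL S5637 (all mixed transvections), verbatim statement.
import Mathlib
import Cfsg.Agent.Helper71.T4Defs
import Cfsg.Agent.Helper39.T4LX3
import Cfsg.Agent.Helper93.T4N2

set_option autoImplicit false

namespace Cfsg.Agent.Helper93.T4N2

open Matrix Cfsg.Agent.Helper71.T4
open scoped Kronecker

variable {F : Type*} [Field F] {a b : Nat}

/-! ## Piece N2 -/
theorem tvC_all (hb : 3 ≤ b) (M : Subgroup (GL (Fin a × Fin b) F)) (hS : HasS M)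
    (w β : Fin b → F) (h : β ⬝ᵥ w = 0) (hw : w ≠ 0) (hβ : β ≠ 0)
    (hC : ∀ i j : Fin a, i ≠ j → InM M (1 + Matrix.single i j (1 : F) ⊗ₖ vecMulVec w β)) :
    ∀ (i j : Fin a) (k l : Fin b), i ≠ j → k ≠ l → ∀ c : F,
      InM M (Matrix.transvection (i, k) (j, l) c) :=
  tvC_all_of_lx3
    (fun X' hconj X hX hns =>
      Cfsg.Agent.Helper39.T4LX3.lx3 (by simpa using hb) X' hconj X hX hns)
    hb M hS w β h hw hβ hC

end Cfsg.Agent.Helper93.T4N2
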