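import Mathlib
import Cfsg.Agent.Helper9.OrdTools
import Cfsg.Agent.Helper9.OrdTools2
import Cfsg.Agent.Helper8.SylFix
import Cfsg.Agent.Helper52.U7920Defs

set_option autoImplicit false

/-! helper93: CALL S0435 (helper52), piece P2c (`u7920_fix_z`). -/

namespace Cfsg.Agent.Helper93

open Cfsg.Agent.Helper52

variable {G : Type*} [Group G] [Finite G]

-- PIECE P2c
theorem u7920_fix_z (h : U7920Hyp G)
    (hTI : ∀ S S' : Sylow 3 G, S ≠ S' → (S : Subgroup G) ⊓ (S' : Subgroup G) = ⊥)
    (R : Sylow 3 G) (z : G) (hz : orderOf z = 2)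
    (hzR : ∀ r ∈ (R : Subgroup G), z * r = r * z) :
    Nat.card {S : Sylow 3 G // z ∈ Subgroup.normalizer ((S : Subgroup G) : Set G)} = 19 := by
  classical
  have hsimple : IsSimpleGroup G := h.simple
  have hcongr : Nat.card {S : Sylow 3 G // z ∈ Subgroup.normalizer ((S : Subgroup G) : Set G)} =
      Nat.card (MulAction.fixedBy (Sylow 3 G) z) := by
    refine Nat.card_congr (Equiv.subtypeEquivRight fun S => ?_)
    rw [MulAction.mem_fixedBy, Sylow.smul_eq_iff_mem_normalizer]
    exact Iff.rfl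
  rw [hcongr]
  have hz1 : z ≠ 1 := by
    rintro rfl
    rw [orderOf_one] at hz
    norm_num at hz
  have hz2 : z ^ 2 = 1 := by rw [← hz]; exact pow_orderOf_eq_one z
  -- (iii)
  have h55 : Nat.card (Sylow 3 G) = 55 := h.num3
  have hlt := Cfsg.Agent.Helper8.SylFix.card_fixedBy_lt (p := 3) (by rw [h55]; norm_num) z hz1
  rw [h55] at hlt
  -- parity
  have hpar := Cfsg.Agent.Helper8.SylFix.card_fixedBy_modEq (p := 3) (q := 2) (k := 1) z
    (by rw [hz, pow_one])
  rw [h55] at hpar
  -- (ii) the sign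
  have hna : ∃ a b : G, a * b ≠ b * a := by
    by_contra hcon
    push Not at hcon
    have htop : Subgroup.normalizer ((R : Subgroup G) : Set G) = ⊤ := by
      rw [eq_top_iff]
      intro g _
      rw [Subgroup.mem_normalizer_iff]
      intro x
      have : g * x * g⁻¹ = x := by rw [hcon g x]; group
      rw [this]
    have h144 := h.n3 R
    rw [htop, Subgroup.card_top, h.card] at h144
    norm_num at h144
  have : Fintype (Sylow 3 G) := Fintype.ofFinite _
  obtain ⟨σ, hσ⟩ : ∃ σ : Equiv.Perm (Sylow 3 G), σ = MulAction.toPermHom G (Sylow 3 G) z := ⟨_, rfl⟩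
  have hσ2 : σ ^ 2 = 1 := by rw [hσ, ← map_pow, hz2, map_one]
  have hfixσ : Fintype.card (Function.fixedPoints σ) =
      Nat.card (MulAction.fixedBy (Sylow 3 G) z) := by
    rw [← Nat.card_eq_fintype_card]
    refine Nat.card_congr (Equiv.subtypeEquivRight fun S => ?_)
    rw [MulAction.mem_fixedBy, hσ]
    rfl
  have hcardS : Fintype.card (Sylow 3 G) = 55 := by rw [← Nat.card_eq_fintype_card, h55]
  have hsign : Equiv.Perm.sign σ = 1 := by
    rw [hσ]
    exact Cfsg.Agent.Helper9.OrdTools.hom_trivial hna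
      (Equiv.Perm.sign.comp (MulAction.toPermHom G (Sylow 3 G))) z
  obtain ⟨f, hf⟩ : ∃ f, f = Nat.card (MulAction.fixedBy (Sylow 3 G) z) := ⟨_, rfl⟩
  rw [← hf] at hlt hpar hfixσ ⊢
  have hfodd : f % 2 = 1 := by
    have := hpar
    unfold Nat.ModEq at this
    omega
  have hceven : ¬ Odd ((55 - f) / 2) := by
    intro hodd
    have := Cfsg.Agent.Helper8.SylFix.sign_of_involution σ hσ2 ((55 - f) / 2)
      (by rw [hfixσ, hcardS]; omega) hodd
    rw [hsign] at this
    exact absurd this (by decide)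
  -- (i) congruence mod 9
  have hR9 : Nat.card ↥(R : Subgroup G) = 9 := (h.syl3 R).1
  let S₀ : SubMulAction (↥(R : Subgroup G)) (Sylow 3 G) :=
    { carrier := MulAction.fixedBy (Sylow 3 G) z
      smul_mem' := by
        intro c Q hQ
        rw [MulAction.mem_fixedBy] at hQ
        change z • ((c : G) • Q) = (c : G) • Q
        rw [← mul_smul, hzR c c.2, mul_smul, hQ] }
  have hS₀card : Nat.card ↥S₀ = f := by rw [hf]; rfl
  have hRmem : R ∈ MulAction.fixedBy (Sylow 3 G) z := by
    rw [MulAction.mem_fixedBy, Sylow.smul_eq_iff_mem_normalizer]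
    refine Subgroup.centralizer_le_normalizer _ ?_
    rw [Subgroup.mem_centralizer_iff]
    intro x hx
    exact (hzR x hx).symm
  have hfix1 : ∀ r ∈ (⊤ : Subgroup ↥(R : Subgroup G)), r ≠ 1 →
      Nat.card (MulAction.fixedBy ↥S₀ r) = 1 := by
    intro r _ hr1
    rw [Nat.card_eq_one_iff_unique]
    have key : ∀ Q : ↥S₀, Q ∈ MulAction.fixedBy ↥S₀ r → (Q : Sylow 3 G) = R := by
      intro Q hQ
      rw [MulAction.mem_fixedBy] at hQ
      have hQ' : (r : G) • (Q : Sylow 3 G) = (Q : Sylow 3 G) := congrArg Subtype.val hQ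
      rw [Sylow.smul_eq_iff_mem_normalizer] at hQ'
      by_contra hne
      have hrQ : (r : G) ∈ ((Q : Sylow 3 G) : Subgroup G) := by
        have hp : IsPGroup 3 (Subgroup.zpowers (r : G)) := by
          refine IsPGroup.to_le R.2 ?_
          rw [Subgroup.zpowers_le]
          exact r.2
        have hle : Subgroup.zpowers (r : G) ≤
            Subgroup.normalizer (((Q : Sylow 3 G) : Subgroup G) : Set G) := by
          rw [Subgroup.zpowers_le]; exact hQ'
        exact Cfsg.Agent.Helper9.OrdTools.mem_sylow_of_mem_normalizer (Q : Sylow 3 G) hp hle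
          (Subgroup.mem_zpowers _)
      have hbot := hTI (Q : Sylow 3 G) R hne
      have : (r : G) ∈ ((Q : Sylow 3 G) : Subgroup G) ⊓ (R : Subgroup G) := ⟨hrQ, r.2⟩
      rw [hbot, Subgroup.mem_bot] at this
      exact hr1 (Subtype.ext this)
    constructor
    · constructor
      intro a b
      apply Subtype.ext
      apply Subtype.ext
      rw [key a.1 a.2, key b.1 b.2]
    · refine ⟨⟨⟨R, hRmem⟩, ?_⟩⟩
      rw [MulAction.mem_fixedBy]
      apply Subtype.ext
      change (r : G) • R = R
      rw [Sylow.smul_eq_iff_mem_normalizer]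
      exact Subgroup.le_normalizer r.2
  have hdvd := Cfsg.Agent.Helper8.SylFix.card_dvd_of_fix_one (X := ↥S₀)
    (⊤ : Subgroup ↥(R : Subgroup G)) hfix1
  rw [Subgroup.card_top, hR9, hS₀card] at hdvd
  obtain ⟨k, hk⟩ := hdvd
  have hc : (55 - f) / 2 % 2 = 0 := by
    rcases Nat.even_or_odd ((55 - f) / 2) with he | ho
    · exact Nat.even_iff.mp he
    · exact absurd ho hceven
  omega

end Cfsg.Agent.Helper93
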