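import Mathlib

set_option autoImplicit false

/-! helper93: CALL S0435 (helper52), piece P3s (`u7920_sign`): the sign of the conjugation action
of a subgroup `T ≤ N(R)` on a Sylow 3-subgroup `R` of order 9. -/

namespace Cfsg.Agent.Helper93

/-- the sign of an involution with `c` two-cycles is `(-1) ^ c`. -/
theorem u7920_sign_invol {α : Type*} [Fintype α] [DecidableEq α] (σ : Equiv.Perm α)
    (h : σ ^ 2 = 1) (c : ℕ)
    (hfix : Fintype.card (Function.fixedPoints σ) + 2 * c = Fintype.card α) :
    Equiv.Perm.sign σ = (-1) ^ c := by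
  have h2 : ∀ n ∈ σ.cycleType, n = 2 := by
    intro n hn
    have hdvd : n ∣ 2 := (Equiv.Perm.dvd_of_mem_cycleType hn).trans (orderOf_dvd_of_pow_eq_one h)
    have hle := Equiv.Perm.two_le_of_mem_cycleType hn
    have := Nat.le_of_dvd (by norm_num) hdvd
    omega
  have hrep := Multiset.eq_replicate_card.mpr h2
  have hsum : σ.cycleType.sum = 2 * Multiset.card σ.cycleType := by
    conv_lhs => rw [hrep]
    rw [Multiset.sum_replicate, smul_eq_mul, mul_comm]
  have hfp := Equiv.Perm.card_fixedPoints σ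
  have hle := Equiv.Perm.sum_cycleType_le σ
  have hcard : Multiset.card σ.cycleType = c := by omega
  rw [Equiv.Perm.sign_of_cycleType, hsum, hcard]
  rw [pow_add, pow_mul]
  simp

variable {G : Type*} [Group G] [Finite G]

/-- conjugation by an element of `T ≤ N(R)` as a permutation of `R`. -/
noncomputable def u7920ConjPerm (R : Subgroup G) (T : Subgroup G)
    (hT : T ≤ Subgroup.normalizer (R : Set G)) : ↥T →* Equiv.Perm ↥R :=
  MonoidHom.mk' (fun t =>
    { toFun := fun r => ⟨(t : G) * r * (t : G)⁻¹,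
        (Subgroup.mem_normalizer_iff.mp (hT t.2) r).mp r.2⟩
      invFun := fun r => ⟨(t : G)⁻¹ * r * (t : G),
        (Subgroup.mem_normalizer_iff.mp (hT t.2) ((t : G)⁻¹ * r * (t : G))).mpr
          (by simp [mul_assoc])⟩
      left_inv := fun r => Subtype.ext (by simp [mul_assoc])
      right_inv := fun r => Subtype.ext (by simp [mul_assoc]) })
    (by
      intro a b
      ext r
      simp [mul_assoc])

omit [Finite G] in
theorem u7920ConjPerm_apply (R : Subgroup G) (T : Subgroup G)
    (hT : T ≤ Subgroup.normalizer (R : Set G)) (t : ↥T) (r : ↥R) :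
    ((u7920ConjPerm R T hT t) r : G) = (t : G) * r * (t : G)⁻¹ := rfl

-- PIECE P3s
theorem u7920_sign (R : Sylow 3 G) (hR : Nat.card ↥(R : Subgroup G) = 9) (T : Subgroup G)
    (hT : T ≤ Subgroup.normalizer ((R : Subgroup G) : Set G)) :
    ∃ φ : ↥T →* ℤˣ, ∀ t : ↥T, (t : G) ^ 2 = 1 →
      (Nat.card ↥((R : Subgroup G) ⊓ Subgroup.centralizer ({(t : G)} : Set G)) = 3 →
        φ t = -1) ∧
      (Nat.card ↥((R : Subgroup G) ⊓ Subgroup.centralizer ({(t : G)} : Set G)) = 1 →
        φ t = 1) := by
  classical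
  have : Fintype ↥(R : Subgroup G) := Fintype.ofFinite _
  refine ⟨Equiv.Perm.sign.comp (u7920ConjPerm (R : Subgroup G) T hT), ?_⟩
  intro t ht
  obtain ⟨σ, hσ⟩ : ∃ σ : Equiv.Perm ↥(R : Subgroup G), σ = u7920ConjPerm (R : Subgroup G) T hT t :=
    ⟨_, rfl⟩
  have hσ2 : σ ^ 2 = 1 := by
    rw [hσ, ← map_pow]
    have : t ^ 2 = 1 := Subtype.ext (by simpa using ht)
    rw [this, map_one]
  have hσapp : ∀ r : ↥(R : Subgroup G), ((σ r : ↥(R : Subgroup G)) : G) =
      (t : G) * r * (t : G)⁻¹ := fun r => by rw [hσ, u7920ConjPerm_apply]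
  have hfixcard : Fintype.card (Function.fixedPoints σ) =
      Nat.card ↥((R : Subgroup G) ⊓ Subgroup.centralizer ({(t : G)} : Set G)) := by
    rw [← Nat.card_eq_fintype_card]
    refine Nat.card_congr
      { toFun := fun x => ⟨(x.1 : G), ?_⟩
        invFun := fun y => ⟨⟨(y : G), y.2.1⟩, ?_⟩
        left_inv := fun x => rfl
        right_inv := fun y => rfl }
    · refine ⟨x.1.2, Subgroup.mem_centralizer_iff.mpr ?_⟩
      intro h hh
      rw [Set.mem_singleton_iff] at hh
      subst hh
      have hx : σ x.1 = x.1 := x.2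
      have hx' : (t : G) * (x.1 : G) * (t : G)⁻¹ = (x.1 : G) := by
        have := congrArg Subtype.val hx
        rw [hσapp] at this
        exact this
      calc (t : G) * (x.1 : G) = (t : G) * (x.1 : G) * (t : G)⁻¹ * (t : G) := by group
        _ = (x.1 : G) * (t : G) := by rw [hx']
    · have hy : (y : G) ∈ Subgroup.centralizer ({(t : G)} : Set G) := y.2.2
      rw [Subgroup.mem_centralizer_iff] at hy
      have hy' := hy (t : G) (Set.mem_singleton _)
      change σ ⟨(y : G), y.2.1⟩ = ⟨(y : G), y.2.1⟩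
      apply Subtype.ext
      rw [hσapp]
      change (t : G) * (y : G) * (t : G)⁻¹ = (y : G)
      rw [hy']; group
  have hcardR : Fintype.card ↥(R : Subgroup G) = 9 := by
    rw [← Nat.card_eq_fintype_card, hR]
  constructor
  · intro h3
    have hs := u7920_sign_invol σ hσ2 3 (by rw [hfixcard, h3, hcardR])
    change Equiv.Perm.sign (u7920ConjPerm (R : Subgroup G) T hT t) = -1
    rw [← hσ, hs]; norm_num
  · intro h1
    have hs := u7920_sign_invol σ hσ2 4 (by rw [hfixcard, h1, hcardR])
    change Equiv.Perm.sign (u7920ConjPerm (R : Subgroup G) T hT t) = 1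
    rw [← hσ, hs]; norm_num

end Cfsg.Agent.Helper93
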